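import Groth.Agent.H21Diag.Points

/-!
`Spec R[M]` is the diagonalisable group `D_{Spec R}(M)`.
-/

open CategoryTheory MonoidalCategory CartesianMonoidalCategory MonObj GrpObj AlgebraicGeometry
open CategoryTheory.Limits

universe u

namespace Groth.Agent.H21Diag

theorem isIso_of_left {S : Scheme.{u}} {X Y : Over S} (f : X ⟶ Y) [IsIso f.left] : IsIso f :=
  have : IsIso ((Over.forget S).map f) := inferInstanceAs (IsIso f.left)
  isIso_of_reflects_iso f (Over.forget S)

section BcId

variable {S : Scheme.{u}} (X : Over S)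

/-- the projection of the base change along the identity -/
noncomputable def bcIdHom : Red.bc (𝟙 S) X ⟶ X :=
  Over.homMk (pullback.fst X.hom (𝟙 S)) (by simp [pullback.condition])

instance : IsIso (bcIdHom X) := by
  have : IsIso (bcIdHom X).left := inferInstanceAs (IsIso (pullback.fst X.hom (𝟙 S)))
  exact isIso_of_left _

theorem comp_bcIdHom {T : Over S} (a : T ⟶ Red.bc (𝟙 S) X) :
    (a ≫ bcIdHom X).left = ((bcEquiv (𝟙 S) X T).symm a).left := by
  simp [bcEquiv, Over.mapPullbackAdj, bcIdHom]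

/-- the identity as a map of the base changed test scheme -/
noncomputable def mapIdHom (T : Over S) : T ⟶ (Over.map (𝟙 S)).obj T :=
  Over.homMk (𝟙 _) (by simp)

theorem comp_bcIdHom' {T : Over S} (a : T ⟶ Red.bc (𝟙 S) X) :
    a ≫ bcIdHom X = mapIdHom T ≫ (bcEquiv (𝟙 S) X T).symm a := by
  refine Over.OverMorphism.ext ?_
  rw [comp_bcIdHom, Over.comp_left]
  exact (Category.id_comp _).symm

instance isMonHom_bcIdHom [GrpObj X] : IsMonHom (bcIdHom X) := by
  have hmul : ∀ {T : Over S} (a b : T ⟶ Red.bc (𝟙 S) X),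
      (a * b) ≫ bcIdHom X = (a ≫ bcIdHom X) * (b ≫ bcIdHom X) := by
    intro T a b
    rw [comp_bcIdHom', comp_bcIdHom', comp_bcIdHom', ← MonObj.comp_mul]
    exact congrArg (mapIdHom T ≫ ·) (bcEquiv_symm_mul (𝟙 S) X T a b)
  have hmu : μ[Red.bc (𝟙 S) X] = fst _ _ * snd _ _ := MonObj.mul_eq_mul _
  refine ⟨?_, ?_⟩
  · have h := hmul (1 : 𝟙_ (Over S) ⟶ Red.bc (𝟙 S) X) 1
    rw [_root_.mul_one] at h
    have h1 : (1 : 𝟙_ (Over S) ⟶ Red.bc (𝟙 S) X) ≫ bcIdHom X = 1 := mul_eq_left.mp h.symm
    simpa [Hom.one_def, toUnit_unit] using h1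
  · rw [hmu, hmul, MonObj.mul_eq_mul, MonObj.comp_mul, tensorHom_fst, tensorHom_snd]

end BcId

variable (R : Type u) [CommRing R] (M : Type) [AddCommGroup M]

/-- the comparison map -/
noncomputable def diagToDS : Red.diag R M ⟶ Red.DS (Spec (CommRingCat.of R)) M :=
  dpt (Spec.map (CommRingCat.ofHom (algebraMap R (MonoidAlgebra R (Multiplicative M)))))
    (MonoidAlgebra.of R (Multiplicative M))

theorem specPoint_diagToDS {B : Type u} [CommRing B] [Algebra R B]
    (L : MonoidAlgebra R (Multiplicative M) →ₐ[R] B) :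
    (Spec.map (CommRingCat.ofHom L.toRingHom)).asOver (Spec (CommRingCat.of R)) ≫ diagToDS R M =
      dpt (Spec.map (CommRingCat.ofHom (algebraMap R B)))
        (L.toRingHom.toMonoidHom.comp (MonoidAlgebra.of R (Multiplicative M))) := by
  refine bc_ext ?_
  refine Eq.trans ?_ (dpt_fst _ _).symm
  refine (Category.assoc _ _ _).trans ?_
  refine (congrArg (Spec.map (CommRingCat.ofHom L.toRingHom) ≫ ·) (dpt_fst _ _)).trans ?_
  refine (Spec.map_comp _ _).symm.trans (congrArg Spec.map ?_)
  exact CommRingCat.hom_ext (charRingHom_ext fun m => by simp)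

/-- a retraction of the comparison map is inverse to it -/
theorem eq_id_of_comp (ψ : (Red.DS (Spec (CommRingCat.of R)) M).left ⟶
      Spec (CommRingCat.of (MonoidAlgebra R (Multiplicative M))))
    (hinv1 : ψ ≫ (diagToDS R M).left = 𝟙 _) :
    (diagToDS R M).left ≫ ψ = 𝟙 (Spec (CommRingCat.of (MonoidAlgebra R (Multiplicative M)))) := by
  obtain ⟨θ, hθ⟩ : ∃ θ : Spec (CommRingCat.of (MonoidAlgebra R (Multiplicative M))) ⟶
      (Red.DS (Spec (CommRingCat.of R)) M).left, θ = (diagToDS R M).left := ⟨_, rfl⟩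
  suffices h : θ ≫ ψ = 𝟙 _ by subst hθ; exact h
  obtain ⟨γ, hγ⟩ := Spec.map_surjective (θ ≫ ψ)
  have hfst : θ ≫ pullback.fst _ _ = Spec.map (CommRingCat.ofHom
      (charRingHom (MonoidAlgebra.of R (Multiplicative M)))) := by
    subst hθ; exact dpt_fst _ _
  have hsnd : θ ≫ pullback.snd _ _ =
      Spec.map (CommRingCat.ofHom (algebraMap R (MonoidAlgebra R (Multiplicative M)))) := by
    subst hθ; exact pullback.lift_snd _ _ _
  have hθψ : Spec.map γ ≫ θ = θ := by
    rw [hγ, Category.assoc]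
    subst hθ
    exact (congrArg ((diagToDS R M).left ≫ ·) hinv1).trans (Category.comp_id _)
  rw [← hγ, ← Spec.map_id]
  refine congrArg Spec.map (CommRingCat.hom_ext (MonoidAlgebra.ringHom_ext (fun r => ?_) fun m => ?_))
  · have h : Spec.map γ ≫ θ ≫ pullback.snd _ _ = θ ≫ pullback.snd _ _ :=
      (Category.assoc _ _ _).symm.trans (congrArg (· ≫ pullback.snd _ _) hθψ)
    rw [hsnd, ← Spec.map_comp] at h
    exact RingHom.congr_fun (congrArg CommRingCat.Hom.hom (Spec.map_injective h)) r
  · have h : Spec.map γ ≫ θ ≫ pullback.fst _ _ = θ ≫ pullback.fst _ _ :=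
      (Category.assoc _ _ _).symm.trans (congrArg (· ≫ pullback.fst _ _) hθψ)
    rw [hfst] at h
    have h' := RingHom.congr_fun (congrArg CommRingCat.Hom.hom (Spec.map_injective ((Spec.map_comp _ _).trans h)))
      (MonoidAlgebra.single m 1)
    simpa using h'

instance isIso_diagToDS : IsIso (diagToDS R M) := by
  let S := Spec (CommRingCat.of R)
  let D : Scheme.{u} := (Red.DS S M).left
  have : IsAffine (Red.diag (ULift.{u} ℤ) M).left :=
    inferInstanceAs (IsAffine (Spec (CommRingCat.of (MonoidAlgebra (ULift.{u} ℤ) (Multiplicative M)))))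
  have : IsAffine D := inferInstanceAs (IsAffine (pullback _ _))
  let P := Γ(D, ⊤)
  let w : Spec (CommRingCat.of P) ⟶ D := D.isoSpec.inv
  let c : R →+* P := (Spec.preimage (w ≫ (Red.DS S M).hom)).hom
  letI : Algebra R P := c.toAlgebra
  have hc : w ≫ (Red.DS S M).hom = Spec.map (CommRingCat.ofHom (algebraMap R P)) :=
    (Spec.map_preimage _).symm
  let W : Over.mk (Spec.map (CommRingCat.ofHom (algebraMap R P))) ⟶ Red.DS S M := Over.homMk w hc
  obtain ⟨χ, hχ⟩ := dpt_surjective _ W
  let L : MonoidAlgebra R (Multiplicative M) →ₐ[R] P := MonoidAlgebra.lift R P (Multiplicative M) χ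
  let ψ : D ⟶ Spec (CommRingCat.of (MonoidAlgebra R (Multiplicative M))) :=
    D.isoSpec.hom ≫ Spec.map (CommRingCat.ofHom L.toRingHom)
  have h1 : Spec.map (CommRingCat.ofHom L.toRingHom) ≫ (diagToDS R M).left = w := by
    have h := congrArg (fun m => m.left) (specPoint_diagToDS R M L)
    have e : L.toRingHom.toMonoidHom.comp (MonoidAlgebra.of R (Multiplicative M)) = χ :=
      MonoidHom.ext fun m => by simp [L]
    rw [e, hχ] at h
    exact h
  have hinv1 : ψ ≫ (diagToDS R M).left = 𝟙 D := by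
    rw [Category.assoc, h1]
    exact D.isoSpec.hom_inv_id
  have hinv2 : (diagToDS R M).left ≫ ψ = 𝟙 _ :=
    eq_id_of_comp R M _ hinv1
  have : IsIso (diagToDS R M).left := ⟨ψ, hinv2, hinv1⟩
  exact isIso_of_left _

instance isMonHom_diagToDS : IsMonHom (diagToDS R M) := by
  have key : ∀ {B : Type u} [CommRing B] [Algebra R B]
      (p q : (Spec (CommRingCat.of B)).asOver (Spec (CommRingCat.of R)) ⟶ Red.diag R M),
      (p * q) ≫ diagToDS R M = (p ≫ diagToDS R M) * (q ≫ diagToDS R M) := by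
    intro B _ _ p q
    obtain ⟨L, rfl⟩ := (Spec.mapMulEquiv (R := R) (S := MonoidAlgebra R (Multiplicative M)) (T := B)).surjective p
    obtain ⟨L', rfl⟩ := (Spec.mapMulEquiv (R := R) (S := MonoidAlgebra R (Multiplicative M)) (T := B)).surjective q
    rw [← map_mul]
    refine (specPoint_diagToDS R M (L * L').ofConv).trans (Eq.trans ?_
      (congrArg₂ (· * ·) (specPoint_diagToDS R M L.ofConv) (specPoint_diagToDS R M L'.ofConv)).symm)
    refine (congrArg (dpt (Spec.map (CommRingCat.ofHom (algebraMap R B)))) ?_).trans (dpt_mul _ _ _)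
    refine MonoidHom.ext fun m => ?_
    simp [AlgHom.convMul_apply, MonoidAlgebra.comul_single]
  have : IsIso (diagToDS R M) := isIso_diagToDS R M
  let D := Red.diag R M
  have hmulall : ∀ (T : Over (Spec (CommRingCat.of R))) [IsAffine T.left] (p q : T ⟶ D),
      (p * q) ≫ diagToDS R M = (p ≫ diagToDS R M) * (q ≫ diagToDS R M) := by
    intro T _ p q
    let B := Γ(T.left, ⊤)
    letI : Algebra R B := (Spec.preimage (T.left.isoSpec.inv ≫ T.hom)).hom.toAlgebra
    let W : (Spec (CommRingCat.of B)).asOver (Spec (CommRingCat.of R)) ⟶ T :=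
      Over.homMk T.left.isoSpec.inv (Spec.map_preimage _).symm
    have : IsIso W.left := inferInstanceAs (IsIso T.left.isoSpec.inv)
    have : IsIso W := isIso_of_left _
    rw [← cancel_epi W]
    simp only [MonObj.comp_mul, ← Category.assoc]
    exact key (W ≫ p) (W ≫ q)
  have : IsAffine (𝟙_ (Over (Spec (CommRingCat.of R)))).left := inferInstanceAs (IsAffine (Spec (CommRingCat.of R)))
  have : IsAffine D.left := inferInstanceAs (IsAffine (Spec (CommRingCat.of (MonoidAlgebra R (Multiplicative M)))))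
  have : IsAffine (D ⊗ D).left := inferInstanceAs (IsAffine (pullback D.hom D.hom))
  refine ⟨?_, ?_⟩
  · have h := hmulall (𝟙_ _) 1 1
    rw [_root_.mul_one] at h
    let gr : Group (𝟙_ (Over (Spec (CommRingCat.of R))) ⟶ Red.DS (Spec (CommRingCat.of R)) M) := Hom.group
    have h1 : (1 : 𝟙_ (Over (Spec (CommRingCat.of R))) ⟶ D) ≫ diagToDS R M = 1 :=
      (@mul_left_cancel _ gr.toMul (@CancelMonoid.toLeftCancelMonoid _ (@Group.toCancelMonoid _ gr)).toIsLeftCancelMul _ _ _ (h.symm.trans (_root_.mul_one _).symm))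
    simpa [Hom.one_def, toUnit_unit] using h1
  · rw [MonObj.mul_eq_mul, hmulall, MonObj.mul_eq_mul, MonObj.comp_mul, tensorHom_fst, tensorHom_snd]

/-- `Spec R[M]` trivialised -/
noncomputable def diagTrivial :
    Grp.mk (Red.bc (𝟙 (Spec (CommRingCat.of R))) (Red.diag R M)) ≅
      Grp.mk (Red.DS (Spec (CommRingCat.of R)) M) :=
  (Grp.mkIso' (asIso (bcIdHom (Red.diag R M)))).trans (Grp.mkIso' (asIso (diagToDS R M)))

end Groth.Agent.H21Diag
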