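import Groth.Agent.H21Diag.Coaction

/-!
A family of translations by characters, natural in the test ring, which is trivial on fibres is trivial.
-/

universe u

namespace Groth.Agent.H21Diag

open MonoidAlgebra TensorProduct

/-- coefficients of the composite of two coactions -/
theorem coeff_twoStep {C : Type u} [CommRing C] {N : Type} [CommMonoid N]
    (g : C →+* MonoidAlgebra C N) (w : MonoidAlgebra C N) (n m : N) :
    (liftNCRingHom ((mapDomainRingHom C (MonoidHom.inr N N)).comp g)
      ((of C (N × N)).comp (MonoidHom.inl N N)) (fun _ _ => Commute.all _ _) w).coeff (n, m) =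
      (g (w.coeff n)).coeff m := by
  classical
  induction w using MonoidAlgebra.induction_linear with
  | zero => simp
  | add f g' hf hg' => simp [hf, hg']
  | single k c =>
    have key : ∀ v : MonoidAlgebra C N,
        (mapDomainRingHom C (MonoidHom.inr N N) v * single (k, (1 : N)) 1).coeff (n, m) =
          if k = n then v.coeff m else 0 := by
      intro v
      induction v using MonoidAlgebra.induction_linear with
      | zero => simp
      | add f g' hf hg' =>
        rw [map_add, add_mul, coeff_add, Finsupp.add_apply, hf, hg', coeff_add, Finsupp.add_apply]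
        split <;> simp
      | single i e =>
        simp only [mapDomainRingHom_apply, mapDomain_single, single_mul_single, coeff_single,
          MonoidHom.inr_apply, Prod.mk_mul_mk, _root_.one_mul, _root_.mul_one, Finsupp.single_apply,
          Prod.mk.injEq]
        by_cases hk : k = n <;> simp [hk]
    rw [show ∀ (F : C →+* MonoidAlgebra C (N × N)) (χ : N →* MonoidAlgebra C (N × N))
      (h : ∀ x y, Commute (F x) (χ y)), liftNCRingHom F χ h (single k c) = F c * χ k from
        fun F χ h => liftNC_single _ _ _ _]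
    simp only [RingHom.comp_apply, MonoidHom.comp_apply, of_apply, MonoidHom.inl_apply, key]
    rw [coeff_single]
    by_cases hk : k = n
    · subst hk; simp
    · rw [Finsupp.single_eq_of_ne (Ne.symm hk), map_zero]; simp [hk]

/-- ring homs out of a tensor product -/
theorem tensor_hom_ext {R B A D : Type u} [CommRing R] [CommRing B] [CommRing A] [CommRing D]
    [Algebra R B] [Algebra R A] {f g : B ⊗[R] A →+* D}
    (h₁ : ∀ b, f (algebraMap B (B ⊗[R] A) b) = g (algebraMap B (B ⊗[R] A) b))
    (h₂ : ∀ a, f (1 ⊗ₜ a) = g (1 ⊗ₜ a)) : f = g := by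
  refine RingHom.ext fun c => ?_
  induction c using TensorProduct.induction_on with
  | zero => simp
  | tmul b a =>
    have : b ⊗ₜ[R] a = algebraMap B (B ⊗[R] A) b * (1 ⊗ₜ a) := by
      rw [Algebra.TensorProduct.algebraMap_apply, Algebra.TensorProduct.tmul_mul_tmul,
        Algebra.algebraMap_self, RingHom.id_apply, mul_one, one_mul]
    rw [this, map_mul, map_mul, h₁, h₂]
  | add x y hx hy => rw [map_add, map_add, hx, hy]

/-- off-diagonal components vanish in every algebra that factors through a field -/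
theorem coeff_fib {B C : Type u} [CommRing B] [CommRing C] [Algebra B C] {N : Type} [CommMonoid N]
    (α : C →ₐ[B] MonoidAlgebra C N)
    (htriv : ∀ (D : Type u) [CommRing D] (g : MonoidAlgebra C N →+* D) (K : Type u) [Field K] (ψ : B →+* K)
      (φ : K →+* D), g.comp (algebraMap B (MonoidAlgebra C N)) = φ.comp ψ →
        g.comp α.toRingHom = g.comp singleOneRingHom)
    {Q : Type u} [CommRing Q] (q : C →+* Q) {K : Type u} [Field K] (ψ : B →+* K) (φ : K →+* Q)
    (hs : q.comp (algebraMap B C) = φ.comp ψ) (c : C) {n : N} (hn : n ≠ 1) : q ((α c).coeff n) = 0 := by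
  have h := RingHom.congr_fun (htriv (MonoidAlgebra Q N) (mapRingHom N q) K ψ (singleOneRingHom.comp φ)
    (RingHom.ext fun b => by
      rw [RingHom.comp_apply, RingHom.comp_assoc]
      change mapRingHom N q (single 1 (algebraMap B C b)) = single 1 (φ.comp ψ b)
      rw [mapRingHom_single, ← hs]; rfl)) c
  have h1 := congrArg (fun w => w.coeff n) h
  change q ((α c).coeff n) = (mapRingHom N q (single 1 c)).coeff n at h1
  rw [mapRingHom_single, coeff_single, Finsupp.single_eq_of_ne hn] at h1
  exact h1

/-- off-diagonal components lie in the extension of each prime, up to denominators -/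
theorem exists_smul_mem_of_trivial {B C : Type u} [CommRing B] [CommRing C] [Algebra B C] {N : Type}
    [CommMonoid N] (α : C →ₐ[B] MonoidAlgebra C N)
    (htriv : ∀ (D : Type u) [CommRing D] (g : MonoidAlgebra C N →+* D) (K : Type u) [Field K] (ψ : B →+* K)
      (φ : K →+* D), g.comp (algebraMap B (MonoidAlgebra C N)) = φ.comp ψ →
        g.comp α.toRingHom = g.comp singleOneRingHom)
    (p : Ideal B) [p.IsPrime] (c : C) {n : N} (hn : n ≠ 1) :
    ∃ s : B, s ∉ p ∧ s • (α c).coeff n ∈ p.map (algebraMap B C) := by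
  let W := Algebra.algebraMapSubmonoid C p.primeCompl
  let P : Ideal (Localization W) := (p.map (algebraMap B C)).map (algebraMap C (Localization W))
  let q : C →+* Localization W ⧸ P := (Ideal.Quotient.mk P).comp (algebraMap C (Localization W))
  let r : B ⧸ p →+* Localization W ⧸ P := Ideal.Quotient.lift p (q.comp (algebraMap B C)) fun b hb =>
    Ideal.Quotient.eq_zero_iff_mem.mpr (Ideal.mem_map_of_mem _ (Ideal.mem_map_of_mem _ hb))
  have hr : ∀ x : nonZeroDivisors (B ⧸ p), IsUnit (r x) := by
    rintro ⟨x, hx⟩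
    obtain ⟨b, rfl⟩ := Ideal.Quotient.mk_surjective x
    have hb : b ∉ p := fun hb => nonZeroDivisors.ne_zero hx (Ideal.Quotient.eq_zero_iff_mem.mpr hb)
    exact (IsLocalization.map_units (Localization W) (⟨algebraMap B C b, b, hb, rfl⟩ : W)).map
      (Ideal.Quotient.mk P)
  have h0 : q ((α c).coeff n) = 0 :=
    coeff_fib α htriv q (K := FractionRing (B ⧸ p))
      ((algebraMap (B ⧸ p) (FractionRing (B ⧸ p))).comp (Ideal.Quotient.mk p))
      (IsLocalization.lift (M := nonZeroDivisors (B ⧸ p)) (S := FractionRing (B ⧸ p))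
        (P := Localization W ⧸ P) (g := r) hr)
      (RingHom.ext fun b => (IsLocalization.lift_eq (M := nonZeroDivisors (B ⧸ p))
        (S := FractionRing (B ⧸ p)) (P := Localization W ⧸ P) (g := r) hr (Ideal.Quotient.mk p b)).symm)
      c hn
  obtain ⟨⟨⟨x, hx⟩, ⟨_, b, hb, rfl⟩⟩, hxb⟩ :=
    (IsLocalization.mem_map_algebraMap_iff W (Localization W)).mp (Ideal.Quotient.eq_zero_iff_mem.mp h0)
  rw [← map_mul, IsLocalization.eq_iff_exists W (Localization W)] at hxb
  obtain ⟨⟨_, b', hb', rfl⟩, hbb⟩ := hxb
  refine ⟨b' * b, (mul_mem hb' hb : b' * b ∈ p.primeCompl), ?_⟩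
  rw [Algebra.smul_def, map_mul, mul_assoc, mul_comm (algebraMap B C b) _, hbb]
  exact Ideal.mul_mem_left _ _ hx

variable {R : Type u} {B A : Type u} [CommRing R] [CommRing B] [CommRing A] [Algebra R B] [Algebra R A]
  {N : Type} [CommMonoid N]

/-- compatibility of points -/
def Compat {D : Type u} [CommRing D] (s : B →+* D) (γ : A →+* D) : Prop :=
  γ.comp (algebraMap R A) = s.comp (algebraMap R B)

/-- translations by characters of points of `A` over `B` -/
structure TransFam (R B A : Type u) [CommRing R] [CommRing B] [CommRing A] [Algebra R B] [Algebra R A]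
    (N : Type) [CommMonoid N] where
  tr : ∀ {D : Type u} [CommRing D] (s : B →+* D) (γ : A →+* D), Compat (R := R) s γ → (N →* D) → (A →+* D)
  tr_compat : ∀ {D : Type u} [CommRing D] (s : B →+* D) (γ : A →+* D) (h : Compat (R := R) s γ) (χ : N →* D),
    Compat (R := R) s (tr s γ h χ)
  nat : ∀ {D D' : Type u} [CommRing D] [CommRing D'] (φ : D →+* D') (s : B →+* D) (γ : A →+* D)
    (h : Compat (R := R) s γ) (χ : N →* D) (h' : Compat (R := R) (φ.comp s) (φ.comp γ)),
    φ.comp (tr s γ h χ) = tr (φ.comp s) (φ.comp γ) h' (φ.toMonoidHom.comp χ)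
  tr_one : ∀ {D : Type u} [CommRing D] (s : B →+* D) (γ : A →+* D) (h : Compat (R := R) s γ),
    tr s γ h 1 = γ
  tr_mul : ∀ {D : Type u} [CommRing D] (s : B →+* D) (γ : A →+* D) (h : Compat (R := R) s γ)
    (χ χ' : N →* D), tr s γ h (χ * χ') = tr s (tr s γ h χ') (tr_compat s γ h χ') χ
  fib : ∀ {D : Type u} [CommRing D] (s : B →+* D) (γ : A →+* D) (h : Compat (R := R) s γ) (χ : N →* D)
    (K : Type u) [Field K] (ψ : B →+* K) (φ : K →+* D), s = φ.comp ψ → tr s γ h χ = γ

namespace TransFam

variable (T : TransFam R B A N)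

theorem tr_congr {D : Type u} [CommRing D] {s s' : B →+* D} {γ γ' : A →+* D}
    {h : Compat (R := R) s γ} {h' : Compat (R := R) s' γ'} {χ χ' : N →* D} (hs : s = s') (hγ : γ = γ')
    (hχ : χ = χ') : T.tr s γ h χ = T.tr s' γ' h' χ' := by
  subst hs hγ hχ; rfl

theorem compat_comp {D D' : Type u} [CommRing D] [CommRing D'] {s : B →+* D} {γ : A →+* D}
    (h : Compat (R := R) s γ) (φ : D →+* D') : Compat (R := R) (φ.comp s) (φ.comp γ) := by
  unfold Compat at h ⊢
  rw [RingHom.comp_assoc, h, RingHom.comp_assoc]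

/-- the scalars of the universal test ring -/
noncomputable def s₁ : B →+* MonoidAlgebra (B ⊗[R] A) N := algebraMap B _

/-- the universal point -/
noncomputable def γ₁ : A →+* MonoidAlgebra (B ⊗[R] A) N :=
  (singleOneRingHom : _ →+* MonoidAlgebra (B ⊗[R] A) N).comp
    (Algebra.TensorProduct.includeRight (R := R) (A := B) (B := A)).toRingHom

theorem compat₁ : Compat (R := R) (s₁ (R := R) (A := A) (N := N) (B := B)) γ₁ := by
  refine RingHom.ext fun r => ?_
  simp only [γ₁, s₁, RingHom.comp_apply]
  rw [show (Algebra.TensorProduct.includeRight (R := R) (A := B) (B := A)).toRingHom (algebraMap R A r) =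
    algebraMap B (B ⊗[R] A) (algebraMap R B r) from
      ((Algebra.TensorProduct.includeRight (R := R) (A := B) (B := A)).commutes r).trans
        (IsScalarTower.algebraMap_apply R B (B ⊗[R] A) r)]
  rfl

/-- translation of the universal point -/
noncomputable def β : A →+* MonoidAlgebra (B ⊗[R] A) N :=
  T.tr s₁ γ₁ compat₁ (of (B ⊗[R] A) N)

theorem exists_coaction : ∃ α : B ⊗[R] A →ₐ[B] MonoidAlgebra (B ⊗[R] A) N,
    ∀ a, α (1 ⊗ₜ a) = T.β a := by
  let βₐ : A →ₐ[R] MonoidAlgebra (B ⊗[R] A) N := AlgHom.mk T.β fun r =>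
    (RingHom.congr_fun (T.tr_compat _ _ compat₁ _) r).trans
      (IsScalarTower.algebraMap_apply R B (MonoidAlgebra (B ⊗[R] A) N) r).symm
  refine ⟨Algebra.TensorProduct.lift (Algebra.ofId B _) βₐ fun _ _ => Commute.all _ _, fun a => ?_⟩
  rw [Algebra.TensorProduct.lift_tmul, map_one, _root_.one_mul]
  rfl

variable [Algebra.FiniteType R A]

/-- translations that are trivial on fibres are trivial -/
theorem tr_eq_self {γ : A →+* B} (h : Compat (R := R) (RingHom.id B) γ) (χ : N →* B) :
    T.tr (RingHom.id B) γ h χ = γ := by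
  classical
  obtain ⟨α, hα⟩ := T.exists_coaction
  let C := B ⊗[R] A
  let D₂ := MonoidAlgebra C (N × N)
  let i₁ : MonoidAlgebra C N →+* D₂ := mapDomainRingHom C (MonoidHom.inl N N)
  let i₂ : MonoidAlgebra C N →+* D₂ := mapDomainRingHom C (MonoidHom.inr N N)
  let d : MonoidAlgebra C N →+* D₂ := mapDomainRingHom C ((MonoidHom.id N).prod (MonoidHom.id N))
  let χ₁ : N →* D₂ := (of C (N × N)).comp (MonoidHom.inl N N)
  let θ : MonoidAlgebra C N →+* D₂ := liftNCRingHom (i₂.comp α.toRingHom) χ₁ fun _ _ => Commute.all _ _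
  have hθsingle : ∀ n c, θ (single n c) = i₂ (α c) * χ₁ n := fun n c => liftNC_single _ _ _ _
  have hθα : θ.comp α.toRingHom = d.comp α.toRingHom := by
    have hd : d.comp (s₁ (R := R) (A := A) (N := N)) = algebraMap B D₂ :=
      RingHom.ext fun b => by simp [d, s₁, D₂]; rfl
    have hi₂ : i₂.comp (s₁ (R := R) (A := A) (N := N)) = algebraMap B D₂ :=
      RingHom.ext fun b => by simp [i₂, s₁, D₂]; rfl
    have hθs : θ.comp (s₁ (R := R) (A := A) (N := N)) = algebraMap B D₂ := by
      rw [← hi₂]
      refine RingHom.ext fun b => ?_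
      change θ (single 1 (algebraMap B C b)) = _
      rw [hθsingle, map_one, mul_one, AlgHom.commutes]
      rfl
    refine tensor_hom_ext (fun b => ?_) fun a => ?_
    · change θ (α (algebraMap B C b)) = d (α (algebraMap B C b))
      rw [AlgHom.commutes]
      exact (RingHom.congr_fun hθs b).trans (RingHom.congr_fun hd b).symm
    · change θ (α (1 ⊗ₜ a)) = d (α (1 ⊗ₜ a))
      rw [hα]
      change θ.comp T.β a = d.comp T.β a
      refine RingHom.congr_fun ?_ a
      rw [β, T.nat θ _ _ _ _ (compat_comp compat₁ θ), T.nat d _ _ _ _ (compat_comp compat₁ d)]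
      have hχd : d.toMonoidHom.comp (of C N) = χ₁ * (i₂.toMonoidHom.comp (of C N)) := by
        refine MonoidHom.ext fun n => ?_
        change d (single n 1) = single (n, (1 : N)) 1 * i₂ (single n 1)
        rw [show d (single n 1) = single (n, n) 1 from mapDomain_single,
          show i₂ (single n 1) = single ((1 : N), n) 1 from mapDomain_single]
        refine Eq.trans ?_ (single_mul_single _ _ _ _).symm
        rw [Prod.mk_mul_mk, _root_.one_mul, _root_.mul_one, _root_.one_mul]
      have hγd : d.comp (γ₁ (R := R) (A := A) (B := B) (N := N)) = i₂.comp γ₁ :=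
        RingHom.ext fun x => by simp [d, i₂, γ₁, D₂]
      refine Eq.symm ?_
      refine ((T.tr_congr (h' := compat_comp compat₁ i₂) (hd.trans hi₂.symm) hγd hχd).trans
        (T.tr_mul _ _ _ _ _)).trans (T.tr_congr (hi₂.trans hθs.symm) ?_ ?_)
      · rw [← T.nat i₂ _ _ compat₁ (of C N) (compat_comp compat₁ i₂)]
        refine RingHom.ext fun x => ?_
        change i₂ (T.β x) = θ (single 1 ((1 : B) ⊗ₜ[R] x))
        rw [hθsingle, map_one, mul_one, hα]
      · refine MonoidHom.ext fun n => ?_
        change χ₁ n = θ (single n 1)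
        rw [hθsingle, map_one, map_one, _root_.one_mul]
  have hcomp : ∀ c n, α ((α c).coeff n) = single n ((α c).coeff n) := by
    intro c n
    refine MonoidAlgebra.ext (Finsupp.ext fun m => ?_)
    have h1 : (θ (α c)).coeff (n, m) = (α ((α c).coeff n)).coeff m := coeff_twoStep α.toRingHom (α c) n m
    rw [← h1, show θ (α c) = d (α c) from RingHom.congr_fun hθα c, coeff_single]
    change Finsupp.mapDomain ((MonoidHom.id N).prod (MonoidHom.id N)) (α c).coeff (n, m) = _
    rcases eq_or_ne n m with rfl | hnm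
    · rw [Finsupp.single_eq_same]
      exact Finsupp.mapDomain_apply (f := ((MonoidHom.id N).prod (MonoidHom.id N)))
        (fun x y hxy => congrArg Prod.fst hxy) (α c).coeff n
    · rw [Finsupp.single_eq_of_ne hnm.symm, Finsupp.mapDomain_of_notMem_range]
      rintro ⟨k, hk⟩
      exact hnm ((congrArg Prod.fst hk).symm.trans (congrArg Prod.snd hk))
  have hfib : ∀ p : Ideal B, p.IsPrime → ∀ c : C, ∀ n : N, n ≠ 1 →
      ∃ s : B, s ∉ p ∧ s • (α c).coeff n ∈ p.map (algebraMap B C) := by
    intro p hp c n hn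
    refine exists_smul_mem_of_trivial α ?_ p c hn
    intro D _ g K _ ψ φ hs
    refine tensor_hom_ext (fun b => ?_) fun a => ?_
    · change g (α (algebraMap B C b)) = g (single 1 (algebraMap B C b))
      rw [AlgHom.commutes]; rfl
    · change g (α (1 ⊗ₜ a)) = g (single 1 ((1 : B) ⊗ₜ[R] a))
      rw [hα]
      exact RingHom.congr_fun ((T.nat g _ _ compat₁ _ (compat_comp compat₁ g)).trans
        (T.fib _ _ _ _ _ ψ φ hs)) a
  have htriv := coaction_trivial α hcomp hfib
  -- evaluate
  let γA : A →ₐ[R] B := AlgHom.mk γ fun r => RingHom.congr_fun h r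
  let eC : C →ₐ[B] B := Algebra.TensorProduct.lift (AlgHom.id B B) γA fun _ _ => Commute.all _ _
  let ev (χ : N →* B) : MonoidAlgebra C N →+* B :=
    liftNCRingHom eC.toRingHom χ fun _ _ => Commute.all _ _
  have hev : ∀ (χ : N →* B) n x, ev χ (single n x) = eC x * χ n := fun χ n x => liftNC_single _ _ _ _
  have key : ∀ χ : N →* B, (ev χ).comp T.β = T.tr (RingHom.id B) γ h χ := by
    intro χ
    rw [β, T.nat (ev χ) _ _ _ _ (compat_comp compat₁ _)]
    refine T.tr_congr (RingHom.ext fun b => ?_) (RingHom.ext fun a => ?_) (MonoidHom.ext fun n => ?_)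
    · change ev χ (single 1 (algebraMap B C b)) = b
      rw [hev, map_one, mul_one, AlgHom.commutes]; rfl
    · change ev χ (single 1 ((1 : B) ⊗ₜ[R] a)) = γ a
      rw [hev, MonoidHom.map_one, mul_one]
      exact (Algebra.TensorProduct.lift_tmul _ _ _ _ _).trans (by rw [map_one, _root_.one_mul]; rfl)
    · change ev χ (single n 1) = χ n
      rw [hev, map_one, _root_.one_mul]
  refine ((key χ).symm.trans (RingHom.ext fun a => ?_)).trans ((key 1).trans (T.tr_one _ _ _))
  rw [RingHom.comp_apply, RingHom.comp_apply, ← hα, htriv (1 ⊗ₜ a), hev, hev, MonoidHom.map_one, MonoidHom.one_apply]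

end TransFam

end Groth.Agent.H21Diag
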