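import Groth.Agent.H21Diag.ActTrivial
import Groth.Agent.H21Diag.CoactionFam

/-!
An action of a group of multiplicative type that is trivial on all fibres is trivial.
-/

open CategoryTheory MonoidalCategory CartesianMonoidalCategory MonObj GrpObj AlgebraicGeometry
open CategoryTheory.Limits

universe u

namespace Groth.Agent.H21Diag

variable {S U : Scheme.{u}} {u₀ : U ⟶ S} {G X : Over S} [GrpObj G] {M : Type} [AddCommGroup M]
  (e : Grp.mk (Red.bc u₀ G) ≅ Grp.mk (Red.DS U M)) (a : AlgGrp.Action G X)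

theorem gpt_one {B : Type u} [CommRing B] (y : Spec (CommRingCat.of B) ⟶ U) :
    gpt e y (1 : Multiplicative M →* B) = 1 :=
  mul_eq_left.mp ((gpt_mul e y 1 1).symm.trans (by rw [_root_.one_mul]))

theorem act_one {B : Type u} [CommRing B] (y : Spec (CommRingCat.of B) ⟶ U)
    (x : Spec (CommRingCat.of B) ⟶ X.left) (hx : x ≫ X.hom = y ≫ u₀) :
    act e a y 1 x hx = x := by
  have h : lift (gpt e y (1 : Multiplicative M →* B)) (Over.homMk x hx : Over.mk (y ≫ u₀) ⟶ X) ≫ a.act =
      Over.homMk x hx := by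
    rw [gpt_one, Hom.one_def,
      show lift (toUnit _ ≫ η[G]) (Over.homMk x hx : Over.mk (y ≫ u₀) ⟶ X) =
        lift (toUnit _) (Over.homMk x hx) ≫ (η[G] ▷ X) by simp,
      Category.assoc, a.one_act]
    simp
  exact congrArg (fun m => m.left) h

/-- the action is trivial on points over rings lying over one point of the base -/
def TrivFib : Prop :=
  ∀ (B K : Type u) [CommRing B] [Field K] (φ : K →+* B) (y : Spec (CommRingCat.of B) ⟶ U)
    (z : Spec (CommRingCat.of K) ⟶ S), y ≫ u₀ = Spec.map (CommRingCat.ofHom φ) ≫ z →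
    ∀ (χ : Multiplicative M →* B) (x : Spec (CommRingCat.of B) ⟶ X.left) (hx : x ≫ X.hom = y ≫ u₀),
      act e a y χ x hx = x

variable {e a}

/-- translates have the same underlying points -/
theorem TrivFib.base_eq (h : TrivFib e a) {B : Type u} [CommRing B] (y : Spec (CommRingCat.of B) ⟶ U)
    (χ : Multiplicative M →* B) (x : Spec (CommRingCat.of B) ⟶ X.left) (hx : x ≫ X.hom = y ≫ u₀)
    (z : PrimeSpectrum B) : (act e a y χ x hx).base z = x.base z := by
  let φ := algebraMap B z.asIdeal.ResidueField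
  obtain ⟨pt, hpt⟩ : ∃ pt : Spec (CommRingCat.of z.asIdeal.ResidueField),
      (Spec.map (CommRingCat.ofHom φ)).base pt = z :=
    ⟨⟨⊥, Ideal.isPrime_bot⟩, PrimeSpectrum.ext (z.asIdeal.ker_algebraMap_residueField)⟩
  have h2 := h z.asIdeal.ResidueField z.asIdeal.ResidueField (RingHom.id _)
    (Spec.map (CommRingCat.ofHom φ) ≫ y) ((Spec.map (CommRingCat.ofHom φ) ≫ y) ≫ u₀)
    (by rw [CommRingCat.ofHom_id, Spec.map_id, Category.id_comp])
    (φ.toMonoidHom.comp χ) (Spec.map (CommRingCat.ofHom φ) ≫ x)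
    (by rw [Category.assoc, hx, Category.assoc])
  rw [← act_comp e a y χ x hx φ] at h2
  rw [← hpt, ← Scheme.Hom.comp_apply, h2, Scheme.Hom.comp_apply]

/-- the key statement, for a point of an affine open over an affine open -/
theorem TrivFib.core (h : TrivFib e a) {A R B : Type u} [CommRing A] [CommRing R] [CommRing B]
    [Algebra R A] [Algebra R B] [Algebra.FiniteType R A]
    (j : Spec (CommRingCat.of A) ⟶ X.left) [IsOpenImmersion j]
    (k : Spec (CommRingCat.of R) ⟶ S) [Mono k]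
    (hk : j ≫ X.hom = Spec.map (CommRingCat.ofHom (algebraMap R A)) ≫ k)
    (y : Spec (CommRingCat.of B) ⟶ U)
    (hy : y ≫ u₀ = Spec.map (CommRingCat.ofHom (algebraMap R B)) ≫ k)
    (χ : Multiplicative M →* B) (ν : A →+* B) (hc : Compat (R := R) (RingHom.id B) ν)
    (hx : (Spec.map (CommRingCat.ofHom ν) ≫ j) ≫ X.hom = y ≫ u₀) :
    act e a y χ (Spec.map (CommRingCat.ofHom ν) ≫ j) hx = Spec.map (CommRingCat.ofHom ν) ≫ j := by
  have hover : ∀ {D : Type u} [CommRing D] (s : B →+* D) (ν : A →+* D), Compat (R := R) s ν →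
      (Spec.map (CommRingCat.ofHom ν) ≫ j) ≫ X.hom = (Spec.map (CommRingCat.ofHom s) ≫ y) ≫ u₀ := by
    intro D _ s ν hc
    rw [Category.assoc, hk, Category.assoc, hy, specMap_comp_assoc, specMap_comp_assoc]
    unfold Compat at hc
    rw [hc]
  have hex : ∀ {D : Type u} [CommRing D] (s : B →+* D) (ν : A →+* D) (hc : Compat (R := R) s ν)
      (χ : Multiplicative M →* D), ∃ δ : A →+* D,
        act e a (Spec.map (CommRingCat.ofHom s) ≫ y) χ (Spec.map (CommRingCat.ofHom ν) ≫ j) (hover s ν hc) =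
          Spec.map (CommRingCat.ofHom δ) ≫ j := by
    intro D _ s ν hc χ
    have hr : Set.range (act e a (Spec.map (CommRingCat.ofHom s) ≫ y) χ
        (Spec.map (CommRingCat.ofHom ν) ≫ j) (hover s ν hc)).base ⊆ Set.range j.base := by
      rintro _ ⟨z, rfl⟩
      refine ⟨(Spec.map (CommRingCat.ofHom ν)).base z, ?_⟩
      exact (Scheme.Hom.comp_apply _ _ _).symm.trans (h.base_eq _ _ _ (hover s ν hc) z).symm
    obtain ⟨δ, hδ⟩ := Spec.map_surjective (IsOpenImmersion.lift j _ hr)
    exact ⟨δ.hom, by rw [CommRingCat.ofHom_hom, hδ, IsOpenImmersion.lift_fac]⟩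
  choose tr htr using @hex
  have hinj : ∀ {D : Type u} [CommRing D] {δ δ' : A →+* D},
      Spec.map (CommRingCat.ofHom δ) ≫ j = Spec.map (CommRingCat.ofHom δ') ≫ j → δ = δ' :=
    fun hh => congrArg CommRingCat.Hom.hom (Spec.map_injective ((cancel_mono j).mp hh))
  have hcompat : ∀ {D : Type u} [CommRing D] (s : B →+* D) (ν : A →+* D) (hc : Compat (R := R) s ν)
      (χ : Multiplicative M →* D), Compat (R := R) s (tr s ν hc χ) := by
    intro D _ s ν hc χ
    have h1 := act_over e a (Spec.map (CommRingCat.ofHom s) ≫ y) χ (Spec.map (CommRingCat.ofHom ν) ≫ j)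
      (hover s ν hc)
    rw [htr, Category.assoc, hk, Category.assoc, hy, specMap_comp_assoc, specMap_comp_assoc,
      cancel_mono] at h1
    exact congrArg CommRingCat.Hom.hom (Spec.map_injective h1)
  let T : TransFam R B A (Multiplicative M) :=
    { tr := fun {D} _ s ν hc χ => tr s ν hc χ
      tr_compat := fun s ν hc χ => hcompat s ν hc χ
      nat := fun φ s ν hc χ h' => hinj (by
        rw [← specMap_comp_assoc (tr s ν hc χ) φ j, ← htr, act_comp, ← htr]
        exact act_congr e a (specMap_comp_assoc s φ y) rfl (specMap_comp_assoc ν φ j))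
      tr_one := fun s ν hc => hinj (by rw [← htr, act_one])
      tr_mul := fun s ν hc χ χ' => hinj (by
        rw [← htr, ← htr, act_mul]
        exact act_congr e a rfl rfl (htr s ν hc χ'))
      fib := fun s ν hc χ K _ ψ φ hs => hinj (by
        rw [← htr]
        refine h _ K φ _ (Spec.map (CommRingCat.ofHom ψ) ≫ y ≫ u₀) ?_ _ _ _
        rw [specMap_comp_assoc, ← hs, Category.assoc]) }
  have hB : Spec.map (CommRingCat.ofHom (RingHom.id B)) ≫ y = y := by
    rw [CommRingCat.ofHom_id, Spec.map_id, Category.id_comp]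
  refine (act_congr e a hB.symm rfl rfl).trans ((htr (RingHom.id B) ν hc χ).trans ?_)
  rw [show tr (RingHom.id B) ν hc χ = ν from T.tr_eq_self hc χ]

/-- an action trivial on fibres is trivial on points over `U` -/
theorem TrivFib.act_eq_self [LocallyOfFiniteType X.hom] (h : TrivFib e a) {B : Type u} [CommRing B]
    (y : Spec (CommRingCat.of B) ⟶ U) (χ : Multiplicative M →* B)
    (x : Spec (CommRingCat.of B) ⟶ X.left) (hx : x ≫ X.hom = y ≫ u₀) :
    act e a y χ x hx = x := by
  refine spec_hom_ext _ _ fun z => ?_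
  obtain ⟨V, hV, hzV, -⟩ := exists_isAffineOpen_mem_and_subset (U := ⊤) (x := X.hom.base (x.base z))
    (Set.mem_univ _)
  obtain ⟨W, hW, hzW, hWV⟩ := exists_isAffineOpen_mem_and_subset (U := X.hom ⁻¹ᵁ V) (x := x.base z) hzV
  obtain ⟨_, ⟨_, ⟨b, rfl⟩, rfl⟩, hzb, hbW⟩ :=
    PrimeSpectrum.isBasis_basic_opens.exists_subset_of_mem_open (show z ∈ x.base ⁻¹' W from hzW)
      (W.isOpen.preimage x.base.hom.continuous)
  refine ⟨b, hzb, ?_⟩
  set φ := algebraMap B (Localization.Away b)
  have hr : Set.range (Spec.map (CommRingCat.ofHom φ) ≫ x).base ⊆ Set.range hW.fromSpec.base := by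
    rintro _ ⟨w, rfl⟩
    rw [hW.range_fromSpec]
    have hw : (Spec.map (CommRingCat.ofHom φ)).base w ∈ (PrimeSpectrum.basicOpen b : Set (PrimeSpectrum B)) := by
      rw [← PrimeSpectrum.localization_away_comap_range (Localization.Away b) b]
      exact ⟨w, rfl⟩
    exact hbW hw
  obtain ⟨α, hα⟩ := Spec.map_surjective (IsOpenImmersion.lift hW.fromSpec _ hr)
  have hα' : Spec.map (CommRingCat.ofHom α.hom) ≫ hW.fromSpec = Spec.map (CommRingCat.ofHom φ) ≫ x := by
    rw [CommRingCat.ofHom_hom, hα, IsOpenImmersion.lift_fac]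
  have hk : hW.fromSpec ≫ X.hom =
      Spec.map (CommRingCat.ofHom (X.hom.appLE V W hWV).hom) ≫ hV.fromSpec := by
    rw [CommRingCat.ofHom_hom]
    exact (hV.SpecMap_appLE_fromSpec X.hom hW hWV).symm
  have hft : (X.hom.appLE V W hWV).hom.FiniteType := LocallyOfFiniteType.finiteType_appLE X.hom hV hW hWV
  let := (X.hom.appLE V W hWV).hom.toAlgebra
  let := (α.hom.comp (X.hom.appLE V W hWV).hom).toAlgebra
  have : Algebra.FiniteType Γ(S, V) Γ(X.left, W) := hft
  have hxb : (Spec.map (CommRingCat.ofHom α.hom) ≫ hW.fromSpec) ≫ X.hom =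
      (Spec.map (CommRingCat.ofHom φ) ≫ y) ≫ u₀ := by
    rw [hα', Category.assoc, hx, Category.assoc]
  have hcore := h.core hW.fromSpec hV.fromSpec hk (Spec.map (CommRingCat.ofHom φ) ≫ y)
    (by rw [← hxb, Category.assoc, hk, specMap_comp_assoc]; try rfl) (φ.toMonoidHom.comp χ) α.hom
    (by unfold Compat; rw [RingHom.id_comp]; rfl) hxb
  rw [act_comp]
  exact ((act_congr e a rfl rfl hα'.symm).trans hcore).trans hα'

/-- an action that is trivial on all fibres is trivial -/
theorem action_trivial_of_fibres [LocallyOfFiniteType X.hom] {S' : Scheme.{u}} (f : S' ⟶ S) [Flat f]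
    [Surjective f]
    (hloc : ∀ s' : S', ∃ U : S'.Opens, s' ∈ U ∧ ∃ (M : Type) (_ : AddCommGroup M),
      Nonempty (Grp.mk (Red.bc (U.ι ≫ f) G) ≅ Grp.mk (Red.DS (U : Scheme.{u}) M)))
    (h0 : ∀ (s : S) (Y : Over S) (p : Y.left ⟶ Spec (S.residueField s)),
      p ≫ S.fromSpecResidueField s = Y.hom → ∀ (g : Y ⟶ G) (x : Y ⟶ X), lift g x ≫ a.act = x)
    (Y : Over S) (g : Y ⟶ G) (x : Y ⟶ X) : lift g x ≫ a.act = x := by
  refine Over.OverMorphism.ext ?_
  have : Epi (pullback.fst Y.hom f) := Flat.epi_of_flat_of_surjective _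
  rw [← cancel_epi (pullback.fst Y.hom f)]
  set π := pullback.fst Y.hom f
  set τ := pullback.snd Y.hom f
  have key : ∀ z : ↥(pullback Y.hom f), ∃ (W : (pullback Y.hom f).Opens), z ∈ W ∧
      W.ι ≫ π ≫ (lift g x ≫ a.act).left = W.ι ≫ π ≫ x.left := by
    intro z
    obtain ⟨U', hzU, M', _, ⟨e'⟩⟩ := hloc (τ.base z)
    obtain ⟨W, hW, hzW, hWsub⟩ := exists_isAffineOpen_mem_and_subset
      (U := τ ⁻¹ᵁ U') (x := z) hzU
    refine ⟨W, hzW, ?_⟩
    rw [← cancel_epi hW.isoSpec.inv, IsAffineOpen.isoSpec_inv_ι_assoc, IsAffineOpen.isoSpec_inv_ι_assoc]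
    let B := Γ(pullback Y.hom f, W)
    let w : Spec (CommRingCat.of B) ⟶ pullback Y.hom f := hW.fromSpec
    change w ≫ π ≫ _ = w ≫ π ≫ _
    have hrU : Set.range (w ≫ τ).base ⊆ Set.range U'.ι.base := by
      rintro _ ⟨p, rfl⟩
      rw [Scheme.Opens.range_ι]
      exact hWsub (hW.range_fromSpec.subset ⟨p, rfl⟩)
    let y : Spec (CommRingCat.of B) ⟶ (U' : Scheme.{u}) := IsOpenImmersion.lift U'.ι (w ≫ τ) hrU
    have hy : w ≫ π ≫ Y.hom = y ≫ U'.ι ≫ f := by
      rw [← Category.assoc y, IsOpenImmersion.lift_fac, Category.assoc, pullback.condition]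
    let T : Over.mk (y ≫ U'.ι ≫ f) ⟶ Y := Over.homMk (w ≫ π) (by
      rw [← hy]; exact Category.assoc _ _ _)
    obtain ⟨χ, hχ⟩ := gpt_surjective e' y (T ≫ g)
    have hT : TrivFib e' a := by
      intro B' K _ _ φ y' z' hz χ' x' hx'
      have hp : (Spec.map (CommRingCat.ofHom φ) ≫ Spec.map (Scheme.descResidueField
          (Scheme.stalkClosedPointTo z'))) ≫ S.fromSpecResidueField (z' (IsLocalRing.closedPoint K)) =
            y' ≫ U'.ι ≫ f := by
        rw [Category.assoc, Scheme.descResidueField_stalkClosedPointTo_fromSpecResidueField, ← hz]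
      exact congrArg (fun m => m.left) (h0 _ (Over.mk (y' ≫ U'.ι ≫ f)) _ hp (gpt e' y' χ') (Over.homMk x' hx'))
    have hact := hT.act_eq_self y χ ((w ≫ π) ≫ x.left) (by
      rw [Category.assoc, Over.w x, Category.assoc, hy])
    have hlift : T ≫ lift g x ≫ a.act =
        lift (gpt e' y χ) (Over.homMk ((w ≫ π) ≫ x.left) (by
          rw [Category.assoc, Over.w x, Category.assoc, hy]; rfl) : Over.mk (y ≫ U'.ι ≫ f) ⟶ X) ≫ a.act := by
      rw [comp_lift_assoc, hχ]
      congr 2
    have h2 := (congrArg (fun m => m.left) hlift).trans hact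
    rw [Over.comp_left] at h2
    rw [← Category.assoc, ← Category.assoc]
    exact h2
  choose W hW h' using key
  refine Scheme.Cover.hom_ext ((pullback Y.hom f).openCoverOfIsOpenCover W
    (eq_top_iff.mpr fun z _ => TopologicalSpace.Opens.mem_iSup.mpr ⟨z, hW z⟩)) _ _ fun z => ?_
  exact h' z

end Groth.Agent.H21Diag
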