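import Groth.Agent.H21Diag.Mono

/-!
Homomorphisms between diagonalisable groups are locally given by maps of the character groups.
-/

open CategoryTheory MonoidalCategory CartesianMonoidalCategory MonObj GrpObj AlgebraicGeometry
open CategoryTheory.Limits

universe u

namespace Groth.Agent.H21Diag

open MonoidAlgebra in
/-- the orthogonal idempotent coefficients of a grouplike element -/
theorem grouplike_coeff {B : Type u} [CommRing B] {N : Type} [CommMonoid N] [DecidableEq N]
    (w : MonoidAlgebra B N)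
    (h : mapDomainRingHom B ((MonoidHom.id N).prod (MonoidHom.id N)) w =
      mapDomainRingHom B (MonoidHom.inl N N) w * mapDomainRingHom B (MonoidHom.inr N N) w) (a b : N) :
    w.coeff a * w.coeff b = if a = b then w.coeff a else 0 := by
  classical
  have key : ∀ (v v' : MonoidAlgebra B N),
      (mapDomainRingHom B (MonoidHom.inl N N) v * mapDomainRingHom B (MonoidHom.inr N N) v').coeff (a, b) =
        v.coeff a * v'.coeff b := by
    intro v v'
    induction v using MonoidAlgebra.induction_linear with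
    | zero => simp
    | add f g hf hg => rw [map_add, add_mul, coeff_add, Finsupp.add_apply, hf, hg, coeff_add,
        Finsupp.add_apply, add_mul]
    | single i x =>
      induction v' using MonoidAlgebra.induction_linear with
      | zero => simp
      | add f g hf hg => rw [map_add, mul_add, coeff_add, Finsupp.add_apply, hf, hg, coeff_add,
          Finsupp.add_apply, mul_add]
      | single j y =>
        simp only [mapDomainRingHom_apply, mapDomain_single, single_mul_single, coeff_single,
          MonoidHom.inl_apply, MonoidHom.inr_apply, Prod.mk_mul_mk, _root_.one_mul, _root_.mul_one,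
          Finsupp.single_apply, Prod.mk.injEq]
        by_cases hi : i = a <;> by_cases hj : j = b <;> simp [hi, hj]
  rw [← key, ← h]
  have hinj : Function.Injective ((MonoidHom.id N).prod (MonoidHom.id N)) :=
    fun x y hxy => congrArg Prod.fst hxy
  change Finsupp.mapDomain ((MonoidHom.id N).prod (MonoidHom.id N)) w.coeff (a, b) = _
  by_cases hab : a = b
  · subst hab
    rw [if_pos rfl]
    exact Finsupp.mapDomain_apply hinj w.coeff a
  · rw [if_neg hab, Finsupp.mapDomain_of_notMem_range]
    rintro ⟨k, hk⟩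
    exact hab ((congrArg Prod.fst hk).symm.trans (congrArg Prod.snd hk))

open MonoidAlgebra in
/-- a character with values in grouplike elements is locally given by a map of groups -/
theorem exists_local_map {B : Type u} [CommRing B] {N N' : Type} [CommMonoid N] [CommMonoid N']
    (hfg : (⊤ : Submonoid N').FG) (θ : N' →* MonoidAlgebra B N)
    (hgl : ∀ m, mapDomainRingHom B ((MonoidHom.id N).prod (MonoidHom.id N)) (θ m) =
      mapDomainRingHom B (MonoidHom.inl N N) (θ m) * mapDomainRingHom B (MonoidHom.inr N N) (θ m))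
    (hone : ∀ m, liftNCRingHom (RingHom.id B) (1 : N →* B) (fun _ _ => Commute.all _ _) (θ m) = 1)
    (p : Ideal B) (hp : p.IsPrime) :
    ∃ r : B, r ∉ p ∧ ∃ φ : N' →* N, ∀ (D : Type u) [CommRing D] (g : B →+* D), IsUnit (g r) →
      ∀ m, mapRingHom N g (θ m) = of D N (φ m) := by
  classical
  have hidem := fun m => grouplike_coeff (θ m) (hgl m)
  -- the coefficient that is a unit at `p`
  have hex : ∀ m, ∃ a, (θ m).coeff a ∉ p := by
    intro m
    by_contra hall
    simp only [not_exists, not_not] at hall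
    have h1 : ∀ v : MonoidAlgebra B N, (∀ a, v.coeff a ∈ p) →
        liftNCRingHom (RingHom.id B) (1 : N →* B) (fun _ _ => Commute.all _ _) v ∈ p := by
      intro v hv
      rw [← MonoidAlgebra.sum_coeff_single v]
      simp only [Finsupp.sum, map_sum]
      refine Ideal.sum_mem _ fun a _ => ?_
      rw [show liftNCRingHom (RingHom.id B) (1 : N →* B) (fun _ _ => Commute.all _ _) (single a (v.coeff a)) =
        v.coeff a from (liftNC_single _ _ _ _).trans (_root_.mul_one _)]
      exact hv a
    exact hp.ne_top ((Ideal.eq_top_iff_one p).mpr (hone m ▸ h1 _ hall))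
  choose φ₀ hφ₀ using hex
  -- uniqueness
  have huniq : ∀ (m : N') a, (θ m).coeff a ∉ p → a = φ₀ m := by
    intro m a ha
    by_contra hne
    have h1 := hidem m a (φ₀ m)
    rw [if_neg hne] at h1
    exact (hp.mem_or_mem (h1 ▸ p.zero_mem)).elim ha (hφ₀ m)
  -- after localising
  have hloc : ∀ (D : Type u) [CommRing D] (g : B →+* D) (m : N') (a : N), IsUnit (g ((θ m).coeff a)) →
      mapRingHom N g (θ m) = single a 1 := by
    intro D _ g m a hu
    refine MonoidAlgebra.ext (Finsupp.ext fun b => ?_)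
    rw [coeff_mapRingHom, coeff_single]
    by_cases hb : b = a
    · subst hb
      have h1 := congrArg g (hidem m b b)
      rw [if_pos rfl, map_mul] at h1
      rw [Finsupp.single_eq_same]
      exact hu.mul_left_cancel (h1.trans (_root_.mul_one _).symm)
    · have h1 := congrArg g (hidem m a b)
      rw [if_neg (Ne.symm hb), map_mul, map_zero] at h1
      rw [Finsupp.single_eq_of_ne hb]
      exact (hu.mul_right_eq_zero).mp h1
  -- evaluate at the point `p`
  let κ := FractionRing (B ⧸ p)
  let g₀ : B →+* κ := (algebraMap (B ⧸ p) κ).comp (Ideal.Quotient.mk p)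
  have hg₀ : ∀ x, x ∉ p → IsUnit (g₀ x) := by
    intro x hx
    refine isUnit_iff_ne_zero.mpr fun h0 => hx ?_
    exact Ideal.Quotient.eq_zero_iff_mem.mp ((map_eq_zero_iff _ (IsFractionRing.injective (B ⧸ p) κ)).mp h0)
  have hinj : ∀ a b : N, (single a (1 : κ) : MonoidAlgebra κ N) = single b 1 → a = b := fun a b h => by
    have h1 := congrArg (fun v => v.coeff a) h
    simp only [coeff_single, Finsupp.single_eq_same] at h1
    by_contra hne
    rw [Finsupp.single_eq_of_ne hne] at h1
    exact one_ne_zero h1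
  let φ : N' →* N :=
    { toFun := φ₀
      map_one' := by
        refine hinj _ _ ?_
        rw [← hloc κ g₀ 1 (φ₀ 1) (hg₀ _ (hφ₀ 1)), map_one, map_one, MonoidAlgebra.one_def]
      map_mul' := fun x y => by
        refine hinj _ _ ?_
        rw [← hloc κ g₀ _ _ (hg₀ _ (hφ₀ (x * y))), map_mul, map_mul, hloc κ g₀ _ _ (hg₀ _ (hφ₀ x)),
          hloc κ g₀ _ _ (hg₀ _ (hφ₀ y)), single_mul_single, _root_.one_mul] }
  obtain ⟨F, hF⟩ := hfg
  refine ⟨∏ m ∈ F, (θ m).coeff (φ₀ m), ?_, φ, fun D _ g hu m => ?_⟩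
  · exact fun h => let ⟨m, _, hm⟩ := (Ideal.IsPrime.prod_mem_iff).mp h; hφ₀ m hm
  · have hm : m ∈ Submonoid.closure (F : Set N') := hF ▸ Submonoid.mem_top m
    induction hm using Submonoid.closure_induction with
    | mem x hx =>
      rw [map_prod] at hu
      exact hloc D g x (φ₀ x) (IsUnit.prod_iff.mp hu x hx)
    | one => rw [map_one, map_one, map_one, map_one]
    | mul x y _ _ hx hy => rw [map_mul, map_mul, map_mul, map_mul, hx, hy]

variable {S U U' : Scheme.{u}} {u₀ : U ⟶ S} {u₀' : U' ⟶ S} {G H : Over S} [GrpObj G] [GrpObj H]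
  {M M' : Type} [AddCommGroup M] [AddCommGroup M']

/-- a homomorphism is locally given by a map of character groups -/
theorem exists_local_char (e : Grp.mk (Red.bc u₀ G) ≅ Grp.mk (Red.DS U M))
    (e' : Grp.mk (Red.bc u₀' H) ≅ Grp.mk (Red.DS U' M')) [AddGroup.FG M'] (f : G ⟶ H) [IsMonHom f]
    {B : Type u} [CommRing B] (y : Spec (CommRingCat.of B) ⟶ U) (y' : Spec (CommRingCat.of B) ⟶ U')
    (hy : y ≫ u₀ = y' ≫ u₀') (p : Ideal B) (hp : p.IsPrime) :
    ∃ r : B, r ∉ p ∧ ∃ φ : Multiplicative M' →* Multiplicative M, ∀ (D : Type u) [CommRing D] (g : B →+* D),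
      IsUnit (g r) → ∀ χ : Multiplicative M →* D,
        (gpt e (Spec.map (CommRingCat.ofHom g) ≫ y) χ ≫ f).left =
          (gpt e' (Spec.map (CommRingCat.ofHom g) ≫ y') (χ.comp φ)).left := by
  classical
  -- the image of a character
  have hyg : ∀ {D : Type u} [CommRing D] (g : B →+* D),
      (Spec.map (CommRingCat.ofHom g) ≫ y') ≫ u₀' = (Spec.map (CommRingCat.ofHom g) ≫ y) ≫ u₀ := by
    intro D _ g; rw [Category.assoc, ← hy, Category.assoc]
  let τ : ∀ {D : Type u} [CommRing D] (g : B →+* D),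
      (Over.mk ((Spec.map (CommRingCat.ofHom g) ≫ y') ≫ u₀') : Over S) ⟶
        Over.mk ((Spec.map (CommRingCat.ofHom g) ≫ y) ≫ u₀) := fun {D} _ g =>
    Over.homMk (𝟙 _) (by
      change 𝟙 _ ≫ (Spec.map (CommRingCat.ofHom g) ≫ y) ≫ u₀ = (Spec.map (CommRingCat.ofHom g) ≫ y') ≫ u₀'
      rw [Category.id_comp, hyg g])
  choose Θ hΘ using fun (D : Type u) (_ : CommRing D) (g : B →+* D) (χ : Multiplicative M →* D) =>
    gpt_surjective e' (Spec.map (CommRingCat.ofHom g) ≫ y') (τ g ≫ gpt e (Spec.map (CommRingCat.ofHom g) ≫ y) χ ≫ f)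
  have hleft : ∀ (D : Type u) [CommRing D] (g : B →+* D) (χ : Multiplicative M →* D),
      (gpt e' (Spec.map (CommRingCat.ofHom g) ≫ y') (Θ D _ g χ)).left =
        (gpt e (Spec.map (CommRingCat.ofHom g) ≫ y) χ ≫ f).left := fun D _ g χ =>
    (congrArg (fun m => m.left) (hΘ D _ g χ)).trans (Category.id_comp _)
  have huniq : ∀ (D : Type u) [CommRing D] (g : B →+* D) (χ : Multiplicative M →* D) (χ' : Multiplicative M' →* D),
      (gpt e' (Spec.map (CommRingCat.ofHom g) ≫ y') χ').left =
        (gpt e (Spec.map (CommRingCat.ofHom g) ≫ y) χ ≫ f).left → Θ D _ g χ = χ' := fun D _ g χ χ' h =>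
    gpt_injective e' (Spec.map (CommRingCat.ofHom g) ≫ y') (Over.OverMorphism.ext ((hleft D g χ).trans h.symm))
  have hnat : ∀ {D D' : Type u} [CommRing D] [CommRing D'] (ψ : D →+* D') (g : B →+* D)
      (χ : Multiplicative M →* D),
      Θ D' _ (ψ.comp g) (ψ.toMonoidHom.comp χ) = ψ.toMonoidHom.comp (Θ D _ g χ) := by
    intro D D' _ _ ψ g χ
    refine huniq _ _ _ _ ?_
    rw [Over.comp_left, ← specMap_comp_assoc g ψ y, ← specMap_comp_assoc g ψ y', gpt_comp, gpt_comp,
      hleft, Over.comp_left]
    exact (Category.assoc _ _ _).symm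
  have hmul : ∀ (D : Type u) [CommRing D] (g : B →+* D) (χ χ' : Multiplicative M →* D),
      Θ D _ g (χ * χ') = Θ D _ g χ * Θ D _ g χ' := by
    intro D _ g χ χ'
    refine gpt_injective e' (Spec.map (CommRingCat.ofHom g) ≫ y') ?_
    rw [hΘ]
    have h1 := (congrArg (· ≫ f) (gpt_mul e (Spec.map (CommRingCat.ofHom g) ≫ y) χ χ')).trans
      (MonObj.mul_comp _ _ f)
    refine ((congrArg (τ g ≫ ·) h1).trans (MonObj.comp_mul _ _ _)).trans ?_
    exact (congrArg₂ (· * ·) (hΘ D _ g χ).symm (hΘ D _ g χ').symm).trans (gpt_mul e' _ _ _).symm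
  have hΘone : ∀ (D : Type u) [CommRing D] (g : B →+* D), Θ D _ g 1 = 1 := by
    intro D _ g
    refine gpt_injective e' (Spec.map (CommRingCat.ofHom g) ≫ y') ?_
    rw [hΘ, gpt_one, gpt_one, MonObj.one_comp]
    exact MonObj.comp_one _
  let N := Multiplicative M
  let s₁ : B →+* MonoidAlgebra B N := MonoidAlgebra.singleOneRingHom
  let θ : Multiplicative M' →* MonoidAlgebra B N := Θ _ _ s₁ (MonoidAlgebra.of B N)
  let s₂ : B →+* MonoidAlgebra B (N × N) := MonoidAlgebra.singleOneRingHom
  let i₁ := MonoidAlgebra.mapDomainRingHom B (MonoidHom.inl N N)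
  let i₂ := MonoidAlgebra.mapDomainRingHom B (MonoidHom.inr N N)
  let d := MonoidAlgebra.mapDomainRingHom B ((MonoidHom.id N).prod (MonoidHom.id N))
  have hs : ∀ (F : N →* N × N), (MonoidAlgebra.mapDomainRingHom B F).comp s₁ = s₂ := fun F =>
    RingHom.ext fun b => by simp [s₁, s₂]
  have hgl : ∀ m, d (θ m) = i₁ (θ m) * i₂ (θ m) := by
    have hχ : d.toMonoidHom.comp (MonoidAlgebra.of B N) =
        (i₁.toMonoidHom.comp (MonoidAlgebra.of B N)) * (i₂.toMonoidHom.comp (MonoidAlgebra.of B N)) := by
      refine MonoidHom.ext fun n => ?_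
      change d (MonoidAlgebra.single n 1) = i₁ (MonoidAlgebra.single n 1) * i₂ (MonoidAlgebra.single n 1)
      rw [show d (MonoidAlgebra.single n 1) = MonoidAlgebra.single (n, n) 1 from MonoidAlgebra.mapDomain_single,
        show i₁ (MonoidAlgebra.single n 1) = MonoidAlgebra.single (n, (1 : N)) 1 from MonoidAlgebra.mapDomain_single,
        show i₂ (MonoidAlgebra.single n 1) = MonoidAlgebra.single ((1 : N), n) 1 from MonoidAlgebra.mapDomain_single]
      refine Eq.trans ?_ (MonoidAlgebra.single_mul_single _ _ _ _).symm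
      rw [Prod.mk_mul_mk, _root_.one_mul, _root_.mul_one, _root_.one_mul]
    intro m
    have h1 : Θ _ _ s₂ (d.toMonoidHom.comp (MonoidAlgebra.of B N)) = d.toMonoidHom.comp θ := by
      have := hnat d s₁ (MonoidAlgebra.of B N); rwa [hs] at this
    have h2 : Θ _ _ s₂ (i₁.toMonoidHom.comp (MonoidAlgebra.of B N)) = i₁.toMonoidHom.comp θ := by
      have := hnat i₁ s₁ (MonoidAlgebra.of B N); rwa [hs] at this
    have h3 : Θ _ _ s₂ (i₂.toMonoidHom.comp (MonoidAlgebra.of B N)) = i₂.toMonoidHom.comp θ := by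
      have := hnat i₂ s₁ (MonoidAlgebra.of B N); rwa [hs] at this
    rw [hχ, hmul, h2, h3] at h1
    exact (DFunLike.congr_fun h1 m).symm
  have hev : ∀ (D : Type u) [CommRing D] (g : B →+* D) (χ : N →* D) (m : Multiplicative M'),
      MonoidAlgebra.liftNCRingHom g χ (fun _ _ => Commute.all _ _) (θ m) = Θ D _ g χ m := by
    intro D _ g χ m
    let ev := MonoidAlgebra.liftNCRingHom g χ fun _ _ => Commute.all _ _
    have h1 := hnat ev s₁ (MonoidAlgebra.of B N)
    rw [show ev.comp s₁ = g from RingHom.ext fun b => by simp [ev, s₁],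
      show ev.toMonoidHom.comp (MonoidAlgebra.of B N) = χ from MonoidHom.ext fun n => by simp [ev]] at h1
    exact (DFunLike.congr_fun h1 m).symm
  have hone : ∀ m, MonoidAlgebra.liftNCRingHom (RingHom.id B) (1 : N →* B) (fun _ _ => Commute.all _ _) (θ m) = 1 := by
    intro m
    rw [hev, hΘone]; rfl
  have hfg : (⊤ : Submonoid (Multiplicative M')).FG := Monoid.fg_def.mp
    (have : AddMonoid.FG M' := AddGroup.fg_iff_addMonoid_fg.mp inferInstance; inferInstance)
  obtain ⟨r, hr, φ, hφ⟩ := exists_local_map hfg θ hgl hone p hp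
  refine ⟨r, hr, φ, fun D _ g hu χ => ?_⟩
  have h1 : Θ D _ g χ = χ.comp φ := MonoidHom.ext fun m => by
    have h2 := congrArg (MonoidAlgebra.liftNCRingHom (RingHom.id D) χ fun _ _ => Commute.all _ _) (hφ D g hu m)
    rw [← hev]
    refine Eq.trans ?_ (h2.trans (by simp))
    rw [← RingHom.comp_apply]
    refine RingHom.congr_fun (MonoidAlgebra.ringHom_ext (fun b => ?_) fun n => ?_) (θ m)
    · simp
    · simp
  rw [← h1]
  exact (hleft D g χ).symm

end Groth.Agent.H21Diag
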