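import Groth.Agent.H21Diag.HomLift

/-!
Existence of lifts of homomorphisms of groups of multiplicative type along nilpotent ideals.
-/

open CategoryTheory MonoidalCategory CartesianMonoidalCategory MonObj GrpObj AlgebraicGeometry
open CategoryTheory.Limits

universe u

namespace Groth.Agent.H21Diag

variable {R₀ : Type u} [CommRing R₀] {H H' : Over (Spec (CommRingCat.of R₀))} [GrpObj H] [GrpObj H']

theorem tst_quot_unique {J : Ideal R₀} {X : Over (Spec (CommRingCat.of R₀))}
    (p q : X ⟶ Tst (Ideal.Quotient.mk J)) : p = q := by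
  have : IsClosedImmersion (Spec.map (CommRingCat.ofHom (Ideal.Quotient.mk J))) :=
    IsClosedImmersion.spec_of_surjective _ Ideal.Quotient.mk_surjective
  refine Over.OverMorphism.ext ((cancel_mono (Spec.map (CommRingCat.ofHom (Ideal.Quotient.mk J)))).mp ?_)
  exact (Over.w p).trans (Over.w q).symm

theorem map_eq_bot_of_hom {J : Ideal R₀} {D : Type u} [CommRing D] {f : R₀ →+* D}
    (p : Tst f ⟶ Tst (Ideal.Quotient.mk J)) : J.map f = ⊥ := by
  obtain ⟨l, hl⟩ := Spec.map_surjective p.left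
  have h : f = l.hom.comp (Ideal.Quotient.mk J) := by
    refine congrArg CommRingCat.Hom.hom (Spec.map_injective ?_ :
      CommRingCat.ofHom f = CommRingCat.ofHom (l.hom.comp (Ideal.Quotient.mk J)))
    rw [specMap_comp, CommRingCat.ofHom_hom, hl]
    exact (Over.w p).symm
  subst h
  rw [← Ideal.map_map, Ideal.map_quotient_self, Ideal.map_bot]

/-- the lift of a homomorphism given modulo a nilpotent ideal, on the points over one chart -/
theorem exists_ptHom_lift {R : Type u} [CommRing R] {ρ : R₀ →+* R} {M M' : Type} [AddCommGroup M]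
    [AddCommGroup M'] (Q : Pres H ρ M) (Q' : Pres H' ρ M') (J : Ideal R₀) (hJ : IsNilpotent J)
    (φ₀ : Tst (Ideal.Quotient.mk J) ⊗ H ⟶ H')
    (hmul : ∀ (X : Over (Spec (CommRingCat.of R₀))) (p : X ⟶ Tst (Ideal.Quotient.mk J)) (a b : X ⟶ H),
      lift p (a * b) ≫ φ₀ = (lift p a ≫ φ₀) * (lift p b ≫ φ₀)) :
    ∃ P : PtHom H H' ρ, ∀ (D : Type u) [CommRing D] (f : R₀ →+* D) (g : R →+* D) (hg : g.comp ρ = f)
      (p : Tst f ⟶ Tst (Ideal.Quotient.mk J)) (a : Tst f ⟶ H), P.app f g hg a = lift p a ≫ φ₀ := by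
  let k := Ideal.Quotient.mk (J.map ρ)
  let q : R₀ ⧸ J →+* R ⧸ J.map ρ := Ideal.quotientMap (J.map ρ) ρ Ideal.le_comap_map
  have hq : q.comp (Ideal.Quotient.mk J) = k.comp ρ := Ideal.quotientMap_comp_mk _
  let P₀ : PtHom H H' (k.comp ρ) :=
    { app := fun f g hg a => lift (tst (g.comp q) (by rw [RingHom.comp_assoc, hq, hg])) a ≫ φ₀
      app_mul := fun f g hg a b => hmul _ _ a b
      app_nat := fun t f g hg f' hf a => by
        rw [← Category.assoc (tst t hf), comp_lift]
        congr 2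
        exact tst_quot_unique _ _ }
  obtain ⟨θ₀, hgl₀, hθ₀⟩ := P₀.exists_theta (Q.map k _ rfl) (Q'.map k _ rfl)
  have hker : ∀ x ∈ RingHom.ker k, IsNilpotent x := fun x hx => by
    obtain ⟨n, hn⟩ := hJ.map (Ideal.mapHom ρ)
    refine ⟨n, ?_⟩
    rw [← Ideal.mem_bot, ← Ideal.zero_eq_bot, ← hn]
    exact Ideal.pow_mem_pow (Ideal.Quotient.eq_zero_iff_mem.mp hx) n
  obtain ⟨θ, hgl, hθ⟩ := exists_gl_hom_lift k Ideal.Quotient.mk_surjective hker θ₀ hgl₀
  refine ⟨PtHom.ofTheta Q Q' θ hgl, fun D _ f g hg p a => ?_⟩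
  subst hg
  have hJg : (J.map ρ).map g = ⊥ := by rw [Ideal.map_map]; exact map_eq_bot_of_hom p
  let gC : R ⧸ J.map ρ →+* D := Ideal.Quotient.lift _ g fun x hx => by
    rw [← Ideal.mem_bot, ← hJg]; exact Ideal.mem_map_of_mem g hx
  have hgC : gC.comp k = g := Ideal.Quotient.lift_comp_mk _ _ _
  obtain ⟨χ, rfl⟩ := Q.pt_surjective g a
  rw [PtHom.ofTheta_pt]
  revert hgC p
  generalize gC = gC'
  intro p hp
  subst hp
  have h1 := hθ₀ D gC' χ
  rw [gev_map k gC' χ θ, show (MonoidAlgebra.mapRingHom (Multiplicative M) k).toMonoidHom.comp θ = θ₀ from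
    MonoidHom.ext hθ]
  have hQ : ∀ {H₁ : Over (Spec (CommRingCat.of R₀))} [GrpObj H₁] {M₁ : Type} [AddCommGroup M₁] (Q₁ : Pres H₁ ρ M₁)
      (χ₁ : Multiplicative M₁ →* D), (Q₁.map k (k.comp ρ) rfl).pt gC' χ₁ = Q₁.pt (gC'.comp k) χ₁ := fun Q₁ χ₁ =>
    (congrArg (· ≫ _) (tst_id _)).trans (Category.id_comp _)
  rw [hQ Q, hQ Q'] at h1
  rw [← tst_quot_unique (tst (gC'.comp q) _) p]
  exact h1.symm

/-- homomorphisms of groups of multiplicative type lift along nilpotent ideals -/
theorem exists_hom_lift (hH : IsDiagLoc H) (hH' : IsDiagLoc H') (J : Ideal R₀) (hJ : IsNilpotent J)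
    (φ₀ : Tst (Ideal.Quotient.mk J) ⊗ H ⟶ H')
    (hmul : ∀ (X : Over (Spec (CommRingCat.of R₀))) (p : X ⟶ Tst (Ideal.Quotient.mk J)) (a b : X ⟶ H),
      lift p (a * b) ≫ φ₀ = (lift p a ≫ φ₀) * (lift p b ≫ φ₀)) :
    ∃ φ : H ⟶ H', IsMonHom φ ∧ ∀ (X : Over (Spec (CommRingCat.of R₀))) (p : X ⟶ Tst (Ideal.Quotient.mk J))
      (a : X ⟶ H), a ≫ φ = lift p a ≫ φ₀ := by
  classical
  obtain ⟨F, hF⟩ := exists_charts₂ hH hH'
  choose hQ hQ' using hF
  choose M hMg hQ using hQ
  choose M' hMg' hQ' using hQ'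
  let Q := fun i => @Classical.ofNonempty _ (hQ i)
  let Q' := fun i => @Classical.ofNonempty _ (hQ' i)
  choose P hP using fun i =>
    @exists_ptHom_lift R₀ _ H H' _ _ (F.R i) _ (F.ρ i) (M i) (M' i) (hMg i) (hMg' i) (Q i) (Q' i) J hJ φ₀ hmul
  have indep : ∀ (i j : F.I) (D : Type u) [CommRing D] (f : R₀ →+* D) (gi : (F.R i : Type u) →+* D)
      (gj : (F.R j : Type u) →+* D) (hi : gi.comp (F.ρ i) = f) (hj : gj.comp (F.ρ j) = f) (h : Tst f ⟶ H),
      (P i).app f gi hi h = (P j).app f gj hj h := by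
    intro i j D _ f gi gj hi hj h
    let := hMg i
    let := hMg' i
    refine PtHom.ext_of_eq_mod ((Q i).map gi f hi) ((Q' i).map gi f hi) ((P i).res gi f hi) ((P j).res gj f hj)
      J hJ ?_ f (RingHom.id D) (RingHom.id_comp f) h
    intro D' _ f' g' hg' hJ' a
    have p : Tst f' ⟶ Tst (Ideal.Quotient.mk J) := tst (Ideal.Quotient.lift J f' fun x hx => by
      rw [← Ideal.mem_bot, ← hJ']; exact Ideal.mem_map_of_mem f' hx) (Ideal.Quotient.lift_comp_mk _ _ _)
    exact (hP i D' f' _ _ p a).trans (hP j D' f' _ _ p a).symm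
  have : IsAffineHom H.hom := isAffineHom_of_diagLoc hH
  have : IsAffine H.left := isAffine_of_isAffineHom H.hom
  -- the universal point
  let A := Γ(H.left, ⊤)
  obtain ⟨α, hα⟩ := Spec.map_surjective (H.left.isoSpec.inv ≫ H.hom)
  let x : Tst α.hom ⟶ H := Over.homMk H.left.isoSpec.inv hα.symm
  let y : H ⟶ Tst α.hom := Over.homMk H.left.isoSpec.hom (by
    change _ ≫ Spec.map α = _
    rw [hα, Iso.hom_inv_id_assoc])
  have hyx : y ≫ x = 𝟙 H := Over.OverMorphism.ext (Iso.hom_inv_id _)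
  let sA := Spec.map (CommRingCat.ofHom α.hom)
  let Pb := fun i => pullback sA (Spec.map (CommRingCat.ofHom (F.ρ i)))
  have : ∀ i, IsAffine (Pb i) := fun i => inferInstance
  choose l hl using fun i => Spec.map_surjective ((Pb i).isoSpec.inv ≫ pullback.fst _ _)
  choose g hg using fun i => Spec.map_surjective ((Pb i).isoSpec.inv ≫ pullback.snd _ _)
  have hlg : ∀ i, (g i).hom.comp (F.ρ i) = (l i).hom.comp α.hom := fun i => by
    refine congrArg CommRingCat.Hom.hom (Spec.map_injective ?_ :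
      CommRingCat.ofHom ((g i).hom.comp (F.ρ i)) = CommRingCat.ofHom ((l i).hom.comp α.hom))
    rw [specMap_comp, specMap_comp, CommRingCat.ofHom_hom, CommRingCat.ofHom_hom, hg, hl, Category.assoc,
      Category.assoc, ← pullback.condition]
  let F' : FFFam A :=
    { I := F.I, fin := F.fin, R := fun i => Γ(Pb i, ⊤), ρ := fun i => (l i).hom
      flat := fun i => by
        have := F.flat i
        rw [CommRingCat.ofHom_hom, hl]; infer_instance
      surj := fun z => by
        obtain ⟨i, p, hp⟩ := F.surj (sA.base z)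
        obtain ⟨w, hw, -⟩ := Scheme.Pullback.exists_preimage_pullback
          (f := sA) (g := Spec.map (CommRingCat.ofHom (F.ρ i))) z p hp.symm
        refine ⟨i, (Pb i).isoSpec.hom.base w, ?_⟩
        rw [CommRingCat.ofHom_hom, hl, ← Scheme.Hom.comp_apply, Iso.hom_inv_id_assoc]
        exact hw }
  let d : ∀ i, Tst ((l i).hom.comp α.hom) ⟶ H' := fun i =>
    (P i).app _ (g i).hom (hlg i) (tst (l i).hom rfl ≫ x)
  let e : ∀ {B : Type u} [CommRing B] (b : A →+* B), (Over.map sA).obj (Tst b) ⟶ Tst (b.comp α.hom) :=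
    fun b => Over.homMk (𝟙 _) ((Category.id_comp _).trans (specMap_comp α.hom b))
  let c : ∀ i, Tst (F'.ρ i) ⟶ Red.bc sA H' := fun i => bcEquiv sA H' _ (e (F'.ρ i) ≫ d i)
  have hc : ∀ i, (c i).left ≫ pullback.fst H'.hom sA = (d i).left := fun i =>
    (bcEquiv_left_fst sA H' _ _).trans (Category.id_comp _)
  obtain ⟨z, hz⟩ := F'.exists_descend c fun i j D _ f gi gj hi hj => by
    refine bc_ext ?_
    change (Spec.map (CommRingCat.ofHom gi) ≫ (c i).left) ≫ _ = (Spec.map (CommRingCat.ofHom gj) ≫ (c j).left) ≫ _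
    rw [Category.assoc, Category.assoc, hc, hc]
    have hi' : gi.comp ((l i).hom.comp α.hom) = f.comp α.hom := by rw [← RingHom.comp_assoc]; exact congrArg (·.comp α.hom) hi
    have hj' : gj.comp ((l j).hom.comp α.hom) = f.comp α.hom := by rw [← RingHom.comp_assoc]; exact congrArg (·.comp α.hom) hj
    have h1 : tst gi hi' ≫ d i = tst gj hj' ≫ d j := by
      simp only [d, ← PtHom.app_nat]
      rw [indep i j D (f.comp α.hom) (gi.comp (g i).hom) (gj.comp (g j).hom) _
        (by rw [RingHom.comp_assoc, hlg, hj'])]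
      congr 1
      rw [← Category.assoc, ← Category.assoc, tst_comp, tst_comp]
      exact congrArg (· ≫ x) (tst_congr (hi.trans hj.symm) _ _)
    exact congrArg (fun m => m.left) h1
  let φ' : Tst α.hom ⟶ H' := Over.homMk (z.left ≫ pullback.fst H'.hom sA) (by
    rw [Category.assoc, pullback.condition, ← Category.assoc]
    exact (congrArg (· ≫ sA) (Over.w z)).trans (Category.id_comp _))
  have hform : ∀ (i : F.I) (D : Type u) [CommRing D] (f : R₀ →+* D) (gi : (F.R i : Type u) →+* D)
      (hi : gi.comp (F.ρ i) = f) (h : Tst f ⟶ H), h ≫ y ≫ φ' = (P i).app f gi hi h := by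
    intro i D _ f gi hi h
    obtain ⟨m, hm⟩ := Spec.map_surjective (h ≫ y).left
    have hmf : m.hom.comp α.hom = f := by
      refine congrArg CommRingCat.Hom.hom (Spec.map_injective ?_ :
        CommRingCat.ofHom (m.hom.comp α.hom) = CommRingCat.ofHom f)
      rw [specMap_comp, CommRingCat.ofHom_hom, hm]
      exact Over.w (h ≫ y)
    have hhy : h ≫ y = tst m.hom hmf := Over.OverMorphism.ext hm.symm
    let w := pullback.lift (f := sA) (g := Spec.map (CommRingCat.ofHom (F.ρ i))) (Spec.map (CommRingCat.ofHom m.hom))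
      (Spec.map (CommRingCat.ofHom gi)) (by rw [← specMap_comp, ← specMap_comp, hmf, hi])
    obtain ⟨v, hv⟩ := Spec.map_surjective (w ≫ (Pb i).isoSpec.hom)
    have hvl : v.hom.comp (l i).hom = m.hom := by
      refine congrArg CommRingCat.Hom.hom (Spec.map_injective ?_ :
        CommRingCat.ofHom (v.hom.comp (l i).hom) = CommRingCat.ofHom m.hom)
      rw [specMap_comp, CommRingCat.ofHom_hom, CommRingCat.ofHom_hom, hv, hl, Category.assoc,
        Iso.hom_inv_id_assoc]
      exact pullback.lift_fst _ _ _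
    have hvg : v.hom.comp (g i).hom = gi := by
      refine congrArg CommRingCat.Hom.hom (Spec.map_injective ?_ :
        CommRingCat.ofHom (v.hom.comp (g i).hom) = CommRingCat.ofHom gi)
      rw [specMap_comp, CommRingCat.ofHom_hom, CommRingCat.ofHom_hom, hv, hg, Category.assoc,
        Iso.hom_inv_id_assoc]
      exact pullback.lift_snd _ _ _
    have hd : tst (l i).hom rfl ≫ φ' = d i := Over.OverMorphism.ext (by
      rw [← hc i, ← hz i]
      exact (Category.assoc _ _ _).symm)
    have hvf : v.hom.comp ((l i).hom.comp α.hom) = f := by rw [← RingHom.comp_assoc, hvl, hmf]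
    have hdec : tst m.hom hmf = tst v.hom hvf ≫ tst (l i).hom rfl := by
      rw [tst_comp]; exact tst_congr hvl.symm _ _
    rw [← Category.assoc, hhy, hdec, Category.assoc, hd]
    simp only [d, ← PtHom.app_nat]
    subst hvg
    congr 1
    rw [← Category.assoc, ← hdec, ← hhy, Category.assoc, hyx, Category.comp_id]
  refine ⟨y ≫ φ', isMonHom_of_mul _ fun {X} a b => ?_, fun X p a => ?_⟩
  · have key : (fst H H * snd H H) ≫ y ≫ φ' = (fst H H ≫ y ≫ φ') * (snd H H ≫ y ≫ φ') := by
      have : IsAffineHom (pullback.fst H.hom H.hom) := inferInstance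
      have : IsAffine (H ⊗ H).left := isAffine_of_isAffineHom (pullback.fst H.hom H.hom)
      refine F.affine_hom_ext fun i D _ f gi hi t => ?_
      rw [MonObj.comp_mul, ← Category.assoc t, ← Category.assoc t, ← Category.assoc t, MonObj.comp_mul,
        hform i D f gi hi, hform i D f gi hi, hform i D f gi hi, (P i).app_mul]
    have := congrArg (lift a b ≫ ·) key
    simpa only [← Category.assoc, MonObj.comp_mul, lift_fst, lift_snd] using this
  · have key : snd (Tst (Ideal.Quotient.mk J)) H ≫ y ≫ φ' = φ₀ := by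
      have : IsAffineHom (pullback.fst (Tst (Ideal.Quotient.mk J)).hom H.hom) :=
        MorphismProperty.pullback_fst _ _ (inferInstanceAs (IsAffineHom H.hom))
      have : IsAffine (Tst (Ideal.Quotient.mk J)).left := isAffine_Spec _
      have : IsAffine (Tst (Ideal.Quotient.mk J) ⊗ H).left :=
        isAffine_of_isAffineHom (pullback.fst (Tst (Ideal.Quotient.mk J)).hom H.hom)
      refine F.affine_hom_ext fun i D _ f gi hi t => ?_
      rw [← Category.assoc t, hform i D f gi hi, hP i D f gi hi (t ≫ fst _ _), ← comp_lift, lift_fst_snd,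
        Category.comp_id]
    have := congrArg (lift p a ≫ ·) key
    simpa only [← Category.assoc, lift_snd] using this

end Groth.Agent.H21Diag
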