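import Groth.Agent.H21Diag.Integrate
import Groth.Agent.H21Diag.HomLiftExists

/-!
Lifting homomorphisms from diagonalisable groups to smooth groups along nilpotent ideals.
-/

open CategoryTheory MonoidalCategory CartesianMonoidalCategory MonObj GrpObj AlgebraicGeometry
open CategoryTheory.Limits

universe u

namespace Groth.Agent.H21Diag

variable {R₀ : Type u} [CommRing R₀] {G H : Over (Spec (CommRingCat.of R₀))} [GrpObj G] [GrpObj H]
  {M : Type} [AddCommGroup M]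

omit [GrpObj G] in
/-- a point of a smooth scheme over an algebra lifts along a nilpotent ideal -/
theorem exists_lift_tst (hG : Smooth G.hom) {A : Type u} [CommRing A] (α : R₀ →+* A) (I : Ideal A)
    (hI : IsNilpotent I) (z : Tst ((Ideal.Quotient.mk I).comp α) ⟶ G) :
    ∃ y : Tst α ⟶ G, tst (Ideal.Quotient.mk I) rfl ≫ y = z := by
  obtain ⟨l, hl, hlf⟩ := exists_lift_of_isNilpotent ((Groth.Agent.S1488.result G.hom).mp hG).2 I hI z.left
    (Spec.map (CommRingCat.ofHom α)) ((specMap_comp α (Ideal.Quotient.mk I)).symm.trans (Over.w z).symm)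
  exact ⟨Over.homMk l hlf, Over.OverMorphism.ext hl⟩

/-- an affine scheme over an affine base as a test scheme -/
theorem exists_affine_coord {X : Over (Spec (CommRingCat.of R₀))} [IsAffine X.left] :
    ∃ (A : Type u) (_ : CommRing A) (α : R₀ →+* A) (x : Tst α ⟶ X) (y : X ⟶ Tst α),
      y ≫ x = 𝟙 X ∧ x ≫ y = 𝟙 _ := by
  obtain ⟨α, hα⟩ := Spec.map_surjective (X.left.isoSpec.inv ≫ X.hom)
  exact ⟨_, inferInstance, α.hom, Over.homMk X.left.isoSpec.inv hα.symm,
    Over.homMk X.left.isoSpec.hom (by change _ ≫ Spec.map α = _; rw [hα, Iso.hom_inv_id_assoc]),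
    Over.OverMorphism.ext (Iso.hom_inv_id _), Over.OverMorphism.ext (Iso.inv_hom_id _)⟩

theorem exists_tst_factor {A D : Type u} [CommRing A] [CommRing D] {α : R₀ →+* A} {k : R₀ →+* D}
    (t : Tst k ⟶ Tst α) : ∃ (m : A →+* D) (hm : m.comp α = k), t = tst m hm := by
  obtain ⟨m, hm⟩ := Spec.map_surjective t.left
  have hk : m.hom.comp α = k := by
    refine congrArg CommRingCat.Hom.hom (Spec.map_injective ?_ :
      CommRingCat.ofHom (m.hom.comp α) = CommRingCat.ofHom k)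
    rw [specMap_comp, CommRingCat.ofHom_hom, hm]
    exact Over.w t
  exact ⟨m.hom, hk, Over.OverMorphism.ext hm.symm⟩

/-- one step: a morphism multiplicative modulo `J₁` can be made multiplicative modulo `J₂ ⊇ J₁²` -/
theorem exists_mulMod_step (hG : Smooth G.hom) (Q : Pres H (RingHom.id R₀) M) [IsAffine H.left] (f : H ⟶ G)
    (J₁ J₂ : Ideal R₀) (h12 : J₁ ^ 2 ≤ J₂) (h21 : J₂ ≤ J₁) (hJ₂ : IsNilpotent J₂) (hmod : MulMod f J₁) :
    ∃ f' : H ⟶ G, MulMod f' J₂ ∧ ∀ (D : Type u) [CommRing D] (k : R₀ →+* D), J₁.map k = ⊥ →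
      ∀ a : Tst k ⟶ H, a ≫ f' = a ≫ f := by
  obtain ⟨A, _, α, x, y, hyx, hxy⟩ := exists_affine_coord (X := H)
  let I := J₂.map α
  let g₀ : R₀ →+* A ⧸ I := (Ideal.Quotient.mk I).comp α
  have h0 : J₂.map g₀ = ⊥ := by rw [← Ideal.map_map, Ideal.map_quotient_self]
  let Q₀ : Pres H ((Ideal.Quotient.mk J₂).comp (RingHom.id R₀)) M :=
    Q.map (Ideal.Quotient.mk J₂) _ rfl
  let qA : R₀ ⧸ J₂ →+* A ⧸ I := Ideal.quotientMap I α Ideal.le_comap_map
  have hqA : qA.comp ((Ideal.Quotient.mk J₂).comp (RingHom.id R₀)) = g₀ := RingHom.ext fun r => rfl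
  have hsq : ∀ {D : Type u} [CommRing D] (g : R₀ ⧸ J₂ →+* D),
      (J₁ ^ 2).map (g.comp ((Ideal.Quotient.mk J₂).comp (RingHom.id R₀))) = ⊥ := fun g => by
    have h1 : (J₁ ^ 2).map (Ideal.Quotient.mk J₂) = ⊥ := by
      rw [Ideal.map_eq_bot_iff_le_ker, Ideal.mk_ker]; exact h12
    rw [RingHom.comp_id, ← Ideal.map_map, h1, Ideal.map_bot]
  let x₀ : Tst (qA.comp ((Ideal.Quotient.mk J₂).comp (RingHom.id R₀))) ⟶ H :=
    tst (Ideal.Quotient.mk I) (g := α) hqA.symm ≫ x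
  obtain ⟨χ₀, hχ₀⟩ := Q₀.pt_surjective qA x₀
  obtain ⟨v, hv⟩ := isInt_exists (Q := Q₀) (g := qA) (hsq qA) hmod χ₀
  obtain ⟨w, hw⟩ := exists_lift_tst hG α I (hJ₂.map (Ideal.mapHom α))
    (tst (RingHom.id _) ((RingHom.id_comp _).trans hqA) ≫ v)
  have key : ∀ (D : Type u) [CommRing D] (g : R₀ ⧸ J₂ →+* D) (χ : Multiplicative M →* D),
      IsInt f J₁ Q₀ g (hsq g) χ (Q₀.pt g χ ≫ y ≫ w) := by
    intro D _ g χ
    obtain ⟨m, hm, hdec⟩ := exists_tst_factor (Q₀.pt g χ ≫ y)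
    obtain ⟨m', rfl⟩ : ∃ m' : A ⧸ I →+* D, m'.comp (Ideal.Quotient.mk I) = m :=
      ⟨Ideal.Quotient.lift I m fun a ha => by
        have h1 : J₂.map (m.comp α) = ⊥ := by
          rw [hm, RingHom.comp_id, ← Ideal.map_map, Ideal.map_quotient_self, Ideal.map_bot]
        rw [← Ideal.mem_bot, ← h1, ← Ideal.map_map]
        exact Ideal.mem_map_of_mem m ha, Ideal.Quotient.lift_comp_mk _ _ _⟩
    obtain rfl : g = m'.comp qA := Ideal.Quotient.ringHom_ext (RingHom.ext fun r => by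
      have := RingHom.congr_fun hm r
      exact this.symm)
    obtain rfl : χ = m'.toMonoidHom.comp χ₀ := by
      refine Q₀.pt_injective (m'.comp qA) ?_
      rw [← Q₀.pt_nat m' qA χ₀, hχ₀, ← Category.assoc, tst_comp,
        ← hdec, Category.assoc, hyx, Category.comp_id]
    rw [← Category.assoc, hdec,
      ← tst_comp (Ideal.Quotient.mk I) m' rfl (show m'.comp g₀ = _ by rw [← hqA]; rfl), Category.assoc, hw,
      ← Category.assoc, tst_comp, tst_congr (RingHom.comp_id m') _ rfl]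
    exact hv.map m'
  have hfac : ∀ {D : Type u} [CommRing D] (k : R₀ →+* D), J₂.map k = ⊥ →
      ∃ g : R₀ ⧸ J₂ →+* D, g.comp ((Ideal.Quotient.mk J₂).comp (RingHom.id R₀)) = k := fun k hk =>
    ⟨Ideal.Quotient.lift J₂ k fun r hr => by rw [← Ideal.mem_bot, ← hk]; exact Ideal.mem_map_of_mem k hr,
      RingHom.ext fun r => rfl⟩
  refine ⟨y ≫ w, fun D _ k hk a b => ?_, fun D _ k hk a => ?_⟩
  · obtain ⟨g, rfl⟩ := hfac k hk
    obtain ⟨χ, rfl⟩ := Q₀.pt_surjective g a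
    obtain ⟨χ', rfl⟩ := Q₀.pt_surjective g b
    rw [← Q₀.pt_mul]
    exact (key D g _).unique ((key D g χ).mul hmod (key D g χ'))
  · have hk2 : J₂.map k = ⊥ := eq_bot_iff.mpr ((Ideal.map_mono h21).trans hk.le)
    obtain ⟨g, rfl⟩ := hfac k hk2
    obtain ⟨χ, rfl⟩ := Q₀.pt_surjective g a
    exact (key D g χ).unique (IsInt.of_map_eq_bot (hsq g) hmod hk χ)

/-- homomorphisms to smooth groups lift along nilpotent ideals -/
theorem exists_hom_lift_smooth (hG : Smooth G.hom) (Q : Pres H (RingHom.id R₀) M) [IsAffine H.left]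
    (J : Ideal R₀) (hJ : IsNilpotent J) (φ₀ : Tst (Ideal.Quotient.mk J) ⊗ H ⟶ G)
    (hmul : ∀ (X : Over (Spec (CommRingCat.of R₀))) (p : X ⟶ Tst (Ideal.Quotient.mk J)) (a b : X ⟶ H),
      lift p (a * b) ≫ φ₀ = (lift p a ≫ φ₀) * (lift p b ≫ φ₀)) :
    ∃ f : H ⟶ G, IsMonHom f ∧ ∀ (D : Type u) [CommRing D] (k : R₀ →+* D)
      (p : Tst k ⟶ Tst (Ideal.Quotient.mk J)) (a : Tst k ⟶ H), a ≫ f = lift p a ≫ φ₀ := by
  obtain ⟨A, _, α, x, y, hyx, hxy⟩ := exists_affine_coord (X := H)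
  have hp : ∀ {D : Type u} [CommRing D] (k : R₀ →+* D), J.map k = ⊥ →
      Nonempty (Tst k ⟶ Tst (Ideal.Quotient.mk J)) := fun k hk =>
    ⟨tst (Ideal.Quotient.lift J k fun a ha => by rw [← Ideal.mem_bot, ← hk]; exact Ideal.mem_map_of_mem k ha)
      (Ideal.Quotient.lift_comp_mk _ _ _)⟩
  let I := J.map α
  let q : R₀ ⧸ J →+* A ⧸ I := Ideal.quotientMap I α Ideal.le_comap_map
  obtain ⟨w, hw⟩ := exists_lift_tst hG α I (hJ.map (Ideal.mapHom α))
    (lift (tst q (g' := (Ideal.Quotient.mk I).comp α) (RingHom.ext fun r => rfl))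
      (tst (Ideal.Quotient.mk I) rfl ≫ x) ≫ φ₀)
  have h0 : ∀ (D : Type u) [CommRing D] (k : R₀ →+* D) (p : Tst k ⟶ Tst (Ideal.Quotient.mk J)) (a : Tst k ⟶ H),
      a ≫ y ≫ w = lift p a ≫ φ₀ := by
    intro D _ k p a
    obtain ⟨m, hm, hdec⟩ := exists_tst_factor (a ≫ y)
    let m' : A ⧸ I →+* D := Ideal.Quotient.lift I m fun r hr => by
      have h1 : J.map (m.comp α) = ⊥ := by rw [hm]; exact map_eq_bot_of_hom p
      rw [← Ideal.mem_bot, ← h1, ← Ideal.map_map]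
      exact Ideal.mem_map_of_mem m hr
    have hm' : m'.comp (Ideal.Quotient.mk I) = m := Ideal.Quotient.lift_comp_mk _ _ _
    rw [← Category.assoc, hdec, tst_congr hm'.symm hm (by rw [hm']; exact hm),
      ← tst_comp (Ideal.Quotient.mk I) m' rfl (show m'.comp ((Ideal.Quotient.mk I).comp α) = k by
        rw [← RingHom.comp_assoc, hm', hm]), Category.assoc, hw, ← Category.assoc, comp_lift]
    congr 2
    · exact tst_quot_unique _ _
    · rw [← Category.assoc, tst_comp, tst_congr hm' _ hm, ← hdec, Category.assoc, hyx, Category.comp_id]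
  suffices key : ∀ n : ℕ, ∃ f : H ⟶ G, MulMod f (J ^ (n + 1)) ∧ ∀ (D : Type u) [CommRing D] (k : R₀ →+* D)
      (p : Tst k ⟶ Tst (Ideal.Quotient.mk J)) (a : Tst k ⟶ H), a ≫ f = lift p a ≫ φ₀ by
    obtain ⟨n, hn⟩ := hJ
    obtain ⟨f, hmf, hf⟩ := key n
    have hn' : J ^ (n + 1) = ⊥ := by rw [pow_succ, hn, zero_mul]; rfl
    refine ⟨f, isMonHom_of_mul _ fun {X} a b => ?_, hf⟩
    have : IsAffineHom H.hom := inferInstance
    have : IsAffineHom (pullback.fst H.hom H.hom) := inferInstance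
    have : IsAffine (H ⊗ H).left := isAffine_of_isAffineHom (pullback.fst H.hom H.hom)
    obtain ⟨B, _, β, x₂, y₂, hyx₂, -⟩ := exists_affine_coord (X := H ⊗ H)
    have hu : (fst H H * snd H H) ≫ f = (fst H H ≫ f) * (snd H H ≫ f) := by
      have h1 := hmf B β (by rw [hn', Ideal.map_bot]) (x₂ ≫ fst H H) (x₂ ≫ snd H H)
      have h2 := congrArg (y₂ ≫ ·) h1
      simpa only [← Category.assoc, MonObj.comp_mul, hyx₂, Category.id_comp] using h2
    have := congrArg (lift a b ≫ ·) hu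
    simpa only [← Category.assoc, MonObj.comp_mul, lift_fst, lift_snd] using this
  intro n
  induction n with
  | zero =>
    refine ⟨y ≫ w, fun D _ k hk a b => ?_, h0⟩
    obtain ⟨p⟩ := hp k (by rw [← hk, zero_add, pow_one])
    rw [h0 D k p, h0 D k p, h0 D k p, hmul _ p]
  | succ n ih =>
    obtain ⟨f, hmf, hf⟩ := ih
    obtain ⟨f', hmf', hf'⟩ := exists_mulMod_step hG Q f (J ^ (n + 1)) (J ^ (n + 1 + 1))
      (by rw [← pow_mul]; exact Ideal.pow_le_pow_right (by omega)) (Ideal.pow_le_pow_right (by omega))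
      (hJ.pow_succ _) hmf
    refine ⟨f', hmf', fun D _ k p a => ?_⟩
    rw [hf' D k (eq_bot_iff.mpr ((Ideal.map_mono (Ideal.pow_le_self (by omega))).trans (map_eq_bot_of_hom p).le)) a,
      hf D k p a]

end Groth.Agent.H21Diag
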