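import Groth.Agent.H21Diag.LocallyDiag
import Groth.Agent.H21Diag.IntegrateHom

/-!
A monomorphic homomorphism from a group of multiplicative type to an affine group is a closed immersion.
-/

open CategoryTheory MonoidalCategory CartesianMonoidalCategory MonObj GrpObj AlgebraicGeometry
open CategoryTheory.Limits

universe u

namespace Groth.Agent.H21Diag

variable {R₀ : Type u} [CommRing R₀] {G H : Over (Spec (CommRingCat.of R₀))} [GrpObj G] [GrpObj H]
  {M : Type} [AddCommGroup M]

theorem Pres.pt_left_congr (Q : Pres H (RingHom.id R₀) M) {D : Type u} [CommRing D] {g g' : R₀ →+* D} (h : g = g')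
    (c : Multiplicative M →* D) : (Q.pt g c).left = (Q.pt g' c).left := by
  subst h; rfl

section abstract

variable (Q : Pres H (RingHom.id R₀) M) (i : H ⟶ G) {A B : Type u} [CommRing A] [CommRing B] {β : R₀ →+* A}
  (xG : Tst β ⟶ G) (yG : G ⟶ Tst β) (hyx : yG ≫ xG = 𝟙 G) {sB : R₀ →+* B} (uB : Multiplicative M →* B)
  (m : A →+* B) (hm : m.comp β = sB) (hu : (Q.pt sB uB).left ≫ i.left ≫ yG.left = Spec.map (CommRingCat.ofHom m))

include hyx hu in
/-- all points are obtained from the universal one -/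
theorem pt_comp_eq {D : Type u} [CommRing D] (ev : B →+* D) (g : R₀ →+* D) (hg : ev.comp sB = g)
    (χ : Multiplicative M →* D) (hχ : ev.toMonoidHom.comp uB = χ) :
    (Q.pt g χ ≫ i).left = Spec.map (CommRingCat.ofHom (ev.comp m)) ≫ xG.left := by
  subst hg hχ
  have h1 := congrArg (fun q => q.left) (Q.pt_nat ev sB uB)
  have h2 : i.left = i.left ≫ yG.left ≫ xG.left := by
    have := congrArg (fun q => q.left) hyx
    rw [Over.comp_left] at this
    rw [this]; exact (Category.comp_id _).symm
  rw [Over.comp_left, ← h1, Over.comp_left, Category.assoc, h2, specMap_comp]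
  change Spec.map _ ≫ _ ≫ _ = _
  rw [← hu]
  simp only [Category.assoc]

variable [IsMonHom i]

include hyx hm hu in
/-- the homogeneous components of the image -/
theorem exists_component {C P₁ P₂ : Type u} [CommRing C] [CommRing P₁] [CommRing P₂] (m' : A →+* C)
    (ι₀ : C →+* B) (hι : ι₀.comp m' = m) (s₁ : C →+* P₁) (s₂ : B →+* P₂) (Φ : P₁ →+* P₂)
    (hΦ : Φ.comp s₁ = s₂.comp ι₀) (u₁ : Multiplicative M →* P₁) (u₂ : Multiplicative M →* P₂)
    (hu₁ : Φ.toMonoidHom.comp u₁ = u₂) (d : B →+* P₂) (hd : d.comp sB = s₂.comp sB)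
    (hd' : d.toMonoidHom.comp uB = s₂.toMonoidHom.comp uB * u₂) :
    ∃ n : A →+* P₁, Φ.comp n = d.comp m := by
  let k₁ : R₀ →+* P₁ := (s₁.comp (m'.comp β)).comp (RingHom.id R₀)
  let z : Tst k₁ ⟶ G :=
    (tst (g' := k₁) (s₁.comp m') (by rw [RingHom.comp_assoc]; exact (RingHom.comp_id _).symm) ≫ xG) *
      (Q.pt (s₁.comp (m'.comp β)) u₁ ≫ i)
  obtain ⟨n, hn, hz⟩ := exists_tst_factor (z ≫ yG)
  refine ⟨n, ?_⟩
  have hk : Φ.comp k₁ = (s₂.comp sB).comp (RingHom.id R₀) := by
    simp only [k₁, RingHom.comp_id, ← RingHom.comp_assoc, hΦ]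
    exact RingHom.ext fun r => congrArg s₂ ((RingHom.congr_fun hι (β r)).trans (RingHom.congr_fun hm r))
  have hΦc : Φ.comp (s₁.comp (m'.comp β)) = s₂.comp sB := by
    rw [RingHom.comp_id] at hk; exact hk
  have h1 : tst Φ hk ≫ z = Q.pt (s₂.comp sB) (d.toMonoidHom.comp uB) ≫ i := by
    rw [MonObj.comp_mul, hd', Q.pt_mul, MonObj.mul_comp]
    congr 1
    · refine Over.OverMorphism.ext ?_
      rw [pt_comp_eq Q i xG yG hyx uB m hu s₂ _ rfl _ rfl, Over.comp_left, Over.comp_left]
      change Spec.map _ ≫ Spec.map _ ≫ _ = _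
      rw [specMap_comp_assoc, ← RingHom.comp_assoc, hΦ, RingHom.comp_assoc, hι]
    · refine Over.OverMorphism.ext ?_
      have := congrArg (fun q => q.left) (Q.pt_nat Φ (s₁.comp (m'.comp β)) u₁)
      rw [hu₁, Q.pt_left_congr hΦc] at this
      simp only [Over.comp_left] at this ⊢
      rw [← Category.assoc]
      exact congrArg (· ≫ i.left) this
  have h2 := congrArg (fun q => (q ≫ yG).left) h1
  rw [Category.assoc, hz, tst_comp] at h2
  refine congrArg CommRingCat.Hom.hom (Spec.map_injective (h2.trans ?_) :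
    CommRingCat.ofHom (Φ.comp n) = CommRingCat.ofHom (d.comp m))
  rw [Over.comp_left, Over.comp_left, Q.pt_left_congr hd.symm, ← Q.pt_nat d sB uB, specMap_comp, ← hu]
  rw [Over.comp_left, Category.assoc, Category.assoc]
  rfl

include hyx hm hu in
/-- stability of the image under inversion -/
theorem exists_inverse {C : Type u} [CommRing C] (m' : A →+* C) (ι₀ : C →+* B) (hι : ι₀.comp m' = m)
    (σ : B →+* B) (hσ : σ.comp sB = sB) (hσ' : σ.toMonoidHom.comp uB * uB = 1) :
    ∃ n : A →+* C, ι₀.comp n = σ.comp m := by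
  let z : Tst (m'.comp β) ⟶ G := (tst m' rfl ≫ xG)⁻¹
  obtain ⟨n, hn, hz⟩ := exists_tst_factor (z ≫ yG)
  refine ⟨n, ?_⟩
  have hk : ι₀.comp (m'.comp β) = sB.comp (RingHom.id R₀) := by
    rw [← RingHom.comp_assoc, hι, hm, RingHom.comp_id]
  have h1 : tst ι₀ hk ≫ z = Q.pt sB (σ.toMonoidHom.comp uB) ≫ i := by
    have hp : Q.pt sB (σ.toMonoidHom.comp uB) = (Q.pt sB uB)⁻¹ :=
      eq_inv_of_mul_eq_one_left (by rw [← Q.pt_mul, hσ', Q.pt_one])
    rw [hp, GrpObj.inv_comp, GrpObj.comp_inv]
    congr 1
    refine Over.OverMorphism.ext ?_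
    rw [pt_comp_eq Q i xG yG hyx uB m hu (RingHom.id B) sB (RingHom.id_comp _) uB (MonoidHom.ext fun _ => rfl),
      RingHom.id_comp, Over.comp_left, Over.comp_left]
    change Spec.map _ ≫ Spec.map _ ≫ _ = _
    rw [specMap_comp_assoc, hι]
  have h2 := congrArg (fun q => (q ≫ yG).left) h1
  rw [Category.assoc, hz, tst_comp] at h2
  refine congrArg CommRingCat.Hom.hom (Spec.map_injective (h2.trans ?_) :
    CommRingCat.ofHom (ι₀.comp n) = CommRingCat.ofHom (σ.comp m))
  rw [Over.comp_left, Over.comp_left, Q.pt_left_congr hσ.symm, ← Q.pt_nat σ sB uB, specMap_comp, ← hu]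
  rw [Over.comp_left, Category.assoc, Category.assoc]
  rfl

end abstract

/-- with a global presentation, the image of functions is everything -/
theorem surjective_of_mono (Q : Pres H (RingHom.id R₀) M) (i : H ⟶ G) [IsMonHom i] [Mono i]
    {A : Type u} [CommRing A] {β : R₀ →+* A} (xG : Tst β ⟶ G) (yG : G ⟶ Tst β) (hyx : yG ≫ xG = 𝟙 G)
    (m : A →+* MonoidAlgebra R₀ (Multiplicative M))
    (hm : m.comp β = (MonoidAlgebra.singleOneRingHom : R₀ →+* MonoidAlgebra R₀ (Multiplicative M)))
    (hu : (Q.pt (MonoidAlgebra.singleOneRingHom : R₀ →+* MonoidAlgebra R₀ (Multiplicative M))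
        (MonoidAlgebra.of R₀ (Multiplicative M))).left ≫ i.left ≫ yG.left = Spec.map (CommRingCat.ofHom m)) :
    Function.Surjective m := by
  classical
  let N := Multiplicative M
  let s : R₀ →+* MonoidAlgebra R₀ N := MonoidAlgebra.singleOneRingHom
  let C := m.range
  let s₁ : C →+* MonoidAlgebra C N := MonoidAlgebra.singleOneRingHom
  let s₂ : MonoidAlgebra R₀ N →+* MonoidAlgebra (MonoidAlgebra R₀ N) N := MonoidAlgebra.singleOneRingHom
  -- homogeneous components
  have hcomp : ∀ w ∈ C, ∀ k : N, MonoidAlgebra.single k (w.coeff k) ∈ C := by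
    let Φ := MonoidAlgebra.mapRingHom N C.subtype
    let d : MonoidAlgebra R₀ N →+* MonoidAlgebra (MonoidAlgebra R₀ N) N :=
      MonoidAlgebra.liftNCRingHom (s₂.comp s)
        (s₂.toMonoidHom.comp (MonoidAlgebra.of R₀ N) * MonoidAlgebra.of (MonoidAlgebra R₀ N) N)
        fun _ _ => Commute.all _ _
    have hd1 : d.comp s = s₂.comp s := RingHom.ext fun b => by simp [d, s, ← MonoidAlgebra.one_def]
    have hd2 : d.toMonoidHom.comp (MonoidAlgebra.of R₀ N) =
        s₂.toMonoidHom.comp (MonoidAlgebra.of R₀ N) * MonoidAlgebra.of (MonoidAlgebra R₀ N) N :=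
      MonoidHom.ext fun k => by simp [d]
    have hΦ : Φ.comp s₁ = s₂.comp C.subtype := RingHom.ext fun x => by simp [Φ, s₁, s₂]
    have hu₁ : Φ.toMonoidHom.comp (MonoidAlgebra.of C N) = MonoidAlgebra.of (MonoidAlgebra R₀ N) N :=
      MonoidHom.ext fun k => by simp [Φ]
    obtain ⟨n, key⟩ := exists_component Q i xG yG hyx (MonoidAlgebra.of R₀ N) m hm hu m.rangeRestrict C.subtype
      rfl s₁ s₂ Φ hΦ _ _ hu₁ d hd1 hd2
    rintro _ ⟨a, rfl⟩ k
    have hdk : ∀ w, (d w).coeff k = MonoidAlgebra.single k (w.coeff k) := fun w => by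
      induction w using MonoidAlgebra.induction_linear with
      | zero => simp
      | add a b ha hb => simp [ha, hb]
      | single l r =>
        by_cases hl : k = l
        · subst hl; simp [d, s, s₂, MonoidAlgebra.coeff_single]
        · simp [d, s, s₂, MonoidAlgebra.coeff_single, Finsupp.single_eq_of_ne hl]
    have h := congrArg (fun w => w.coeff k) (RingHom.congr_fun key a)
    simp only [RingHom.comp_apply, hdk] at h
    rw [← h]
    exact ((n a).coeff k).2
  -- stability under inversion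
  let σ : MonoidAlgebra R₀ N →+* MonoidAlgebra R₀ N :=
    MonoidAlgebra.liftNCRingHom s ((MonoidAlgebra.of R₀ N).comp (invMonoidHom : N →* N)) fun _ _ => Commute.all _ _
  have hinv : ∀ w ∈ C, σ w ∈ C := by
    have hσ1 : σ.comp s = s := RingHom.ext fun b => by simp [σ, s, ← MonoidAlgebra.one_def]
    have hσ2 : σ.toMonoidHom.comp (MonoidAlgebra.of R₀ N) * MonoidAlgebra.of R₀ N = 1 :=
      MonoidHom.ext fun k => by simp [σ, MonoidAlgebra.single_mul_single, ← MonoidAlgebra.one_def]
    obtain ⟨n, key⟩ := exists_inverse Q i xG yG hyx (MonoidAlgebra.of R₀ N) m hm hu m.rangeRestrict C.subtype rfl σ hσ1 hσ2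
    rintro _ ⟨a, rfl⟩
    rw [← RingHom.comp_apply, ← key]
    exact (n a).2
  -- the degrees
  have hconst : ∀ r : R₀, s r ∈ C := fun r => ⟨β r, RingHom.congr_fun hm r⟩
  let I : N → Ideal R₀ := fun k =>
    { carrier := {r | MonoidAlgebra.single k r ∈ C}
      add_mem' := fun {a b} ha hb => by
        change MonoidAlgebra.single k (a + b) ∈ C
        rw [MonoidAlgebra.single_add]; exact add_mem ha hb
      zero_mem' := by
        change MonoidAlgebra.single k (0 : R₀) ∈ C
        rw [MonoidAlgebra.single_zero]; exact zero_mem _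
      smul_mem' := fun c a ha => by
        change MonoidAlgebra.single k (c * a) ∈ C
        have := mul_mem (hconst c) ha
        simpa [s] using this }
  have htop : ∀ k, I k = ⊤ := by
    intro k
    by_contra hne
    obtain ⟨p, hp, hle⟩ := Ideal.exists_le_maximal _ hne
    let Sp : Subgroup N :=
      { carrier := {l | ∃ r, r ∉ p ∧ r ∈ I l}
        one_mem' := ⟨1, fun h => hp.ne_top ((Ideal.eq_top_iff_one p).mpr h), by
          change MonoidAlgebra.single (1 : N) (1 : R₀) ∈ C; rw [← MonoidAlgebra.one_def]; exact one_mem _⟩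
        mul_mem' := by
          rintro a b ⟨r, hr, hra⟩ ⟨r', hr', hrb⟩
          refine ⟨r * r', fun h => (hp.isPrime.mem_or_mem h).elim hr hr', ?_⟩
          change MonoidAlgebra.single (a * b) (r * r') ∈ C
          rw [← MonoidAlgebra.single_mul_single]
          exact mul_mem hra hrb
        inv_mem' := by
          rintro a ⟨r, hr, hra⟩
          refine ⟨r, hr, ?_⟩
          have := hinv _ hra
          change MonoidAlgebra.single a⁻¹ r ∈ C
          simpa [σ, s] using this }
    let g : R₀ →+* MonoidAlgebra (R₀ ⧸ p) (N ⧸ Sp) :=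
      (MonoidAlgebra.singleOneRingHom : R₀ ⧸ p →+* MonoidAlgebra (R₀ ⧸ p) (N ⧸ Sp)).comp (Ideal.Quotient.mk p)
    let χ : N →* MonoidAlgebra (R₀ ⧸ p) (N ⧸ Sp) := (MonoidAlgebra.of (R₀ ⧸ p) (N ⧸ Sp)).comp (QuotientGroup.mk' Sp)
    let ev := fun c : N →* MonoidAlgebra (R₀ ⧸ p) (N ⧸ Sp) =>
      MonoidAlgebra.liftNCRingHom g c fun _ _ => Commute.all _ _
    have hev1 : ∀ c, g = (ev c).comp s := fun c => RingHom.ext fun b => by simp [ev, s]
    have hev2 : ∀ c, (ev c).toMonoidHom.comp (MonoidAlgebra.of R₀ N) = c := fun c => MonoidHom.ext fun l => by simp [ev]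
    have heq : (ev χ).comp m = (ev 1).comp m := by
      refine RingHom.ext fun a => ?_
      have hsum : m a = ∑ l ∈ (m a).coeff.support, MonoidAlgebra.single l ((m a).coeff l) :=
        (MonoidAlgebra.sum_coeff_single _).symm
      rw [RingHom.comp_apply, RingHom.comp_apply, hsum, map_sum, map_sum]
      refine Finset.sum_congr rfl fun l _ => ?_
      by_cases hl : (m a).coeff l ∈ p
      · simp [ev, g, Ideal.Quotient.eq_zero_iff_mem.mpr hl]
      · have : (l : N ⧸ Sp) = 1 := (QuotientGroup.eq_one_iff l).mpr ⟨_, hl, hcomp _ ⟨a, rfl⟩ l⟩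
        simp [ev, χ, this, ← MonoidAlgebra.one_def]
    have hχ : χ = 1 := by
      refine Q.pt_injective g ((cancel_mono i).mp ?_)
      refine Over.OverMorphism.ext ?_
      rw [pt_comp_eq Q i xG yG hyx (MonoidAlgebra.of R₀ N) m hu (ev χ) g (hev1 χ).symm χ (hev2 χ),
        pt_comp_eq Q i xG yG hyx (MonoidAlgebra.of R₀ N) m hu (ev 1) g (hev1 1).symm 1 (hev2 1), heq]
    have hk : (k : N ⧸ Sp) = 1 := by
      by_contra hk
      have h1 : (MonoidAlgebra.single (k : N ⧸ Sp) (1 : R₀ ⧸ p)) = MonoidAlgebra.single 1 1 := by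
        rw [← MonoidAlgebra.one_def]; exact DFunLike.congr_fun hχ k
      have h2 := congrArg (fun w => w.coeff (k : N ⧸ Sp)) h1
      simp only [MonoidAlgebra.coeff_single, Finsupp.single_eq_same, Finsupp.single_eq_of_ne hk] at h2
      have : Nontrivial (R₀ ⧸ p) := Ideal.Quotient.nontrivial_iff.mpr hp.ne_top
      exact one_ne_zero h2
    obtain ⟨r, hr, hrk⟩ := (QuotientGroup.eq_one_iff k).mp hk
    exact hr (hle hrk)
  intro w
  have : w ∈ C := by
    rw [← MonoidAlgebra.sum_coeff_single w]
    refine sum_mem fun k _ => ?_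
    change w.coeff k ∈ I k
    rw [htop k]; trivial
  exact this

/-- with a global presentation, a monomorphism into an affine group is a closed immersion -/
theorem isClosedImmersion_of_mono_of_pres (Q : Pres H (RingHom.id R₀) M) [IsAffine G.left] [IsAffine H.left]
    (i : H ⟶ G) [IsMonHom i] [Mono i] : IsClosedImmersion i.left := by
  classical
  obtain ⟨A, _, β, xG, yG, hyx, hxy⟩ := exists_affine_coord (X := G)
  obtain ⟨AH, _, α, xH, yH, hyxH, hxyH⟩ := exists_affine_coord (X := H)
  let N := Multiplicative M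
  let s : R₀ →+* MonoidAlgebra R₀ N := MonoidAlgebra.singleOneRingHom
  let u := Q.pt s (MonoidAlgebra.of R₀ N)
  obtain ⟨m, hm, hu⟩ := exists_tst_factor ((u ≫ i) ≫ yG)
  have hm' : m.comp β = s := hm.trans (RingHom.comp_id _)
  have hsurj := surjective_of_mono Q i xG yG hyx m hm' (by
    have := congrArg (fun q => q.left) hu
    rw [Over.comp_left, Over.comp_left, Category.assoc] at this
    exact this)
  -- the universal point is an isomorphism
  obtain ⟨χ₀, hχ₀⟩ := Q.pt_surjective α xH
  let ev : MonoidAlgebra R₀ N →+* AH := MonoidAlgebra.liftNCRingHom α χ₀ fun _ _ => Commute.all _ _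
  have h1 : ev.comp s = α := RingHom.ext fun b => by simp [ev, s]
  have h2 : ev.toMonoidHom.comp (MonoidAlgebra.of R₀ N) = χ₀ := MonoidHom.ext fun k => by simp [ev]
  obtain ⟨n, hn, hun⟩ := exists_tst_factor (u ≫ yH)
  have hgen : ∀ {D : Type u} [CommRing D] (g g' : R₀ →+* D), g = g' →
      ∀ c, (Q.pt g c).left = (Q.pt g' c).left := by rintro D _ _ _ rfl c; rfl
  have hxH : xH.left = Spec.map (CommRingCat.ofHom ev) ≫ u.left := by
    rw [← hχ₀, ← h2, ← hgen _ _ h1]
    exact congrArg (fun q => q.left) (Q.pt_nat ev s (MonoidAlgebra.of R₀ N)).symm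
  have hu' : u.left = Spec.map (CommRingCat.ofHom n) ≫ xH.left := by
    have := congrArg (fun q => (q ≫ xH).left) hun
    rwa [Category.assoc, hyxH, Category.comp_id] at this
  have hnev : n.comp ev = RingHom.id _ := by
    have hs : (n.comp ev).comp s = s := by
      rw [RingHom.comp_assoc, h1, hn, RingHom.comp_id]
    have hc : (n.comp ev).toMonoidHom.comp (MonoidAlgebra.of R₀ N) = MonoidAlgebra.of R₀ N := by
      refine Q.pt_injective s (Over.OverMorphism.ext ?_)
      rw [← hgen _ _ hs]
      have := congrArg (fun q => q.left) (Q.pt_nat (n.comp ev) s (MonoidAlgebra.of R₀ N))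
      change Spec.map _ ≫ u.left = _ at this
      rw [← this, specMap_comp, Category.assoc, ← hxH]
      exact hu'.symm
    exact MonoidAlgebra.ringHom_ext (fun b => RingHom.congr_fun hs b) fun k => DFunLike.congr_fun hc k
  have : IsIso u.left := by
    rw [hu']
    have : IsIso (Spec.map (CommRingCat.ofHom n)) := by
      refine ⟨Spec.map (CommRingCat.ofHom ev), ?_, ?_⟩
      · rw [← specMap_comp, hnev, CommRingCat.ofHom_id, Spec.map_id]
      · have h3 := congrArg (fun q => Spec.map (CommRingCat.ofHom ev) ≫ q.left) hun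
        change _ = Spec.map _ ≫ Spec.map _ at h3
        rw [← h3, Over.comp_left, ← Category.assoc, ← hxH]
        exact congrArg (fun q => q.left) hxyH
    have : IsIso xH.left := ⟨yH.left, congrArg (fun q => q.left) hxyH, congrArg (fun q => q.left) hyxH⟩
    infer_instance
  have h4 : u.left ≫ i.left = Spec.map (CommRingCat.ofHom m) ≫ xG.left := by
    have := congrArg (fun q => (q ≫ xG).left) hu
    rwa [Category.assoc, hyx, Category.comp_id] at this
  have : IsIso xG.left := ⟨yG.left, congrArg (fun q => q.left) hxy, congrArg (fun q => q.left) hyx⟩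
  have hcl : IsClosedImmersion (Spec.map (CommRingCat.ofHom m)) :=
    IsClosedImmersion.spec_of_surjective _ hsurj
  rw [← MorphismProperty.cancel_left_of_respectsIso (P := @IsClosedImmersion) u.left, h4]
  infer_instance

/-- A monomorphic homomorphism from a group of multiplicative type to an affine group is a closed immersion. -/
theorem isClosedImmersion_of_mono {S : Scheme.{u}} {H G : Over S} [GrpObj H] [GrpObj G] (hH : IsDiagLoc H)
    (hG : IsAffineHom G.hom) (i : H ⟶ G) [IsMonHom i] [Mono i] : IsClosedImmersion i.left := by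
  obtain ⟨S', g, hg, hs, hqc, hloc⟩ := hH
  refine of_fpqc_cover (@IsClosedImmersion) g hqc i.left G.hom fun s' => ?_
  obtain ⟨U, hsU, M, _, ⟨e⟩⟩ := hloc s'
  obtain ⟨V, hV, hsV, hVU⟩ := exists_isAffineOpen_mem_and_subset (U := U) (x := s') hsU
  refine ⟨Γ(S', V), hV.fromSpec, inferInstance, by rw [hV.range_fromSpec]; exact hsV, ?_⟩
  have hr : Set.range hV.fromSpec.base ⊆ Set.range U.ι.base := by
    rw [hV.range_fromSpec, Scheme.Opens.range_ι]; exact hVU
  let t : Spec (CommRingCat.of Γ(S', V)) ⟶ S := hV.fromSpec ≫ g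
  have e' := restrictChart e (IsOpenImmersion.lift U.ι hV.fromSpec hr) (v₀ := t) (by
    rw [← Category.assoc, IsOpenImmersion.lift_fac])
  let Q : Pres (Red.bc t H) (RingHom.id Γ(S', V)) M :=
    Pres.ofChart ((bcCompIso (𝟙 _) t H).symm ≪≫ bcCongrIso (Category.id_comp t) H ≪≫ e') (𝟙 _) (RingHom.id _)
      (by rw [Category.comp_id, CommRingCat.ofHom_id, Spec.map_id])
  have : IsAffineHom G.hom := hG
  have : IsAffineHom H.hom := isAffineHom_of_diagLoc ⟨S', g, hg, hs, hqc, hloc⟩
  have : IsAffine (Red.bc t G).left := by change IsAffine (pullback G.hom t); exact isAffine_of_isAffineHom (pullback.snd G.hom t)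
  have : IsAffine (Red.bc t H).left := by change IsAffine (pullback H.hom t); exact isAffine_of_isAffineHom (pullback.snd H.hom t)
  have : IsMonHom ((Over.pullback t).map i : Red.bc t H ⟶ Red.bc t G) :=
    isMonHom_of_mul _ fun x y => (MonObj.mul_comp _ _ _)
  have : Mono ((Over.pullback t).map i : Red.bc t H ⟶ Red.bc t G) := by
    have := (Over.mapPullbackAdj t).isRightAdjoint
    infer_instance
  have hc := isClosedImmersion_of_mono_of_pres Q ((Over.pullback t).map i : Red.bc t H ⟶ Red.bc t G)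
  have sq : IsPullback ((Over.pullback t).map i).left (pullback.fst H.hom t) (pullback.fst G.hom t) i.left := by
    have hfst : ((Over.pullback t).map i).left ≫ pullback.fst G.hom t = pullback.fst H.hom t ≫ i.left :=
      pullback.lift_fst _ _ _
    have hsnd : ((Over.pullback t).map i).left ≫ pullback.snd G.hom t = pullback.snd H.hom t :=
      pullback.lift_snd _ _ _
    refine IsPullback.of_right ?_ hfst (IsPullback.of_hasPullback G.hom t).flip
    rw [hsnd, Over.w i]
    exact (IsPullback.of_hasPullback H.hom t).flip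
  rw [← sq.flip.isoPullback_hom_snd, MorphismProperty.cancel_left_of_respectsIso (P := @IsClosedImmersion)] at hc
  exact hc

end Groth.Agent.H21Diag
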