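import Groth.Agent.H21Diag.SubgroupEqLocus
import Groth.Agent.H21Diag.HomDS
import Groth.Agent.H21Diag.MonoClosed
import Groth.Agent.H21Diag.Diag
import Groth.Agent.H21Diag.FibreTrivial
import Groth.Agent.H18Torsor.DiagExact

/-!
Subgroups of multiplicative type of a diagonalisable group are, over an open and closed neighbourhood of
every point, cut out by a subgroup of the character group.
-/

set_option backward.isDefEq.respectTransparency false

open CategoryTheory MonoidalCategory CartesianMonoidalCategory MonObj GrpObj AlgebraicGeometry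
open CategoryTheory.Limits

universe u

namespace Groth.Agent.H21Diag

open Groth.Agent.H18Torsor.DiagExact

variable {S : Scheme.{u}} {M N : Type} [AddCommGroup M] [AddCommGroup N]

theorem dpt_injective {D : Type u} [CommRing D] (y : Spec (CommRingCat.of D) ⟶ S)
    {χ χ' : Multiplicative M →* D} (h : dpt y χ = dpt y χ') : χ = χ' := by
  have h4 := congrArg (fun m : Over.mk y ⟶ Red.DS S M => m.left ≫ pullback.fst _ _) h
  simp only [dpt_fst] at h4
  refine MonoidHom.ext fun m => ?_
  have h5 : charRingHom χ = charRingHom χ' := congrArg CommRingCat.Hom.hom (Spec.map_injective h4)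
  simpa using RingHom.congr_fun h5 (MonoidAlgebra.single m 1)

theorem eq_one_of_mul_self {G T : Over S} [GrpObj G] (a : T ⟶ G) (h : a * a = a) : a = 1 :=
  mul_eq_left.mp h

theorem dpt_one {D : Type u} [CommRing D] (y : Spec (CommRingCat.of D) ⟶ S) :
    dpt y (1 : Multiplicative M →* D) = 1 :=
  eq_one_of_mul_self _ ((dpt_mul y 1 1).symm.trans (congrArg _ (_root_.one_mul _)))

theorem dpt_left_congr {D : Type u} [CommRing D] {y y' : Spec (CommRingCat.of D) ⟶ S} (hy : y = y')
    (χ : Multiplicative M →* D) : (dpt y χ).left = (dpt y' χ).left := by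
  subst hy; rfl

theorem dpt_comp_DSmap {D : Type u} [CommRing D] (y : Spec (CommRingCat.of D) ⟶ S)
    (χ : Multiplicative N →* D) (φ : M →+ N) :
    dpt y χ ≫ Red.DSmap S φ = dpt y (χ.comp (AddMonoidHom.toMultiplicative φ)) := by
  let m : Red.diag (ULift.{u} ℤ) N ⟶ Red.diag (ULift.{u} ℤ) M := Red.diagMap (ULift.{u} ℤ) φ
  have h1 : (Red.DSmap S φ).left ≫ pullback.fst _ _ = pullback.fst _ _ ≫ m.left := pullback.lift_fst _ _ _
  refine bc_ext ?_
  refine (Category.assoc _ _ _).trans ((congrArg ((dpt y χ).left ≫ ·) h1).trans ?_)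
  refine (Category.assoc _ _ _).symm.trans ((congrArg (· ≫ m.left) (dpt_fst y χ)).trans ?_)
  refine Eq.trans ?_ (dpt_fst y _).symm
  refine ((Spec.map_comp _ _).symm).trans (congrArg Spec.map ?_)
  exact CommRingCat.hom_ext (charRingHom_ext fun x => by simp)

/-- Diagonalisable groups of finitely generated type are of multiplicative type. -/
theorem isMultTypeFT_DS (S : Scheme.{u}) (M : Type) [AddCommGroup M] [AddGroup.FG M] :
    SGA3x.IsMultTypeFT (Red.DS S M) := by
  refine ⟨S, 𝟙 S, inferInstance, inferInstance, fun V hV => ⟨V, hV.isCompact, by simp⟩, fun s => ?_⟩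
  exact ⟨⊤, trivial, M, inferInstance, inferInstance,
    ⟨bcDSIso _ M⟩⟩

theorem locallyOfFiniteType_DS (S : Scheme.{u}) (M : Type) [AddCommGroup M] [AddGroup.FG M] :
    LocallyOfFiniteType (Red.DS S M).hom := by
  haveI : Monoid.FG (Multiplicative M) := Monoid.fg_iff_add_fg.mpr inferInstance
  have h : LocallyOfFiniteType (Red.diag (ULift.{u} ℤ) M).hom :=
    (HasRingHomProperty.Spec_iff (P := @LocallyOfFiniteType)).mpr
      (RingHom.finiteType_algebraMap.mpr inferInstance)
  exact MorphismProperty.pullback_snd (P := @LocallyOfFiniteType) _ _ h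

theorem isAffineHom_DS (S : Scheme.{u}) (M : Type) [AddCommGroup M] : IsAffineHom (Red.DS S M).hom := by
  have : IsAffineHom (Red.diag (ULift.{u} ℤ) M).hom :=
    inferInstanceAs (IsAffineHom (Spec.map _))
  exact MorphismProperty.pullback_snd (P := @IsAffineHom) _ _ this

/-- The tautological chart of a diagonalisable group. -/
noncomputable def idChart (S : Scheme.{u}) (M : Type) [AddCommGroup M] :
    Grp.mk (Red.bc (𝟙 S) (Red.DS S M)) ≅ Grp.mk (Red.DS S M) :=
  Grp.mkIso' (asIso (bcIdHom (Red.DS S M)))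

theorem gpt_idChart {D : Type u} [CommRing D] (y : Spec (CommRingCat.of D) ⟶ S)
    (χ : Multiplicative M →* D) : (gpt (idChart S M) y χ).left = (dpt y χ).left := by
  rw [gpt, ← comp_bcIdHom, Category.assoc]
  have : (idChart S M).inv.hom.hom ≫ bcIdHom (Red.DS S M) = 𝟙 _ :=
    congrArg (fun f => f.hom.hom) (idChart S M).inv_hom_id
  rw [this]
  exact congrArg (fun m => m.left) (Category.comp_id (dpt y χ))

section

variable {U : Scheme.{u}} {u₀ : U ⟶ S} [AddGroup.FG M] {H : Over S} [GrpObj H]
  (e : Grp.mk (Red.bc u₀ H) ≅ Grp.mk (Red.DS U N)) (i : H ⟶ Red.DS S M) [IsMonHom i] [Mono i]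

include e in
/-- Over a field-valued point the subgroup is cut out by a subgroup of the characters. -/
theorem exists_type_pt [Mono i.left] {K : Type u} [Field K] (y : Spec (CommRingCat.of K) ⟶ U) :
    ∃ Λ : AddSubgroup M,
      LEOn i (Red.DSmap S (QuotientAddGroup.mk' Λ)) (y ≫ u₀) ∧
        LEOn (Red.DSmap S (QuotientAddGroup.mk' Λ)) i (y ≫ u₀) := by
  obtain ⟨r, hr, φ, hφ⟩ := exists_local_char e (idChart S M) i y (y ≫ u₀) (Category.comp_id _).symm ⊥
    Ideal.isPrime_bot
  have hru : IsUnit r := isUnit_iff_ne_zero.mpr fun h => hr (h ▸ Submodule.zero_mem _)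
  have key : ∀ (D : Type u) [CommRing D] (g : K →+* D) (χ : Multiplicative N →* D),
      gpt e (Spec.map (CommRingCat.ofHom g) ≫ y) χ ≫ i =
        dpt ((Spec.map (CommRingCat.ofHom g) ≫ y) ≫ u₀) (χ.comp φ) := by
    intro D _ g χ
    refine Over.OverMorphism.ext ?_
    rw [hφ D g (hru.map g) χ, gpt_idChart]
    exact dpt_left_congr (Category.assoc _ _ _).symm _
  let φA : M →+ N := MonoidHom.toAdditive φ
  let Λ : AddSubgroup M := φA.ker
  have hsurj : Function.Surjective φ := by
    let P : Subgroup (Multiplicative N) := φ.range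
    let A := MonoidAlgebra K (Multiplicative N ⧸ P)
    let g : K →+* A := MonoidAlgebra.singleOneRingHom
    let χ : Multiplicative N →* A := (MonoidAlgebra.of K _).comp (QuotientGroup.mk' P)
    have hc : χ.comp φ = (1 : Multiplicative N →* A).comp φ := MonoidHom.ext fun m => by
      change MonoidAlgebra.of K _ (QuotientGroup.mk' P (φ m)) = 1
      rw [show QuotientGroup.mk' P (φ m) = 1 from (QuotientGroup.eq_one_iff _).mpr ⟨m, rfl⟩, map_one]
    have h1 : χ = 1 := gpt_injective e (Spec.map (CommRingCat.ofHom g) ≫ y)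
      ((cancel_mono i).mp ((key A g χ).trans ((congrArg _ hc).trans (key A g 1).symm)))
    intro n
    have h2 : MonoidAlgebra.of K _ (QuotientGroup.mk' P n) = MonoidAlgebra.of K _ 1 := by
      rw [map_one]; exact DFunLike.congr_fun h1 n
    exact (QuotientGroup.eq_one_iff _).mp (MonoidAlgebra.of_injective h2)
  have hπ : Function.Surjective (QuotientAddGroup.mk' Λ) := QuotientAddGroup.mk'_surjective _
  haveI : Mono (Red.DSmap S (QuotientAddGroup.mk' Λ)) := mono_DSmap _ hπ
  haveI : IsClosedImmersion (Red.DSmap S (QuotientAddGroup.mk' Λ)).left := isClosedImmersion_DSmap S _ hπ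
  have hkill : ∀ (D : Type u) [CommRing D] (g : K →+* D)
      (h : Over.mk ((Spec.map (CommRingCat.ofHom g) ≫ y) ≫ u₀) ⟶ H),
      h ≫ i ≫ Red.DSmap S Λ.subtype = 1 := by
    intro D _ g h
    obtain ⟨χ, rfl⟩ := gpt_surjective e _ h
    rw [← Category.assoc, key, dpt_comp_DSmap, ← dpt_one]
    refine congrArg _ (MonoidHom.ext fun m => ?_)
    change χ (φ (Multiplicative.ofAdd (m.toAdd : M))) = 1
    rw [show φ (Multiplicative.ofAdd (m.toAdd : M)) = 1 from m.toAdd.2, map_one]
  refine ⟨Λ, leOn_of_points _ fun D _ z => ?_, leOn_of_points _ fun D _ z => ?_⟩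
  · obtain ⟨g, rfl⟩ := Spec.map_surjective z
    rw [← Category.assoc]
    intro h
    refine exists_lift_kernel Λ.subtype (QuotientAddGroup.mk' Λ) hπ
      (fun n hn => ⟨⟨n, (QuotientAddGroup.eq_zero_iff n).mp hn⟩, rfl⟩) (h ≫ i) ?_
    exact (Category.assoc h i _).trans (hkill D g.hom h)
  · obtain ⟨g, rfl⟩ := Spec.map_surjective z
    rw [← Category.assoc]
    intro h
    obtain ⟨θ, hθ⟩ := dpt_surjective _ (h ≫ Red.DSmap S (QuotientAddGroup.mk' Λ))
    obtain ⟨θ', rfl⟩ := dpt_surjective _ h
    rw [dpt_comp_DSmap] at hθ ⊢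
    let θu := (θ'.comp (AddMonoidHom.toMultiplicative (QuotientAddGroup.mk' Λ))).toHomUnits
    have hkθ : φ.ker ≤ θu.ker := by
      intro m hm
      refine Units.ext ?_
      change θ' (Multiplicative.ofAdd (QuotientAddGroup.mk' Λ m.toAdd)) = 1
      rw [show QuotientAddGroup.mk' Λ m.toAdd = 0 from (QuotientAddGroup.eq_zero_iff _).mpr hm, ofAdd_zero,
        map_one]
    let χ := (Units.coeHom D).comp (φ.liftOfSurjective hsurj ⟨θu, hkθ⟩)
    refine ⟨gpt e _ χ, (key D g.hom χ).trans (congrArg _ ?_)⟩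
    exact MonoidHom.ext fun m => congrArg Units.val
      (MonoidHom.liftOfRightInverse_comp_apply φ (Function.surjInv hsurj) (Function.rightInverse_surjInv hsurj) ⟨θu, hkθ⟩ m)

end

end Groth.Agent.H21Diag
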