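import Mathlib

/-!
A group algebra is free, in particular faithfully flat, over the algebra of a subgroup.
-/

universe u

namespace Groth.Agent.H21Diag

open MonoidAlgebra

theorem faithfullyFlat_mapDomain (R : Type u) [CommRing R] [Nontrivial R] {N N' : Type} [CommGroup N] [CommGroup N']
    (φ : N' →* N) (hφ : Function.Injective φ) : (mapDomainRingHom R φ).FaithfullyFlat := by
  classical
  let := (mapDomainRingHom R φ).toAlgebra
  have hsmul : ∀ (v : MonoidAlgebra R N') (w : MonoidAlgebra R N), v • w = mapDomain φ v * w := fun v w => rfl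
  let C := N ⧸ φ.range
  let σ : C → N := Quotient.out
  have hσ : ∀ c, (QuotientGroup.mk (σ c) : C) = c := fun c => Quotient.out_eq c
  have hε : ∀ (c c' : C) (n n' : N'), σ c * φ n = σ c' * φ n' → c = c' ∧ n = n' := by
    intro c c' n n' h
    have hc : c = c' := by
      rw [← hσ c, ← hσ c']
      refine QuotientGroup.eq.mpr ⟨n * n'⁻¹, ?_⟩
      rw [map_mul, map_inv, eq_inv_mul_iff_mul_eq, ← _root_.mul_assoc, h, mul_inv_cancel_right]
    subst hc
    exact ⟨rfl, hφ (mul_left_cancel h)⟩
  let Ψ : (C →₀ MonoidAlgebra R N') →ₗ[MonoidAlgebra R N'] MonoidAlgebra R N :=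
    Finsupp.linearCombination _ fun c => single (σ c) 1
  have hΨ : ∀ c n r, Ψ (Finsupp.single c (single n r)) = single (σ c * φ n) r := by
    intro c n r
    rw [Finsupp.linearCombination_single, hsmul, mapDomain_single, single_mul_single, _root_.mul_one,
      _root_.mul_comm (φ n)]
  have hcoeff : ∀ x c n, (Ψ x).coeff (σ c * φ n) = (x c).coeff n := by
    intro x c n
    induction x using Finsupp.induction_linear with
    | zero => simp
    | add f g hf hg => simp [hf, hg]
    | single c' v =>
      induction v using MonoidAlgebra.induction_linear with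
      | zero => simp
      | add f g hf hg => simp [hf, hg]
      | single n' r =>
        rw [hΨ, coeff_single]
        by_cases h : c' = c ∧ n' = n
        · obtain ⟨rfl, rfl⟩ := h
          simp [coeff_single]
        · rw [Finsupp.single_eq_of_ne (fun h' => h (hε _ _ _ _ h'.symm))]
          by_cases hc : c' = c
          · subst hc
            rw [Finsupp.single_eq_same, coeff_single, Finsupp.single_eq_of_ne (fun h' => h ⟨rfl, h'.symm⟩)]
          · rw [Finsupp.single_eq_of_ne (Ne.symm hc)]; simp
  have hbij : Function.Bijective Ψ := by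
    refine ⟨fun x y hxy => ?_, fun w => ?_⟩
    · refine Finsupp.ext fun c => MonoidAlgebra.ext (Finsupp.ext fun n => ?_)
      rw [← hcoeff, ← hcoeff, hxy]
    · induction w using MonoidAlgebra.induction_linear with
      | zero => exact ⟨0, map_zero _⟩
      | add f g hf hg =>
        obtain ⟨a, ha⟩ := hf
        obtain ⟨b, hb⟩ := hg
        exact ⟨a + b, by rw [map_add, ha, hb]⟩
      | single m r =>
        obtain ⟨n, hn⟩ : (σ (QuotientGroup.mk m))⁻¹ * m ∈ φ.range := QuotientGroup.eq.mp (hσ _)
        refine ⟨Finsupp.single (QuotientGroup.mk m) (single n r), ?_⟩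
        rw [hΨ, hn, mul_inv_cancel_left]
  have : Module.Free (MonoidAlgebra R N') (MonoidAlgebra R N) :=
    Module.Free.of_equiv (LinearEquiv.ofBijective Ψ hbij)
  exact (inferInstance : Module.FaithfullyFlat (MonoidAlgebra R N') (MonoidAlgebra R N))

end Groth.Agent.H21Diag
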