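import Groth.Agent.H21Diag.Transporter
import Groth.Agent.H21Diag.FreeAlg
import Groth.Prelude.Def_Red2

/-!
Functoriality of diagonalisable groups.
-/

open CategoryTheory MonoidalCategory CartesianMonoidalCategory MonObj GrpObj AlgebraicGeometry
open CategoryTheory.Limits

universe u

namespace Groth.Agent.H21Diag

variable {M N : Type} [AddCommGroup M] [AddCommGroup N]

instance isMonHom_diagMap (R : Type u) [CommRing R] (φ : M →+ N) : IsMonHom (Red.diagMap R φ) :=
  ((bialgSpec (CommRingCat.of R)).map (Opposite.op (CommBialgCat.ofHom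
    (MonoidAlgebra.mapDomainBialgHom R (AddMonoidHom.toMultiplicative φ))))).isMonHom_hom

/-- base change of a homomorphism is a homomorphism -/
theorem isMonHom_bcMap {S S' : Scheme.{u}} (f : S' ⟶ S) {G H : Over S} [GrpObj G] [GrpObj H] (v : H ⟶ G)
    [IsMonHom v] : IsMonHom ((Over.pullback f).map v : Red.bc f H ⟶ Red.bc f G) := by
  refine isMonHom_of_mul _ fun {T} a b => ?_
  have key : ∀ c : T ⟶ Red.bc f H,
      c ≫ (Over.pullback f).map v = bcEquiv f G T ((bcEquiv f H T).symm c ≫ v) := fun c => by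
    refine Eq.trans ?_ ((Over.mapPullbackAdj f).homEquiv_naturality_right _ v).symm
    exact congrArg (· ≫ (Over.pullback f).map v) ((bcEquiv f H T).apply_symm_apply c).symm
  rw [key, key, key, bcEquiv_symm_mul, MonObj.mul_comp, bcEquiv_mul]

instance isMonHom_DSmap (S : Scheme.{u}) (φ : M →+ N) : IsMonHom (Red.DSmap S φ) :=
  isMonHom_bcMap (specULiftZIsTerminal.from S) (Red.diagMap (ULift.{u} ℤ) φ)

theorem isClosedImmersion_DSmap (S : Scheme.{u}) (φ : M →+ N) (hφ : Function.Surjective φ) :
    IsClosedImmersion (Red.DSmap S φ).left := by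
  refine MorphismProperty.baseChange_map (P := @IsClosedImmersion) _ _ ?_
  refine IsClosedImmersion.spec_of_surjective _ ?_
  intro w
  induction w using MonoidAlgebra.induction_linear with
  | zero => exact ⟨0, map_zero _⟩
  | add a b ha hb =>
    obtain ⟨a', rfl⟩ := ha
    obtain ⟨b', rfl⟩ := hb
    exact ⟨a' + b', map_add _ _ _⟩
  | single n r =>
    obtain ⟨m, rfl⟩ := hφ n.toAdd
    exact ⟨MonoidAlgebra.single (Multiplicative.ofAdd m) r, MonoidAlgebra.mapDomain_single⟩

theorem flat_surjective_DSmap (S : Scheme.{u}) (φ : M →+ N) (hφ : Function.Injective φ) :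
    Flat (Red.DSmap S φ).left ∧ Surjective (Red.DSmap S φ).left := by
  let F := MonoidAlgebra.mapDomainRingHom (ULift.{u} ℤ) (AddMonoidHom.toMultiplicative φ)
  have h := faithfullyFlat_mapDomain (ULift.{u} ℤ) (AddMonoidHom.toMultiplicative φ) hφ
  refine ⟨MorphismProperty.baseChange_map (P := @Flat) _ _ ?_, MorphismProperty.baseChange_map (P := @Surjective) _ _ ?_⟩
  · exact Flat.SpecMap_iff.mpr h.flat
  · exact ⟨(RingHom.FaithfullyFlat.iff_flat_and_comap_surjective.mp h).2⟩

/-- a nontrivial finitely generated abelian group maps onto a group of prime order -/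
theorem exists_surjective_zmod (M : Type) [AddCommGroup M] [AddGroup.FG M] [Nontrivial M] :
    ∃ r : ℕ, r.Prime ∧ ∃ π : M →+ ZMod r, Function.Surjective π := by
  have : Module.Finite ℤ M := Module.Finite.iff_addGroup_fg.mpr inferInstance
  obtain ⟨P, hP, -⟩ := (IsCoatomic.eq_top_or_exists_le_coatom (⊥ : Submodule ℤ M)).resolve_left bot_ne_top
  have : IsSimpleModule ℤ (M ⧸ P) := isSimpleModule_iff_isCoatom.mpr hP
  obtain ⟨I, hI, ⟨e⟩⟩ := isSimpleModule_iff_quot_maximal.mp this
  obtain ⟨n, rfl⟩ := IsPrincipalIdealRing.principal I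
  have hne : n ≠ 0 := fun h => by
    subst h
    exact Ring.ne_bot_of_isMaximal_of_not_isField hI Int.not_isField (by simp)
  refine ⟨n.natAbs, Int.prime_iff_natAbs_prime.mp ((Ideal.span_singleton_prime hne).mp hI.isPrime), ?_⟩
  let f : M →+ ℤ ⧸ Ideal.span {n} := (e.toLinearMap.comp P.mkQ).toAddMonoidHom
  refine ⟨(Int.quotientSpanEquivZMod n).toAddMonoidHom.comp f, ?_⟩
  exact (Int.quotientSpanEquivZMod n).surjective.comp (e.surjective.comp P.mkQ_surjective)

end Groth.Agent.H21Diag
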