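import Groth.Prelude.Def_SGA3x

/-!
Points of diagonalisable groups over affine schemes, transported to groups that become diagonalisable.
-/

open CategoryTheory MonoidalCategory CartesianMonoidalCategory MonObj GrpObj AlgebraicGeometry
open CategoryTheory.Limits

universe u

namespace Groth.Agent.H21Diag

variable {S S' : Scheme.{u}}

/-- points of a base change -/
noncomputable def bcEquiv (f : S' ⟶ S) (X : Over S) (T : Over S') :
    ((Over.map f).obj T ⟶ X) ≃ (T ⟶ Red.bc f X) :=
  (Over.mapPullbackAdj f).homEquiv T X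

theorem bcEquiv_left_fst (f : S' ⟶ S) (X : Over S) (T : Over S') (a : (Over.map f).obj T ⟶ X) :
    (bcEquiv f X T a).left ≫ pullback.fst X.hom f = a.left := by
  simp [bcEquiv, Over.mapPullbackAdj]
  exact pullback.lift_fst _ _ _

theorem bcEquiv_mul (f : S' ⟶ S) (X : Over S) [GrpObj X] (T : Over S')
    (a b : (Over.map f).obj T ⟶ X) : bcEquiv f X T (a * b) = bcEquiv f X T a * bcEquiv f X T b := by
  simp only [bcEquiv, Adjunction.homEquiv_unit, Functor.map_mul, MonObj.comp_mul]

theorem bcEquiv_symm_mul (f : S' ⟶ S) (X : Over S) [GrpObj X] (T : Over S')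
    (a b : T ⟶ Red.bc f X) :
    (bcEquiv f X T).symm (a * b) = (bcEquiv f X T).symm a * (bcEquiv f X T).symm b := by
  rw [Equiv.symm_apply_eq, bcEquiv_mul, Equiv.apply_symm_apply, Equiv.apply_symm_apply]

theorem bc_ext {f : S' ⟶ S} {X : Over S} {T : Over S'} {a b : T ⟶ Red.bc f X}
    (h : a.left ≫ pullback.fst X.hom f = b.left ≫ pullback.fst X.hom f) : a = b :=
  Over.OverMorphism.ext (pullback.hom_ext h ((Over.w a).trans (Over.w b).symm))

/-- `ℤ`-algebra structure used for points -/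
@[reducible] def algZ (B : Type u) [CommRing B] : Algebra (ULift.{u} ℤ) B :=
  ((Int.castRingHom B).comp ULift.ringEquiv.toRingHom).toAlgebra

variable {U : Scheme.{u}} {M : Type} [AddCommGroup M] {B : Type u} [CommRing B]

/-- the ring map defined by a character -/
noncomputable def charRingHom (χ : Multiplicative M →* B) :
    MonoidAlgebra (ULift.{u} ℤ) (Multiplicative M) →+* B :=
  MonoidAlgebra.liftNCRingHom ((Int.castRingHom B).comp ULift.ringEquiv.toRingHom) χ
    fun _ _ => Commute.all _ _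

@[simp] theorem charRingHom_single (χ : Multiplicative M →* B) (m : Multiplicative M) :
    charRingHom χ (MonoidAlgebra.single m 1) = χ m := by
  simp [charRingHom]

theorem charRingHom_ext {f g : MonoidAlgebra (ULift.{u} ℤ) (Multiplicative M) →+* B}
    (h : ∀ m, f (MonoidAlgebra.single m 1) = g (MonoidAlgebra.single m 1)) : f = g := by
  refine MonoidAlgebra.ringHom_ext (fun r => ?_) h
  have := RingHom.ext_int
    ((f.comp MonoidAlgebra.singleOneRingHom).comp ULift.ringEquiv.symm.toRingHom)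
    ((g.comp MonoidAlgebra.singleOneRingHom).comp ULift.ringEquiv.symm.toRingHom)
  exact RingHom.congr_fun this r.down

theorem dcond (y : Spec (CommRingCat.of B) ⟶ U) (χ : Multiplicative M →* B) :
    Spec.map (CommRingCat.ofHom (charRingHom χ)) ≫ (Red.diag (ULift.{u} ℤ) M).hom =
      y ≫ Limits.IsTerminal.from specULiftZIsTerminal U :=
  specULiftZIsTerminal.hom_ext _ _

/-- the point of `D_U(M)` given by a character -/
noncomputable def dpt (y : Spec (CommRingCat.of B) ⟶ U) (χ : Multiplicative M →* B) :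
    Over.mk y ⟶ Red.DS U M :=
  Over.homMk (pullback.lift (Spec.map (CommRingCat.ofHom (charRingHom χ))) y (dcond y χ))
    (pullback.lift_snd _ _ _)

theorem dpt_fst (y : Spec (CommRingCat.of B) ⟶ U) (χ : Multiplicative M →* B) :
    (dpt y χ).left ≫ pullback.fst _ _ = Spec.map (CommRingCat.ofHom (charRingHom χ)) :=
  pullback.lift_fst _ _ _

theorem dpt_surjective (y : Spec (CommRingCat.of B) ⟶ U) (g : Over.mk y ⟶ Red.DS U M) :
    ∃ χ : Multiplicative M →* B, dpt y χ = g := by
  obtain ⟨α, hα⟩ := Spec.map_surjective (g.left ≫ pullback.fst _ _)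
  refine ⟨α.hom.toMonoidHom.comp (MonoidAlgebra.of (ULift.{u} ℤ) (Multiplicative M)), bc_ext ?_⟩
  refine (dpt_fst _ _).trans (Eq.trans ?_ hα)
  congr 1
  exact CommRingCat.hom_ext (charRingHom_ext fun m => by simp)

set_option maxHeartbeats 200000 in
theorem dpt_mul (y : Spec (CommRingCat.of B) ⟶ U) (χ χ' : Multiplicative M →* B) :
    dpt y (χ * χ') = dpt y χ * dpt y χ' := by
  letI := algZ B
  let t : U ⟶ Spec (CommRingCat.of (ULift.{u} ℤ)) := Limits.IsTerminal.from specULiftZIsTerminal U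
  let e : (Over.map t).obj (Over.mk y) ⟶
      (Spec (CommRingCat.of B)).asOver (Spec (CommRingCat.of (ULift.{u} ℤ))) :=
    Over.homMk (𝟙 _) (specULiftZIsTerminal.hom_ext _ _)
  let L : (Multiplicative M →* B) →
      WithConv (MonoidAlgebra (ULift.{u} ℤ) (Multiplicative M) →ₐ[ULift.{u} ℤ] B) := fun ψ =>
    WithConv.toConv (MonoidAlgebra.lift (ULift.{u} ℤ) B (Multiplicative M) ψ)
  have key : ∀ ψ, dpt y ψ = bcEquiv t _ _ (e ≫ Spec.mapMulEquiv (L ψ)) := fun ψ => by
    refine bc_ext ?_
    rw [dpt_fst, bcEquiv_left_fst]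
    refine Eq.trans ?_ (Category.id_comp _).symm
    change Spec.map _ = Spec.map _
    exact congrArg Spec.map (CommRingCat.hom_ext (charRingHom_ext fun m => by simp [L]; simp [Algebra.smul_def]))
  have hL : L (χ * χ') = L χ * L χ' := by
    apply WithConv.ofConv_injective
    refine AlgHom.coe_ringHom_injective (charRingHom_ext fun m => ?_)
    simp [L, AlgHom.convMul_apply, MonoidAlgebra.comul_single]
    simp [Algebra.smul_def]
  rw [key, key, key, hL, map_mul, MonObj.comp_mul]
  refine Eq.trans ?_ (bcEquiv_mul t (Red.diag (ULift.{u} ℤ) M) (Over.mk y) _ _)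
  congr 1

variable {G : Over S} [GrpObj G] {u₀ : U ⟶ S}

/-- the map of test schemes given by a ring map -/
noncomputable def tmap {B' : Type u} [CommRing B'] (φ : B →+* B') (y : Spec (CommRingCat.of B) ⟶ S) :
    (Over.mk (Spec.map (CommRingCat.ofHom φ) ≫ y) : Over S) ⟶ Over.mk y :=
  Over.homMk (Spec.map (CommRingCat.ofHom φ))

/-- the point of `G` given by a character -/
noncomputable def gpt (e : Grp.mk (Red.bc u₀ G) ≅ Grp.mk (Red.DS U M))
    (y : Spec (CommRingCat.of B) ⟶ U) (χ : Multiplicative M →* B) : Over.mk (y ≫ u₀) ⟶ G :=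
  (bcEquiv u₀ G (Over.mk y)).symm (dpt y χ ≫ e.inv.hom.hom)

theorem gpt_mul (e : Grp.mk (Red.bc u₀ G) ≅ Grp.mk (Red.DS U M))
    (y : Spec (CommRingCat.of B) ⟶ U) (χ χ' : Multiplicative M →* B) :
    gpt e y (χ * χ') = gpt e y χ * gpt e y χ' := by
  simp only [gpt, dpt_mul, MonObj.mul_comp]
  exact bcEquiv_symm_mul _ _ _ _ _

theorem gpt_surjective (e : Grp.mk (Red.bc u₀ G) ≅ Grp.mk (Red.DS U M))
    (y : Spec (CommRingCat.of B) ⟶ U) (g : Over.mk (y ≫ u₀) ⟶ G) :
    ∃ χ : Multiplicative M →* B, gpt e y χ = g := by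
  obtain ⟨χ, hχ⟩ := dpt_surjective y (bcEquiv u₀ G (Over.mk y) g ≫ e.hom.hom.hom)
  refine ⟨χ, ?_⟩
  have he : e.hom.hom.hom ≫ e.inv.hom.hom = 𝟙 _ := by
    exact congrArg (fun f => f.hom.hom) e.hom_inv_id
  rw [gpt, hχ, Category.assoc, he, Category.comp_id, Equiv.symm_apply_apply]

theorem gpt_comp (e : Grp.mk (Red.bc u₀ G) ≅ Grp.mk (Red.DS U M))
    (y : Spec (CommRingCat.of B) ⟶ U) (χ : Multiplicative M →* B) {B' : Type u} [CommRing B']
    (φ : B →+* B') :
    (gpt e (Spec.map (CommRingCat.ofHom φ) ≫ y) (φ.toMonoidHom.comp χ)).left =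
      Spec.map (CommRingCat.ofHom φ) ≫ (gpt e y χ).left := by
  have h : (dpt (Spec.map (CommRingCat.ofHom φ) ≫ y) (φ.toMonoidHom.comp χ)).left =
      Spec.map (CommRingCat.ofHom φ) ≫ (dpt y χ).left := by
    refine pullback.hom_ext ?_ ?_
    · rw [dpt_fst, Category.assoc, dpt_fst]
      refine (congrArg Spec.map ?_).trans (Spec.map_comp _ _)
      exact CommRingCat.hom_ext (charRingHom_ext fun m => by simp)
    · exact (Over.w (dpt (Spec.map (CommRingCat.ofHom φ) ≫ y) (φ.toMonoidHom.comp χ))).trans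
        ((congrArg (Spec.map (CommRingCat.ofHom φ) ≫ ·) (Over.w (dpt y χ))).symm.trans
          (Category.assoc _ _ _).symm)
  simp [gpt, bcEquiv, Over.mapPullbackAdj]
  exact (congrArg (· ≫ e.inv.hom.hom.left ≫ pullback.fst G.hom u₀) h).trans (Category.assoc _ _ _)

end Groth.Agent.H21Diag
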