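import Groth.Prelude.Def_CInt
import Mathlib

/-!
Morphisms agreeing on a relatively schematically dense open subscheme, into a scheme with separated fibres.
-/

open CategoryTheory CategoryTheory.Limits AlgebraicGeometry

universe u

namespace Groth.Agent.H21Diag

theorem dense_of_isSchematicallyDense {X : Scheme.{u}} {U : X.Opens} (hU : CInt.IsSchematicallyDense U) :
    Dense (U : Set X) := by
  rw [dense_iff_inter_open]
  intro V hV hne
  by_contra hdis
  obtain ⟨x, hx⟩ := hne
  obtain ⟨W, hW, hxW, hWV⟩ := exists_isAffineOpen_mem_and_subset (U := (⟨V, hV⟩ : X.Opens)) (x := x) hx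
  have hbot : W ⊓ U = ⊥ := by
    refine TopologicalSpace.Opens.ext ?_
    rw [TopologicalSpace.Opens.coe_inf, TopologicalSpace.Opens.coe_bot]
    exact Set.not_nonempty_iff_eq_empty.mp fun ⟨y, hy1, hy2⟩ => hdis ⟨y, hWV hy1, hy2⟩
  have hsub : Subsingleton Γ(X, W ⊓ U) := by
    rw [hbot]
    exact CommRingCat.subsingleton_of_isTerminal (X.sheaf.isTerminalOfEmpty)
  have h01 : (1 : Γ(X, W)) = 0 := hU W (hsub.elim _ _)
  have : Nonempty W := ⟨⟨x, hxW⟩⟩
  exact one_ne_zero h01

/-- morphisms to a scheme with separated fibres agree if they agree on a relatively schematically dense open -/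
theorem eq_of_agree_on_schDense {S : Scheme.{u}} (X Y : Over S) (U : X.left.Opens)
    (hU : ∀ (S' : Scheme.{u}) (g : S' ⟶ S), CInt.IsSchematicallyDense ((pullback.fst X.hom g) ⁻¹ᵁ U))
    (hY : ∀ s : S, IsSeparated (pullback.snd Y.hom (S.fromSpecResidueField s)))
    (f g : X ⟶ Y) (h : U.ι ≫ f.left = U.ι ≫ g.left) : f = g := by
  let κ := equalizer.ι f.left g.left
  have hsurj : Surjective κ := ⟨fun x => by
    let s := X.hom.base x
    let i := S.fromSpecResidueField s
    let X' : Over (Spec (S.residueField s)) := (Over.pullback i).obj X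
    let Y' : Over (Spec (S.residueField s)) := (Over.pullback i).obj Y
    let f' : X' ⟶ Y' := (Over.pullback i).map f
    let g' : X' ⟶ Y' := (Over.pullback i).map g
    have : IsSeparated Y'.hom := hY s
    let π : X'.left ⟶ X.left := pullback.fst X.hom i
    have hf : f'.left ≫ pullback.fst Y.hom i = π ≫ f.left := pullback.lift_fst _ _ _
    have hg : g'.left ≫ pullback.fst Y.hom i = π ≫ g.left := pullback.lift_fst _ _ _
    let Us : X'.left.Opens := π ⁻¹ᵁ U
    let U' : Over (Spec (S.residueField s)) := Over.mk (Us.ι ≫ X'.hom)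
    let j : U' ⟶ X' := Over.homMk Us.ι
    have hj : j ≫ f' = j ≫ g' := by
      refine Over.OverMorphism.ext (pullback.hom_ext ?_ ?_)
      · have h1 : Us.ι ≫ π ≫ f.left = Us.ι ≫ π ≫ g.left := by
          rw [← Scheme.Hom.resLE_comp_ι_assoc π (le_refl Us), h, Scheme.Hom.resLE_comp_ι_assoc]
        change (Us.ι ≫ f'.left) ≫ pullback.fst Y.hom i = (Us.ι ≫ g'.left) ≫ pullback.fst Y.hom i
        rw [Category.assoc, Category.assoc, hf, hg, h1]
      · exact (Over.w (j ≫ f')).trans (Over.w (j ≫ g')).symm
    have hdense : Dense (Us : Set X'.left) := dense_of_isSchematicallyDense (hU _ i)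
    have hall : ∀ q : X'.left, q ∈ Set.range (equalizer.ι f' g').left.base := by
      intro q
      have hcl : IsClosed (Set.range (equalizer.ι f' g').left.base) :=
        (equalizer.ι f' g').left.isClosedEmbedding.isClosed_range
      refine hcl.closure_subset_iff.mpr ?_ (hdense q)
      intro w hw
      refine ⟨(equalizer.lift j hj).left.base ⟨w, hw⟩, ?_⟩
      exact congrArg (fun k : U' ⟶ X' => k.left.base ⟨w, hw⟩) (equalizer.lift_ι j hj)
    obtain ⟨q, hq⟩ : x ∈ Set.range π.base := by
      rw [Scheme.Pullback.range_fst, Scheme.range_fromSpecResidueField]; rfl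
    obtain ⟨e, he⟩ := hall q
    let E := (equalizer f' g').left
    let c : Spec (E.residueField e) ⟶ X.left := E.fromSpecResidueField e ≫ (equalizer.ι f' g').left ≫ π
    have heq : (equalizer.ι f' g').left ≫ π ≫ f.left = (equalizer.ι f' g').left ≫ π ≫ g.left := by
      rw [← hf, ← hg]
      exact congrArg (fun k => Over.Hom.left k ≫ pullback.fst Y.hom i) (equalizer.condition f' g')
    have hc : c ≫ f.left = c ≫ g.left := by
      simp only [c, Category.assoc, heq]
    refine ⟨(equalizer.lift c hc).base (IsLocalRing.closedPoint _), ?_⟩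
    refine (congrArg (fun k : Spec (E.residueField e) ⟶ X.left => k.base (IsLocalRing.closedPoint _))
      (equalizer.lift_ι c hc)).trans ?_
    have hcp := Scheme.fromSpecResidueField_apply e (IsLocalRing.closedPoint (E.residueField e))
    change π.base ((equalizer.ι f' g').left.base ((E.fromSpecResidueField e).base _)) = x
    rw [hcp, he, hq]⟩
  have hcl : IsClosedImmersion κ := IsClosedImmersion.of_isPreimmersion κ (by
    rw [Set.range_eq_univ.mpr hsurj.surj]; exact isClosed_univ)
  have hXdense : CInt.IsSchematicallyDense U := by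
    intro V t t' ht
    let e := asIso (pullback.fst X.hom (𝟙 S))
    refine (ConcreteCategory.bijective_of_isIso ((pullback.fst X.hom (𝟙 S)).app V)).1 (hU S (𝟙 S) _ ?_)
    have hnat := (pullback.fst X.hom (𝟙 S)).naturality (homOfLE (inf_le_left : V ⊓ U ≤ V)).op
    have h1 := congrArg (fun k => k.hom t) hnat
    have h2 := congrArg (fun k => k.hom t') hnat
    simp only [CommRingCat.hom_comp, RingHom.comp_apply] at h1 h2
    rw [ht] at h1
    exact h1.symm.trans h2
  have hiso : IsIso κ := by
    rw [IsClosedImmersion.isIso_iff_ker_eq_bot, eq_bot_iff]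
    refine Scheme.IdealSheafData.le_def.mpr fun V => ?_
    rw [Scheme.Hom.ker_apply, Scheme.IdealSheafData.ideal_bot, Pi.bot_apply, le_bot_iff, eq_bot_iff]
    intro t ht
    rw [RingHom.mem_ker] at ht
    refine hXdense V.1 ?_
    rw [map_zero]
    let c := equalizer.lift U.ι h
    have hc : c ≫ κ = U.ι := equalizer.lift_ι _ _
    have h1 : U.ι.app V.1 t = 0 := by
      have h2 := Scheme.Hom.congr_app hc.symm V.1
      rw [h2]
      simp [ht]
    have hiso' : IsIso (U.ι.app (V.1 ⊓ U)) := Scheme.Hom.isIso_app _ _ (by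
      rw [Scheme.Opens.opensRange_ι]; exact inf_le_right)
    refine (ConcreteCategory.bijective_of_isIso (U.ι.app (V.1 ⊓ U))).1 ?_
    rw [map_zero]
    have h3 := congrArg (fun k => k.hom t) (U.ι.naturality (homOfLE (inf_le_left : V.1 ⊓ U ≤ V.1)).op)
    simp only [CommRingCat.hom_comp, RingHom.comp_apply] at h3
    refine h3.trans ?_
    rw [show (U.ι.app V.1).hom t = 0 from h1, map_zero]
  exact Over.OverMorphism.ext ((cancel_epi κ).mp (equalizer.condition f.left g.left))

end Groth.Agent.H21Diag
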