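import Groth.Agent.H21Diag.BaseChange

/-!
fpqc covers: descent of open and closed subsets, common trivialising covers of two groups.
-/

open CategoryTheory MonoidalCategory CartesianMonoidalCategory MonObj GrpObj AlgebraicGeometry
open CategoryTheory.Limits

universe u

namespace Groth.Agent.H21Diag

variable {S S' : Scheme.{u}}

theorem isOpen_of_cover (g : S' ⟶ S) [Flat g]
    (hqc : ∀ V : S.Opens, IsAffineOpen V → ∃ W : S'.Opens, IsCompact (W : Set S') ∧ g.base '' (W : Set S') = (V : Set S))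
    (T : Set S) (h : IsOpen (g.base ⁻¹' T)) : IsOpen T := by
  refine isOpen_iff_forall_mem_open.mpr fun s hs => ?_
  obtain ⟨V, hV, hsV, -⟩ := exists_isAffineOpen_mem_and_subset (U := ⊤) (x := s) (Set.mem_univ _)
  obtain ⟨W, hWc, hWV⟩ := hqc V hV
  have hle : W ≤ g ⁻¹ᵁ V := fun w hw => by
    change g.base w ∈ (V : Set S)
    rw [← hWV]; exact ⟨w, hw, rfl⟩
  let gW := g.resLE V W hle
  have hgW : gW ≫ V.ι = W.ι ≫ g := Scheme.Hom.resLE_comp_ι _ _
  have : Flat gW := by change Flat (g.resLE V W hle); infer_instance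
  have : Surjective gW := ⟨fun v => by
    obtain ⟨w, hw, hwv⟩ : V.ι.base v ∈ g.base '' (W : Set S') := by rw [hWV]; exact Subtype.property v
    refine ⟨⟨w, hw⟩, V.ι.isOpenEmbedding.injective ?_⟩
    exact (congrArg (fun z : (W : Scheme.{u}) ⟶ S => z.base ⟨w, hw⟩) hgW).trans hwv⟩
  have : CompactSpace W := isCompact_iff_compactSpace.mp hWc
  have : IsAffine V := hV
  have : QuasiCompact gW := inferInstance
  have hq := Flat.isQuotientMap_of_surjective gW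
  refine ⟨V.ι.base '' (V.ι.base ⁻¹' T), Set.image_preimage_subset _ _,
    V.ι.isOpenEmbedding.isOpenMap _ (hq.isOpen_preimage.mp ?_), ⟨⟨s, hsV⟩, hs, rfl⟩⟩
  have he : gW.base ⁻¹' (V.ι.base ⁻¹' T) = W.ι.base ⁻¹' (g.base ⁻¹' T) := by
    ext w
    exact iff_of_eq (congrArg (fun z : (W : Scheme.{u}) ⟶ S => z.base w ∈ T) hgW)
  rw [he]
  exact h.preimage W.ι.continuous

theorem isClopen_of_cover (g : S' ⟶ S) [Flat g]
    (hqc : ∀ V : S.Opens, IsAffineOpen V → ∃ W : S'.Opens, IsCompact (W : Set S') ∧ g.base '' (W : Set S') = (V : Set S))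
    (T : Set S) (h : IsClopen (g.base ⁻¹' T)) : IsClopen T :=
  ⟨⟨isOpen_of_cover g hqc Tᶜ h.1.isOpen_compl⟩, isOpen_of_cover g hqc T h.2⟩

/-- restriction of a chart -/
noncomputable def restrictChart {U V : Scheme.{u}} {u₀ : U ⟶ S} {v₀ : V ⟶ S} {G : Over S} [GrpObj G]
    {M : Type} [AddCommGroup M] (e : Grp.mk (Red.bc u₀ G) ≅ Grp.mk (Red.DS U M)) (ε : V ⟶ U)
    (h : ε ≫ u₀ = v₀) : Grp.mk (Red.bc v₀ G) ≅ Grp.mk (Red.DS V M) :=
  bcCongrIso h.symm G ≪≫ bcCompIso ε u₀ G ≪≫ bcMapIso ε e ≪≫ bcDSIso ε M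

theorem comp_cover {T : Scheme.{u}} (g : S' ⟶ S) (g' : T ⟶ S')
    (hqc : ∀ V : S.Opens, IsAffineOpen V → ∃ W : S'.Opens, IsCompact (W : Set S') ∧ g.base '' (W : Set S') = (V : Set S))
    (hqc' : ∀ V : S'.Opens, IsAffineOpen V → ∃ W : T.Opens, IsCompact (W : Set T) ∧ g'.base '' (W : Set T) = (V : Set S'))
    (V : S.Opens) (hV : IsAffineOpen V) :
    ∃ W : T.Opens, IsCompact (W : Set T) ∧ (g' ≫ g).base '' (W : Set T) = (V : Set S) := by
  obtain ⟨W₁, hc₁, h₁⟩ := hqc V hV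
  choose A hA hwA hAW using fun w : (W₁ : Set S') =>
    exists_isAffineOpen_mem_and_subset (U := W₁) (x := (w : S')) w.2
  choose Q hQc hQ using fun w => hqc' (A w) (hA w)
  obtain ⟨F, hF⟩ := hc₁.elim_finite_subcover (fun t => (A t : Set S')) (fun t => (A t).isOpen)
    (fun t ht => Set.mem_iUnion.mpr ⟨⟨t, ht⟩, hwA ⟨t, ht⟩⟩)
  refine ⟨⨆ t ∈ F, Q t, ?_, ?_⟩
  · simp only [TopologicalSpace.Opens.coe_iSup]
    exact F.isCompact_biUnion fun t _ => hQc t
  · have h2 : g'.base '' ((⨆ t ∈ F, Q t : T.Opens) : Set T) = (W₁ : Set S') := by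
      simp only [TopologicalSpace.Opens.coe_iSup, Set.image_iUnion, hQ]
      exact subset_antisymm (Set.iUnion₂_subset fun t _ => hAW t) hF
    exact ((Set.image_image g.base g'.base _).symm.trans (congrArg (fun A => g.base '' A) h2)).trans h₁

/-- two groups of multiplicative type are diagonalisable over a common cover -/
theorem exists_common_cover {G H : Over S} [GrpObj G] [GrpObj H]
    (hG : SGA3x.IsMultTypeFT G) (hH : SGA3x.IsMultTypeFT H) :
    ∃ (T : Scheme.{u}) (g : T ⟶ S), Flat g ∧ Surjective g ∧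
      (∀ V : S.Opens, IsAffineOpen V → ∃ W : T.Opens, IsCompact (W : Set T) ∧ g.base '' (W : Set T) = (V : Set S)) ∧
      ∀ t : T, ∃ U : T.Opens, t ∈ U ∧
        (∃ (M : Type) (_ : AddCommGroup M), AddGroup.FG M ∧
          Nonempty (Grp.mk (Red.bc (U.ι ≫ g) G) ≅ Grp.mk (Red.DS (U : Scheme.{u}) M))) ∧
        ∃ (M : Type) (_ : AddCommGroup M), AddGroup.FG M ∧
          Nonempty (Grp.mk (Red.bc (U.ι ≫ g) H) ≅ Grp.mk (Red.DS (U : Scheme.{u}) M)) := by
  obtain ⟨S', f, hf, hs, hqc, hloc⟩ := hG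
  obtain ⟨T, g', hg', hs', hqc', hloc'⟩ := isMultTypeFT_bc hH f
  refine ⟨T, g' ≫ f, inferInstance, inferInstance, comp_cover f g' hqc hqc', fun t => ?_⟩
  obtain ⟨U₁, htU₁, M, _, hfg, ⟨e⟩⟩ := hloc (g'.base t)
  obtain ⟨U₂, htU₂, M', _, hfg', ⟨e'⟩⟩ := hloc' t
  let U := g' ⁻¹ᵁ U₁ ⊓ U₂
  refine ⟨U, ⟨htU₁, htU₂⟩, ⟨M, inferInstance, hfg, ⟨?_⟩⟩, ⟨M', inferInstance, hfg', ⟨?_⟩⟩⟩
  · refine restrictChart e (g'.resLE U₁ U inf_le_left) ?_
    rw [← Category.assoc, Scheme.Hom.resLE_comp_ι, Category.assoc]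
  · refine restrictChart (u₀ := U₂.ι ≫ g' ≫ f) (bcCongrIso (Category.assoc _ _ _).symm H ≪≫
      bcCompIso (U₂.ι ≫ g') f H ≪≫ e') (T.homOfLE inf_le_right) ?_
    rw [← Category.assoc (T.homOfLE _), Scheme.homOfLE_ι]

end Groth.Agent.H21Diag
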