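import Groth.Agent.H21Diag.Points
import Mathlib.AlgebraicGeometry.Morphisms.LocalFlatDescent
import Groth.Agent.H18Descent.Basic

/-!
Groups of multiplicative type and of finite type are locally of finite type.
-/

open CategoryTheory AlgebraicGeometry
open CategoryTheory.Limits

universe u

namespace Groth.Agent.H21Diag

theorem lft_diag (M : Type) [AddCommGroup M] [AddGroup.FG M] :
    LocallyOfFiniteType (Red.diag (ULift.{u} ℤ) M).hom := by
  change LocallyOfFiniteType (Spec.map (CommRingCat.ofHom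
    (algebraMap (ULift.{u} ℤ) (MonoidAlgebra (ULift.{u} ℤ) (Multiplicative M)))))
  rw [HasRingHomProperty.Spec_iff (P := @LocallyOfFiniteType)]
  have : AddMonoid.FG M := AddGroup.fg_iff_addMonoid_fg.mp inferInstance
  have : Monoid.FG (Multiplicative M) := inferInstance
  have : Algebra.FiniteType (ULift.{u} ℤ) (MonoidAlgebra (ULift.{u} ℤ) (Multiplicative M)) := inferInstance
  exact RingHom.finiteType_algebraMap.mpr this

theorem of_multTypeFT (P : MorphismProperty Scheme.{u}) [IsZariskiLocalAtTarget P] [P.IsStableUnderBaseChange]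
    [P.DescendsAlong H18Descent.fpqc.{u}]
    (hdiag : ∀ (M : Type) [AddCommGroup M] [AddGroup.FG M], P (Red.diag (ULift.{u} ℤ) M).hom)
    {S : Scheme.{u}} {H : Over S} [GrpObj H] (hH : SGA3x.IsMultTypeFT H) :
    P H.hom := by
  obtain ⟨S', g, hg, hs, hqc, hloc⟩ := hH
  rw [IsZariskiLocalAtTarget.iff_of_iSup_eq_top (P := P)
    (fun V : S.affineOpens => (V : S.Opens)) (iSup_affineOpens_eq_top S)]
  intro V
  obtain ⟨W, hWc, hWV⟩ := hqc V.1 V.2
  have hle : W ≤ g ⁻¹ᵁ V.1 := fun w hw => by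
    change g.base w ∈ (V.1 : Set S)
    rw [← hWV]; exact ⟨w, hw, rfl⟩
  let gW := g.resLE V.1 W hle
  have hgW : gW ≫ V.1.ι = W.ι ≫ g := Scheme.Hom.resLE_comp_ι _ _
  have hfl : Flat gW := by change Flat (g.resLE V.1 W hle); infer_instance
  have hsj : Surjective gW := ⟨fun v => by
    obtain ⟨w, hw, hwv⟩ : V.1.ι.base v ∈ g.base '' (W : Set S') := by rw [hWV]; exact Subtype.property v
    refine ⟨⟨w, hw⟩, V.1.ι.isOpenEmbedding.injective ?_⟩
    exact (congrArg (fun z : (W : Scheme.{u}) ⟶ S => z.base ⟨w, hw⟩) hgW).trans hwv⟩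
  have : CompactSpace W := isCompact_iff_compactSpace.mp hWc
  have : IsAffine V.1 := V.2
  have hqcW : QuasiCompact gW := inferInstance
  refine MorphismProperty.of_pullback_snd_of_descendsAlong (P := P)
    (Q := H18Descent.fpqc.{u}) (f := H.hom ∣_ V.1) (g := gW) ⟨⟨hsj, hfl⟩, hqcW⟩ ?_
  -- the base change to `W`
  have hW : P (pullback.snd H.hom (W.ι ≫ g)) := by
    let O : ↥(W : Scheme.{u}) → (W : Scheme.{u}).Opens := fun w => W.ι ⁻¹ᵁ (hloc (W.ι.base w)).choose
    have hO : ⨆ w, O w = ⊤ := eq_top_iff.mpr fun w _ =>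
      TopologicalSpace.Opens.mem_iSup.mpr ⟨w, (hloc (W.ι.base w)).choose_spec.1⟩
    rw [IsZariskiLocalAtTarget.iff_of_iSup_eq_top (P := P) O hO]
    intro w
    obtain ⟨M, _, hfg, ⟨e⟩⟩ := (hloc (W.ι.base w)).choose_spec.2
    set U' := (hloc (W.ι.base w)).choose
    have hU' : P (pullback.snd H.hom (U'.ι ≫ g)) := by
      have h1 : P (Red.DS (U' : Scheme.{u}) M).hom := P.pullback_snd _ _ (hdiag M)
      have h2 : IsIso e.hom.hom.hom.left := by
        refine ⟨⟨e.inv.hom.hom.left, ?_, ?_⟩⟩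
        · exact congrArg (fun z => z.hom.hom.left) e.hom_inv_id
        · exact congrArg (fun z => z.hom.hom.left) e.inv_hom_id
      have h3 : pullback.snd H.hom (U'.ι ≫ g) = e.hom.hom.hom.left ≫ (Red.DS (U' : Scheme.{u}) M).hom :=
        (Over.w e.hom.hom.hom).symm
      rw [h3, P.cancel_left_of_respectsIso]; exact h1
    let ε : (O w : Scheme.{u}) ⟶ (U' : Scheme.{u}) := W.ι.resLE U' (O w) le_rfl
    have hε : ε ≫ U'.ι = (O w).ι ≫ W.ι := Scheme.Hom.resLE_comp_ι _ _
    have h4 : P (pullback.snd H.hom (ε ≫ U'.ι ≫ g)) := by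
      rw [← pullbackLeftPullbackSndIso_inv_snd_snd H.hom (U'.ι ≫ g) ε, P.cancel_left_of_respectsIso]
      exact P.pullback_snd _ _ hU'
    rw [show ε ≫ U'.ι ≫ g = (O w).ι ≫ W.ι ≫ g by rw [← Category.assoc, hε, Category.assoc]] at h4
    rw [← pullbackLeftPullbackSndIso_inv_snd_snd H.hom (W.ι ≫ g) (O w).ι,
      MorphismProperty.cancel_left_of_respectsIso P] at h4
    rwa [MorphismProperty.arrow_mk_iso_iff P
      (Arrow.isoMk (pullbackRestrictIsoRestrict _ (O w)).symm (Iso.refl _) (by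
        simp [Iso.inv_comp_eq, pullbackRestrictIsoRestrict_hom_morphismRestrict]) :
        Arrow.mk ((pullback.snd H.hom (W.ι ≫ g)) ∣_ O w) ≅ Arrow.mk (pullback.snd (pullback.snd H.hom (W.ι ≫ g)) (O w).ι))]
  rw [← hgW, ← pullbackLeftPullbackSndIso_inv_snd_snd H.hom V.1.ι gW,
    MorphismProperty.cancel_left_of_respectsIso P] at hW
  let r := (pullbackRestrictIsoRestrict H.hom V.1)
  have hr : r.inv ≫ pullback.snd H.hom V.1.ι = H.hom ∣_ V.1 := by
    rw [Iso.inv_comp_eq, pullbackRestrictIsoRestrict_hom_morphismRestrict]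
  let q := pullback.map (H.hom ∣_ V.1) gW (pullback.snd H.hom V.1.ι) gW r.inv (𝟙 _) (𝟙 _)
    (by rw [Category.comp_id, hr]) (by simp)
  have hq : q ≫ pullback.snd _ _ = pullback.snd (H.hom ∣_ V.1) gW := (pullback.lift_snd _ _ _).trans (Category.comp_id _)
  rw [← hq]
  have : IsIso q := pullback.map_isIso ..
  exact (MorphismProperty.cancel_left_of_respectsIso P q _).mpr hW


theorem lft_of_multTypeFT {S : Scheme.{u}} {H : Over S} [GrpObj H] (hH : SGA3x.IsMultTypeFT H) :
    LocallyOfFiniteType H.hom :=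
  have : IsZariskiLocalAtTarget (@LocallyOfFiniteType : MorphismProperty Scheme.{u}) :=
    HasRingHomProperty.instIsZariskiLocalAtTarget _
  of_multTypeFT (@LocallyOfFiniteType) (fun M => lft_diag M) hH

theorem isAffineHom_diag (M : Type) [AddCommGroup M] : IsAffineHom (Red.diag (ULift.{u} ℤ) M).hom := by
  change IsAffineHom (Spec.map (CommRingCat.ofHom
    (algebraMap (ULift.{u} ℤ) (MonoidAlgebra (ULift.{u} ℤ) (Multiplicative M)))))
  infer_instance

theorem isAffineHom_of_multTypeFT {S : Scheme.{u}} {H : Over S} [GrpObj H] (hH : SGA3x.IsMultTypeFT H) :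
    IsAffineHom H.hom :=
  of_multTypeFT (@IsAffineHom) (fun M => isAffineHom_diag M) hH

theorem isSeparated_of_multTypeFT {S : Scheme.{u}} {H : Over S} [GrpObj H] (hH : SGA3x.IsMultTypeFT H) :
    IsSeparated H.hom :=
  have := isAffineHom_of_multTypeFT hH
  inferInstance

end Groth.Agent.H21Diag
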