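import Groth.Agent.H21Diag.Transporter
import Groth.Agent.H21Diag.FiniteType

/-!
Centralizers, normalizers and transporters of subgroups of multiplicative type in smooth affine groups.
-/

open CategoryTheory MonoidalCategory CartesianMonoidalCategory MonObj GrpObj AlgebraicGeometry
open CategoryTheory.Limits

universe u

namespace Groth.Agent.H21Diag

variable {S : Scheme.{u}}

theorem isDiagLoc_of_isMultTypeFT {H : Over S} [GrpObj H] (hH : SGA3x.IsMultTypeFT H) : IsDiagLoc H := by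
  obtain ⟨S', g, hg, hs, hqc, hloc⟩ := hH
  refine ⟨S', g, hg, hs, hqc, fun s' => ?_⟩
  obtain ⟨U, hU, M, _, -, h⟩ := hloc s'
  exact ⟨U, hU, M, _, h⟩

theorem lfp_diag (M : Type) [AddCommGroup M] [AddGroup.FG M] :
    LocallyOfFinitePresentation (Red.diag (ULift.{u} ℤ) M).hom := by
  have : IsNoetherianRing (ULift.{u} ℤ) := isNoetherianRing_of_ringEquiv ℤ ULift.ringEquiv.symm
  have : LocallyOfFiniteType (Red.diag (ULift.{u} ℤ) M).hom := lft_diag M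
  exact H12AlgSp.lfp_of_lft_of_isLocallyNoetherian _

theorem lfp_of_multTypeFT {H : Over S} [GrpObj H] (hH : SGA3x.IsMultTypeFT H) :
    LocallyOfFinitePresentation H.hom :=
  have : IsZariskiLocalAtTarget (@LocallyOfFinitePresentation : MorphismProperty Scheme.{u}) :=
    HasRingHomProperty.instIsZariskiLocalAtTarget _
  of_multTypeFT (@LocallyOfFinitePresentation) (fun M => lfp_diag M) hH

/-- the centralizer of a homomorphism of a group of multiplicative type -/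
theorem exists_centralizer {H G : Over S} [GrpObj H] [GrpObj G] (hH : IsDiagLoc H) (hG : Smooth G.hom)
    [IsSeparated G.hom] (u : H ⟶ G) [IsMonHom u] :
    ∃ (Z : Over S) (_ : GrpObj Z) (j : Z ⟶ G), Red.IsCentralizerOf u j ∧ IsClosedImmersion j.left ∧ Smooth Z.hom := by
  obtain ⟨Z, j, hj, hsm, hiff⟩ := exists_smooth_transHom hH hG u u
  have : Mono j := Over.mono_of_mono_left j
  have hiff' : ∀ (X : Over S) (g : X ⟶ G), (∃ z : X ⟶ Z, z ≫ j = g) ↔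
      ∀ (X' : Over S) (x : X' ⟶ X) (h : X' ⟶ H), (x ≫ g) * (h ≫ u) = (h ≫ u) * (x ≫ g) := fun X g =>
    (hiff X g).trans (forall_congr' fun X' => forall_congr' fun x => forall_congr' fun h => mul_inv_eq_iff_eq_mul)
  obtain ⟨_, hjm⟩ := exists_grpObj_of_mono j
    ((hiff' _ _).mpr fun X' x h => by rw [MonObj.comp_one, _root_.one_mul, _root_.mul_one])
    (fun X a b => (hiff' _ _).mpr fun X' x h => by
      rw [MonObj.comp_mul]
      exact Commute.mul_left ((hiff' _ _).mp ⟨a, rfl⟩ X' x h) ((hiff' _ _).mp ⟨b, rfl⟩ X' x h))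
    (fun X a => (hiff' _ _).mpr fun X' x h => by
      rw [GrpObj.comp_inv]
      exact Commute.inv_left ((hiff' _ _).mp ⟨a, rfl⟩ X' x h))
  exact ⟨Z, _, j, ⟨hjm, inferInstance, hiff'⟩, hj, hsm⟩

/-- `g` conjugates `i₁` into `i₂` -/
def TransLE {H₁ H₂ G : Over S} [GrpObj G] (i₁ : H₁ ⟶ G) (i₂ : H₂ ⟶ G) {X : Over S} (g : X ⟶ G) : Prop :=
  ∀ (X' : Over S) (x : X' ⟶ X) (h : X' ⟶ H₁), ∃ h' : X' ⟶ H₂, (x ≫ g) * (h ≫ i₁) * (x ≫ g)⁻¹ = h' ≫ i₂

/-- `g` conjugates `i₁` onto `i₂` -/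
def TransEq {H₁ H₂ G : Over S} [GrpObj G] (i₁ : H₁ ⟶ G) (i₂ : H₂ ⟶ G) {X : Over S} (g : X ⟶ G) : Prop :=
  ∀ (X' : Over S) (x : X' ⟶ X),
    (∀ h₁ : X' ⟶ H₁, ∃ h₂ : X' ⟶ H₂, (x ≫ g) * (h₁ ≫ i₁) * (x ≫ g)⁻¹ = h₂ ≫ i₂) ∧
    (∀ h₂ : X' ⟶ H₂, ∃ h₁ : X' ⟶ H₁, (x ≫ g)⁻¹ * (h₂ ≫ i₂) * (x ≫ g) = h₁ ≫ i₁)

/-- the locus where a family of points lands in a closed subgroup -/
theorem exists_factor_weil {H T Y K : Over S} [GrpObj H] (hH : IsDiagLoc H) (ψ : H ⊗ T ⟶ Y) (i : K ⟶ Y)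
    [IsClosedImmersion i.left] [LocallyOfFinitePresentation i.left] :
    ∃ (Z : Over S) (j : Z ⟶ T), IsClosedImmersion j.left ∧ LocallyOfFinitePresentation j.left ∧
      ∀ (X : Over S) (g : X ⟶ T), (∃ z : X ⟶ Z, z ≫ j = g) ↔
        ∀ (X' : Over S) (x : X' ⟶ X) (h : X' ⟶ H), ∃ k : X' ⟶ K, lift h (x ≫ g) ≫ ψ = k ≫ i := by
  obtain ⟨Z, j, hj, hjf, hiff⟩ := exists_preimage_weil hH ψ i.left
  refine ⟨Z, j, hj, hjf, fun X g => (hiff X g).trans (forall_congr' fun X' => forall_congr' fun x =>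
    forall_congr' fun h => ⟨fun ⟨k, hk⟩ => ⟨Over.homMk k ?_, Over.OverMorphism.ext hk.symm⟩,
      fun ⟨k, hk⟩ => ⟨k.left, (congrArg (fun m => m.left) hk).symm⟩⟩)⟩
  rw [← Over.w i, ← Category.assoc, hk]
  exact Over.w _

/-- intersection of two closed subschemes -/
theorem exists_inter {Z₁ Z₂ T : Over S} (j₁ : Z₁ ⟶ T) (j₂ : Z₂ ⟶ T) [IsClosedImmersion j₁.left]
    [IsClosedImmersion j₂.left] [LocallyOfFinitePresentation j₁.left] [LocallyOfFinitePresentation j₂.left] :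
    ∃ (Z : Over S) (j : Z ⟶ T), IsClosedImmersion j.left ∧ LocallyOfFinitePresentation j.left ∧
      ∀ (X : Over S) (g : X ⟶ T), (∃ z : X ⟶ Z, z ≫ j = g) ↔
        (∃ z : X ⟶ Z₁, z ≫ j₁ = g) ∧ (∃ z : X ⟶ Z₂, z ≫ j₂ = g) := by
  let j₀ := pullback.fst j₁.left j₂.left ≫ j₁.left
  let Z : Over S := Over.mk (j₀ ≫ T.hom)
  let q₁ : Z ⟶ Z₁ := Over.homMk (pullback.fst j₁.left j₂.left) (by
    change _ ≫ Z₁.hom = (_ ≫ _) ≫ T.hom
    rw [Category.assoc, Over.w j₁])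
  let q₂ : Z ⟶ Z₂ := Over.homMk (pullback.snd j₁.left j₂.left) (by
    change _ ≫ Z₂.hom = (_ ≫ _) ≫ T.hom
    rw [pullback.condition, Category.assoc, Over.w j₂])
  refine ⟨Z, Over.homMk j₀, show IsClosedImmersion j₀ by infer_instance,
    show LocallyOfFinitePresentation j₀ by infer_instance, fun X g => ⟨?_, ?_⟩⟩
  · rintro ⟨z, rfl⟩
    exact ⟨⟨z ≫ q₁, Over.OverMorphism.ext (Category.assoc _ _ _)⟩,
      ⟨z ≫ q₂, Over.OverMorphism.ext ((Category.assoc _ _ _).trans (congrArg (z.left ≫ ·) pullback.condition.symm))⟩⟩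
  · rintro ⟨⟨z₁, h₁⟩, ⟨z₂, h₂⟩⟩
    have h₁' : z₁.left ≫ j₁.left = g.left := congrArg (fun m => m.left) h₁
    have h₂' : z₂.left ≫ j₂.left = g.left := congrArg (fun m => m.left) h₂
    let z₀ := pullback.lift z₁.left z₂.left (h₁'.trans h₂'.symm)
    have hz : z₀ ≫ j₀ = g.left := by rw [← Category.assoc, pullback.lift_fst, h₁']
    exact ⟨Over.homMk z₀ (by change z₀ ≫ j₀ ≫ T.hom = X.hom; rw [← Category.assoc, hz]; exact Over.w g),
      Over.OverMorphism.ext hz⟩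

theorem exists_transLE {H₁ H₂ G : Over S} [GrpObj H₁] [GrpObj G] (hH₁ : IsDiagLoc H₁)
    (i₁ : H₁ ⟶ G) (i₂ : H₂ ⟶ G) [IsClosedImmersion i₂.left] [LocallyOfFinitePresentation i₂.left] :
    ∃ (Z : Over S) (j : Z ⟶ G), IsClosedImmersion j.left ∧ LocallyOfFinitePresentation j.left ∧
      ∀ (X : Over S) (g : X ⟶ G), (∃ z : X ⟶ Z, z ≫ j = g) ↔ TransLE i₁ i₂ g := by
  obtain ⟨Z, j, hj, hjf, hiff⟩ := exists_factor_weil (T := G) hH₁
    (snd H₁ G * (fst H₁ G ≫ i₁) * (snd H₁ G)⁻¹) i₂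
  refine ⟨Z, j, hj, hjf, fun X g => (hiff X g).trans (forall_congr' fun X' => forall_congr' fun x =>
    forall_congr' fun h => exists_congr fun k => ?_)⟩
  simp only [MonObj.comp_mul, GrpObj.comp_inv, ← Category.assoc, lift_fst, lift_snd]

theorem exists_transEq {H₁ H₂ G : Over S} [GrpObj H₁] [GrpObj H₂] [GrpObj G] (hH₁ : IsDiagLoc H₁)
    (hH₂ : IsDiagLoc H₂) (i₁ : H₁ ⟶ G) (i₂ : H₂ ⟶ G) [IsClosedImmersion i₁.left]
    [LocallyOfFinitePresentation i₁.left] [IsClosedImmersion i₂.left] [LocallyOfFinitePresentation i₂.left] :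
    ∃ (Z : Over S) (j : Z ⟶ G), IsClosedImmersion j.left ∧ LocallyOfFinitePresentation j.left ∧
      ∀ (X : Over S) (g : X ⟶ G), (∃ z : X ⟶ Z, z ≫ j = g) ↔ TransEq i₁ i₂ g := by
  obtain ⟨Z₁, j₁, hj₁, hjf₁, hiff₁⟩ := exists_transLE hH₁ i₁ i₂
  obtain ⟨Z₂, j₂, hj₂, hjf₂, hiff₂⟩ := exists_factor_weil (T := G) hH₂
    ((snd H₂ G)⁻¹ * (fst H₂ G ≫ i₂) * snd H₂ G) i₁
  obtain ⟨Z, j, hj, hjf, hiff⟩ := exists_inter j₁ j₂
  refine ⟨Z, j, hj, hjf, fun X g => ?_⟩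
  rw [hiff, hiff₁, hiff₂]
  simp only [MonObj.comp_mul, GrpObj.comp_inv, ← Category.assoc, lift_fst, lift_snd]
  exact ⟨fun h X' x => ⟨h.1 X' x, h.2 X' x⟩, fun h => ⟨fun X' x => (h X' x).1, fun X' x => (h X' x).2⟩⟩

theorem conj_symm {M : Type*} [Group M] {a y z : M} (h : a * y * a⁻¹ = z) : a⁻¹ * z * a = y := by
  subst h; group

section lifting

variable {A : Type u} [CommRing A] (b : Spec (CommRingCat.of A) ⟶ S)

theorem exists_lift_transLE {H₁ H₂ G : Over S} [GrpObj H₁] [GrpObj H₂] [GrpObj G] (hH₁ : IsDiagLoc H₁)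
    (hH₂ : IsDiagLoc H₂) (hG : Smooth G.hom) (i₁ : H₁ ⟶ G) [IsMonHom i₁] (i₂ : H₂ ⟶ G) [IsMonHom i₂]
    [IsClosedImmersion i₂.left] (I : Ideal A) (hI : I ^ 2 = ⊥)
    (g₀ : Over.mk (Spec.map (CommRingCat.ofHom (Ideal.Quotient.mk I)) ≫ b) ⟶ G) (h₀ : TransLE i₁ i₂ g₀) :
    ∃ g : Over.mk b ⟶ G, TransLE i₁ i₂ g ∧
      Spec.map (CommRingCat.ofHom (Ideal.Quotient.mk I)) ≫ g.left = g₀.left := by
  obtain ⟨g₀', e, hb, he⟩ := exists_bc_point b I g₀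
  have := isMonHom_pullback b i₁
  have := isMonHom_pullback b i₂
  have hsm : Smooth (Red.bc b G).hom := by change Smooth (pullback.snd G.hom b); infer_instance
  have : IsClosedImmersion ((Over.pullback b).map i₂).left :=
    MorphismProperty.overPullbackMap (P := @IsClosedImmersion) b i₂ inferInstance
  obtain ⟨g, hg0, hg⟩ := Groth.Agent.S5297.result I ⟨2, hI⟩ (Red.bc b G) (Red.bc b H₂) (Red.bc b H₁) hsm
    ((Over.pullback b).map i₂) (Or.inr (isDiagLoc_bc hH₂ b)) (isDiagLoc_bc hH₁ b) ((Over.pullback b).map i₁) g₀'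
    fun X p h => by
      obtain ⟨h', hh'⟩ := h₀ _ ((Over.map b).map p ≫ e) (bcHom b H₁ X h)
      refine ⟨bcEquiv b H₂ X h', (bcEquiv b G X).symm.injective ?_⟩
      change bcHom b G X _ = bcHom b G X _
      rw [bcHom_conj, bcHom_comp, bcHom_comp, hb, ← Category.assoc, hh']
      exact congrArg (· ≫ i₂) (Equiv.symm_apply_apply _ _).symm
  refine ⟨bcSection b g, fun X x h => ?_, bcSection_left b hg0 hb he⟩
  obtain ⟨X', e₁, e₂, he₁₂, hx⟩ := exists_over_lift b x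
  obtain ⟨y, hy⟩ := hg X' (bcEquiv b H₁ X' (e₂ ≫ h))
  refine ⟨e₁ ≫ bcHom b H₂ X' y, ?_⟩
  have h1 := congrArg (fun m => e₁ ≫ bcHom b G X' m) hy
  simp only [bcHom_conj, MonObj.comp_mul, GrpObj.comp_inv, bcHom_comp] at h1
  rw [show bcHom b H₁ X' (bcEquiv b H₁ X' (e₂ ≫ h)) = e₂ ≫ h from Equiv.symm_apply_apply _ _] at h1
  simp only [← Category.assoc, hx, he₁₂, Category.id_comp] at h1
  simp only [bcSection, ← Category.assoc]
  exact h1

theorem exists_lift_transEq {H₁ H₂ G : Over S} [GrpObj H₁] [GrpObj H₂] [GrpObj G] (hH₁ : IsDiagLoc H₁)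
    (hH₂ : IsDiagLoc H₂) (hG : Smooth G.hom) (i₁ : H₁ ⟶ G) [IsMonHom i₁] (i₂ : H₂ ⟶ G) [IsMonHom i₂]
    [IsClosedImmersion i₁.left] [IsClosedImmersion i₂.left] (I : Ideal A) (hI : I ^ 2 = ⊥)
    (g₀ : Over.mk (Spec.map (CommRingCat.ofHom (Ideal.Quotient.mk I)) ≫ b) ⟶ G) (h₀ : TransEq i₁ i₂ g₀) :
    ∃ g : Over.mk b ⟶ G, TransEq i₁ i₂ g ∧
      Spec.map (CommRingCat.ofHom (Ideal.Quotient.mk I)) ≫ g.left = g₀.left := by
  obtain ⟨g₀', e, hb, he⟩ := exists_bc_point b I g₀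
  have := isMonHom_pullback b i₁
  have := isMonHom_pullback b i₂
  have hsm : Smooth (Red.bc b G).hom := by change Smooth (pullback.snd G.hom b); infer_instance
  have : IsClosedImmersion ((Over.pullback b).map i₁).left :=
    MorphismProperty.overPullbackMap (P := @IsClosedImmersion) b i₁ inferInstance
  have : IsClosedImmersion ((Over.pullback b).map i₂).left :=
    MorphismProperty.overPullbackMap (P := @IsClosedImmersion) b i₂ inferInstance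
  obtain ⟨g, hg0, φ, hφ⟩ := Groth.Agent.S5294.result I ⟨2, hI⟩ (Red.bc b G) (Red.bc b H₁) (Red.bc b H₂) hsm
    (isDiagLoc_bc hH₁ b) (isDiagLoc_bc hH₂ b) ((Over.pullback b).map i₁) ((Over.pullback b).map i₂) g₀'
    fun X p => by
      obtain ⟨ha, hb'⟩ := h₀ _ ((Over.map b).map p ≫ e)
      refine ⟨fun h => ?_, fun h => ?_⟩
      · obtain ⟨h', hh'⟩ := ha (bcHom b H₁ X h)
        refine ⟨bcEquiv b H₂ X h', (bcEquiv b G X).symm.injective ?_⟩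
        change bcHom b G X _ = bcHom b G X _
        rw [bcHom_conj, bcHom_comp, bcHom_comp, hb, ← Category.assoc, hh']
        exact congrArg (· ≫ i₂) (Equiv.symm_apply_apply _ _).symm
      · obtain ⟨h', hh'⟩ := hb' (bcHom b H₂ X h)
        refine ⟨bcEquiv b H₁ X h', (bcEquiv b G X).symm.injective ?_⟩
        change bcHom b G X _ = bcHom b G X _
        rw [map_mul, map_mul, map_inv, bcHom_precomp, bcHom_comp, bcHom_comp, hb, ← Category.assoc, hh']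
        exact congrArg (· ≫ i₁) (Equiv.symm_apply_apply _ _).symm
  refine ⟨bcSection b g, fun X x => ?_, bcSection_left b hg0 hb he⟩
  obtain ⟨X', e₁, e₂, he₁₂, hx⟩ := exists_over_lift b x
  have hg : ∀ h : X' ⟶ Red.bc b H₁, (toUnit X' ≫ g) * (h ≫ (Over.pullback b).map i₁) * (toUnit X' ≫ g)⁻¹ =
      (h ≫ φ.hom) ≫ (Over.pullback b).map i₂ := fun h => by
    have := congrArg (h ≫ ·) hφ
    simp only [MonObj.comp_mul, GrpObj.comp_inv, ← Category.assoc, toUnit_unique (h ≫ toUnit _) (toUnit X')] at this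
    exact this
  refine ⟨fun h => ⟨e₁ ≫ bcHom b H₂ X' (bcEquiv b H₁ X' (e₂ ≫ h) ≫ φ.hom), ?_⟩,
    fun h => ⟨e₁ ≫ bcHom b H₁ X' (bcEquiv b H₂ X' (e₂ ≫ h) ≫ φ.inv), ?_⟩⟩
  · have h1 := congrArg (fun m => e₁ ≫ bcHom b G X' m) (hg (bcEquiv b H₁ X' (e₂ ≫ h)))
    simp only [bcHom_conj, MonObj.comp_mul, GrpObj.comp_inv, bcHom_comp] at h1
    rw [show bcHom b H₁ X' (bcEquiv b H₁ X' (e₂ ≫ h)) = e₂ ≫ h from Equiv.symm_apply_apply _ _] at h1
    simp only [← Category.assoc, hx, he₁₂, Category.id_comp] at h1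
    simp only [bcSection, ← Category.assoc]
    exact h1
  · have h1 := congrArg (fun m => e₁ ≫ bcHom b G X' m) (hg (bcEquiv b H₂ X' (e₂ ≫ h) ≫ φ.inv))
    rw [Category.assoc _ φ.inv φ.hom, φ.inv_hom_id, Category.comp_id] at h1
    simp only [bcHom_conj, MonObj.comp_mul, GrpObj.comp_inv, bcHom_comp] at h1
    rw [show bcHom b H₂ X' (bcEquiv b H₂ X' (e₂ ≫ h)) = e₂ ≫ h from Equiv.symm_apply_apply _ _] at h1
    simp only [← Category.assoc, hx, he₁₂, Category.id_comp] at h1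
    simp only [bcSection, ← Category.assoc]
    exact conj_symm h1

end lifting

section main

variable {H₁ H₂ G : Over S} [GrpObj H₁] [GrpObj H₂] [GrpObj G] (hH₁ : SGA3x.IsMultTypeFT H₁)
  (hH₂ : SGA3x.IsMultTypeFT H₂) (hG : Smooth G.hom) (hGa : IsAffineHom G.hom)
  (i₁ : H₁ ⟶ G) [IsMonHom i₁] (i₂ : H₂ ⟶ G) [IsMonHom i₂] [Mono i₂]

include hH₁ hG hGa in
theorem closed_lfp_of_mono [Mono i₁] : IsClosedImmersion i₁.left ∧ LocallyOfFinitePresentation i₁.left := by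
  refine ⟨isClosedImmersion_of_mono (isDiagLoc_of_isMultTypeFT hH₁) hGa i₁, ?_⟩
  have : LocallyOfFinitePresentation (i₁.left ≫ G.hom) := by rw [Over.w i₁]; exact lfp_of_multTypeFT hH₁
  exact H12AlgSp.lfp_of_comp _ G.hom

include hH₁ hH₂ hG hGa in
/-- the transporter (containment) is smooth -/
theorem exists_smooth_transLE : ∃ (Z : Over S) (j : Z ⟶ G), IsClosedImmersion j.left ∧ Smooth Z.hom ∧
    ∀ (X : Over S) (g : X ⟶ G), (∃ z : X ⟶ Z, z ≫ j = g) ↔ TransLE i₁ i₂ g := by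
  obtain ⟨_, _⟩ := closed_lfp_of_mono hH₂ hG hGa i₂
  obtain ⟨Z, j, hj, hjf, hiff⟩ := exists_transLE (isDiagLoc_of_isMultTypeFT hH₁) i₁ i₂
  refine ⟨Z, j, hj, smooth_of_lifting j hG fun A _ I hI b g₀ hg₀ => ?_, hiff⟩
  obtain ⟨g, hg, hgl⟩ := exists_lift_transLE b (isDiagLoc_of_isMultTypeFT hH₁) (isDiagLoc_of_isMultTypeFT hH₂) hG
    i₁ i₂ I hI g₀ ((hiff _ g₀).mp hg₀)
  exact ⟨g, (hiff _ g).mpr hg, hgl⟩

include hH₁ hH₂ hG hGa in
/-- the transporter is smooth -/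
theorem exists_smooth_transEq [Mono i₁] : ∃ (Z : Over S) (j : Z ⟶ G), IsClosedImmersion j.left ∧ Smooth Z.hom ∧
    ∀ (X : Over S) (g : X ⟶ G), (∃ z : X ⟶ Z, z ≫ j = g) ↔ TransEq i₁ i₂ g := by
  obtain ⟨_, _⟩ := closed_lfp_of_mono hH₁ hG hGa i₁
  obtain ⟨_, _⟩ := closed_lfp_of_mono hH₂ hG hGa i₂
  obtain ⟨Z, j, hj, hjf, hiff⟩ := exists_transEq (isDiagLoc_of_isMultTypeFT hH₁) (isDiagLoc_of_isMultTypeFT hH₂) i₁ i₂
  refine ⟨Z, j, hj, smooth_of_lifting j hG fun A _ I hI b g₀ hg₀ => ?_, hiff⟩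
  obtain ⟨g, hg, hgl⟩ := exists_lift_transEq b (isDiagLoc_of_isMultTypeFT hH₁) (isDiagLoc_of_isMultTypeFT hH₂) hG
    i₁ i₂ I hI g₀ ((hiff _ g₀).mp hg₀)
  exact ⟨g, (hiff _ g).mpr hg, hgl⟩

end main

/-- the transporter of a subgroup into itself is its normalizer -/
theorem isNormalizerOf_of_transEq {H G Z : Over S} [GrpObj H] [GrpObj G] (i : H ⟶ G) (j : Z ⟶ G)
    [Mono j] (hiff : ∀ (X : Over S) (g : X ⟶ G), (∃ z : X ⟶ Z, z ≫ j = g) ↔ TransEq i i g) :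
    ∃ _ : GrpObj Z, Red.IsNormalizerOf i j := by
  have hiff' : ∀ (X : Over S) (g : X ⟶ G), (∃ z : X ⟶ Z, z ≫ j = g) ↔
      ∀ (X' : Over S) (x : X' ⟶ X) (h : X' ⟶ H),
        (∃ h' : X' ⟶ H, (x ≫ g) * (h ≫ i) * (x ≫ g)⁻¹ = h' ≫ i) ∧
        (∃ h' : X' ⟶ H, (x ≫ g)⁻¹ * (h ≫ i) * (x ≫ g) = h' ≫ i) := fun X g =>
    (hiff X g).trans ⟨fun h X' x a => ⟨(h X' x).1 a, (h X' x).2 a⟩, fun h X' x => ⟨fun a => (h X' x a).1, fun a => (h X' x a).2⟩⟩
  obtain ⟨_, hjm⟩ := exists_grpObj_of_mono j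
    ((hiff' _ _).mpr fun X' x h => ⟨⟨h, by rw [MonObj.comp_one]; group⟩, ⟨h, by rw [MonObj.comp_one]; group⟩⟩)
    (fun X a b => (hiff' _ _).mpr fun X' x h => by
      have ha := (hiff' _ _).mp ⟨a, rfl⟩
      have hb := (hiff' _ _).mp ⟨b, rfl⟩
      obtain ⟨h₁, e₁⟩ := (hb X' x h).1
      obtain ⟨h₂, e₂⟩ := (ha X' x h₁).1
      obtain ⟨h₃, e₃⟩ := (ha X' x h).2
      obtain ⟨h₄, e₄⟩ := (hb X' x h₃).2
      rw [MonObj.comp_mul]
      refine ⟨⟨h₂, ?_⟩, ⟨h₄, ?_⟩⟩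
      · rw [← e₂, ← e₁]; group
      · rw [← e₄, ← e₃]; group)
    (fun X a => (hiff' _ _).mpr fun X' x h => by
      have ha := (hiff' _ _).mp ⟨a, rfl⟩ X' x h
      rw [GrpObj.comp_inv, _root_.inv_inv]
      exact ⟨ha.2, ha.1⟩)
  exact ⟨_, hjm, inferInstance, hiff'⟩

/-- the normalizer of a subgroup of multiplicative type -/
theorem exists_normalizer {H G : Over S} [GrpObj H] [GrpObj G] (hH : SGA3x.IsMultTypeFT H) (hG : Smooth G.hom)
    (hGa : IsAffineHom G.hom) (i : H ⟶ G) [IsMonHom i] [Mono i] :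
    ∃ (N : Over S) (_ : GrpObj N) (j : N ⟶ G), Red.IsNormalizerOf i j ∧ IsClosedImmersion j.left ∧ Smooth N.hom := by
  obtain ⟨Z, j, hj, hsm, hiff⟩ := exists_smooth_transEq hH hH hG hGa i i
  have : Mono j := Over.mono_of_mono_left j
  obtain ⟨_, hN⟩ := isNormalizerOf_of_transEq i j hiff
  exact ⟨Z, _, j, hN, hj, hsm⟩

end Groth.Agent.H21Diag
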