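import Groth.Agent.H21Diag.IdealDescent
import Groth.Agent.H21Diag.IntegrateHom
import Groth.Agent.H7Lim.IdealSystem

/-!
The closed subscheme over which a group of multiplicative type lands in a closed subscheme.
-/

open CategoryTheory MonoidalCategory CartesianMonoidalCategory MonObj GrpObj AlgebraicGeometry
open CategoryTheory.Limits

universe u

namespace Groth.Agent.H21Diag

/-- the points of `H` over the algebras over `v` land in `K` -/
def LandsIn {T : Scheme.{u}} (H : Over T) {K : Scheme.{u}} (κ : K ⟶ H.left) {D : Type u} [CommRing D]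
    (v : Spec (CommRingCat.of D) ⟶ T) : Prop :=
  ∀ (D' : Type u) [CommRing D'] (t : D →+* D') (a : Spec (CommRingCat.of D') ⟶ H.left),
    a ≫ H.hom = Spec.map (CommRingCat.ofHom t) ≫ v → ∃ k, k ≫ κ = a

/-- factorisations through a monomorphism glue -/
theorem exists_lift_of_cover {X Z T : Scheme.{u}} (j : Z ⟶ T) [Mono j] (v : X ⟶ T) (𝒰 : X.OpenCover)
    (h : ∀ i, ∃ z : 𝒰.X i ⟶ Z, z ≫ j = 𝒰.f i ≫ v) : ∃ z : X ⟶ Z, z ≫ j = v := by
  choose z hz using h
  refine ⟨𝒰.glueMorphisms z fun a b => ?_, ?_⟩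
  · rw [← cancel_mono j, Category.assoc, Category.assoc, hz, hz, ← Category.assoc, ← Category.assoc,
      pullback.condition]
  · refine Scheme.Cover.hom_ext 𝒰 _ _ fun i => ?_
    rw [Scheme.Cover.ι_glueMorphisms_assoc, hz]

/-- the affine case -/
theorem exists_locus_ideal_affine {R₀ : Type u} [CommRing R₀] {H : Over (Spec (CommRingCat.of R₀))} [GrpObj H]
    (hH : IsDiagLoc H) {K : Scheme.{u}} (κ : K ⟶ H.left) [IsClosedImmersion κ] [LocallyOfFinitePresentation κ] :
    ∃ J : Ideal R₀, J.FG ∧ ∀ (D : Type u) [CommRing D] (f : R₀ →+* D),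
      (∀ (D' : Type u) [CommRing D'] (k : R₀ →+* D') (t : D →+* D'), t.comp f = k →
        ∀ a : Tst k ⟶ H, ∃ x, x ≫ κ = a.left) ↔ J ≤ RingHom.ker f := by
  classical
  have : IsAffineHom H.hom := isAffineHom_of_diagLoc hH
  have : IsAffine H.left := isAffine_of_isAffineHom H.hom
  obtain ⟨A, _, α, x, y, hyx, hxy⟩ := exists_affine_coord (X := H)
  have : IsIso x.left := ⟨y.left, congrArg (fun m => m.left) hxy, congrArg (fun m => m.left) hyx⟩
  let j := pullback.snd κ x.left
  have : IsClosedImmersion j := inferInstance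
  obtain ⟨I, w, hw⟩ := IsClosedImmersion.Spec_iff.mp ‹IsClosedImmersion j›
  have hIfg : I.FG := by
    have h1 : LocallyOfFinitePresentation (Spec.map (CommRingCat.ofHom (Ideal.Quotient.mk I))) := by
      rw [show Spec.map (CommRingCat.ofHom (Ideal.Quotient.mk I)) = w.inv ≫ j by rw [hw, Iso.inv_hom_id_assoc]]
      infer_instance
    let := (Ideal.Quotient.mk I).toAlgebra
    have : Algebra.FinitePresentation A (A ⧸ I) := (LocallyOfFinitePresentation.SpecMap_iff _).mp h1
    have h2 := Algebra.FinitePresentation.ker_fG_of_surjective (Algebra.ofId A (A ⧸ I)) Ideal.Quotient.mk_surjective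
    exact (show RingHom.ker (Algebra.ofId A (A ⧸ I)).toRingHom = I from Ideal.mk_ker (I := I)) ▸ h2
  -- a point lands in `K` iff it kills `I`
  have hI : ∀ {D : Type u} [CommRing D] {k : R₀ →+* D} (a : Tst k ⟶ H) (m : A →+* D) (hm : m.comp α = k),
      a ≫ y = tst m hm → ((∃ z, z ≫ κ = a.left) ↔ I ≤ RingHom.ker m) := by
    intro D _ k a m hm ha
    have ha' : a.left = Spec.map (CommRingCat.ofHom m) ≫ x.left := by
      have := congrArg (fun n => (n ≫ x).left) ha
      rwa [Category.assoc, hyx, Category.comp_id] at this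
    constructor
    · rintro ⟨z, hz⟩
      let c := pullback.lift (f := κ) (g := x.left) z (Spec.map (CommRingCat.ofHom m)) (hz.trans ha')
      obtain ⟨ψ, hψ⟩ := Spec.map_surjective (c ≫ w.hom)
      have : m = ψ.hom.comp (Ideal.Quotient.mk I) := by
        refine congrArg CommRingCat.Hom.hom (Spec.map_injective (?_ :
          Spec.map (CommRingCat.ofHom m) = Spec.map (CommRingCat.ofHom (ψ.hom.comp (Ideal.Quotient.mk I)))))
        rw [specMap_comp, CommRingCat.ofHom_hom, hψ, Category.assoc, ← hw]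
        exact (pullback.lift_snd _ _ _).symm
      intro r hr
      rw [RingHom.mem_ker, this, RingHom.comp_apply, Ideal.Quotient.eq_zero_iff_mem.mpr hr, map_zero]
    · intro h
      obtain ⟨ψ, hψ⟩ : ∃ ψ : A ⧸ I →+* D, ψ.comp (Ideal.Quotient.mk I) = m :=
        ⟨Ideal.Quotient.lift I m h, Ideal.Quotient.lift_comp_mk _ _ _⟩
      refine ⟨Spec.map (CommRingCat.ofHom ψ) ≫ w.inv ≫ pullback.fst κ x.left, ?_⟩
      rw [ha', ← hψ, specMap_comp, show Spec.map (CommRingCat.ofHom (Ideal.Quotient.mk I)) = w.inv ≫ j by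
        rw [hw, Iso.inv_hom_id_assoc]]
      simp only [Category.assoc, j, pullback.condition]
  obtain ⟨gens, hgens⟩ := hIfg
  obtain ⟨F, hF⟩ := exists_charts hH
  choose M hMg hQ using hF
  let Q := fun i => @Classical.ofNonempty _ (hQ i)
  let sN := fun i => (MonoidAlgebra.singleOneRingHom : (F.R i : Type u) →+* MonoidAlgebra (F.R i) (Multiplicative (M i)))
  choose m hm hmu using fun i => exists_tst_factor ((Q i).pt (sN i) (MonoidAlgebra.of _ _) ≫ y)
  let c : ∀ i, Ideal (F.R i) := fun i =>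
    Ideal.span ((gens.biUnion fun r => (m i r).coeff.support.image (m i r).coeff : Finset (F.R i : Type u)) : Set (F.R i : Type u))
  let P : ∀ (D : Type u) [CommRing D], (R₀ →+* D) → Prop := fun D _ f =>
    ∀ (D' : Type u) [CommRing D'] (k : R₀ →+* D') (t : D →+* D'), t.comp f = k →
      ∀ a : Tst k ⟶ H, ∃ z, z ≫ κ = a.left
  have hker : ∀ (i : F.I) {D : Type u} [CommRing D] (g : (F.R i : Type u) →+* D),
      I ≤ RingHom.ker ((MonoidAlgebra.mapRingHom (Multiplicative (M i)) g).comp (m i)) ↔ c i ≤ RingHom.ker g := by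
    intro i D _ g
    rw [← hgens, Submodule.span_le, Ideal.span_le]
    constructor
    · intro h r hr
      obtain ⟨w, hw, hr⟩ := Finset.mem_biUnion.mp hr
      obtain ⟨n, -, rfl⟩ := Finset.mem_image.mp hr
      exact congrArg (fun z => z.coeff n) (RingHom.mem_ker.mp (h hw))
    · intro h w hw
      refine MonoidAlgebra.ext (Finsupp.ext fun n => ?_)
      change g ((m i w).coeff n) = 0
      by_cases hn : (m i w).coeff n = 0
      · rw [hn, map_zero]
      · exact h (Finset.mem_biUnion.mpr ⟨w, hw, Finset.mem_image_of_mem _ (Finsupp.mem_support_iff.mpr hn)⟩)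
  refine F.exists_ideal c (fun i => ⟨_, rfl⟩) P (fun i D _ g => ?_) (fun D _ f => ?_)
  · let := hMg i
    rw [← hker i g]
    let Φ := MonoidAlgebra.mapRingHom (Multiplicative (M i)) g
    have hΦ : Φ.comp (sN i) = (MonoidAlgebra.singleOneRingHom : D →+* MonoidAlgebra D (Multiplicative (M i))).comp g :=
      RingHom.ext fun b => by simp [Φ, sN]
    constructor
    · intro h
      have hk : (MonoidAlgebra.singleOneRingHom : D →+* MonoidAlgebra D (Multiplicative (M i))).comp (g.comp (F.ρ i)) =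
          Φ.comp ((sN i).comp (F.ρ i)) := by rw [← RingHom.comp_assoc, ← hΦ, RingHom.comp_assoc]
      refine (hI (tst Φ rfl ≫ (Q i).pt (sN i) (MonoidAlgebra.of _ _)) (Φ.comp (m i))
        (by rw [RingHom.comp_assoc, hm]) ?_).mp (h _ _ _ hk _)
      rw [Category.assoc, hmu, tst_comp]
    · intro h D' _ k t hk a
      subst hk
      obtain ⟨χ, hχ⟩ := (Q i).pt_surjective (t.comp g) a
      let ev : MonoidAlgebra (F.R i) (Multiplicative (M i)) →+* D' :=
        MonoidAlgebra.liftNCRingHom (t.comp g) χ fun _ _ => Commute.all _ _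
      let ev' : MonoidAlgebra D (Multiplicative (M i)) →+* D' :=
        MonoidAlgebra.liftNCRingHom t χ fun _ _ => Commute.all _ _
      have hev : ev = ev'.comp Φ :=
        MonoidAlgebra.ringHom_ext (fun b => by simp [ev, ev', Φ]) fun n => by simp [ev, ev', Φ]
      have h1 : ev.comp (sN i) = t.comp g := RingHom.ext fun b => by simp [ev, sN]
      have h2 : ev.toMonoidHom.comp (MonoidAlgebra.of _ _) = χ := MonoidHom.ext fun n => by simp [ev]
      have ha : a.left = Spec.map (CommRingCat.ofHom ev) ≫ ((Q i).pt (sN i) (MonoidAlgebra.of _ _)).left := by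
        have hgen : ∀ g' : (F.R i : Type u) →+* D', g' = ev.comp (sN i) →
            ((Q i).pt g' χ).left = ((Q i).pt (ev.comp (sN i)) χ).left := by rintro _ rfl; rfl
        rw [← hχ, hgen _ h1.symm, ← h2]
        exact congrArg (fun n => n.left) ((Q i).pt_nat ev (sN i) (MonoidAlgebra.of _ _)).symm
      obtain ⟨z, hz⟩ := (hI (tst ev rfl ≫ (Q i).pt (sN i) (MonoidAlgebra.of _ _)) (ev.comp (m i))
        (by rw [RingHom.comp_assoc, hm]) (by rw [Category.assoc, hmu, tst_comp])).mpr (by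
          intro r hr
          rw [RingHom.mem_ker, hev]
          change ev' ((Φ.comp (m i)) r) = 0
          rw [RingHom.mem_ker.mp (h hr), map_zero])
      exact ⟨z, hz.trans ha.symm⟩
  · refine ⟨fun h i D' _ g l hl D'' _ k t hk a => h D'' k (t.comp l)
      (by rw [RingHom.comp_assoc, hl, hk]) a, fun h D' _ k t hk a => ?_⟩
    obtain ⟨n, hn, hna⟩ := exists_tst_factor (a ≫ y)
    refine (hI a n hn hna).mpr fun r hr => RingHom.mem_ker.mpr ?_
    refine F.eq_zero k (n r) fun i D'' _ g l hl => ?_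
    have h1 := h i D'' g (l.comp t) (by rw [RingHom.comp_assoc, hk, hl]) D'' (g.comp (F.ρ i)) (RingHom.id _)
      (RingHom.id_comp _) (tst l hl ≫ a)
    have h2 := (hI (tst l hl ≫ a) (l.comp n) (by rw [RingHom.comp_assoc, hn, hl])
      (by rw [Category.assoc, hna, tst_comp])).mp h1 hr
    exact h2

variable {T : Scheme.{u}} (H : Over T) [GrpObj H] {K : Scheme.{u}} (κ : K ⟶ H.left)
  [IsClosedImmersion κ] [LocallyOfFinitePresentation κ]

/-- the condition on algebras over an affine scheme mapping to the base -/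
theorem exists_locus_ideal (hH : IsDiagLoc H) {B : Type u} [CommRing B] (s : Spec (CommRingCat.of B) ⟶ T) :
    ∃ J : Ideal B, J.FG ∧ ∀ (D : Type u) [CommRing D] (φ : B →+* D),
      LandsIn H κ (Spec.map (CommRingCat.ofHom φ) ≫ s) ↔ J ≤ RingHom.ker φ := by
  obtain ⟨J, hJfg, hJ⟩ := exists_locus_ideal_affine (isDiagLoc_bc hH s) (pullback.snd κ (pullback.fst H.hom s))
  refine ⟨J, hJfg, fun D _ φ => ?_⟩
  rw [← hJ D φ]
  refine ⟨fun h D' _ k t hk a => ?_, fun h D' _ t a ha => ?_⟩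
  · obtain ⟨z, hz⟩ := h D' t (a.left ≫ pullback.fst H.hom s) (by
      rw [Category.assoc, pullback.condition, ← Category.assoc, ← Category.assoc, ← specMap_comp, hk]
      exact congrArg (· ≫ s) (Over.w a))
    exact ⟨pullback.lift z a.left hz, pullback.lift_snd _ _ _⟩
  · let a' : Tst (t.comp φ) ⟶ Red.bc s H := Over.homMk (pullback.lift a (Spec.map (CommRingCat.ofHom (t.comp φ)))
      (by rw [ha, ← Category.assoc, ← specMap_comp])) (pullback.lift_snd _ _ _)
    obtain ⟨z, hz⟩ := h D' _ t rfl a'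
    refine ⟨z ≫ pullback.fst _ _, ?_⟩
    rw [Category.assoc, pullback.condition, ← Category.assoc, hz]
    exact pullback.lift_fst _ _ _

/-- the closed subscheme over which `H` lands in `K` -/
theorem exists_weil_locus (hH : IsDiagLoc H) :
    ∃ (Z : Scheme.{u}) (j : Z ⟶ T), IsClosedImmersion j ∧ LocallyOfFinitePresentation j ∧
      ∀ (X : Scheme.{u}) (v : X ⟶ T), (∃ z : X ⟶ Z, z ≫ j = v) ↔
        ∀ (Y : Scheme.{u}) (p : Y ⟶ X) (a : Y ⟶ H.left), a ≫ H.hom = p ≫ v → ∃ k, k ≫ κ = a := by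
  choose J hJfg hJ using fun U : T.affineOpens => exists_locus_ideal H κ hH U.2.fromSpec
  have hext : ∀ {B : Type u} [CommRing B] (I I' : Ideal B),
      (∀ (D : Type u) [CommRing D] (φ : B →+* D), I ≤ RingHom.ker φ ↔ I' ≤ RingHom.ker φ) → I = I' := by
    intro B _ I I' h
    refine le_antisymm ?_ ?_
    · have := (h _ (Ideal.Quotient.mk I')).mpr (Ideal.mk_ker (I := I')).ge
      rwa [Ideal.mk_ker] at this
    · have := (h _ (Ideal.Quotient.mk I)).mp (Ideal.mk_ker (I := I)).ge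
      rwa [Ideal.mk_ker] at this
  let 𝓘 : T.IdealSheafData :=
    { ideal := J
      map_ideal_basicOpen := fun U f => hext _ _ fun D _ φ => by
        refine Iff.trans ?_ (hJ (T.affineBasicOpen f) D φ)
        rw [Ideal.map_le_iff_le_comap, RingHom.comap_ker, ← hJ U D _,
          specMap_comp, Category.assoc, CommRingCat.ofHom_hom,
          ← IsAffineOpen.map_fromSpec U.2 (T.affineBasicOpen f).2 (homOfLE (T.basicOpen_le f)).op]
        rfl }
  let Z := 𝓘.subscheme
  have hfac : ∀ {X : Scheme.{u}} (v : X ⟶ T), (∃ z : X ⟶ Z, z ≫ 𝓘.subschemeι = v) →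
      ∀ (U : T.affineOpens) (W : X.Opens) (hW : IsAffineOpen W) (hWU : W ≤ v ⁻¹ᵁ U),
        𝓘.ideal U ≤ RingHom.ker (v.appLE U W hWU).hom := by
    rintro X v ⟨z, rfl⟩ U W hW hWU r hr
    rw [← 𝓘.ker_subschemeι] at hr
    have h1 := Scheme.Hom.ideal_ker_le _ U (Scheme.Hom.le_ker_comp z 𝓘.subschemeι U hr)
    rw [RingHom.mem_ker] at h1 ⊢
    change ((z ≫ 𝓘.subschemeι).app U ≫ X.presheaf.map (homOfLE hWU).op).hom r = 0
    rw [CommRingCat.hom_comp, RingHom.comp_apply, h1, map_zero]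
  refine ⟨Z, 𝓘.subschemeι, inferInstance,
    Groth.Agent.H7Lim.locallyOfFinitePresentation_of_ker_fg _ fun U => ?_, fun X v => ⟨fun hz Y p a ha => ?_, fun h => ?_⟩⟩
  · rw [𝓘.ker_subschemeι]; exact hJfg U
  · -- locally on `Y`
    have key : ∀ y : Y, ∃ W : Y.Opens, y ∈ W ∧ ∃ k : (W : Scheme.{u}) ⟶ K, k ≫ κ = W.ι ≫ a := by
      intro y
      obtain ⟨U, hU, hyU, -⟩ := exists_isAffineOpen_mem_and_subset (U := ⊤) (x := (p ≫ v).base y) trivial
      obtain ⟨W, hW, hyW, hWU⟩ := exists_isAffineOpen_mem_and_subset (U := (p ≫ v) ⁻¹ᵁ U) (x := y) hyU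
      refine ⟨W, hyW, ?_⟩
      obtain ⟨z, hz⟩ := hz
      have hle := hfac (p ≫ v) ⟨p ≫ z, by rw [Category.assoc, hz]⟩ ⟨U, hU⟩ W hW hWU
      obtain ⟨k, hk⟩ := (hJ ⟨U, hU⟩ _ ((p ≫ v).appLE U W hWU).hom).mpr hle Γ(Y, W) (RingHom.id _)
        (hW.fromSpec ≫ a) (by
          rw [CommRingCat.ofHom_id, Spec.map_id, Category.id_comp, CommRingCat.ofHom_hom,
            IsAffineOpen.SpecMap_appLE_fromSpec (p ≫ v) hU hW hWU, Category.assoc, ha])
      refine ⟨hW.isoSpec.hom ≫ k, ?_⟩
      rw [Category.assoc, hk, ← Category.assoc, IsAffineOpen.isoSpec_hom_fromSpec]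
    choose W hyW hk using key
    exact exists_lift_of_cover κ a (Y.openCoverOfIsOpenCover W (TopologicalSpace.IsOpenCover.mk
      (top_le_iff.mp fun y _ => TopologicalSpace.Opens.mem_iSup.mpr ⟨y, hyW y⟩))) hk
  · have key : ∀ x : X, ∃ W : X.Opens, x ∈ W ∧ ∃ z : (W : Scheme.{u}) ⟶ Z, z ≫ 𝓘.subschemeι = W.ι ≫ v := by
      intro x
      obtain ⟨U, hU, hxU, -⟩ := exists_isAffineOpen_mem_and_subset (U := ⊤) (x := v.base x) trivial
      obtain ⟨W, hW, hxW, hWU⟩ := exists_isAffineOpen_mem_and_subset (U := v ⁻¹ᵁ U) (x := x) hxU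
      refine ⟨W, hxW, ?_⟩
      have hle : J ⟨U, hU⟩ ≤ RingHom.ker (v.appLE U W hWU).hom := (hJ ⟨U, hU⟩ _ _).mp fun D' _ t a ha => by
        refine h _ (Spec.map (CommRingCat.ofHom t) ≫ hW.fromSpec) a ?_
        rw [ha, CommRingCat.ofHom_hom, IsAffineOpen.SpecMap_appLE_fromSpec v hU hW hWU, Category.assoc]
      let q : (Γ(T, U) : Type u) ⧸ J ⟨U, hU⟩ →+* Γ(X, W) := Ideal.Quotient.lift _ (v.appLE U W hWU).hom hle
      refine ⟨hW.isoSpec.hom ≫ Spec.map (CommRingCat.ofHom q) ≫ 𝓘.subschemeCover.f ⟨U, hU⟩, ?_⟩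
      rw [Category.assoc, Category.assoc]
      refine (congrArg (fun t => hW.isoSpec.hom ≫ Spec.map (CommRingCat.ofHom q) ≫ t)
        (𝓘.subschemeCover_map_subschemeι ⟨U, hU⟩)).trans ?_
      change hW.isoSpec.hom ≫ Spec.map (CommRingCat.ofHom q) ≫
        (Spec.map (CommRingCat.ofHom (Ideal.Quotient.mk (J ⟨U, hU⟩))) ≫ hU.isoSpec.inv) ≫ U.ι = _
      rw [Category.assoc, IsAffineOpen.isoSpec_inv_ι, specMap_comp_assoc,
        show q.comp (Ideal.Quotient.mk (J ⟨U, hU⟩)) = (v.appLE U W hWU).hom from Ideal.Quotient.lift_comp_mk _ _ _,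
        CommRingCat.ofHom_hom, IsAffineOpen.SpecMap_appLE_fromSpec v hU hW hWU, ← Category.assoc,
        IsAffineOpen.isoSpec_hom_fromSpec]
    choose W hxW hz using key
    exact exists_lift_of_cover 𝓘.subschemeι v (X.openCoverOfIsOpenCover W (TopologicalSpace.IsOpenCover.mk
      (top_le_iff.mp fun x _ => TopologicalSpace.Opens.mem_iSup.mpr ⟨x, hxW x⟩))) hz

end Groth.Agent.H21Diag
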