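import Groth.Agent.H21Diag.Loci
import Groth.Agent.H21Diag.FreeAlg
import Groth.Agent.H21Diag.FiniteType
import Groth.Agent.H13Desc.Flat

/-!
Faithfully flat and isomorphism loci of homomorphisms between groups of multiplicative type.
-/

open CategoryTheory MonoidalCategory CartesianMonoidalCategory MonObj GrpObj AlgebraicGeometry
open CategoryTheory.Limits

universe u

namespace Groth.Agent.H21Diag

variable {S U : Scheme.{u}} {u₀ : U ⟶ S} {G H : Over S} [GrpObj G] [GrpObj H]
  {M M' : Type} [AddCommGroup M] [AddCommGroup M']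

/-- the base change of `G` to an affine scheme in a chart is the spectrum of the group algebra -/
theorem exists_chart_iso (e : Grp.mk (Red.bc u₀ G) ≅ Grp.mk (Red.DS U M)) [IsAffineHom G.hom]
    {R : Type u} [CommRing R] (y : Spec (CommRingCat.of R) ⟶ U) :
    ∃ θ : Spec (CommRingCat.of (MonoidAlgebra R (Multiplicative M))) ⟶ pullback G.hom (y ≫ u₀),
      IsIso θ ∧ θ ≫ pullback.fst _ _ = (gpt e (Spec.map (CommRingCat.ofHom (MonoidAlgebra.singleOneRingHom :
        R →+* MonoidAlgebra R (Multiplicative M))) ≫ y) (MonoidAlgebra.of R (Multiplicative M))).left ∧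
      θ ≫ pullback.snd _ _ = Spec.map (CommRingCat.ofHom (MonoidAlgebra.singleOneRingHom :
        R →+* MonoidAlgebra R (Multiplicative M))) := by
  let s₁ : R →+* MonoidAlgebra R (Multiplicative M) := MonoidAlgebra.singleOneRingHom
  let g := gpt e (Spec.map (CommRingCat.ofHom s₁) ≫ y) (MonoidAlgebra.of R (Multiplicative M))
  let θ : Spec (CommRingCat.of (MonoidAlgebra R (Multiplicative M))) ⟶ pullback G.hom (y ≫ u₀) :=
    pullback.lift g.left (Spec.map (CommRingCat.ofHom s₁)) (by rw [Over.w g]; exact Category.assoc _ _ _)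
  have hfst : θ ≫ pullback.fst _ _ = g.left := pullback.lift_fst _ _ _
  have hsnd : θ ≫ pullback.snd _ _ = Spec.map (CommRingCat.ofHom s₁) := pullback.lift_snd _ _ _
  refine ⟨θ, ?_, hfst, hsnd⟩
  have hgen : ∀ {D : Type u} [CommRing D] (s : R →+* D) (χ : Multiplicative M →* D),
      Spec.map (CommRingCat.ofHom (MonoidAlgebra.liftNCRingHom s χ fun _ _ => Commute.all _ _)) ≫ g.left =
        (gpt e (Spec.map (CommRingCat.ofHom s) ≫ y) χ).left := by
    intro D _ s χ
    let ev : MonoidAlgebra R (Multiplicative M) →+* D :=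
      MonoidAlgebra.liftNCRingHom s χ fun _ _ => Commute.all _ _
    have h1 : ev.comp s₁ = s := RingHom.ext fun b => by simp [ev, s₁]
    have h2 : ev.toMonoidHom.comp (MonoidAlgebra.of R (Multiplicative M)) = χ :=
      MonoidHom.ext fun m => by simp [ev]
    change Spec.map (CommRingCat.ofHom ev) ≫ _ = _
    rw [← gpt_comp, h2, specMap_comp_assoc, h1]
  let P := pullback G.hom (y ≫ u₀)
  have : IsAffine P := isAffine_of_isAffineHom (pullback.snd G.hom (y ≫ u₀))
  let w : Spec (CommRingCat.of Γ(P, ⊤)) ⟶ P := P.isoSpec.inv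
  obtain ⟨s, hs⟩ := Spec.map_surjective (w ≫ pullback.snd G.hom (y ≫ u₀))
  have hws : w ≫ pullback.snd G.hom (y ≫ u₀) = Spec.map (CommRingCat.ofHom s.hom) := by
    rw [CommRingCat.ofHom_hom, hs]
  let T : Over.mk ((Spec.map (CommRingCat.ofHom s.hom) ≫ y) ≫ u₀) ⟶ G :=
    Over.homMk (w ≫ pullback.fst G.hom (y ≫ u₀)) (by
      change (w ≫ pullback.fst G.hom (y ≫ u₀)) ≫ G.hom = (Spec.map (CommRingCat.ofHom s.hom) ≫ y) ≫ u₀
      rw [← hws, Category.assoc, pullback.condition, Category.assoc, Category.assoc])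
  obtain ⟨χ, hχ⟩ := gpt_surjective e _ T
  let ev : MonoidAlgebra R (Multiplicative M) →+* Γ(P, ⊤) :=
    MonoidAlgebra.liftNCRingHom s.hom χ fun _ _ => Commute.all _ _
  let r : P ⟶ Spec (CommRingCat.of (MonoidAlgebra R (Multiplicative M))) :=
    P.isoSpec.hom ≫ Spec.map (CommRingCat.ofHom ev)
  have hev : ev.comp s₁ = s.hom := RingHom.ext fun b => by simp [ev, s₁]
  have hwθ : Spec.map (CommRingCat.ofHom ev) ≫ θ = w := by
    refine pullback.hom_ext ?_ ?_
    · rw [Category.assoc, hfst, hgen, hχ]; rfl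
    · rw [Category.assoc, hsnd, ← specMap_comp, hev, hws]
  have hrθ : r ≫ θ = 𝟙 P := by
    rw [Category.assoc, hwθ]; exact P.isoSpec.hom_inv_id
  have hθr : θ ≫ r = 𝟙 _ := by
    obtain ⟨gm, hgm⟩ := Spec.map_surjective (θ ≫ r)
    have hgmθ : Spec.map gm ≫ θ = θ := by rw [hgm, Category.assoc, hrθ, Category.comp_id]
    have h1 : gm.hom.comp s₁ = s₁ := by
      have h := congrArg (· ≫ pullback.snd G.hom (y ≫ u₀)) hgmθ
      simp only [Category.assoc, hsnd] at h
      rw [← CommRingCat.ofHom_hom gm, ← specMap_comp] at h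
      exact congrArg CommRingCat.Hom.hom (Spec.map_injective h)
    have h2 : gm.hom.toMonoidHom.comp (MonoidAlgebra.of R (Multiplicative M)) = MonoidAlgebra.of R (Multiplicative M) := by
      refine gpt_injective e (Spec.map (CommRingCat.ofHom s₁) ≫ y) (Over.OverMorphism.ext ?_)
      have h := congrArg (· ≫ pullback.fst G.hom (y ≫ u₀)) hgmθ
      simp only [Category.assoc, hfst] at h
      rw [← CommRingCat.ofHom_hom gm, ← gpt_comp, specMap_comp_assoc, h1] at h
      exact h
    rw [← hgm, ← Spec.map_id]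
    refine congrArg Spec.map (CommRingCat.hom_ext (MonoidAlgebra.ringHom_ext (fun b => ?_) fun m => ?_))
    · exact RingHom.congr_fun h1 b
    · exact DFunLike.congr_fun h2 m
  exact ⟨r, hθr, hrθ⟩

/-- on an affine chart, the map of character groups gives the base change of the homomorphism -/
theorem chart_map_eq (e : Grp.mk (Red.bc u₀ G) ≅ Grp.mk (Red.DS U M))
    (e' : Grp.mk (Red.bc u₀ H) ≅ Grp.mk (Red.DS U M')) [IsAffineHom G.hom] [IsAffineHom H.hom] (f : G ⟶ H)
    {R : Type u} [CommRing R] (y : Spec (CommRingCat.of R) ⟶ U) (φ : Multiplicative M' →* Multiplicative M)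
    (hact : ActsBy e e' f y y φ) :
    ∃ (θ : Spec (CommRingCat.of (MonoidAlgebra R (Multiplicative M))) ⟶ pullback G.hom (y ≫ u₀))
      (θ' : Spec (CommRingCat.of (MonoidAlgebra R (Multiplicative M'))) ⟶ pullback H.hom (y ≫ u₀)),
      IsIso θ ∧ IsIso θ' ∧ θ ≫ ((Over.pullback (y ≫ u₀)).map f).left =
        Spec.map (CommRingCat.ofHom (MonoidAlgebra.mapDomainRingHom R φ)) ≫ θ' := by
  obtain ⟨θ, hθ, hθf, hθs⟩ := exists_chart_iso e y
  obtain ⟨θ', hθ', hθf', hθs'⟩ := exists_chart_iso e' y
  let ρ := MonoidAlgebra.mapDomainRingHom R φ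
  have hsq : θ ≫ ((Over.pullback (y ≫ u₀)).map f).left = Spec.map (CommRingCat.ofHom ρ) ≫ θ' := by
    refine pullback.hom_ext ?_ ?_
    · have h1 : ((Over.pullback (y ≫ u₀)).map f).left ≫ pullback.fst H.hom (y ≫ u₀) =
          pullback.fst G.hom (y ≫ u₀) ≫ f.left := pullback.lift_fst _ _ _
      rw [Category.assoc, Category.assoc, h1, hθf', ← Category.assoc, hθf, ← gpt_comp]
      have h2 := hact.2 _ (MonoidAlgebra.singleOneRingHom : R →+* MonoidAlgebra R (Multiplicative M))
        (MonoidAlgebra.of R (Multiplicative M))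
      refine h2.trans ?_
      rw [specMap_comp_assoc,
        show ρ.comp MonoidAlgebra.singleOneRingHom = MonoidAlgebra.singleOneRingHom from
          RingHom.ext fun b => by simp [ρ],
        show ρ.toMonoidHom.comp (MonoidAlgebra.of R (Multiplicative M')) = (MonoidAlgebra.of R (Multiplicative M)).comp φ from
          MonoidHom.ext fun m => by simp [ρ]]
    · have h1 : ((Over.pullback (y ≫ u₀)).map f).left ≫ pullback.snd H.hom (y ≫ u₀) =
          pullback.snd G.hom (y ≫ u₀) := pullback.lift_snd _ _ _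
      rw [Category.assoc, Category.assoc, h1, hθs', hθs, ← specMap_comp]
      exact congrArg (fun w => Spec.map (CommRingCat.ofHom w)) (RingHom.ext fun b => by simp [ρ])
  exact ⟨θ, θ', hθ, hθ', hsq⟩

theorem flat_surjective_chart (e : Grp.mk (Red.bc u₀ G) ≅ Grp.mk (Red.DS U M))
    (e' : Grp.mk (Red.bc u₀ H) ≅ Grp.mk (Red.DS U M')) [IsAffineHom G.hom] [IsAffineHom H.hom] (f : G ⟶ H)
    {R : Type u} [CommRing R] (y : Spec (CommRingCat.of R) ⟶ U) (φ : Multiplicative M' →* Multiplicative M)
    (hact : ActsBy e e' f y y φ) (hφ : Function.Injective φ) :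
    Flat ((Over.pullback (y ≫ u₀)).map f).left ∧ Surjective ((Over.pullback (y ≫ u₀)).map f).left := by
  obtain ⟨θ, θ', hθ, hθ', hsq⟩ := chart_map_eq e e' f y φ hact
  let ρ := MonoidAlgebra.mapDomainRingHom R φ
  have h : Flat (Spec.map (CommRingCat.ofHom ρ)) ∧ Surjective (Spec.map (CommRingCat.ofHom ρ)) := by
    rcases subsingleton_or_nontrivial R with hR | hR
    · have : IsEmpty ↥(Spec (CommRingCat.of (MonoidAlgebra R (Multiplicative M')))) := by
        have : Subsingleton (MonoidAlgebra R (Multiplicative M')) := inferInstance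
        exact inferInstanceAs (IsEmpty (PrimeSpectrum (MonoidAlgebra R (Multiplicative M'))))
      refine ⟨?_, ⟨fun x => isEmptyElim x⟩⟩
      refine Flat.SpecMap_iff.mpr ?_
      let := ρ.toAlgebra
      exact (inferInstance : Module.Flat (MonoidAlgebra R (Multiplicative M')) (MonoidAlgebra R (Multiplicative M)))
    · exact (flat_and_surjective_SpecMap_iff (CommRingCat.ofHom ρ)).mpr (faithfullyFlat_mapDomain R φ hφ)
  have heq : ((Over.pullback (y ≫ u₀)).map f).left = inv θ ≫ Spec.map (CommRingCat.ofHom ρ) ≫ θ' := by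
    rw [← hsq, IsIso.inv_hom_id_assoc]
  have := h.1
  have := h.2
  rw [heq]
  exact ⟨inferInstance, inferInstance⟩


/-- over a field, faithful flatness of the homomorphism forces the map of character groups to be injective -/
theorem injective_of_flat_surjective (e : Grp.mk (Red.bc u₀ G) ≅ Grp.mk (Red.DS U M))
    (e' : Grp.mk (Red.bc u₀ H) ≅ Grp.mk (Red.DS U M')) [IsAffineHom G.hom] [IsAffineHom H.hom] (f : G ⟶ H)
    {R : Type u} [CommRing R] [Nontrivial R] (y : Spec (CommRingCat.of R) ⟶ U) (φ : Multiplicative M' →* Multiplicative M)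
    (hact : ActsBy e e' f y y φ) (h1 : Flat ((Over.pullback (y ≫ u₀)).map f).left)
    (h2 : Surjective ((Over.pullback (y ≫ u₀)).map f).left) : Function.Injective φ := by
  obtain ⟨θ, θ', hθ, hθ', hsq⟩ := chart_map_eq e e' f y φ hact
  let ρ := MonoidAlgebra.mapDomainRingHom R φ
  have heq : Spec.map (CommRingCat.ofHom ρ) = θ ≫ ((Over.pullback (y ≫ u₀)).map f).left ≫ inv θ' := by
    rw [← Category.assoc, hsq, Category.assoc, IsIso.hom_inv_id, Category.comp_id]
  have hff : ρ.FaithfullyFlat := (flat_and_surjective_SpecMap_iff (CommRingCat.ofHom ρ)).mp (by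
    rw [heq]; exact ⟨inferInstance, inferInstance⟩)
  intro m n hmn
  have h3 : ρ (MonoidAlgebra.of R _ m) = ρ (MonoidAlgebra.of R _ n) := by
    simp [ρ, hmn]
  exact MonoidAlgebra.of_injective (hff.injective h3)

omit [GrpObj G] [GrpObj H] in
theorem isPullback_bc_map (f : G ⟶ H) {T : Scheme.{u}} (v : T ⟶ S) :
    IsPullback ((Over.pullback v).map f).left (pullback.fst G.hom v) (pullback.fst H.hom v) f.left := by
  refine IsPullback.of_right (h₁₂ := pullback.snd H.hom v) (v₁₃ := v) (h₂₂ := H.hom) ?_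
    (pullback.lift_fst _ _ _) (IsPullback.of_hasPullback H.hom v).flip
  have h : ((Over.pullback v).map f).left ≫ pullback.snd H.hom v = pullback.snd G.hom v := pullback.lift_snd _ _ _
  rw [h, Over.w f]
  exact (IsPullback.of_hasPullback G.hom v).flip

omit [GrpObj G] [GrpObj H] in
/-- faithful flatness descends along a flat surjective base change -/
theorem flat_surjective_descend (f : G ⟶ H) {T T' : Scheme.{u}} (v : T ⟶ S) (ε : T' ⟶ T)
    [Flat ε] [Surjective ε] (h1 : Flat ((Over.pullback (ε ≫ v)).map f).left)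
    (h2 : Surjective ((Over.pullback (ε ≫ v)).map f).left) :
    Flat ((Over.pullback v).map f).left ∧ Surjective ((Over.pullback v).map f).left := by
  let F := ((Over.pullback v).map f).left
  let F' := ((Over.pullback (ε ≫ v)).map f).left
  let a : pullback G.hom (ε ≫ v) ⟶ pullback G.hom v :=
    pullback.map G.hom (ε ≫ v) G.hom v (𝟙 _) ε (𝟙 _) (by simp) (by simp)
  let b : pullback H.hom (ε ≫ v) ⟶ pullback H.hom v :=
    pullback.map H.hom (ε ≫ v) H.hom v (𝟙 _) ε (𝟙 _) (by simp) (by simp)
  have hsq : a ≫ F = F' ≫ b := by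
    refine pullback.hom_ext ?_ ?_
    · have e1 : F ≫ pullback.fst H.hom v = pullback.fst G.hom v ≫ f.left := pullback.lift_fst _ _ _
      have e2 : F' ≫ pullback.fst H.hom (ε ≫ v) = pullback.fst G.hom (ε ≫ v) ≫ f.left := pullback.lift_fst _ _ _
      simp only [a, b, Category.assoc, e1, pullback.lift_fst, pullback.lift_fst_assoc, Category.comp_id, e2]
    · have e1 : F ≫ pullback.snd H.hom v = pullback.snd G.hom v := pullback.lift_snd _ _ _
      have e2 : F' ≫ pullback.snd H.hom (ε ≫ v) = pullback.snd G.hom (ε ≫ v) := pullback.lift_snd _ _ _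
      simp only [a, b, Category.assoc, e1, pullback.lift_snd, reassoc_of% e2]
  have hproj : ∀ (Z : Over S), Flat (pullback.map Z.hom (ε ≫ v) Z.hom v (𝟙 _) ε (𝟙 _) (by simp) (by simp)) ∧
      Surjective (pullback.map Z.hom (ε ≫ v) Z.hom v (𝟙 _) ε (𝟙 _) (by simp) (by simp)) := by
    intro Z
    have hpb : IsPullback (pullback.map Z.hom (ε ≫ v) Z.hom v (𝟙 _) ε (𝟙 _) (by simp) (by simp))
        (pullback.snd Z.hom (ε ≫ v)) (pullback.snd Z.hom v) ε := by
      refine IsPullback.of_right (h₁₂ := pullback.fst Z.hom v) (v₁₃ := Z.hom) (h₂₂ := v) ?_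
        (pullback.lift_snd _ _ _) (IsPullback.of_hasPullback Z.hom v)
      rw [pullback.lift_fst, Category.comp_id]
      exact IsPullback.of_hasPullback Z.hom (ε ≫ v)
    exact ⟨MorphismProperty.of_isPullback (P := @Flat) hpb.flip inferInstance,
      MorphismProperty.of_isPullback (P := @Surjective) hpb.flip inferInstance⟩
  have : Flat a := (hproj G).1
  have : Surjective a := (hproj G).2
  have : Flat b := (hproj H).1
  have : Surjective b := (hproj H).2
  have hfl : Flat (a ≫ F) := by rw [hsq]; infer_instance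
  have hsj : Surjective (a ≫ F) := by rw [hsq]; infer_instance
  have : Flat (𝟙 _ ≫ a) := by rw [Category.id_comp]; infer_instance
  have : Surjective (𝟙 _ ≫ a) := by rw [Category.id_comp]; infer_instance
  exact ⟨H13Desc.flat_of_refinement a F (𝟙 _), Surjective.of_comp a F⟩

omit [GrpObj G] [GrpObj H] in
/-- faithful flatness is stable under base change -/
theorem flat_surjective_comp (f : G ⟶ H) {T T' : Scheme.{u}} (v : T ⟶ S) (ε : T' ⟶ T)
    (h1 : Flat ((Over.pullback v).map f).left) (h2 : Surjective ((Over.pullback v).map f).left) :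
    Flat ((Over.pullback (ε ≫ v)).map f).left ∧ Surjective ((Over.pullback (ε ≫ v)).map f).left := by
  let b : pullback H.hom (ε ≫ v) ⟶ pullback H.hom v :=
    pullback.map H.hom (ε ≫ v) H.hom v (𝟙 _) ε (𝟙 _) (by simp) (by simp)
  let a : pullback G.hom (ε ≫ v) ⟶ pullback G.hom v :=
    pullback.map G.hom (ε ≫ v) G.hom v (𝟙 _) ε (𝟙 _) (by simp) (by simp)
  have hpb : IsPullback ((Over.pullback (ε ≫ v)).map f).left a b ((Over.pullback v).map f).left := by
    refine IsPullback.of_bot (v₂₁ := pullback.fst G.hom v) (v₂₂ := pullback.fst H.hom v) (h₃₁ := f.left) ?_ ?_ (isPullback_bc_map f v)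
    · simp only [a, b, pullback.lift_fst, Category.comp_id]
      exact isPullback_bc_map f (ε ≫ v)
    · refine pullback.hom_ext ?_ ?_
      · have e1 : ((Over.pullback v).map f).left ≫ pullback.fst H.hom v = pullback.fst G.hom v ≫ f.left := pullback.lift_fst _ _ _
        have e2 : ((Over.pullback (ε ≫ v)).map f).left ≫ pullback.fst H.hom (ε ≫ v) = pullback.fst G.hom (ε ≫ v) ≫ f.left := pullback.lift_fst _ _ _
        simp only [a, b, Category.assoc, e1, pullback.lift_fst, pullback.lift_fst_assoc, Category.comp_id, e2]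
      · have e1 : ((Over.pullback v).map f).left ≫ pullback.snd H.hom v = pullback.snd G.hom v := pullback.lift_snd _ _ _
        have e2 : ((Over.pullback (ε ≫ v)).map f).left ≫ pullback.snd H.hom (ε ≫ v) = pullback.snd G.hom (ε ≫ v) := pullback.lift_snd _ _ _
        simp only [a, b, Category.assoc, e1, pullback.lift_snd, reassoc_of% e2]
  exact ⟨MorphismProperty.of_isPullback (P := @Flat) hpb.flip h1,
    MorphismProperty.of_isPullback (P := @Surjective) hpb.flip h2⟩

variable (f : G ⟶ H) [IsMonHom f]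

/-- on a chart with everywhere faithfully flat fibres the homomorphism is locally faithfully flat -/
theorem exists_flat_nhd [AddGroup.FG M'] [IsAffineHom G.hom] [IsAffineHom H.hom]
    (e : Grp.mk (Red.bc u₀ G) ≅ Grp.mk (Red.DS U M)) (e' : Grp.mk (Red.bc u₀ H) ≅ Grp.mk (Red.DS U M'))
    (x : U) (hx : Flat ((Over.pullback (U.fromSpecResidueField x ≫ u₀)).map f).left ∧
      Surjective ((Over.pullback (U.fromSpecResidueField x ≫ u₀)).map f).left) :
    ∃ (R : Type u) (_ : CommRing R) (w : Spec (CommRingCat.of R) ⟶ U), IsOpenImmersion w ∧ x ∈ Set.range w.base ∧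
      Flat ((Over.pullback (w ≫ u₀)).map f).left ∧ Surjective ((Over.pullback (w ≫ u₀)).map f).left := by
  obtain ⟨A, hA, hxA, -⟩ := exists_isAffineOpen_mem_and_subset (U := ⊤) (x := x) (Set.mem_univ _)
  obtain ⟨p, hp⟩ : x ∈ Set.range hA.fromSpec.base := by rw [hA.range_fromSpec]; exact hxA
  obtain ⟨r, hr, φ, hφ⟩ := exists_local_char e e' f hA.fromSpec hA.fromSpec rfl p.asIdeal p.isPrime
  let g₀ := algebraMap Γ(U, A) (Localization.Away r)
  let w := Spec.map (CommRingCat.ofHom g₀) ≫ hA.fromSpec
  have hact : ActsBy e e' f w w φ := by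
    refine ⟨rfl, fun D _ g χ => ?_⟩
    rw [specMap_comp_assoc]
    exact hφ D (g.comp g₀) ((IsLocalization.Away.algebraMap_isUnit r).map g) χ
  have : IsOpenImmersion (Spec.map (CommRingCat.ofHom g₀)) := IsOpenImmersion.of_isLocalization r
  have hw : IsOpenImmersion w := inferInstance
  obtain ⟨q, hq⟩ : p ∈ Set.range (Spec.map (CommRingCat.ofHom g₀)).base := by
    change p ∈ Set.range (PrimeSpectrum.comap g₀)
    rw [PrimeSpectrum.localization_away_comap_range (Localization.Away r) r]
    exact hr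
  have hxw : x ∈ Set.range w.base := ⟨q, by
    rw [← hp, ← hq]; rfl⟩
  refine ⟨_, inferInstance, w, hw, hxw, flat_surjective_chart e e' f w φ hact ?_⟩
  obtain ⟨l, hl⟩ : ∃ l : Spec (U.residueField x) ⟶ Spec (CommRingCat.of (Localization.Away r)),
      l ≫ w = U.fromSpecResidueField x :=
    ⟨IsOpenImmersion.lift w (U.fromSpecResidueField x) (by
      rw [Scheme.range_fromSpecResidueField]; rintro _ rfl; exact hxw), IsOpenImmersion.lift_fac _ _ _⟩
  obtain ⟨ψ, rfl⟩ := Spec.map_surjective l
  have h2 := hact.comp ψ.hom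
  rw [CommRingCat.ofHom_hom] at h2
  rw [← hl] at hx
  exact injective_of_flat_surjective e e' f (R := U.residueField x) _ φ h2 hx.1 hx.2

/-- the locus of faithful flatness of fibres is open and closed -/
theorem exists_flat_surjective_locus (hG : SGA3x.IsMultTypeFT G) (hH : SGA3x.IsMultTypeFT H) :
    ∃ U : S.Opens, IsClosed (U : Set S) ∧
      (∀ s : S, s ∈ U ↔ (Flat ((Over.pullback (S.fromSpecResidueField s)).map f).left ∧
        Surjective ((Over.pullback (S.fromSpecResidueField s)).map f).left)) ∧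
      (Flat ((Over.pullback U.ι).map f).left ∧ Surjective ((Over.pullback U.ι).map f).left) := by
  have := isAffineHom_of_multTypeFT hG
  have := isAffineHom_of_multTypeFT hH
  have hdesc : ∀ {k : Type u} [Field k] (z : Spec (CommRingCat.of k) ⟶ S),
      (Flat ((Over.pullback (S.fromSpecResidueField (z.base (IsLocalRing.closedPoint k)))).map f).left ∧
        Surjective ((Over.pullback (S.fromSpecResidueField (z.base (IsLocalRing.closedPoint k)))).map f).left) ↔
      (Flat ((Over.pullback z).map f).left ∧ Surjective ((Over.pullback z).map f).left) := by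
    intro k _ z
    set s := z.base (IsLocalRing.closedPoint k)
    let d : Spec (CommRingCat.of k) ⟶ Spec (S.residueField s) :=
      Spec.map (Scheme.descResidueField (Scheme.stalkClosedPointTo z))
    have hd : d ≫ S.fromSpecResidueField s = z :=
      Scheme.descResidueField_stalkClosedPointTo_fromSpecResidueField k S z
    have : Flat d := by
      refine Flat.SpecMap_iff.mpr ?_
      let := (Scheme.descResidueField (Scheme.stalkClosedPointTo z)).hom.toAlgebra
      exact (inferInstance : Module.Flat (S.residueField s) k)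
    have : Surjective d := ⟨fun x => ⟨IsLocalRing.closedPoint k, Subsingleton.elim _ _⟩⟩
    constructor
    · rintro ⟨h1, h2⟩
      have h3 := flat_surjective_comp f _ d h1 h2
      rwa [hd] at h3
    · rintro ⟨h1, h2⟩
      rw [← hd] at h1 h2
      exact flat_surjective_descend f _ d h1 h2
  have hcl := isClopen_of_charMap f hG hH
    (fun s => Flat ((Over.pullback (S.fromSpecResidueField s)).map f).left ∧
      Surjective ((Over.pullback (S.fromSpecResidueField s)).map f).left)
    (fun M M' _ _ φ => Function.Injective φ) (fun U u₀ M M' _ _ _ _ e e' k _ y φ h => by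
      rw [hdesc (y ≫ u₀)]
      exact ⟨fun h' => injective_of_flat_surjective e e' f y φ h h'.1 h'.2,
        flat_surjective_chart e e' f y φ h⟩)
  let V : S.Opens := ⟨_, hcl.2⟩
  refine ⟨V, hcl.1, fun s => Iff.rfl, ?_⟩
  obtain ⟨T, g, hg, hs, -, hloc⟩ := exists_common_cover hG hH
  let T' : T.Opens := g ⁻¹ᵁ V
  let g' : (T' : Scheme.{u}) ⟶ (V : Scheme.{u}) := g ∣_ V
  have : Flat g' := by change Flat (g ∣_ V); infer_instance
  have : Surjective g' := IsZariskiLocalAtTarget.restrict (P := @Surjective) hs V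
  have hg' : g' ≫ V.ι = T'.ι ≫ g := morphismRestrict_ι g V
  suffices h : Flat ((Over.pullback (T'.ι ≫ g)).map f).left ∧ Surjective ((Over.pullback (T'.ι ≫ g)).map f).left by
    rw [← hg'] at h
    exact flat_surjective_descend f V.ι g' h.1 h.2
  set v := T'.ι ≫ g
  set F := ((Over.pullback v).map f).left
  have key : ∀ t : (T' : Scheme.{u}), ∃ (R : Type u) (_ : CommRing R) (c : Spec (CommRingCat.of R) ⟶ (T' : Scheme.{u})),
      IsOpenImmersion c ∧ t ∈ Set.range c.base ∧ Flat ((Over.pullback (c ≫ v)).map f).left ∧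
        Surjective ((Over.pullback (c ≫ v)).map f).left := by
    intro t
    obtain ⟨U₁, htU, ⟨M, _, hM, ⟨e⟩⟩, M', _, hM', ⟨e'⟩⟩ := hloc (T'.ι.base t)
    let W : (T' : Scheme.{u}).Opens := T'.ι ⁻¹ᵁ U₁
    let ε := T'.ι.resLE U₁ W le_rfl
    have hε : ε ≫ U₁.ι ≫ g = W.ι ≫ v := by
      rw [← Category.assoc, Scheme.Hom.resLE_comp_ι]; exact Category.assoc _ _ _
    let x : (W : Scheme.{u}) := ⟨t, htU⟩
    obtain ⟨R, _, w, hw, hxw, h⟩ := exists_flat_nhd f (restrictChart e ε hε) (restrictChart e' ε hε) x (by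
      let z : Spec (CommRingCat.of (W.toScheme.residueField x)) ⟶ S := W.toScheme.fromSpecResidueField x ≫ W.ι ≫ v
      have hz : z.base (IsLocalRing.closedPoint _) = g.base (T'.ι.base t) :=
        congrArg (fun q => g.base (T'.ι.base (W.ι.base q))) (Scheme.fromSpecResidueField_apply x _)
      have hmem : z.base (IsLocalRing.closedPoint _) ∈ V := by rw [hz]; exact Subtype.property t
      exact (hdesc z).mp hmem)
    refine ⟨R, inferInstance, w ≫ W.ι, inferInstance, ?_, ?_⟩
    · obtain ⟨q, hq⟩ := hxw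
      exact ⟨q, congrArg W.ι.base hq⟩
    · rwa [Category.assoc]
  choose R hR c hc htc hflat hsurj using key
  let π : ∀ (Z : Over S) (t : (T' : Scheme.{u})), pullback Z.hom (c t ≫ v) ⟶ pullback Z.hom v := fun Z t =>
    pullback.map Z.hom (c t ≫ v) Z.hom v (𝟙 _) (c t) (𝟙 _) (by simp) (by simp)
  have hπ : ∀ (Z : Over S) t, IsPullback (π Z t) (pullback.snd Z.hom (c t ≫ v)) (pullback.snd Z.hom v) (c t) := by
    intro Z t
    refine IsPullback.of_right (h₁₂ := pullback.fst Z.hom v) (v₁₃ := Z.hom) (h₂₂ := v) ?_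
      (pullback.lift_snd _ _ _) (IsPullback.of_hasPullback Z.hom v)
    rw [pullback.lift_fst, Category.comp_id]
    exact IsPullback.of_hasPullback Z.hom (c t ≫ v)
  have hπo : ∀ (Z : Over S) t, IsOpenImmersion (π Z t) := fun Z t =>
    MorphismProperty.of_isPullback (P := @IsOpenImmersion) (hπ Z t).flip (hc t)
  have hπr : ∀ (Z : Over S) (q : ↥(pullback Z.hom v)),
      q ∈ Set.range (π Z ((pullback.snd Z.hom v).base q)).base := by
    intro Z q
    obtain ⟨r, hr⟩ := htc ((pullback.snd Z.hom v).base q)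
    obtain ⟨z, hz, -⟩ := Scheme.Pullback.exists_preimage_pullback (f := pullback.snd Z.hom v)
      (g := c ((pullback.snd Z.hom v).base q)) q r hr.symm
    refine ⟨((hπ Z _).isoPullback.inv).base z, ?_⟩
    exact (congrArg (fun k => k.base z) (hπ Z _).isoPullback_inv_fst).trans hz
  have hsq : ∀ t, π G t ≫ F = ((Over.pullback (c t ≫ v)).map f).left ≫ π H t := by
    intro t
    refine pullback.hom_ext ?_ ?_
    · have e1 : F ≫ pullback.fst H.hom v = pullback.fst G.hom v ≫ f.left := pullback.lift_fst _ _ _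
      have e2 : ((Over.pullback (c t ≫ v)).map f).left ≫ pullback.fst H.hom (c t ≫ v) =
        pullback.fst G.hom (c t ≫ v) ≫ f.left := pullback.lift_fst _ _ _
      simp only [π, Category.assoc, e1, pullback.lift_fst, pullback.lift_fst_assoc, Category.comp_id, e2]
    · have e1 : F ≫ pullback.snd H.hom v = pullback.snd G.hom v := pullback.lift_snd _ _ _
      have e2 : ((Over.pullback (c t ≫ v)).map f).left ≫ pullback.snd H.hom (c t ≫ v) =
        pullback.snd G.hom (c t ≫ v) := pullback.lift_snd _ _ _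
      simp only [π, Category.assoc, e1, pullback.lift_snd, reassoc_of% e2]
  refine ⟨?_, ?_⟩
  · let 𝒰 : (pullback G.hom v).OpenCover :=
      Scheme.Cover.mkOfCovers _ _ (fun t : (T' : Scheme.{u}) => π G t)
        (fun q => ⟨(pullback.snd G.hom v).base q, hπr G q⟩) (fun t => hπo G t)
    refine IsZariskiLocalAtSource.of_openCover (P := @Flat) 𝒰 fun t => ?_
    have : Flat ((Over.pullback (c t ≫ v)).map f).left := hflat t
    have := hπo H t
    change Flat (π G t ≫ F)
    rw [hsq]
    infer_instance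
  · refine ⟨fun q => ?_⟩
    obtain ⟨r, hr⟩ := hπr H q
    obtain ⟨p, hp⟩ := (hsurj ((pullback.snd H.hom v).base q)).surj r
    refine ⟨(π G _).base p, ?_⟩
    exact ((congrArg (fun z => z.base p) (hsq ((pullback.snd H.hom v).base q))).trans
      (congrArg (π H _).base hp)).trans hr

end Groth.Agent.H21Diag
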