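import Groth.Agent.H21Diag.Locus
import Groth.Agent.H21Diag.BaseChange

/-!
Auxiliary facts: commutativity of groups of multiplicative type, homomorphisms by points,
triviality at a point seen over a field extension.
-/

open CategoryTheory MonoidalCategory CartesianMonoidalCategory MonObj GrpObj AlgebraicGeometry
open CategoryTheory.Limits

universe u

namespace Groth.Agent.H21Diag

variable {S : Scheme.{u}}

theorem isMonHom_of_mul {C : Type*} [Category C] [CartesianMonoidalCategory C] {G X : C} [GrpObj G] [GrpObj X]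
    (φ : G ⟶ X) (hmul : ∀ {T : C} (a b : T ⟶ G), (a * b) ≫ φ = (a ≫ φ) * (b ≫ φ)) : IsMonHom φ := by
  have hmu : μ[G] = fst _ _ * snd _ _ := MonObj.mul_eq_mul _
  refine ⟨?_, ?_⟩
  · have h := hmul (1 : 𝟙_ C ⟶ G) 1
    rw [_root_.mul_one] at h
    have h1 : (1 : 𝟙_ C ⟶ G) ≫ φ = 1 := mul_eq_left.mp h.symm
    simpa [Hom.one_def, toUnit_unit] using h1
  · rw [hmu, hmul, MonObj.mul_eq_mul, MonObj.comp_mul, tensorHom_fst, tensorHom_snd]

/-- groups of multiplicative type are commutative -/
theorem mult_comm {G : Over S} [GrpObj G] (hG : SGA3x.IsMultTypeFT G) {Y : Over S} (a b : Y ⟶ G) :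
    a * b = b * a := by
  obtain ⟨S', f, hf, hs, -, hloc⟩ := hG
  refine Over.OverMorphism.ext ?_
  have : Epi (pullback.fst Y.hom f) := Flat.epi_of_flat_of_surjective _
  rw [← cancel_epi (pullback.fst Y.hom f)]
  set π := pullback.fst Y.hom f
  set τ := pullback.snd Y.hom f
  have key : ∀ z : ↥(pullback Y.hom f), ∃ (W : (pullback Y.hom f).Opens), z ∈ W ∧
      W.ι ≫ π ≫ (a * b).left = W.ι ≫ π ≫ (b * a).left := by
    intro z
    obtain ⟨U', hzU, M', _, -, ⟨e'⟩⟩ := hloc (τ.base z)
    obtain ⟨W, hW, hzW, hWsub⟩ := exists_isAffineOpen_mem_and_subset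
      (U := τ ⁻¹ᵁ U') (x := z) hzU
    refine ⟨W, hzW, ?_⟩
    rw [← cancel_epi hW.isoSpec.inv, IsAffineOpen.isoSpec_inv_ι_assoc, IsAffineOpen.isoSpec_inv_ι_assoc]
    let B := Γ(pullback Y.hom f, W)
    let w : Spec (CommRingCat.of B) ⟶ pullback Y.hom f := hW.fromSpec
    change w ≫ π ≫ _ = w ≫ π ≫ _
    have hrU : Set.range (w ≫ τ).base ⊆ Set.range U'.ι.base := by
      rintro _ ⟨p, rfl⟩
      rw [Scheme.Opens.range_ι]
      exact hWsub (hW.range_fromSpec.subset ⟨p, rfl⟩)
    let y : Spec (CommRingCat.of B) ⟶ (U' : Scheme.{u}) := IsOpenImmersion.lift U'.ι (w ≫ τ) hrU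
    have hy : w ≫ π ≫ Y.hom = y ≫ U'.ι ≫ f := by
      rw [← Category.assoc y, IsOpenImmersion.lift_fac, Category.assoc, pullback.condition]
    let T : Over.mk (y ≫ U'.ι ≫ f) ⟶ Y := Over.homMk (w ≫ π) (by
      rw [← hy]; exact Category.assoc _ _ _)
    obtain ⟨χ, hχ⟩ := gpt_surjective e' y (T ≫ a)
    obtain ⟨χ', hχ'⟩ := gpt_surjective e' y (T ≫ b)
    have h : T ≫ (a * b) = T ≫ (b * a) := by
      rw [MonObj.comp_mul, MonObj.comp_mul, ← hχ, ← hχ']
      exact ((gpt_mul e' y χ χ').symm.trans (congrArg (gpt e' y) (_root_.mul_comm χ χ'))).trans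
        (gpt_mul e' y χ' χ)
    rw [← Category.assoc, ← Category.assoc]
    exact congrArg (fun m => m.left) h
  choose W hW h' using key
  refine Scheme.Cover.hom_ext ((pullback Y.hom f).openCoverOfIsOpenCover W
    (eq_top_iff.mpr fun z _ => TopologicalSpace.Opens.mem_iSup.mpr ⟨z, hW z⟩)) _ _ fun z => ?_
  exact h' z

/-- triviality at a point can be tested over a field extension -/
theorem trivAt_of_field {G X : Over S} [GrpObj G] [GrpObj X] (φ : G ⟶ X) {B : Type u} [Field B]
    (z : Spec (CommRingCat.of B) ⟶ S)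
    (h : ∀ (Y : Scheme.{u}) (p : Y ⟶ Spec (CommRingCat.of B)) (g : Over.mk (p ≫ z) ⟶ G), g ≫ φ = 1) :
    TrivAt φ (z.base (IsLocalRing.closedPoint B)) := by
  set s := z.base (IsLocalRing.closedPoint B)
  let d : Spec (CommRingCat.of B) ⟶ Spec (S.residueField s) :=
    Spec.map (Scheme.descResidueField (Scheme.stalkClosedPointTo z))
  have hd : d ≫ S.fromSpecResidueField s = z :=
    Scheme.descResidueField_stalkClosedPointTo_fromSpecResidueField B S z
  have : Flat d := by
    refine Flat.SpecMap_iff.mpr ?_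
    let := (Scheme.descResidueField (Scheme.stalkClosedPointTo z)).hom.toAlgebra
    exact (inferInstance : Module.Flat (S.residueField s) B)
  have : Surjective d := ⟨fun x => ⟨IsLocalRing.closedPoint B, Subsingleton.elim _ _⟩⟩
  refine trivAt_of_forall φ fun T g => ?_
  let π := pullback.fst T.hom d
  have : Epi π := Flat.epi_of_flat_of_surjective _
  let t : Over.mk (pullback.snd T.hom d ≫ z) ⟶ (Over.map (S.fromSpecResidueField s)).obj T :=
    Over.homMk π (by
      change π ≫ T.hom ≫ S.fromSpecResidueField s = pullback.snd T.hom d ≫ z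
      rw [← Category.assoc, show π ≫ T.hom = pullback.snd T.hom d ≫ d from pullback.condition,
        Category.assoc, hd])
  have h1 := h _ (pullback.snd T.hom d) (t ≫ g)
  have h2 : t ≫ g ≫ φ = t ≫ 1 := (Category.assoc t g φ).symm.trans (h1.trans (MonObj.comp_one t).symm)
  refine Over.OverMorphism.ext ((cancel_epi π).mp ?_)
  exact congrArg (fun m => m.left) h2

end Groth.Agent.H21Diag
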