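import Groth.Agent.H21Diag.Chart
import Groth.Agent.H21Diag.Diag

/-!
A homomorphism out of a group of multiplicative type whose fibres are monomorphisms has trivial kernel.
-/

open CategoryTheory MonoidalCategory CartesianMonoidalCategory MonObj GrpObj AlgebraicGeometry
open CategoryTheory.Limits

universe u

namespace Groth.Agent.H21Diag

variable {S U : Scheme.{u}} {u₀ : U ⟶ S} {G X : Over S} [GrpObj G] [GrpObj X] {M : Type} [AddCommGroup M]

/-- morphisms agree if they agree on charts -/
theorem ext_on_charts {S' : Scheme.{u}} (f : S' ⟶ S) [Flat f] [Surjective f] {P : S'.Opens → Prop}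
    (hP : ∀ s' : S', ∃ U, s' ∈ U ∧ P U) {Y Z : Over S} (a b : Y ⟶ Z)
    (h : ∀ (U : S'.Opens), P U → ∀ (B : Type u) (_ : CommRing B) (y : Spec (CommRingCat.of B) ⟶ (U : Scheme.{u}))
      (T : Over.mk (y ≫ U.ι ≫ f) ⟶ Y), T ≫ a = T ≫ b) : a = b := by
  refine Over.OverMorphism.ext ?_
  have : Epi (pullback.fst Y.hom f) := Flat.epi_of_flat_of_surjective _
  rw [← cancel_epi (pullback.fst Y.hom f)]
  set π := pullback.fst Y.hom f
  set τ := pullback.snd Y.hom f
  have key : ∀ z : ↥(pullback Y.hom f), ∃ (W : (pullback Y.hom f).Opens), z ∈ W ∧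
      W.ι ≫ π ≫ a.left = W.ι ≫ π ≫ b.left := by
    intro z
    obtain ⟨U', hzU, hU'⟩ := hP (τ.base z)
    obtain ⟨W, hW, hzW, hWsub⟩ := exists_isAffineOpen_mem_and_subset
      (U := τ ⁻¹ᵁ U') (x := z) hzU
    refine ⟨W, hzW, ?_⟩
    rw [← cancel_epi hW.isoSpec.inv, IsAffineOpen.isoSpec_inv_ι_assoc, IsAffineOpen.isoSpec_inv_ι_assoc]
    let B := Γ(pullback Y.hom f, W)
    let w : Spec (CommRingCat.of B) ⟶ pullback Y.hom f := hW.fromSpec
    change w ≫ π ≫ _ = w ≫ π ≫ _
    have hrU : Set.range (w ≫ τ).base ⊆ Set.range U'.ι.base := by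
      rintro _ ⟨p, rfl⟩
      rw [Scheme.Opens.range_ι]
      exact hWsub (hW.range_fromSpec.subset ⟨p, rfl⟩)
    let y : Spec (CommRingCat.of B) ⟶ (U' : Scheme.{u}) := IsOpenImmersion.lift U'.ι (w ≫ τ) hrU
    have hy : w ≫ π ≫ Y.hom = y ≫ U'.ι ≫ f := by
      rw [← Category.assoc y, IsOpenImmersion.lift_fac, Category.assoc, pullback.condition]
    let T : Over.mk (y ≫ U'.ι ≫ f) ⟶ Y := Over.homMk (w ≫ π) (by
      rw [← hy]; exact Category.assoc _ _ _)
    rw [← Category.assoc, ← Category.assoc]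
    exact congrArg (fun m => m.left) (h U' hU' B inferInstance y T)
  choose W hW h' using key
  refine Scheme.Cover.hom_ext ((pullback Y.hom f).openCoverOfIsOpenCover W
    (eq_top_iff.mpr fun z _ => TopologicalSpace.Opens.mem_iSup.mpr ⟨z, hW z⟩)) _ _ fun z => ?_
  exact h' z

theorem gpt_injective (e : Grp.mk (Red.bc u₀ G) ≅ Grp.mk (Red.DS U M)) {B : Type u} [CommRing B]
    (y : Spec (CommRingCat.of B) ⟶ U) {χ χ' : Multiplicative M →* B} (h : gpt e y χ = gpt e y χ') :
    χ = χ' := by
  have h1 : dpt y χ ≫ e.inv.hom.hom = dpt y χ' ≫ e.inv.hom.hom :=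
    (bcEquiv u₀ G (Over.mk y)).symm.injective h
  have he : e.inv.hom.hom ≫ e.hom.hom.hom = 𝟙 _ := congrArg (fun f => f.hom.hom) e.inv_hom_id
  have h2 : dpt y χ = dpt y χ' := by
    have h3 := congrArg (· ≫ e.hom.hom.hom) h1
    simp only [Category.assoc, he, Category.comp_id] at h3
    exact h3
  have h4 := congrArg (fun m : Over.mk y ⟶ Red.DS U M => m.left ≫ pullback.fst _ _) h2
  simp only [dpt_fst] at h4
  refine MonoidHom.ext fun m => ?_
  have h5 : charRingHom χ = charRingHom χ' := congrArg CommRingCat.Hom.hom (Spec.map_injective h4)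
  simpa using RingHom.congr_fun h5 (MonoidAlgebra.single m 1)

/-- an element vanishing in every algebra that factors through a field lies in the extension of each prime, up to denominators -/
theorem exists_mul_mem_map {B C : Type u} [CommRing B] [CommRing C] (ι₀ : B →+* C) (t : C)
    (h : ∀ (Q : Type u) [CommRing Q] (K : Type u) [Field K] (ψ : B →+* K) (φ : K →+* Q) (g : C →+* Q),
      g.comp ι₀ = φ.comp ψ → g t = 0)
    (p : Ideal B) [p.IsPrime] : ∃ s : B, s ∉ p ∧ ι₀ s * t ∈ p.map ι₀ := by
  let W : Submonoid C := p.primeCompl.map ι₀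
  let P : Ideal (Localization W) := (p.map ι₀).map (algebraMap C (Localization W))
  let qh : C →+* Localization W ⧸ P := (Ideal.Quotient.mk P).comp (algebraMap C (Localization W))
  let r : B ⧸ p →+* Localization W ⧸ P := Ideal.Quotient.lift p (qh.comp ι₀) fun b hb =>
    Ideal.Quotient.eq_zero_iff_mem.mpr (Ideal.mem_map_of_mem _ (Ideal.mem_map_of_mem _ hb))
  have hr : ∀ x : nonZeroDivisors (B ⧸ p), IsUnit (r x) := by
    rintro ⟨x, hx⟩
    obtain ⟨b, rfl⟩ := Ideal.Quotient.mk_surjective x
    have hb : b ∉ p := fun hb => nonZeroDivisors.ne_zero hx (Ideal.Quotient.eq_zero_iff_mem.mpr hb)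
    exact (IsLocalization.map_units (Localization W) (⟨ι₀ b, b, hb, rfl⟩ : W)).map (Ideal.Quotient.mk P)
  have h0 : qh t = 0 := h _ (FractionRing (B ⧸ p))
    ((algebraMap (B ⧸ p) (FractionRing (B ⧸ p))).comp (Ideal.Quotient.mk p))
    (IsLocalization.lift (M := nonZeroDivisors (B ⧸ p)) (S := FractionRing (B ⧸ p))
      (P := Localization W ⧸ P) (g := r) hr) qh
    (RingHom.ext fun b => (IsLocalization.lift_eq (M := nonZeroDivisors (B ⧸ p))
      (S := FractionRing (B ⧸ p)) (P := Localization W ⧸ P) (g := r) hr (Ideal.Quotient.mk p b)).symm)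
  obtain ⟨⟨⟨x, hx⟩, ⟨_, b, hb, rfl⟩⟩, hxb⟩ :=
    (IsLocalization.mem_map_algebraMap_iff W (Localization W)).mp (Ideal.Quotient.eq_zero_iff_mem.mp h0)
  rw [← map_mul, IsLocalization.eq_iff_exists W (Localization W)] at hxb
  obtain ⟨⟨_, b', hb', rfl⟩, hbb⟩ := hxb
  refine ⟨b' * b, (mul_mem hb' hb : b' * b ∈ p.primeCompl), ?_⟩
  rw [map_mul, _root_.mul_assoc, _root_.mul_comm (ι₀ b) t, hbb]
  exact Ideal.mul_mem_left _ _ hx

open MonoidAlgebra in
/-- the augmentation ideal is finitely generated -/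
theorem exists_aug_fg [AddGroup.FG M] (B : Type u) [CommRing B] :
    ∃ I : Ideal (MonoidAlgebra B (Multiplicative M)), I.FG ∧
      (∀ {D : Type u} [CommRing D] (g : MonoidAlgebra B (Multiplicative M) →+* D),
        (∀ m, g (of B _ m) = 1) → I ≤ RingHom.ker g) ∧
      ∀ w, w - single 1 (liftNCRingHom (RingHom.id B) (1 : Multiplicative M →* B)
        (fun _ _ => Commute.all _ _) w) ∈ I := by
  classical
  obtain ⟨F, hF⟩ := (Monoid.fg_def.mp
    (have : AddMonoid.FG M := AddGroup.fg_iff_addMonoid_fg.mp inferInstance; inferInstance) :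
      (⊤ : Submonoid (Multiplicative M)).FG)
  let I : Ideal (MonoidAlgebra B (Multiplicative M)) :=
    Ideal.span (F.image fun m => of B (Multiplicative M) m - 1 : Finset _)
  refine ⟨I, ⟨_, rfl⟩, fun {D} _ g hg => Ideal.span_le.mpr fun x hx => ?_, ?_⟩
  · obtain ⟨m, -, rfl⟩ := Finset.mem_image.mp hx
    rw [SetLike.mem_coe, RingHom.mem_ker, map_sub, map_one, hg, sub_self]
  have hof : ∀ m, Ideal.Quotient.mk I (of B _ m) = 1 := by
    intro m
    have hm : m ∈ Submonoid.closure (F : Set (Multiplicative M)) := hF ▸ Submonoid.mem_top m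
    induction hm using Submonoid.closure_induction with
    | mem x hx =>
      rw [← map_one (Ideal.Quotient.mk I), Ideal.Quotient.eq]
      exact Ideal.subset_span (Finset.mem_image_of_mem _ hx)
    | one => rw [map_one, map_one]
    | mul x y _ _ hx hy => rw [map_mul, map_mul, hx, hy, _root_.one_mul]
  intro w
  rw [← Ideal.Quotient.eq_zero_iff_mem, map_sub, sub_eq_zero]
  induction w using MonoidAlgebra.induction_linear with
  | zero => simp
  | add f g hf hg => rw [map_add, map_add, single_add, map_add, hf, hg]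
  | single m b =>
    rw [show liftNCRingHom (RingHom.id B) (1 : Multiplicative M →* B) (fun _ _ => Commute.all _ _)
      (single m b) = b from (liftNC_single _ _ _ _).trans (_root_.mul_one b)]
    have hsplit : single m b = single (1 : Multiplicative M) b * of B _ m := by
      rw [of_apply, single_mul_single, _root_.one_mul, _root_.mul_one]
    rw [hsplit, map_mul, hof, _root_.mul_one]

/-- the algebra step: a quotient of a group algebra whose augmentation vanishes on all fibres -/
theorem aug_eq_bot [AddGroup.FG M] {B : Type u} [CommRing B] (J : Ideal (MonoidAlgebra B (Multiplicative M)))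
    (hJ : J ≤ RingHom.ker (MonoidAlgebra.liftNCRingHom (RingHom.id B) (1 : Multiplicative M →* B)
      (fun _ _ => Commute.all _ _)))
    (hfib : ∀ (Q : Type u) [CommRing Q] (K : Type u) [Field K] (ψ : B →+* K) (φ : K →+* Q)
      (g : MonoidAlgebra B (Multiplicative M) →+* Q), g.comp MonoidAlgebra.singleOneRingHom = φ.comp ψ →
        J ≤ RingHom.ker g → ∀ m, g (MonoidAlgebra.of B _ m) = 1) :
    ∀ m, Ideal.Quotient.mk J (MonoidAlgebra.of B _ m) = 1 := by
  classical
  let ev : (MonoidAlgebra B (Multiplicative M)) →+* B := MonoidAlgebra.liftNCRingHom (RingHom.id B) (1 : Multiplicative M →* B)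
    (fun _ _ => Commute.all _ _)
  obtain ⟨I, hIfg, hIker, hIsplit⟩ := exists_aug_fg (M := M) B
  let C := (MonoidAlgebra B (Multiplicative M)) ⧸ J
  let mk : (MonoidAlgebra B (Multiplicative M)) →+* C := Ideal.Quotient.mk J
  let ι₀ : B →+* C := mk.comp MonoidAlgebra.singleOneRingHom
  let ε : C →+* B := Ideal.Quotient.lift J ev hJ
  let c : Ideal C := I.map mk
  have hεc : c ≤ RingHom.ker ε := by
    rw [Ideal.map_le_iff_le_comap]
    intro x hx
    exact hIker ev (fun m => by simp [ev]) hx
  have hει : ∀ b, ε (ι₀ b) = b := fun b => (Ideal.Quotient.lift_mk J ev hJ).trans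
    ((MonoidAlgebra.liftNC_single _ _ _ _).trans (_root_.mul_one b))
  have hsplit : ∀ x : C, x - ι₀ (ε x) ∈ c := by
    intro x
    obtain ⟨w, rfl⟩ := Ideal.Quotient.mk_surjective x
    exact (map_sub mk _ _).symm ▸ Ideal.mem_map_of_mem mk (hIsplit w)
  have hcfg : c.FG := hIfg.map mk
  -- components of elements of `p C`
  have hpc : ∀ (p : Ideal B) (x : C), x ∈ p.map ι₀ → x - ι₀ (ε x) ∈ p.map ι₀ * c := by
    intro p x hx
    suffices h : ∀ d : C, d * x - ι₀ (ε (d * x)) ∈ p.map ι₀ * c by simpa using h 1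
    induction hx using Submodule.span_induction with
    | mem w hw =>
      obtain ⟨b, hb, rfl⟩ := hw
      intro d
      rw [map_mul, map_mul, hει, ← sub_mul, _root_.mul_comm]
      exact Ideal.mul_mem_mul (Ideal.mem_map_of_mem _ hb) (hsplit d)
    | zero => intro d; simp
    | add y z _ _ hy hz =>
      intro d
      rw [mul_add, map_add, map_add, add_sub_add_comm]
      exact Ideal.add_mem _ (hy d) (hz d)
    | smul e y _ hy =>
      intro d
      rw [smul_eq_mul, ← _root_.mul_assoc]
      exact hy _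
  have hq : ∀ q : Ideal C, q.IsMaximal → c ≤ q * c := by
    intro q hmax
    let p := q.comap ι₀
    have : p.IsPrime := Ideal.IsPrime.comap _
    intro t ht
    obtain ⟨s, hsp, hs⟩ := exists_mul_mem_map ι₀ t (fun Q _ K _ ψ φ g hg => by
      have hone := hfib Q K ψ φ (g.comp mk) hg (fun x hx => by
        rw [RingHom.mem_ker, RingHom.comp_apply, Ideal.Quotient.eq_zero_iff_mem.mpr hx, map_zero])
      obtain ⟨w, hw, rfl⟩ := (Ideal.mem_map_iff_of_surjective mk Ideal.Quotient.mk_surjective).mp ht
      exact hIker (g.comp mk) hone hw) p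
    have h1 := hpc p _ hs
    rw [map_mul ε, show ε t = 0 from hεc ht, mul_zero, map_zero, sub_zero] at h1
    have h1' : ι₀ s * t ∈ q * c := Ideal.mul_mono_left Ideal.map_comap_le h1
    obtain ⟨e, j, hj, hej⟩ := hmax.exists_inv (x := ι₀ s) hsp
    have h2 : t = e * (ι₀ s * t) + j * t := by
      rw [← _root_.mul_assoc, ← _root_.add_mul, hej, _root_.one_mul]
    rw [h2]
    exact Ideal.add_mem _ (Ideal.mul_mem_left _ _ h1') (Ideal.mul_mem_mul hj ht)
  have hbot : ∀ t ∈ c, t = 0 := by
    intro t ht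
    by_contra hne
    have hann : Submodule.annihilator c ≠ ⊤ := fun h => hne (by
      have h1 := Submodule.mem_annihilator.mp (h ▸ Submodule.mem_top (x := (1 : C))) t ht
      rwa [smul_eq_mul, _root_.one_mul] at h1)
    obtain ⟨q, hmax, hle⟩ := Ideal.exists_le_maximal _ hann
    obtain ⟨r, hr, hr'⟩ := Submodule.exists_sub_one_mem_and_smul_eq_zero_of_fg_of_le_smul q c hcfg (hq q hmax)
    have : r ∈ q := hle (Submodule.mem_annihilator.mpr hr')
    exact hmax.ne_top ((Ideal.eq_top_iff_one q).mpr (by simpa using sub_mem this hr))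
  intro m
  have h1 := hbot _ (hsplit (mk (MonoidAlgebra.of B _ m)))
  have h2 : ε (mk (MonoidAlgebra.of B _ m)) = 1 := (Ideal.Quotient.lift_mk J ev hJ).trans
    ((MonoidAlgebra.liftNC_single _ _ _ _).trans (_root_.mul_one (1 : B)))
  rw [h2, map_one, sub_eq_zero] at h1
  exact h1

variable (e : Grp.mk (Red.bc u₀ G) ≅ Grp.mk (Red.DS U M)) (f : G ⟶ X)

theorem one_hom_left (X : Over S) [GrpObj X] : (η[X]).left ≫ X.hom = 𝟙 S := Over.w _

theorem isImmersion_unit (X : Over S) [GrpObj X] : IsImmersion (η[X]).left := by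
  have : IsImmersion ((η[X]).left ≫ X.hom) := by
    rw [one_hom_left]
    have : IsClosedImmersion (𝟙 S) := inferInstance
    exact inferInstance
  exact IsImmersion.of_comp _ X.hom

variable [AddGroup.FG M] [IsMonHom f]

/-- trivial kernel on a chart -/
theorem chart_kernel {B : Type u} [CommRing B] (y : Spec (CommRingCat.of B) ⟶ U)
    (hfib : ∀ (K D : Type u) [Field K] [CommRing D] (ψ : B →+* K) (φ : K →+* D) (χ : Multiplicative M →* D),
      gpt e (Spec.map (CommRingCat.ofHom (φ.comp ψ)) ≫ y) χ ≫ f = 1 → χ = 1)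
    (χ : Multiplicative M →* B) (hχ : gpt e y χ ≫ f = 1) : χ = 1 := by
  let s₁ : B →+* (MonoidAlgebra B (Multiplicative M)) := MonoidAlgebra.singleOneRingHom
  let y₁ : Spec (CommRingCat.of (MonoidAlgebra B (Multiplicative M))) ⟶ U := Spec.map (CommRingCat.ofHom s₁) ≫ y
  let v : Spec (CommRingCat.of (MonoidAlgebra B (Multiplicative M))) ⟶ X.left := (gpt e y₁ (MonoidAlgebra.of B (Multiplicative M)) ≫ f).left
  have := isImmersion_unit X
  let j := pullback.fst v (η[X]).left
  have hj : IsImmersion j := inferInstance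
  -- factoring through the kernel
  have hkill : ∀ {D : Type u} [CommRing D] (g : (MonoidAlgebra B (Multiplicative M)) →+* D),
      (∃ c : Spec (CommRingCat.of D) ⟶ pullback v (η[X]).left, c ≫ j = Spec.map (CommRingCat.ofHom g)) ↔
      gpt e (Spec.map (CommRingCat.ofHom (g.comp s₁)) ≫ y) (g.toMonoidHom.comp (MonoidAlgebra.of B _)) ≫ f = 1 := by
    intro D _ g
    have hy' : Spec.map (CommRingCat.ofHom (g.comp s₁)) ≫ y = Spec.map (CommRingCat.ofHom g) ≫ y₁ :=
      (specMap_comp_assoc s₁ g y).symm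
    rw [hy']
    have h1 : (gpt e (Spec.map (CommRingCat.ofHom g) ≫ y₁) (g.toMonoidHom.comp (MonoidAlgebra.of B _)) ≫ f).left =
        Spec.map (CommRingCat.ofHom g) ≫ v := by
      rw [Over.comp_left, gpt_comp]
      exact Category.assoc _ _ _
    constructor
    · rintro ⟨c, hc⟩
      refine Over.OverMorphism.ext ?_
      rw [h1, one_left]
      have h2 : Spec.map (CommRingCat.ofHom g) ≫ v = (c ≫ pullback.snd _ _) ≫ (η[X]).left := by
        rw [← hc, Category.assoc, Category.assoc, pullback.condition]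
      have h3 : c ≫ pullback.snd _ _ = (Spec.map (CommRingCat.ofHom g) ≫ y₁) ≫ u₀ := by
        have h4 := congrArg (· ≫ X.hom) h2
        rw [Category.assoc, Category.assoc, one_hom_left X] at h4
        refine ((Category.comp_id _).symm.trans ((Category.assoc _ _ _).trans h4.symm)).trans ?_
        rw [Over.w]
        exact (Category.assoc _ _ _).symm
      rw [h2, h3]
      rfl
    · intro h
      refine ⟨pullback.lift (Spec.map (CommRingCat.ofHom g)) ((Spec.map (CommRingCat.ofHom g) ≫ y₁) ≫ u₀) ?_,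
        pullback.lift_fst _ _ _⟩
      rw [← h1, h, one_left]
      rfl
  -- the range is the unit section
  let ev : (MonoidAlgebra B (Multiplicative M)) →+* B := MonoidAlgebra.liftNCRingHom (RingHom.id B) (1 : Multiplicative M →* B)
    fun _ _ => Commute.all _ _
  have hev₁ : ev.comp s₁ = RingHom.id B := RingHom.ext fun b => by simp [ev, s₁]
  have hrange : Set.range j.base = Set.range (Spec.map (CommRingCat.ofHom ev)).base := by
    refine subset_antisymm ?_ ?_
    · rintro _ ⟨x, rfl⟩
      let k := (pullback v (η[X]).left).residueField x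
      let c := (pullback v (η[X]).left).fromSpecResidueField x
      obtain ⟨g, hg⟩ := Spec.map_surjective (c ≫ j)
      have h1 := (hkill g.hom).mp ⟨c, by rw [CommRingCat.ofHom_hom, hg]⟩
      have h2 := hfib k k (g.hom.comp s₁) (RingHom.id _) _ h1
      have h3 : g.hom = (g.hom.comp s₁).comp ev := by
        refine MonoidAlgebra.ringHom_ext (fun b => by simp [ev, s₁]) fun m => ?_
        have h4 := congrArg (fun w => w m) h2
        simp only [MonoidHom.comp_apply, MonoidHom.one_apply, RingHom.toMonoidHom_eq_coe,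
          MonoidHom.coe_coe, MonoidAlgebra.of_apply] at h4
        simp [ev, s₁, h4, ← MonoidAlgebra.one_def]
      have h5 : c ≫ j = Spec.map (CommRingCat.ofHom (g.hom.comp s₁)) ≫ Spec.map (CommRingCat.ofHom ev) := by
        rw [← specMap_comp, ← h3, CommRingCat.ofHom_hom, hg]
      have h6 : c.base (IsLocalRing.closedPoint k) = x := Scheme.fromSpecResidueField_apply _ _
      rw [← h6, ← Scheme.Hom.comp_apply, h5, Scheme.Hom.comp_apply]
      exact Set.mem_range_self _
    · rintro _ ⟨p, rfl⟩
      obtain ⟨c, hc⟩ := (hkill ev).mpr (by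
        have he : ev.toMonoidHom.comp (MonoidAlgebra.of B (Multiplicative M)) = 1 :=
          MonoidHom.ext fun m => by simp [ev]
        rw [he, gpt_one]
        exact MonObj.one_comp f)
      exact ⟨c.base p, by rw [← Scheme.Hom.comp_apply, hc]⟩
  have hcl : IsClosedImmersion j := IsClosedImmersion.of_isPreimmersion j (by
    rw [hrange]
    have : IsClosedImmersion (Spec.map (CommRingCat.ofHom ev)) :=
      IsClosedImmersion.spec_of_surjective _ fun b => ⟨s₁ b, RingHom.congr_fun hev₁ b⟩
    exact (Spec.map (CommRingCat.ofHom ev)).isClosedEmbedding.isClosed_range)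
  obtain ⟨J, w, hw⟩ := IsClosedImmersion.Spec_iff.mp hcl
  have hJ : ∀ {D : Type u} [CommRing D] (g : (MonoidAlgebra B (Multiplicative M)) →+* D), J ≤ RingHom.ker g ↔
      gpt e (Spec.map (CommRingCat.ofHom (g.comp s₁)) ≫ y) (g.toMonoidHom.comp (MonoidAlgebra.of B _)) ≫ f = 1 := by
    intro D _ g
    rw [← hkill g]
    constructor
    · intro h
      refine ⟨Spec.map (CommRingCat.ofHom (Ideal.Quotient.lift J g h)) ≫ w.inv, ?_⟩
      rw [Category.assoc, hw, Iso.inv_hom_id_assoc, ← specMap_comp]
      congr 2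
    · rintro ⟨c, hc⟩ x hx
      obtain ⟨ψ, hψ⟩ := Spec.map_surjective (c ≫ w.hom)
      have : g = ψ.hom.comp (Ideal.Quotient.mk J) := by
        refine congrArg CommRingCat.Hom.hom (Spec.map_injective (?_ :
          Spec.map (CommRingCat.ofHom g) = Spec.map (CommRingCat.ofHom (ψ.hom.comp (Ideal.Quotient.mk J)))))
        rw [specMap_comp, CommRingCat.ofHom_hom, hψ, Category.assoc, ← hw, hc]
      rw [RingHom.mem_ker, this, RingHom.comp_apply, Ideal.Quotient.eq_zero_iff_mem.mpr hx, map_zero]
  have hev : J ≤ RingHom.ker ev := by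
    refine (hJ ev).mpr ?_
    have he : ev.toMonoidHom.comp (MonoidAlgebra.of B (Multiplicative M)) = 1 :=
      MonoidHom.ext fun m => by simp [ev]
    rw [he, gpt_one]
    exact MonObj.one_comp f
  have hall := aug_eq_bot J hev fun Q _ K _ ψ φ g hg hgJ m => by
    have h0 := (hJ g).mp hgJ
    rw [hg] at h0
    have h1 := hfib K Q ψ φ _ h0
    exact congrArg (fun w => w m) h1
  let evχ : (MonoidAlgebra B (Multiplicative M)) →+* B := MonoidAlgebra.liftNCRingHom (RingHom.id B) χ fun _ _ => Commute.all _ _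
  have hχJ : J ≤ RingHom.ker evχ := by
    refine (hJ evχ).mpr ?_
    have h1 : evχ.comp s₁ = RingHom.id B := RingHom.ext fun b => by simp [evχ, s₁]
    have h2 : evχ.toMonoidHom.comp (MonoidAlgebra.of B (Multiplicative M)) = χ :=
      MonoidHom.ext fun m => by simp [evχ]
    rw [h1, h2, CommRingCat.ofHom_id, Spec.map_id, Category.id_comp]
    exact hχ
  refine MonoidHom.ext fun m => ?_
  have h3 : evχ (MonoidAlgebra.of B _ m) = χ m := by simp [evχ]
  rw [MonoidHom.one_apply, ← h3, ← map_one (Ideal.Quotient.lift J evχ hχJ), ← hall m]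
  rfl

end Groth.Agent.H21Diag
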