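import Groth.Agent.H21Diag.Iso
import Groth.Agent.H21Diag.Mono

/-!
The locus where a homomorphism of groups of multiplicative type is fibrewise a monomorphism or an isomorphism.
-/

open CategoryTheory MonoidalCategory CartesianMonoidalCategory MonObj GrpObj AlgebraicGeometry
open CategoryTheory.Limits

universe u

namespace Groth.Agent.H21Diag

variable {S : Scheme.{u}} {G H : Over S} [GrpObj G] [GrpObj H] (f : G ⟶ H) [IsMonHom f]

/-- a homomorphism with trivial kernel at all points of an open subset is a monomorphism there -/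
theorem mono_of_kerTriv (hG : SGA3x.IsMultTypeFT G) (V : S.Opens) (hV : ∀ s ∈ V, KerTriv f s) :
    Mono ((Over.pullback V.ι).map f).left := by
  obtain ⟨S', g, hg, hs, -, hloc⟩ := hG
  let i := V.ι
  have hnat : ∀ (T : Over (V : Scheme.{u})) (a : (Over.map i).obj T ⟶ G),
      bcEquiv i H T (a ≫ f) = bcEquiv i G T a ≫ (Over.pullback i).map f :=
    fun T a => (Over.mapPullbackAdj i).homEquiv_naturality_right a f
  have key : ∀ (T : Over (V : Scheme.{u})) (a : (Over.map i).obj T ⟶ G), a ≫ f = 1 → a = 1 := by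
    intro T a ha
    refine ext_on_charts g (P := fun U => ∃ (M : Type) (_ : AddCommGroup M), AddGroup.FG M ∧
      Nonempty (Grp.mk (Red.bc (U.ι ≫ g) G) ≅ Grp.mk (Red.DS (U : Scheme.{u}) M))) hloc a 1 ?_
    rintro U ⟨M, _, hfg, ⟨e⟩⟩ B _ y Tm
    obtain ⟨χ, hχ⟩ := gpt_surjective e y (Tm ≫ a)
    have hχ1 : gpt e y χ ≫ f = 1 := by
      rw [hχ]
      exact (Category.assoc _ _ _).trans ((congrArg (Tm ≫ ·) ha).trans (MonObj.comp_one Tm))
    have hfib : ∀ (K D : Type u) [Field K] [CommRing D] (ψ : B →+* K) (φ : K →+* D) (χ' : Multiplicative M →* D),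
        gpt e (Spec.map (CommRingCat.ofHom (φ.comp ψ)) ≫ y) χ' ≫ f = 1 → χ' = 1 := by
      intro K D _ _ ψ φ χ' hχ'
      let z : Spec (CommRingCat.of K) ⟶ S := Spec.map (CommRingCat.ofHom ψ) ≫ y ≫ U.ι ≫ g
      let s := z.base (IsLocalRing.closedPoint K)
      have hw : Tm.left ≫ T.hom ≫ i = y ≫ U.ι ≫ g := Over.w Tm
      have hsV : s ∈ V := by
        have hz : z = (Spec.map (CommRingCat.ofHom ψ) ≫ Tm.left ≫ T.hom) ≫ i := by
          simp only [z, Category.assoc]
          exact congrArg (Spec.map (CommRingCat.ofHom ψ) ≫ ·) hw.symm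
        have h1 : s = i.base ((Spec.map (CommRingCat.ofHom ψ) ≫ Tm.left ≫ T.hom).base (IsLocalRing.closedPoint K)) :=
          congrArg (fun q : Spec (CommRingCat.of K) ⟶ S => q.base (IsLocalRing.closedPoint K)) hz
        rw [h1]
        exact Subtype.property _
      let d : Spec (CommRingCat.of D) ⟶ Spec (S.residueField s) :=
        Spec.map (CommRingCat.ofHom φ) ≫ Spec.map (Scheme.descResidueField (Scheme.stalkClosedPointTo z))
      have hd : d ≫ S.fromSpecResidueField s = (Spec.map (CommRingCat.ofHom (φ.comp ψ)) ≫ y) ≫ U.ι ≫ g := by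
        rw [Category.assoc, Scheme.descResidueField_stalkClosedPointTo_fromSpecResidueField, specMap_comp]
        simp only [z, Category.assoc]
      let t : (Over.map (S.fromSpecResidueField s)).obj (Over.mk d) ⟶
          Over.mk ((Spec.map (CommRingCat.ofHom (φ.comp ψ)) ≫ y) ≫ U.ι ≫ g) := Over.homMk (𝟙 _) (by
        change 𝟙 _ ≫ (Spec.map (CommRingCat.ofHom (φ.comp ψ)) ≫ y) ≫ U.ι ≫ g = d ≫ S.fromSpecResidueField s
        rw [Category.id_comp, hd])
      have h2 := hV s hsV (Over.mk d) (t ≫ gpt e _ χ')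
        ((Category.assoc _ _ _).trans ((congrArg (t ≫ ·) hχ').trans (MonObj.comp_one t)))
      refine gpt_injective e (Spec.map (CommRingCat.ofHom (φ.comp ψ)) ≫ y) (Over.OverMorphism.ext ?_)
      rw [gpt_one]
      have h3 := congrArg (fun m => m.left) (h2.trans (MonObj.comp_one t).symm)
      exact ((Category.id_comp _).symm.trans h3).trans (Category.id_comp _)
    rw [← hχ, chart_kernel e f y hfib χ hχ1, gpt_one]
    exact (MonObj.comp_one Tm).symm
  have : Mono ((Over.pullback i).map f) := ⟨fun {T} a b hab => by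
    have h1 : (bcEquiv i G T).symm a ≫ f = (bcEquiv i G T).symm b ≫ f := by
      refine (bcEquiv i H T).injective ?_
      rw [hnat, hnat]
      exact ((congrArg (· ≫ (Over.pullback i).map f) ((bcEquiv i G T).apply_symm_apply a)).trans hab).trans
        (congrArg (· ≫ (Over.pullback i).map f) ((bcEquiv i G T).apply_symm_apply b)).symm
    have h2 : ((bcEquiv i G T).symm a * ((bcEquiv i G T).symm b)⁻¹) = 1 := by
      refine key T _ ?_
      rw [MonObj.mul_comp, GrpObj.inv_comp, h1, mul_inv_cancel]
    exact (bcEquiv i G T).symm.injective (mul_inv_eq_one.mp h2)⟩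
  exact inferInstance

theorem isClopen_mono_locus (hG : SGA3x.IsMultTypeFT G) (hH : SGA3x.IsMultTypeFT H) :
    IsClopen {s : S | KerTriv f s} :=
  isClopen_of_charMap f hG hH (fun s => KerTriv f s) (fun M M' _ _ φ => Function.Surjective φ)
    fun U u₀ M M' _ _ _ _ e e' k _ y φ h => kerTriv_iff_surjective f h

omit [GrpObj G] [GrpObj H] [IsMonHom f] in
/-- a faithfully flat quasi-compact monomorphism is an isomorphism -/
theorem isIso_of_flat_surjective_mono {X Y : Scheme.{u}} (F : X ⟶ Y) [Flat F] [Surjective F] [QuasiCompact F]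
    [Mono F] : IsIso F :=
  MorphismProperty.of_pullback_snd_of_descendsAlong (P := MorphismProperty.isomorphisms Scheme.{u})
    (Q := H18Descent.fpqc.{u}) (f := F) (g := F) ⟨⟨‹Surjective F›, ‹Flat F›⟩, ‹QuasiCompact F›⟩
    (inferInstanceAs (IsIso (pullback.snd F F)))

theorem isIso_map_iff [IsAffineHom G.hom] [IsAffineHom H.hom] {T : Scheme.{u}} (v : T ⟶ S) :
    IsIso ((Over.pullback v).map f).left ↔ (Mono ((Over.pullback v).map f).left ∧
      Flat ((Over.pullback v).map f).left ∧ Surjective ((Over.pullback v).map f).left) := by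
  constructor
  · intro h
    exact ⟨inferInstance, inferInstance, inferInstance⟩
  · rintro ⟨h1, h2, h3⟩
    have : IsAffineHom (((Over.pullback v).map f).left ≫ pullback.snd H.hom v) := by
      rw [show ((Over.pullback v).map f).left ≫ pullback.snd H.hom v = pullback.snd G.hom v from
        pullback.lift_snd _ _ _]
      exact MorphismProperty.pullback_snd (P := @IsAffineHom) _ _ inferInstance
    have : QuasiCompact ((Over.pullback v).map f).left :=
      QuasiCompact.of_comp _ (pullback.snd H.hom v)
    exact isIso_of_flat_surjective_mono _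

end Groth.Agent.H21Diag
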