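import Groth.Agent.H21Diag.DSKernel
import Groth.Agent.H21Quot.Desc
import Groth.Agent.S16611

/-!
Split subtori of groups of multiplicative type.
-/

set_option backward.isDefEq.respectTransparency false

open CategoryTheory MonoidalCategory CartesianMonoidalCategory MonObj GrpObj AlgebraicGeometry
open CategoryTheory.Limits

universe u

namespace Groth.Agent.H21Diag

open Groth.Agent.H18Torsor.DiagExact

variable {S : Scheme.{u}}

/-- Zariski-locally split tori -/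
def LSplit (E : Over S) [GrpObj E] : Prop :=
  ∀ s : ↥S, ∃ U : S.Opens, s ∈ U ∧ ∃ r : ℕ, Red.IsSplitTorusWith (Fin r → ℤ) (Red.bc U.ι E)

theorem lSplit_of_split {T : Over S} [GrpObj T] {r : ℕ} (h : Red.IsSplitTorusWith (Fin r → ℤ) T) :
    LSplit T := by
  obtain ⟨e⟩ := h
  exact fun s => ⟨⊤, trivial, r, ⟨bcMapIso _ e ≪≫ bcDSIso _ _⟩⟩

theorem isTorus_of_lSplit {T : Over S} [GrpObj T] (h : LSplit T) : Red.IsTorus T := by
  refine ⟨S, 𝟙 S, inferInstance, inferInstance, fun V hV => ⟨V, hV.isCompact, by simp⟩, fun s => ?_⟩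
  obtain ⟨U, hs, r, hr⟩ := h s
  exact ⟨U, hs, r, isSplit_comp U.ι (𝟙 _) (by simp) hr⟩

theorem split_geomFibre {T : Over S} [GrpObj T] {U : S.Opens} {r : ℕ} {s : S} (hs : s ∈ U)
    (h : Red.IsSplitTorusWith (Fin r → ℤ) (Red.bc U.ι T)) :
    Red.IsSplitTorusWith (Fin r → ℤ) (Red.geomFibre s T) := by
  have hr : Set.range (Red.geomPt s).base ⊆ Set.range U.ι.base := by
    rintro _ ⟨p, rfl⟩
    rw [Scheme.Opens.range_ι, Scheme.Hom.comp_apply]
    exact (Scheme.fromSpecResidueField_apply s _).symm ▸ hs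
  exact isSplit_comp U.ι (IsOpenImmersion.lift U.ι (Red.geomPt s) hr) (IsOpenImmersion.lift_fac _ _ _).symm h

/-- a monomorphism out of `D(ℤ^r)` bounds `r` -/
theorem finrank_le_of_mono {G H : Over S} [GrpObj G] [GrpObj H] {U U' : Scheme.{u}} {u₀ : U ⟶ S} {u₀' : U' ⟶ S}
    {r : ℕ} {M : Type} [AddCommGroup M] [AddGroup.FG M] (f : H ⟶ G) [IsMonHom f] [Mono f]
    (e : Grp.mk (Red.bc u₀ H) ≅ Grp.mk (Red.DS U (Fin r → ℤ)))
    (e' : Grp.mk (Red.bc u₀' G) ≅ Grp.mk (Red.DS U' M))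
    {k : Type u} [Field k] (y : Spec (CommRingCat.of k) ⟶ U) (y' : Spec (CommRingCat.of k) ⟶ U')
    (h : y ≫ u₀ = y' ≫ u₀') : r ≤ Module.finrank ℤ M := by
  have : Module.Finite ℤ M := Module.Finite.iff_addGroup_fg.mpr inferInstance
  let e₁ := restrictChart e y (v₀ := y ≫ u₀) rfl
  let e₂ := restrictChart e' y' (v₀ := y ≫ u₀) h.symm
  obtain ⟨a, ha, φ, hφ⟩ := exists_local_char e₁ e₂ f (B := k) (𝟙 _) (𝟙 _) rfl ⊥ Ideal.isPrime_bot
  have hact : ActsBy e₁ e₂ f (𝟙 _) (𝟙 _) φ := ⟨rfl, fun D _ g χ =>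
    hφ D g ((IsUnit.mk0 a (fun h => ha (by simp [h]))).map g) χ⟩
  have hsurj : Function.Surjective φ :=
    (kerTriv_iff_surjective f hact).mp fun T g hg => by rw [← cancel_mono f, hg, MonObj.one_comp]
  let L : M →ₗ[ℤ] (Fin r → ℤ) := φ.toAdditive.toIntLinearMap
  have hL : Function.Surjective L := hsurj
  have := LinearMap.finrank_le_finrank_of_surjective (R := ℤ) hL
  simpa using this

/-- a monomorphism of split tori does not decrease the rank -/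
theorem rank_le_of_mono {T T' : Over S} [GrpObj T] [GrpObj T'] {U U' : S.Opens} {r r' : ℕ} {s : S}
    (hs : s ∈ U) (hs' : s ∈ U') (h : Red.IsSplitTorusWith (Fin r → ℤ) (Red.bc U.ι T))
    (h' : Red.IsSplitTorusWith (Fin r' → ℤ) (Red.bc U'.ι T')) (g : T ⟶ T') [IsMonHom g] [Mono g] : r ≤ r' := by
  obtain ⟨e⟩ := split_geomFibre hs h
  obtain ⟨e'⟩ := split_geomFibre hs' h'
  have h1 := finrank_le_of_mono g e e' (𝟙 _) (𝟙 _) rfl
  simpa using h1

/-- split subtori of a group of multiplicative type have bounded rank at each point -/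
theorem exists_rank_bound {G : Over S} [GrpObj G] (hG : SGA3x.IsMultTypeFT G) (s : S) :
    ∃ N : ℕ, ∀ {T : Over S} [GrpObj T] (j : T ⟶ G) [IsMonHom j] [Mono j] {U : S.Opens} {r : ℕ},
      s ∈ U → Red.IsSplitTorusWith (Fin r → ℤ) (Red.bc U.ι T) → r ≤ N := by
  obtain ⟨S', g, -, hsur, -, hloc⟩ := hG
  obtain ⟨t, rfl⟩ := hsur.surj s
  obtain ⟨U', htU, M, _, _, ⟨e'⟩⟩ := hloc t
  refine ⟨Module.finrank ℤ M, fun {T} _ j _ _ {U r} hsU hT => ?_⟩
  obtain ⟨e⟩ := hT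
  have hr : Set.range (S'.fromSpecResidueField t).base ⊆ Set.range U'.ι.base := by
    rintro _ ⟨p, rfl⟩
    rw [Scheme.fromSpecResidueField_apply, Scheme.Opens.range_ι]
    exact htU
  have hr' : Set.range (S'.fromSpecResidueField t ≫ g).base ⊆ Set.range U.ι.base := by
    rintro _ ⟨p, rfl⟩
    rw [Scheme.Hom.comp_apply, Scheme.fromSpecResidueField_apply, Scheme.Opens.range_ι]
    exact hsU
  refine finrank_le_of_mono j e e' (k := S'.residueField t) (IsOpenImmersion.lift U.ι _ hr')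
    (IsOpenImmersion.lift U'.ι (S'.fromSpecResidueField t) hr) ?_
  rw [IsOpenImmersion.lift_fac, ← Category.assoc, IsOpenImmersion.lift_fac]

/-- a monomorphism between locally split tori of the same rank is an isomorphism -/
theorem isIso_of_same_rank {T T' : Over S} [GrpObj T] [GrpObj T'] (g : T ⟶ T') [IsMonHom g] [Mono g]
    (hT : LSplit T) (hT' : LSplit T')
    (h : ∀ (s : S) (U U' : S.Opens) (r r' : ℕ), s ∈ U → s ∈ U' →
      Red.IsSplitTorusWith (Fin r → ℤ) (Red.bc U.ι T) →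
      Red.IsSplitTorusWith (Fin r' → ℤ) (Red.bc U'.ι T') → r' ≤ r) : IsIso g := by
  refine Groth.Agent.S16611.result (isTorus_of_lSplit hT) (isTorus_of_lSplit hT') g fun s => ?_
  obtain ⟨U, hs, r, hr⟩ := hT s
  obtain ⟨U', hs', r', hr'⟩ := hT' s
  have : r' = r := le_antisymm (h s U U' r r' hs hs' hr hr') (rank_le_of_mono hs hs' hr hr' g)
  subst this
  exact ⟨r', split_geomFibre hs hr, split_geomFibre hs' hr'⟩

theorem isMonHom_of_comp_mono {C : Type*} [Category C] [CartesianMonoidalCategory C] {A B X : C}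
    [GrpObj A] [GrpObj B] [GrpObj X] (g : A ⟶ B) (j : B ⟶ X) [IsMonHom j] [Mono j] [IsMonHom (g ≫ j)] :
    IsMonHom g := by
  refine isMonHom_of_mul g fun a b => ?_
  rw [← cancel_mono j, Category.assoc, MonObj.mul_comp, MonObj.mul_comp, Category.assoc, Category.assoc]

theorem exists_basis (r : ℕ) (Λ : AddSubgroup (Fin r → ℤ)) :
    ∃ n : ℕ, Nonempty (Λ ≃+ (Fin n → ℤ)) := by
  obtain ⟨n, b⟩ := Submodule.basisOfPid (Pi.basisFun ℤ (Fin r)) Λ.toIntSubmodule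
  exact ⟨n, ⟨b.equivFun.toAddEquiv⟩⟩

/-- the image of a homomorphism of a split torus, over a clopen neighbourhood -/
theorem exists_clopen_image {G : Over S} [GrpObj G] [IsSeparated G.hom] [LocallyOfFiniteType G.hom] (r : ℕ)
    (f : Red.DS S (Fin r → ℤ) ⟶ G) [IsMonHom f] (s : S) :
    ∃ (V : S.Opens) (n : ℕ), s ∈ V ∧ IsClosed (V : Set S) ∧
      ∃ (q : Red.bc V.ι (Red.DS S (Fin r → ℤ)) ⟶ Red.DS (V : Scheme.{u}) (Fin n → ℤ))
        (j : Red.DS (V : Scheme.{u}) (Fin n → ℤ) ⟶ Red.bc V.ι G),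
        IsMonHom q ∧ Flat q.left ∧ Surjective q.left ∧ IsMonHom j ∧ Mono j ∧
        q ≫ j = (Over.pullback V.ι).map f := by
  have : AddGroup.FG (Fin r → ℤ) := Module.Finite.iff_addGroup_fg.mp inferInstance
  obtain ⟨Λ, V, hsV, hV, hK⟩ := exists_clopen_kerEq f s
  let _ : AddGroup.FG Λ := Module.Finite.iff_addGroup_fg.mp (inferInstanceAs (Module.Finite ℤ Λ.toIntSubmodule))
  obtain ⟨n, ⟨b⟩⟩ := exists_basis r Λ
  let qΛ : Red.DS S (Fin r → ℤ) ⟶ Red.DS S Λ := Red.DSmap S Λ.subtype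
  obtain ⟨_, _⟩ := flat_surjective_DSmap S Λ.subtype Subtype.val_injective
  have : LocallyOfFinitePresentation qΛ.left := locallyOfFinitePresentation_DSmap _
  let qV : Red.bc V.ι (Red.DS S (Fin r → ℤ)) ⟶ Red.bc V.ι (Red.DS S Λ) := (Over.pullback V.ι).map qΛ
  let fV : Red.bc V.ι (Red.DS S (Fin r → ℤ)) ⟶ Red.bc V.ι G := (Over.pullback V.ι).map f
  have : IsMonHom qV := isMonHom_bcMap V.ι qΛ
  have : IsMonHom fV := isMonHom_bcMap V.ι f
  have := flat_bcMap V.ι qΛ; have := surjective_bcMap V.ι qΛ; have := lfp_bcMap V.ι qΛ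
  obtain ⟨j, hjh, hjm, hj⟩ := H21Quot.exists_mono_desc qV fV fun T x => by
    rw [comp_bcMap_eq_one_iff, comp_bcMap_eq_one_iff]
    refine hK ?_ _
    rintro _ ⟨z, rfl⟩
    exact (T.hom.base z).2
  obtain ⟨ψ⟩ := nonempty_DS_iso (V : Scheme.{u}) b
  let χ : Grp.mk (Red.bc V.ι (Red.DS S Λ)) ≅ Grp.mk (Red.DS (V : Scheme.{u}) (Fin n → ℤ)) := bcDSIso V.ι Λ ≪≫ ψ
  let c : Red.bc V.ι (Red.DS S Λ) ⟶ Red.DS (V : Scheme.{u}) (Fin n → ℤ) := χ.hom.hom.hom
  let c' : Red.DS (V : Scheme.{u}) (Fin n → ℤ) ⟶ Red.bc V.ι (Red.DS S Λ) := χ.inv.hom.hom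
  have hcc' : c ≫ c' = 𝟙 _ := congrArg (fun k => k.hom.hom) χ.hom_inv_id
  have hc'c : c' ≫ c = 𝟙 _ := congrArg (fun k => k.hom.hom) χ.inv_hom_id
  have : IsIso c := ⟨c', hcc', hc'c⟩
  have : IsIso c' := ⟨c, hc'c, hcc'⟩
  have : IsMonHom c := χ.hom.hom.isMonHom_hom
  have : IsMonHom c' := χ.inv.hom.isMonHom_hom
  have : IsIso c.left := inferInstanceAs (IsIso ((Over.forget _).map c))
  refine ⟨V, n, hsV, hV, qV ≫ c, c' ≫ j, inferInstance, ?_, ?_, inferInstance, inferInstance, ?_⟩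
  · rw [Over.comp_left]; infer_instance
  · rw [Over.comp_left]; infer_instance
  · rw [Category.assoc, ← Category.assoc c, hcc', Category.id_comp]
    exact hj

end Groth.Agent.H21Diag

namespace Groth.Agent.H21Diag

open Groth.Agent.H18Torsor.DiagExact

variable {S : Scheme.{u}}

theorem DSmap_comp_eq_id {A B : Type} [AddCommGroup A] [AddCommGroup B] (φ : A →+ B) (ψ : B →+ A)
    (h : ψ.comp φ = AddMonoidHom.id A) : Red.DSmap S ψ ≫ Red.DSmap S φ = 𝟙 (Red.DS S A) := by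
  refine chr_ext (MonoidHom.ext fun m => ?_)
  rw [chr_comp_DSmap, ← Category.id_comp (Red.DSmap S ψ), chr_comp_DSmap]
  change chr (𝟙 (Red.DS S A)) (Multiplicative.ofAdd (ψ (φ m.toAdd))) = _
  rw [show ψ (φ m.toAdd) = m.toAdd from DFunLike.congr_fun h m.toAdd, ofAdd_toAdd]

theorem DSmap_comp_eq_one {A B C : Type} [AddCommGroup A] [AddCommGroup B] [AddCommGroup C] (φ : A →+ B)
    (ψ : B →+ C) (h : ψ.comp φ = 0) : Red.DSmap S ψ ≫ Red.DSmap S φ = 1 := by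
  refine chr_ext (MonoidHom.ext fun m => ?_)
  rw [chr_comp_DSmap, ← Category.id_comp (Red.DSmap S ψ), chr_comp_DSmap, chr_one]
  change chr (𝟙 (Red.DS S C)) (Multiplicative.ofAdd (ψ (φ m.toAdd))) = _
  rw [show ψ (φ m.toAdd) = 0 from DFunLike.congr_fun h m.toAdd, ofAdd_zero, map_one]
  rfl

theorem isMonHom_mul {A B : Over S} [GrpObj A] [GrpObj B] (k₁ k₂ : A ⟶ B) [IsMonHom k₁] [IsMonHom k₂]
    (hB : ∀ {T : Over S} (a b : T ⟶ B), a * b = b * a) : IsMonHom (k₁ * k₂) := by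
  refine isMonHom_of_mul _ fun a b => ?_
  rw [MonObj.comp_mul, MonObj.comp_mul, MonObj.comp_mul, MonObj.mul_comp, MonObj.mul_comp]
  exact (Commute.mul_mul_mul_comm (hB _ _) _ _)

theorem isMonHom_one {A B : Over S} [GrpObj A] [GrpObj B] : IsMonHom (1 : A ⟶ B) :=
  isMonHom_of_mul _ fun a b => by simp only [MonObj.comp_one, _root_.mul_one]

theorem section_comp_mul_left {R A B : Over S} [GrpObj B] (s : R ⟶ A) (k₁ k₂ : A ⟶ B) (j : R ⟶ B)
    (h₁ : s ≫ k₁ = j) (h₂ : s ≫ k₂ = 1) : s ≫ (k₁ * k₂) = j := by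
  rw [MonObj.comp_mul, h₁, h₂, _root_.mul_one]

theorem section_comp_mul_right {R A B : Over S} [GrpObj B] (s : R ⟶ A) (k₁ k₂ : A ⟶ B) (j : R ⟶ B)
    (h₁ : s ≫ k₁ = 1) (h₂ : s ≫ k₂ = j) : s ≫ (k₁ * k₂) = j := by
  rw [MonObj.comp_mul, h₁, h₂, _root_.one_mul]

theorem comp_section {R T A B : Over S} (e : T ⟶ R) (e' : R ⟶ T) (h : e ≫ e' = 𝟙 T)
    (s : R ⟶ A) (p : A ⟶ R) (hp : s ≫ p = 𝟙 R) (j : T ⟶ B) : (e ≫ s) ≫ p ≫ e' ≫ j = j := by
  rw [Category.assoc, ← Category.assoc s, hp, Category.id_comp, ← Category.assoc, h, Category.id_comp]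

theorem comp_section_one {R R' T T' A B : Over S} [GrpObj R'] [GrpObj B] (e : T ⟶ R) (s : R ⟶ A) (p : A ⟶ R')
    (e' : R' ⟶ T') (hp : s ≫ p = 1) (j : T' ⟶ B) [GrpObj T'] [IsMonHom e'] [IsMonHom j] :
    (e ≫ s) ≫ p ≫ e' ≫ j = 1 := by
  rw [Category.assoc, ← Category.assoc s, hp, MonObj.one_comp, MonObj.comp_one]

/-- two split subtori come from one homomorphism of a split torus -/
theorem exists_pair {G : Over S} [GrpObj G] (hG : SGA3x.IsMultTypeFT G) {T₁ T₂ : Over S} [GrpObj T₁] [GrpObj T₂]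
    {r₁ r₂ : ℕ} (h₁ : Red.IsSplitTorusWith (Fin r₁ → ℤ) T₁) (h₂ : Red.IsSplitTorusWith (Fin r₂ → ℤ) T₂)
    (j₁ : T₁ ⟶ G) [IsMonHom j₁] (j₂ : T₂ ⟶ G) [IsMonHom j₂] :
    ∃ (f : Red.DS S (Fin (r₁ + r₂) → ℤ) ⟶ G) (s₁ : T₁ ⟶ Red.DS S (Fin (r₁ + r₂) → ℤ))
      (s₂ : T₂ ⟶ Red.DS S (Fin (r₁ + r₂) → ℤ)),
      IsMonHom f ∧ IsMonHom s₁ ∧ IsMonHom s₂ ∧ s₁ ≫ f = j₁ ∧ s₂ ≫ f = j₂ := by
  obtain ⟨e₁⟩ := h₁
  obtain ⟨e₂⟩ := h₂
  let A := Fin (r₁ + r₂) → ℤ
  let i₁ : (Fin r₁ → ℤ) →+ A :=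
    { toFun := fun v => Fin.append v 0
      map_zero' := by
        funext i
        induction i using Fin.addCases <;> simp [A]
      map_add' := fun v w => by
        funext i
        induction i using Fin.addCases <;> simp [A] }
  let i₂ : (Fin r₂ → ℤ) →+ A :=
    { toFun := fun v => Fin.append 0 v
      map_zero' := by
        funext i
        induction i using Fin.addCases <;> simp [A]
      map_add' := fun v w => by
        funext i
        induction i using Fin.addCases <;> simp [A] }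
  let p₁ : A →+ (Fin r₁ → ℤ) :=
    { toFun := fun v i => v (Fin.castAdd r₂ i)
      map_zero' := rfl
      map_add' := fun _ _ => rfl }
  let p₂ : A →+ (Fin r₂ → ℤ) :=
    { toFun := fun v i => v (Fin.natAdd r₁ i)
      map_zero' := rfl
      map_add' := fun _ _ => rfl }
  have h11 : p₁.comp i₁ = AddMonoidHom.id _ := AddMonoidHom.ext fun v => funext fun i => Fin.append_left v 0 i
  have h22 : p₂.comp i₂ = AddMonoidHom.id _ := AddMonoidHom.ext fun v => funext fun i => Fin.append_right 0 v i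
  have h12 : p₁.comp i₂ = 0 := AddMonoidHom.ext fun v => funext fun i => Fin.append_left 0 v i
  have h21 : p₂.comp i₁ = 0 := AddMonoidHom.ext fun v => funext fun i => Fin.append_right v 0 i
  have : IsMonHom e₁.hom.hom.hom := e₁.hom.hom.isMonHom_hom
  have : IsMonHom e₁.inv.hom.hom := e₁.inv.hom.isMonHom_hom
  have : IsMonHom e₂.hom.hom.hom := e₂.hom.hom.isMonHom_hom
  have : IsMonHom e₂.inv.hom.hom := e₂.inv.hom.isMonHom_hom
  let k₁ : Red.DS S A ⟶ G := Red.DSmap S i₁ ≫ e₁.inv.hom.hom ≫ j₁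
  let k₂ : Red.DS S A ⟶ G := Red.DSmap S i₂ ≫ e₂.inv.hom.hom ≫ j₂
  have hf : IsMonHom (k₁ * k₂) := isMonHom_mul k₁ k₂ fun a b => mult_comm hG a b
  refine ⟨k₁ * k₂, e₁.hom.hom.hom ≫ Red.DSmap S p₁, e₂.hom.hom.hom ≫ Red.DSmap S p₂, hf, inferInstance,
    inferInstance, ?_, ?_⟩
  · exact section_comp_mul_left _ k₁ k₂ j₁
      (comp_section _ _ (congrArg (fun k => k.hom.hom) e₁.hom_inv_id) _ _ (DSmap_comp_eq_id i₁ p₁ h11) j₁)
      (comp_section_one _ _ _ _ (DSmap_comp_eq_one i₂ p₁ h12) j₂)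
  · exact section_comp_mul_right _ k₁ k₂ j₂
      (comp_section_one _ _ _ _ (DSmap_comp_eq_one i₁ p₂ h21) j₁)
      (comp_section _ _ (congrArg (fun k => k.hom.hom) e₂.hom_inv_id) _ _ (DSmap_comp_eq_id i₂ p₂ h22) j₂)

/-- over a connected base, a homomorphism of a split torus has a split torus as image -/
theorem exists_image_connected [ConnectedSpace ↥S] {G : Over S} [GrpObj G] [IsSeparated G.hom]
    [LocallyOfFiniteType G.hom] (r : ℕ) (f : Red.DS S (Fin r → ℤ) ⟶ G) [IsMonHom f] :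
    ∃ (n : ℕ) (q : Red.DS S (Fin r → ℤ) ⟶ Red.DS S (Fin n → ℤ)) (j : Red.DS S (Fin n → ℤ) ⟶ G),
      IsMonHom q ∧ IsMonHom j ∧ Mono j ∧ q ≫ j = f := by
  have : AddGroup.FG (Fin r → ℤ) := Module.Finite.iff_addGroup_fg.mp inferInstance
  obtain ⟨s⟩ := (inferInstance : Nonempty S)
  obtain ⟨Λ, V, hsV, hV, hK⟩ := exists_clopen_kerEq f s
  have hu : (V : Set S) = Set.univ := IsClopen.eq_univ ⟨hV, V.isOpen⟩ ⟨s, hsV⟩
  let _ : AddGroup.FG Λ := Module.Finite.iff_addGroup_fg.mp (inferInstanceAs (Module.Finite ℤ Λ.toIntSubmodule))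
  obtain ⟨n, ⟨b⟩⟩ := exists_basis r Λ
  let qΛ : Red.DS S (Fin r → ℤ) ⟶ Red.DS S Λ := Red.DSmap S Λ.subtype
  obtain ⟨_, _⟩ := flat_surjective_DSmap S Λ.subtype Subtype.val_injective
  have : LocallyOfFinitePresentation qΛ.left := locallyOfFinitePresentation_DSmap _
  obtain ⟨j, hjh, hjm, hj⟩ := H21Quot.exists_mono_desc qΛ f fun T x => hK (by rw [hu]; exact Set.subset_univ _) x
  obtain ⟨ψ⟩ := nonempty_DS_iso S b
  have : IsMonHom ψ.hom.hom.hom := ψ.hom.hom.isMonHom_hom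
  have : IsMonHom ψ.inv.hom.hom := ψ.inv.hom.isMonHom_hom
  have : IsIso ψ.inv.hom.hom :=
    ⟨ψ.hom.hom.hom, congrArg (fun k => k.hom.hom) ψ.inv_hom_id, congrArg (fun k => k.hom.hom) ψ.hom_inv_id⟩
  refine ⟨n, qΛ ≫ ψ.hom.hom.hom, ψ.inv.hom.hom ≫ j, inferInstance, inferInstance, inferInstance, ?_⟩
  rw [Category.assoc, ← Category.assoc ψ.hom.hom.hom,
    show ψ.hom.hom.hom ≫ ψ.inv.hom.hom = 𝟙 (Red.DS S Λ) from congrArg (fun k => k.hom.hom) ψ.hom_inv_id,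
    Category.id_comp, hj]

theorem exists_mono_of_subsingleton {A B : Over S} [GrpObj A] [GrpObj B]
    (h : ∀ {T : Over S} (a b : T ⟶ A), a = b) : ∃ j : A ⟶ B, IsMonHom j ∧ Mono j :=
  ⟨1, isMonHom_one, ⟨fun a b _ => h a b⟩⟩

theorem subsingleton_zero {T : Over S} (a b : T ⟶ Red.DS S (Fin 0 → ℤ)) : a = b := by
  refine chr_ext (MonoidHom.ext fun m => ?_)
  have : m = 1 := Multiplicative.toAdd.injective (funext fun i => i.elim0)
  rw [this, map_one, map_one]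

/-- a split subtorus of largest rank -/
theorem exists_max_rank [Nonempty ↥S] {G : Over S} [GrpObj G] (hG : SGA3x.IsMultTypeFT G) :
    ∃ (r : ℕ) (j : Red.DS S (Fin r → ℤ) ⟶ G), IsMonHom j ∧ Mono j ∧
      ∀ (T' : Over S) [GrpObj T'] (j' : T' ⟶ G) [IsMonHom j'] [Mono j'] (r' : ℕ),
        Red.IsSplitTorusWith (Fin r' → ℤ) T' → r' ≤ r := by
  classical
  obtain ⟨s⟩ := (inferInstance : Nonempty S)
  obtain ⟨N, hN⟩ := exists_rank_bound hG s
  have h0' := exists_mono_of_subsingleton (A := Red.DS S (Fin 0 → ℤ)) (B := G) fun a b => subsingleton_zero a b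
  let P : ℕ → Prop := fun r => ∃ j : Red.DS S (Fin r → ℤ) ⟶ G, IsMonHom j ∧ Mono j
  have hb : ∀ r, P r → r ≤ N := by
    rintro r ⟨j, hj, hm⟩
    exact hN j (U := ⊤) trivial ⟨bcDSIso _ _⟩
  have h0 : P 0 := h0'
  refine ⟨Nat.findGreatest P N, ?_⟩
  obtain ⟨j, hj, hm⟩ := Nat.findGreatest_spec (P := P) (Nat.zero_le N) h0
  refine ⟨j, hj, hm, fun T' _ j' _ _ r' hT' => ?_⟩
  obtain ⟨e⟩ := hT'
  have : IsMonHom e.inv.hom.hom := e.inv.hom.isMonHom_hom
  have : IsIso e.inv.hom.hom :=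
    ⟨e.hom.hom.hom, congrArg (fun k => k.hom.hom) e.inv_hom_id, congrArg (fun k => k.hom.hom) e.hom_inv_id⟩
  have hP : P r' := ⟨e.inv.hom.hom ≫ j', inferInstance, inferInstance⟩
  exact Nat.le_findGreatest (hb r' hP) hP

end Groth.Agent.H21Diag

namespace Groth.Agent.H21Diag

variable {S : Scheme.{u}}

theorem split_top {T : Over S} [GrpObj T] {r : ℕ} (h : Red.IsSplitTorusWith (Fin r → ℤ) T) :
    Red.IsSplitTorusWith (Fin r → ℤ) (Red.bc (⊤ : S.Opens).ι T) := by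
  obtain ⟨e⟩ := h
  exact ⟨bcMapIso _ e ≪≫ bcDSIso _ _⟩

theorem split_DS (S : Scheme.{u}) (r : ℕ) : Red.IsSplitTorusWith (Fin r → ℤ) (Red.DS S (Fin r → ℤ)) :=
  ⟨Iso.refl _⟩

/-- a monomorphism of split tori of no larger rank is an isomorphism -/
theorem isIso_of_split_le {T T' : Over S} [GrpObj T] [GrpObj T'] (g : T ⟶ T') [IsMonHom g] [Mono g] {r r' : ℕ}
    (h : Red.IsSplitTorusWith (Fin r → ℤ) T) (h' : Red.IsSplitTorusWith (Fin r' → ℤ) T') (hle : r' ≤ r) :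
    IsIso g := by
  refine isIso_of_same_rank g (lSplit_of_split h) (lSplit_of_split h') fun s U U' a a' hs hs' ha ha' => ?_
  obtain ⟨e⟩ := split_geomFibre hs ha
  obtain ⟨e₀⟩ := split_geomFibre (U := (⊤ : S.Opens)) (s := s) trivial (split_top h)
  obtain ⟨e'⟩ := split_geomFibre hs' ha'
  obtain ⟨e₀'⟩ := split_geomFibre (U := (⊤ : S.Opens)) (s := s) trivial (split_top h')
  have h1 := finrank_le_of_mono (𝟙 T) e₀ e (𝟙 _) (𝟙 _) rfl
  have h2 := finrank_le_of_mono (𝟙 T') e' e₀' (𝟙 _) (𝟙 _) rfl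
  simp only [Module.finrank_fin_fun] at h1 h2
  omega

end Groth.Agent.H21Diag
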