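import Groth.Agent.H21Diag.AvgDescent
import Groth.Agent.H21Diag.Conj
import Groth.Agent.S1488
import Mathlib.RingTheory.Ideal.Quotient.Nilpotent

/-!
Lifting points of smooth groups along nilpotent ideals, and conjugating homomorphisms which agree
modulo a nilpotent ideal.
-/

open CategoryTheory MonoidalCategory CartesianMonoidalCategory MonObj GrpObj AlgebraicGeometry
open CategoryTheory.Limits

universe u

namespace Groth.Agent.H21Diag

/-- formally smooth morphisms lift along nilpotent ideals -/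
theorem exists_lift_of_isNilpotent {X Y : Scheme.{u}} {f : X ⟶ Y} (hf : MoreMor.IsFormallySmoothHom f)
    {A : Type u} [CommRing A] (I : Ideal A) (hI : IsNilpotent I)
    (a : Spec (CommRingCat.of (A ⧸ I)) ⟶ X) (b : Spec (CommRingCat.of A) ⟶ Y)
    (h : Spec.map (CommRingCat.ofHom (Ideal.Quotient.mk I)) ≫ b = a ≫ f) :
    ∃ l : Spec (CommRingCat.of A) ⟶ X,
      Spec.map (CommRingCat.ofHom (Ideal.Quotient.mk I)) ≫ l = a ∧ l ≫ f = b := by
  refine Ideal.IsNilpotent.induction_on (S := A) I hI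
    (P := fun {A} _ I => ∀ (a : Spec (CommRingCat.of (A ⧸ I)) ⟶ X) (b : Spec (CommRingCat.of A) ⟶ Y),
      Spec.map (CommRingCat.ofHom (Ideal.Quotient.mk I)) ≫ b = a ≫ f →
      ∃ l : Spec (CommRingCat.of A) ⟶ X,
        Spec.map (CommRingCat.ofHom (Ideal.Quotient.mk I)) ≫ l = a ∧ l ≫ f = b)
    (fun A _ I hI => hf A I hI) ?_ a b h
  intro A _ I J hIJ h1 h2 a b h
  let e : (A ⧸ I) ⧸ J.map (Ideal.Quotient.mk I) ≃+* A ⧸ J := DoubleQuot.quotQuotEquivQuotOfLE hIJ
  have he : e.toRingHom.comp ((Ideal.Quotient.mk (J.map (Ideal.Quotient.mk I))).comp (Ideal.Quotient.mk I)) =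
      Ideal.Quotient.mk J := RingHom.ext fun x => rfl
  obtain ⟨l₁, hl₁, hl₁f⟩ := h2 (Spec.map (CommRingCat.ofHom e.symm.toRingHom) ≫ a)
    (Spec.map (CommRingCat.ofHom (Ideal.Quotient.mk I)) ≫ b) (by
      rw [Category.assoc, ← h, ← Category.assoc, ← Category.assoc, ← specMap_comp, ← specMap_comp,
        show (Ideal.Quotient.mk (J.map (Ideal.Quotient.mk I))).comp (Ideal.Quotient.mk I) =
          e.symm.toRingHom.comp (Ideal.Quotient.mk J) from RingHom.ext fun x =>
            (e.symm_apply_apply _).symm])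
  obtain ⟨l, hl, hlf⟩ := h1 l₁ b hl₁f.symm
  refine ⟨l, ?_, hlf⟩
  rw [← he, specMap_comp, specMap_comp, Category.assoc, Category.assoc, hl, hl₁, ← Category.assoc,
    ← specMap_comp]
  rw [show e.toRingHom.comp e.symm.toRingHom = RingHom.id _ from RingHom.ext fun x => e.apply_symm_apply x,
    CommRingCat.ofHom_id, Spec.map_id, Category.id_comp]

section

variable {S' S : Scheme.{u}}

/-- points of a base change, as a multiplicative map -/
noncomputable def bcHom (f : S' ⟶ S) (X : Over S) [GrpObj X] (T : Over S') :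
    (T ⟶ Red.bc f X) →* ((Over.map f).obj T ⟶ X) :=
  MonoidHom.mk' (bcEquiv f X T).symm (bcEquiv_symm_mul f X T)

theorem bcHom_comp (f : S' ⟶ S) {X Y : Over S} [GrpObj X] [GrpObj Y] (v : X ⟶ Y) {T : Over S'}
    (a : T ⟶ Red.bc f X) :
    bcHom f Y T (a ≫ (Over.pullback f).map v) = bcHom f X T a ≫ v :=
  (Over.mapPullbackAdj f).homEquiv_naturality_right_symm a v

theorem bcHom_precomp (f : S' ⟶ S) {X : Over S} [GrpObj X] {T T' : Over S'} (t : T' ⟶ T)
    (a : T ⟶ Red.bc f X) :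
    bcHom f X T' (t ≫ a) = (Over.map f).map t ≫ bcHom f X T a :=
  (Over.mapPullbackAdj f).homEquiv_naturality_left_symm t a

end

variable {R₀ : Type u} [CommRing R₀]

/-- a point of a smooth scheme lifts along a nilpotent ideal -/
theorem exists_lift_point {G : Over (Spec (CommRingCat.of R₀))} (hG : Smooth G.hom) (I : Ideal R₀)
    (hI : IsNilpotent I) (x : Tst (Ideal.Quotient.mk I) ⟶ G) :
    ∃ y : 𝟙_ (Over (Spec (CommRingCat.of R₀))) ⟶ G, toUnit (Tst (Ideal.Quotient.mk I)) ≫ y = x := by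
  obtain ⟨l, hl, hlf⟩ := exists_lift_of_isNilpotent ((Groth.Agent.S1488.result G.hom).mp hG).2 I hI x.left
    (𝟙 _) ((Category.comp_id _).trans (Over.w x).symm)
  exact ⟨Over.homMk l hlf, Over.OverMorphism.ext hl⟩

/-- `exists_conj_of_eq_mod` relative to an algebra -/
theorem exists_conj_step {G H : Over (Spec (CommRingCat.of R₀))} [GrpObj G] [GrpObj H]
    (hH : IsDiagLoc H) (u v : H ⟶ G) [IsMonHom u] [IsMonHom v] {D : Type u} [CommRing D] (a : R₀ →+* D)
    (I : Ideal D) (hI : I ^ 2 = ⊥)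
    (hres : ∀ (D' : Type u) [CommRing D'] (g : D →+* D'), I.map g = ⊥ →
      ∀ h : Tst (g.comp a) ⟶ H, h ≫ u = h ≫ v) :
    ∃ c : Tst a ⟶ G, tst (Ideal.Quotient.mk I) rfl ≫ c = 1 ∧
      ∀ (X : Over (Spec (CommRingCat.of R₀))) (p : X ⟶ Tst a) (h : X ⟶ H),
        h ≫ v = (p ≫ c) * (h ≫ u) * (p ≫ c)⁻¹ := by
  let f := Spec.map (CommRingCat.ofHom a)
  have : IsMonHom ((Over.pullback f).map u : Red.bc f H ⟶ Red.bc f G) :=
    isMonHom_of_mul _ fun x y => (MonObj.mul_comp _ _ _)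
  obtain ⟨c₀, hc0, hc⟩ := exists_conj_of_eq_mod (G := Red.bc f G) (H := Red.bc f H) (isDiagLoc_bc hH f)
    ((Over.pullback f).map u) ((Over.pullback f).map v) I hI fun D' _ g hg h' => by
      refine (bcEquiv f G (Tst g)).symm.injective ?_
      change bcHom f G _ (h' ≫ _) = bcHom f G _ (h' ≫ _)
      rw [bcHom_comp, bcHom_comp]
      let e : Tst (g.comp a) ⟶ (Over.map f).obj (Tst g) := Over.homMk (𝟙 _)
        ((Category.id_comp _).trans (specMap_comp a g).symm)
      refine Over.OverMorphism.ext ?_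
      have := congrArg (fun z => z.left) (hres D' g hg (e ≫ bcHom f H _ h'))
      change (𝟙 _ ≫ _) ≫ u.left = (𝟙 _ ≫ _) ≫ v.left at this
      rw [Category.id_comp] at this
      exact this
  let c : Tst a ⟶ G := (Over.homMk (𝟙 _) (by
    change 𝟙 _ ≫ 𝟙 _ ≫ f = f
    rw [Category.id_comp, Category.id_comp]) : Tst a ⟶ (Over.map f).obj (𝟙_ _)) ≫ bcHom f G _ c₀
  refine ⟨c, ?_, fun X p h => ?_⟩
  · have h1 := hc0 _ (Ideal.Quotient.mk I) (Ideal.map_quotient_self I)
    let e : Tst ((Ideal.Quotient.mk I).comp a) ⟶ (Over.map f).obj (Tst (Ideal.Quotient.mk I)) :=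
      Over.homMk (𝟙 _) ((Category.id_comp _).trans (specMap_comp a _).symm)
    have h2 := congrArg (fun z => e ≫ bcHom f G _ z) h1
    simp only [bcHom_precomp, map_one, MonObj.comp_one] at h2
    rw [← h2]
    refine Over.OverMorphism.ext ?_
    change Spec.map _ ≫ 𝟙 _ ≫ _ = 𝟙 _ ≫ Spec.map _ ≫ _
    simp only [Category.id_comp]
  · let X' : Over (Spec (CommRingCat.of D)) := Over.mk p.left
    let e : X ⟶ (Over.map f).obj X' := Over.homMk (𝟙 _) ((Category.id_comp _).trans (Over.w p))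
    let e' : (Over.map f).obj X' ⟶ X := Over.homMk (𝟙 _) ((Category.id_comp _).trans (Over.w p).symm)
    have hee : e ≫ e' = 𝟙 X := Over.OverMorphism.ext (Category.id_comp _)
    have h1 := congrArg (fun z => e ≫ bcHom f G _ z) (hc X' (bcEquiv f H X' (e' ≫ h)))
    simp only [map_mul, map_inv, bcHom_comp] at h1
    simp only [bcHom_precomp, MonObj.comp_mul, GrpObj.comp_inv] at h1
    have h3 : bcHom f H X' (bcEquiv f H X' (e' ≫ h)) = e' ≫ h := Equiv.symm_apply_apply _ _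
    rw [h3] at h1
    simp only [← Category.assoc, hee, Category.id_comp] at h1
    have h4 : (e ≫ (Over.map f).map (toUnit X')) ≫ bcHom f G _ c₀ = p ≫ c := by
      refine Over.OverMorphism.ext ?_
      change (𝟙 _ ≫ p.left) ≫ _ = p.left ≫ 𝟙 _ ≫ _
      simp only [Category.id_comp]
    rwa [h4] at h1

/-- homomorphisms which agree modulo a nilpotent ideal are conjugate if the target is smooth -/
theorem exists_conj_of_eq_mod_nilpotent {G H : Over (Spec (CommRingCat.of R₀))} [GrpObj G] [GrpObj H]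
    (hG : Smooth G.hom) (hH : IsDiagLoc H) (u v : H ⟶ G) [IsMonHom u] [IsMonHom v] (J : Ideal R₀)
    (hJ : IsNilpotent J)
    (hres : ∀ (X : Over (Spec (CommRingCat.of R₀))) (_ : X ⟶ Tst (Ideal.Quotient.mk J)) (h : X ⟶ H),
      h ≫ u = h ≫ v) :
    ∃ c : 𝟙_ (Over (Spec (CommRingCat.of R₀))) ⟶ G, toUnit (Tst (Ideal.Quotient.mk J)) ≫ c = 1 ∧
      ∀ (X : Over (Spec (CommRingCat.of R₀))) (h : X ⟶ H),
        h ≫ v = (toUnit X ≫ c) * (h ≫ u) * (toUnit X ≫ c)⁻¹ := by
  suffices key : ∀ k : ℕ, ∃ c : 𝟙_ (Over (Spec (CommRingCat.of R₀))) ⟶ G,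
      toUnit (Tst (Ideal.Quotient.mk J)) ≫ c = 1 ∧
      ∀ (X : Over (Spec (CommRingCat.of R₀))) (_ : X ⟶ Tst (Ideal.Quotient.mk (J ^ (k + 1)))) (h : X ⟶ H),
        h ≫ v = (toUnit X ≫ c) * (h ≫ u) * (toUnit X ≫ c)⁻¹ by
    obtain ⟨n, hn⟩ := hJ
    obtain ⟨c, hc1, hc⟩ := key n
    have hn' : J ^ (n + 1) = ⊥ := by rw [pow_succ, hn, zero_mul]; rfl
    refine ⟨c, hc1, fun X h => hc X ?_ h⟩
    let l : R₀ ⧸ J ^ (n + 1) →+* R₀ := Ideal.Quotient.lift _ (RingHom.id _) fun x hx => by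
      rw [hn'] at hx; exact hx
    refine Over.homMk (X.hom ≫ Spec.map (CommRingCat.ofHom l)) ?_
    change (X.hom ≫ _) ≫ Spec.map (CommRingCat.ofHom _) = X.hom
    rw [Category.assoc, ← specMap_comp, show l.comp (Ideal.Quotient.mk _) = RingHom.id R₀ from rfl,
      CommRingCat.ofHom_id, Spec.map_id, Category.comp_id]
  intro k
  induction k with
  | zero =>
    refine ⟨1, MonObj.comp_one _, fun X p h => ?_⟩
    rw [MonObj.comp_one, inv_one, _root_.mul_one, _root_.one_mul]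
    have hle : J ≤ J ^ (0 + 1) := by rw [zero_add, pow_one]
    exact (hres X (p ≫ tst (Ideal.Quotient.factor hle) (Ideal.Quotient.factor_comp_mk hle)) h).symm
  | succ k ih =>
    obtain ⟨c, hc1, hc⟩ := ih
    let u' : H ⟶ G := (toUnit H ≫ c) * u * (toUnit H ≫ c)⁻¹
    have hu' : ∀ {X : Over (Spec (CommRingCat.of R₀))} (h : X ⟶ H),
        h ≫ u' = (toUnit X ≫ c) * (h ≫ u) * (toUnit X ≫ c)⁻¹ := fun {X} h => by
      simp only [u', MonObj.comp_mul, GrpObj.comp_inv, ← Category.assoc, toUnit_unique (h ≫ toUnit H) (toUnit X)]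
    have : IsMonHom u' := isMonHom_of_mul u' fun x y => by
      rw [hu', hu', hu', MonObj.mul_comp]; group
    let a := Ideal.Quotient.mk (J ^ (k + 1 + 1))
    let I := (J ^ (k + 1)).map a
    have hI : I ^ 2 = ⊥ := by
      rw [← Ideal.map_pow, ← pow_mul, Ideal.map_eq_bot_iff_le_ker, Ideal.mk_ker]
      exact Ideal.pow_le_pow_right (by omega)
    obtain ⟨c₁, hc₁0, hc₁⟩ := exists_conj_step hH u' v a I hI fun D' _ g hg h => by
      let l : R₀ ⧸ J ^ (k + 1) →+* D' := Ideal.Quotient.lift _ (g.comp a) fun x hx => by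
        rw [← Ideal.mem_bot, ← hg]; exact Ideal.mem_map_of_mem g (Ideal.mem_map_of_mem a hx)
      rw [hc _ (tst l (Ideal.Quotient.lift_comp_mk _ _ _)) h, hu']
    obtain ⟨c', hc'⟩ := exists_lift_point hG _ (show IsNilpotent (J ^ (k + 1 + 1)) from hJ.pow_succ _) c₁
    refine ⟨c' * c, ?_, fun X p h => ?_⟩
    · rw [MonObj.comp_mul, hc1, _root_.mul_one]
      let π : R₀ ⧸ J ^ (k + 1 + 1) →+* R₀ ⧸ J := Ideal.Quotient.factor (Ideal.pow_le_self (by omega))
      let π' : (R₀ ⧸ J ^ (k + 1 + 1)) ⧸ I →+* R₀ ⧸ J := Ideal.Quotient.lift _ π fun x hx => by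
        refine (Ideal.map_le_iff_le_comap.mpr (fun y hy => ?_) : I ≤ RingHom.ker π) hx
        rw [Ideal.mem_comap, RingHom.mem_ker]
        exact Ideal.Quotient.eq_zero_iff_mem.mpr (Ideal.pow_le_self (by omega) hy)
      have h1 := congrArg (fun z => tst π' (g' := Ideal.Quotient.mk J)
        (show π'.comp ((Ideal.Quotient.mk I).comp a) = _ from RingHom.ext fun x => rfl) ≫ z) hc₁0
      simp only [← Category.assoc, tst_comp, MonObj.comp_one] at h1
      rw [← h1, ← hc', ← Category.assoc]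
      congr 1
      exact toUnit_unique _ _
    · have h1 := hc₁ X p h
      rw [hu', ← hc', ← Category.assoc, toUnit_unique (p ≫ toUnit _) (toUnit X)] at h1
      rw [h1, MonObj.comp_mul]; group

end Groth.Agent.H21Diag
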