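import Groth.Agent.H21Diag.TransporterSub
import Groth.Agent.H19Grp.Diagonal
import Groth.Agent.S0412

/-!
Étale local conjugacy; centralizers and normalizers of subtori of smooth groups.
-/

open CategoryTheory MonoidalCategory CartesianMonoidalCategory MonObj GrpObj AlgebraicGeometry
open CategoryTheory.Limits

universe u

namespace Groth.Agent.H21Diag

variable {S : Scheme.{u}}

/-- a smooth scheme over `S` with a point over `s` has a section over an étale neighbourhood of `s` -/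
theorem exists_etale_point {Z : Over S} (hZ : Smooth Z.hom) {K : Type u} [Field K]
    {p : Spec (CommRingCat.of K) ⟶ S} (z : Over.mk p ⟶ Z) (x : Spec (CommRingCat.of K)) (s : S) (hs : p.base x = s) :
    ∃ (S' : Scheme.{u}) (e : S' ⟶ S), Etale e ∧ s ∈ Set.range e.base ∧ Nonempty (Over.mk e ⟶ Z) := by
  have hr : s ∈ Set.range Z.hom := ⟨z.left.base x, by
    rw [← hs]
    exact congrArg (fun m : Spec (CommRingCat.of K) ⟶ S => m.base x) (Over.w z)⟩
  obtain ⟨S', e, s', he, hes, h, hh⟩ := Groth.Agent.S0412.result Z.hom s hr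
  exact ⟨S', e, he, ⟨s', hes⟩, ⟨Over.homMk h hh⟩⟩

/-- a point over `S'` as a section of the base change -/
noncomputable def sectionOf {S' : Scheme.{u}} (f : S' ⟶ S) {G : Over S} (g : Over.mk f ⟶ G) :
    𝟙_ (Over S') ⟶ Red.bc f G :=
  bcEquiv f G _ ((Over.homMk (𝟙 _) (Category.id_comp f) : (Over.map f).obj (𝟙_ (Over S')) ⟶ Over.mk f) ≫ g)

theorem bcHom_toUnit_sectionOf {S' : Scheme.{u}} (f : S' ⟶ S) {G : Over S} [GrpObj G] (g : Over.mk f ⟶ G)
    (X : Over S') :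
    bcHom f G X (toUnit X ≫ sectionOf f g) =
      ((Over.map f).map (toUnit X) ≫ Over.homMk (𝟙 _) (Category.id_comp f)) ≫ g := by
  rw [bcHom_precomp, Category.assoc]
  exact congrArg (_ ≫ ·) (Equiv.symm_apply_apply _ _)

/-- homomorphisms which are conjugate on a geometric fibre are conjugate on an étale neighbourhood -/
theorem exists_conj_etale {H G : Over S} [GrpObj H] [GrpObj G] (hH : SGA3x.IsMultTypeFT H) (hG : Smooth G.hom)
    [IsSeparated G.hom] (u₁ u₂ : H ⟶ G) [IsMonHom u₁] [IsMonHom u₂] (s : S)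
    (hs : ∃ g : Over.mk (Red.geomPt s) ⟶ G, ∀ (X : Over S) (p : X ⟶ Over.mk (Red.geomPt s)) (h : X ⟶ H),
      h ≫ u₂ = (p ≫ g) * (h ≫ u₁) * (p ≫ g)⁻¹) :
    ∃ (S' : Scheme.{u}) (f : S' ⟶ S), Etale f ∧ s ∈ Set.range f.base ∧ ∃ g : 𝟙_ (Over S') ⟶ Red.bc f G,
      ∀ (X : Over S') (h : X ⟶ Red.bc f H),
        h ≫ (Over.pullback f).map u₂ =
          (toUnit X ≫ g) * (h ≫ (Over.pullback f).map u₁) * (toUnit X ≫ g)⁻¹ := by
  obtain ⟨g₀, hg₀⟩ := hs
  obtain ⟨Z, j, -, hsm, hiff⟩ := exists_smooth_transHom (isDiagLoc_of_isMultTypeFT hH) hG u₁ u₂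
  obtain ⟨z, -⟩ := (hiff _ g₀).mpr fun X' x h => (hg₀ X' x h).symm
  let x₀ : Spec (CommRingCat.of (AlgebraicClosure (S.residueField s))) := IsLocalRing.closedPoint _
  obtain ⟨S', e, he, hse, ⟨σ⟩⟩ := exists_etale_point hsm z x₀ s (by
    change (S.fromSpecResidueField s).base _ = s
    exact Scheme.fromSpecResidueField_apply _ _)
  have hσ := (hiff _ (σ ≫ j)).mp ⟨σ, rfl⟩
  refine ⟨S', e, he, hse, sectionOf e (σ ≫ j), fun X h => (bcEquiv e G X).symm.injective ?_⟩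
  change bcHom e G X _ = bcHom e G X _
  rw [map_mul, map_mul, map_inv, bcHom_toUnit_sectionOf, bcHom_comp, bcHom_comp]
  exact (hσ _ _ _).symm

/-- subgroups which are conjugate on a geometric fibre are conjugate on an étale neighbourhood -/
theorem exists_conjBy_etale {H₁ H₂ G : Over S} [GrpObj H₁] [GrpObj H₂] [GrpObj G] (h₁ : SGA3x.IsMultTypeFT H₁)
    (h₂ : SGA3x.IsMultTypeFT H₂) (hG : Smooth G.hom) (hGa : IsAffineHom G.hom)
    (i₁ : H₁ ⟶ G) [IsMonHom i₁] [Mono i₁] (i₂ : H₂ ⟶ G) [IsMonHom i₂] [Mono i₂] (s : S)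
    (hs : ∃ g : Over.mk (Red.geomPt s) ⟶ G, ∀ (X : Over S) (p : X ⟶ Over.mk (Red.geomPt s)),
      (∀ a : X ⟶ H₁, ∃ b : X ⟶ H₂, (p ≫ g) * (a ≫ i₁) * (p ≫ g)⁻¹ = b ≫ i₂) ∧
      (∀ b : X ⟶ H₂, ∃ a : X ⟶ H₁, (p ≫ g)⁻¹ * (b ≫ i₂) * (p ≫ g) = a ≫ i₁)) :
    ∃ (S' : Scheme.{u}) (f : S' ⟶ S), Etale f ∧ s ∈ Set.range f.base ∧ ∃ g : 𝟙_ (Over S') ⟶ Red.bc f G,
      SGA3x.ConjBy ((Over.pullback f).map i₁) ((Over.pullback f).map i₂) g := by
  obtain ⟨g₀, hg₀⟩ := hs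
  obtain ⟨Z, j, -, hsm, hiff⟩ := exists_smooth_transEq h₁ h₂ hG hGa i₁ i₂
  obtain ⟨z, -⟩ := (hiff _ g₀).mpr hg₀
  let x₀ : Spec (CommRingCat.of (AlgebraicClosure (S.residueField s))) := IsLocalRing.closedPoint _
  obtain ⟨S', e, he, hse, ⟨σ⟩⟩ := exists_etale_point hsm z x₀ s (by
    change (S.fromSpecResidueField s).base _ = s
    exact Scheme.fromSpecResidueField_apply _ _)
  have hσ := (hiff _ (σ ≫ j)).mp ⟨σ, rfl⟩
  let g := sectionOf e (σ ≫ j)
  have hbg : ∀ (X : Over S'), bcHom e G X (toUnit X ≫ g) =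
      ((Over.map e).map (toUnit X) ≫ Over.homMk (𝟙 _) (Category.id_comp e)) ≫ σ ≫ j :=
    bcHom_toUnit_sectionOf e (σ ≫ j)
  obtain ⟨a, ha⟩ := (hσ ((Over.map e).obj (Red.bc e H₁))
    ((Over.map e).map (toUnit _) ≫ Over.homMk (𝟙 _) (Category.id_comp e))).1 (bcHom e H₁ _ (𝟙 _))
  obtain ⟨b, hb⟩ := (hσ ((Over.map e).obj (Red.bc e H₂))
    ((Over.map e).map (toUnit _) ≫ Over.homMk (𝟙 _) (Category.id_comp e))).2 (bcHom e H₂ _ (𝟙 _))
  let φ : Red.bc e H₁ ⟶ Red.bc e H₂ := bcEquiv e H₂ _ a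
  let ψ : Red.bc e H₂ ⟶ Red.bc e H₁ := bcEquiv e H₁ _ b
  have hφ : (toUnit (Red.bc e H₁) ≫ g) * (Over.pullback e).map i₁ * (toUnit (Red.bc e H₁) ≫ g)⁻¹ =
      φ ≫ (Over.pullback e).map i₂ := by
    refine (bcEquiv e G (Red.bc e H₁)).symm.injective ?_
    change bcHom e G _ _ = bcHom e G _ _
    rw [map_mul, map_mul, map_inv, hbg, ← Category.id_comp ((Over.pullback e).map i₁), bcHom_comp, bcHom_comp]
    exact ha.trans (congrArg (· ≫ i₂) (Equiv.symm_apply_apply _ _).symm)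
  have hψ : (toUnit (Red.bc e H₂) ≫ g)⁻¹ * (Over.pullback e).map i₂ * (toUnit (Red.bc e H₂) ≫ g) =
      ψ ≫ (Over.pullback e).map i₁ := by
    refine (bcEquiv e G (Red.bc e H₂)).symm.injective ?_
    change bcHom e G _ _ = bcHom e G _ _
    rw [map_mul, map_mul, map_inv, hbg, ← Category.id_comp ((Over.pullback e).map i₂), bcHom_comp, bcHom_comp]
    exact hb.trans (congrArg (· ≫ i₁) (Equiv.symm_apply_apply _ _).symm)
  have : Mono ((Over.pullback e).map i₁ : Red.bc e H₁ ⟶ Red.bc e G) := by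
    have := (Over.mapPullbackAdj e).isRightAdjoint
    infer_instance
  have : Mono ((Over.pullback e).map i₂ : Red.bc e H₂ ⟶ Red.bc e G) := by
    have := (Over.mapPullbackAdj e).isRightAdjoint
    infer_instance
  refine ⟨S', e, he, hse, g, ⟨φ, ψ, ?_, ?_⟩, hφ⟩
  · rw [← cancel_mono ((Over.pullback e).map i₁ : Red.bc e H₁ ⟶ Red.bc e G), Category.assoc, ← hψ,
      MonObj.comp_mul, MonObj.comp_mul, GrpObj.comp_inv, ← hφ, ← Category.assoc,
      toUnit_unique (φ ≫ toUnit _) (toUnit (Red.bc e H₁)), Category.id_comp]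
    group
  · rw [← cancel_mono ((Over.pullback e).map i₂ : Red.bc e H₂ ⟶ Red.bc e G), Category.assoc, ← hφ,
      MonObj.comp_mul, MonObj.comp_mul, GrpObj.comp_inv, ← hψ, ← Category.assoc,
      toUnit_unique (ψ ≫ toUnit _) (toUnit (Red.bc e H₂)), Category.id_comp]
    group

theorem isMultTypeFT_of_isTorus {T : Over S} [GrpObj T] (hT : Red.IsTorus T) : SGA3x.IsMultTypeFT T := by
  obtain ⟨S', f, hf, hs, hqc, hloc⟩ := hT
  refine ⟨S', f, hf, hs, hqc, fun s' => ?_⟩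
  obtain ⟨U, hU, r, h⟩ := hloc s'
  exact ⟨U, hU, Fin r → ℤ, inferInstance, AddGroup.fg_iff_addMonoid_fg.mpr inferInstance, h⟩

/-- centralizers and normalizers of closed subtori of smooth groups -/
theorem exists_centralizer_normalizer {Q G : Over S} [GrpObj Q] [GrpObj G] (hG : Smooth G.hom)
    (q : Q ⟶ G) [IsMonHom q] (hq : IsClosedImmersion q.left) (hQ : SGA3x.IsMultTypeFT Q) :
    (∃ (Z : Over S) (_ : GrpObj Z) (z : Z ⟶ G),
        Red.IsCentralizerOf q z ∧ IsClosedImmersion z.left ∧ Smooth Z.hom) ∧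
      ∃ (N : Over S) (_ : GrpObj N) (n : N ⟶ G),
        Red.IsNormalizerOf q n ∧ IsClosedImmersion n.left ∧ Smooth N.hom := by
  have : IsSeparated G.hom := by
    rw [H19Grp.isSeparated_iff_isClosedImmersion_one, ← IsMonHom.one_hom q]
    have : IsClosedImmersion (η[Q]).left :=
      (H19Grp.isSeparated_iff_isClosedImmersion_one Q).mp (isSeparated_of_multTypeFT hQ)
    change IsClosedImmersion ((η[Q]).left ≫ q.left)
    infer_instance
  refine ⟨exists_centralizer (isDiagLoc_of_isMultTypeFT hQ) hG q, ?_⟩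
  have := ((Groth.Agent.S1488.result G.hom).mp hG).1
  have : LocallyOfFinitePresentation (q.left ≫ G.hom) := by rw [Over.w q]; exact lfp_of_multTypeFT hQ
  have := H12AlgSp.lfp_of_comp q.left G.hom
  have hd := isDiagLoc_of_isMultTypeFT hQ
  obtain ⟨Z, j, hj, hjf, hiff⟩ := exists_transEq hd hd q q
  have hsm : Smooth Z.hom := smooth_of_lifting j hG fun A _ I hI b g₀ hg₀ => by
    obtain ⟨g, hg, hgl⟩ := exists_lift_transEq b hd hd hG q q I hI g₀ ((hiff _ g₀).mp hg₀)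
    exact ⟨g, (hiff _ g).mpr hg, hgl⟩
  have : Mono j := Over.mono_of_mono_left j
  obtain ⟨_, hN⟩ := isNormalizerOf_of_transEq q j hiff
  exact ⟨Z, _, j, hN, hj, hsm⟩

end Groth.Agent.H21Diag
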