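import Groth.Agent.H21Diag.SubgroupSplit
import Groth.Agent.H21Quot.OfKernel

/-!
Quotients of diagonalisable groups by subgroups of multiplicative type.
-/

set_option backward.isDefEq.respectTransparency false

open CategoryTheory MonoidalCategory CartesianMonoidalCategory MonObj GrpObj AlgebraicGeometry
open CategoryTheory.Limits

universe u

namespace Groth.Agent.H21Diag

open Groth.Agent.H18Torsor.DiagExact

variable {S : Scheme.{u}} {M : Type} [AddCommGroup M]

theorem mk'_comp_subtype_eq_one (Λ : AddSubgroup M) {T : Over S} (z : T ⟶ Red.DS S (M ⧸ Λ)) :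
    (z ≫ Red.DSmap S (QuotientAddGroup.mk' Λ)) ≫ Red.DSmap S Λ.subtype = 1 := by
  refine chr_ext (MonoidHom.ext fun m => ?_)
  rw [chr_comp_DSmap, chr_comp_DSmap, chr_one]
  change chr z (Multiplicative.ofAdd (QuotientAddGroup.mk' Λ (m.toAdd : M))) = 1
  rw [show QuotientAddGroup.mk' Λ (m.toAdd : M) = 0 from (QuotientAddGroup.eq_zero_iff _).mpr m.toAdd.2,
    ofAdd_zero, map_one]

/-- A group that is diagonalisable over its base has commutative points. -/
theorem comm_of_chart {G : Over S} [GrpObj G] (e : Grp.mk (Red.bc (𝟙 S) G) ≅ Grp.mk (Red.DS S M))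
    {T : Over S} (a b : T ⟶ G) : a * b = b * a := by
  refine Over.OverMorphism.ext (Scheme.Cover.hom_ext T.left.affineCover _ _ fun j => ?_)
  let X := T.left.affineCover.X j
  let h := X.isoSpec.inv ≫ T.left.affineCover.f j
  rw [← cancel_epi X.isoSpec.inv, ← Category.assoc, ← Category.assoc]
  change h ≫ (a * b).left = h ≫ (b * a).left
  let p : Over.mk ((h ≫ T.hom) ≫ 𝟙 S) ⟶ T := Over.homMk h (Category.comp_id _).symm
  have key : p ≫ (a * b) = p ≫ (b * a) := by
    obtain ⟨χ, hχ⟩ := gpt_surjective e _ (p ≫ a)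
    obtain ⟨χ', hχ'⟩ := gpt_surjective e _ (p ≫ b)
    rw [MonObj.comp_mul, MonObj.comp_mul, ← hχ, ← hχ', ← gpt_mul, ← gpt_mul]
    exact congrArg _ (_root_.mul_comm χ χ')
  exact congrArg (fun m => m.left) key

theorem clopen_le_pair {G H H' : Over S} [GrpObj G] [GrpObj H] [GrpObj H'] (i : H ⟶ G) [IsMonHom i] [Mono i.left]
    (i' : H' ⟶ G) [IsMonHom i'] [Mono i'.left] [IsSeparated G.hom]
    (hH : SGA3x.IsMultTypeFT H) (hH' : SGA3x.IsMultTypeFT H')
    (hG : IsLocallyNoetherian S ∨ LocallyOfFiniteType G.hom) (e : Grp.mk (Red.bc (𝟙 S) G) ≅ Grp.mk (Red.DS S M)) :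
    (IsClopen {s : S | LEOn i i' (S.fromSpecResidueField s)} ∧
      ∀ V : S.Opens, (∀ s ∈ V, LEOn i i' (S.fromSpecResidueField s)) → LEOn i i' V.ι) ∧
    (IsClopen {s : S | LEOn i' i (S.fromSpecResidueField s)} ∧
      ∀ V : S.Opens, (∀ s ∈ V, LEOn i' i (S.fromSpecResidueField s)) → LEOn i' i V.ι) :=
  ⟨exists_clopen_le i i' hH hH' hG fun X _ _ => comm_of_chart e _ _,
    exists_clopen_le i' i hH' hH hG fun X _ _ => comm_of_chart e _ _⟩

variable [AddGroup.FG M] {H : Over S} [GrpObj H]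

/-- Over a clopen neighbourhood of each point a subgroup of multiplicative type of `D(M)` is the
subgroup cut out by a subgroup of `M`. -/
theorem exists_clopen_type (hH : SGA3x.IsMultTypeFT H) (i : H ⟶ Red.DS S M) [IsMonHom i] [Mono i] (s : S) :
    ∃ (Λ : AddSubgroup M) (V : S.Opens), s ∈ V ∧ IsClosed (V : Set S) ∧
      LEOn i (Red.DSmap S (QuotientAddGroup.mk' Λ)) V.ι ∧
      LEOn (Red.DSmap S (QuotientAddGroup.mk' Λ)) i V.ι := by
  have : IsClosedImmersion i.left :=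
    isClosedImmersion_of_mono (isDiagLoc_of_isMultTypeFT hH) (isAffineHom_DS S M) i
  obtain ⟨S', g, hg, hsur, hqc, hloc⟩ := id hH
  obtain ⟨t, rfl⟩ := hsur.surj s
  obtain ⟨U, htU, N, _, hN, ⟨e⟩⟩ := hloc t
  have hr : Set.range (S'.fromSpecResidueField t).base ⊆ Set.range U.ι.base := by
    rintro _ ⟨p, rfl⟩
    rw [Scheme.fromSpecResidueField_apply, Scheme.Opens.range_ι]
    exact htU
  let y : Spec (CommRingCat.of (S'.residueField t)) ⟶ U :=
    IsOpenImmersion.lift U.ι (S'.fromSpecResidueField t) hr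
  obtain ⟨Λ, h1, h2⟩ := exists_type_pt e i y
  let d : Spec (S'.residueField t) ⟶ Spec (S.residueField (g.base t)) := Spec.map (g.residueFieldMap t)
  have hd : y ≫ U.ι ≫ g = d ≫ S.fromSpecResidueField (g.base t) := by
    rw [← Category.assoc, IsOpenImmersion.lift_fac, Scheme.Hom.SpecMap_residueFieldMap_fromSpecResidueField]
  have : Flat d := by
    refine Flat.SpecMap_iff.mpr ?_
    let := (g.residueFieldMap t).hom.toAlgebra
    exact (inferInstance : Module.Flat (S.residueField (g.base t)) (S'.residueField t))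
  have : Surjective d := ⟨fun x => ⟨IsLocalRing.closedPoint (S'.residueField t),
    (inferInstance : Subsingleton (PrimeSpectrum (S.residueField (g.base t)))).elim _ _⟩⟩
  let π := Red.DSmap S (QuotientAddGroup.mk' Λ)
  have hπs : Function.Surjective (QuotientAddGroup.mk' Λ) := QuotientAddGroup.mk'_surjective _
  have : Mono π := mono_DSmap _ hπs
  have : IsClosedImmersion π.left := isClosedImmersion_DSmap S _ hπs
  have : IsAffineHom (Red.DS S M).hom := isAffineHom_DS S M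
  have hQ : AddGroup.FG (M ⧸ Λ) := AddGroup.fg_of_surjective hπs
  have hlft : IsLocallyNoetherian S ∨ LocallyOfFiniteType (Red.DS S M).hom :=
    Or.inr (locallyOfFiniteType_DS S M)
  have : IsMonHom π := isMonHom_DSmap S _
  have : IsSeparated (Red.DS S M).hom := inferInstance
  have hT : SGA3x.IsMultTypeFT (Red.DS S (M ⧸ Λ)) := isMultTypeFT_DS S (M ⧸ Λ)
  obtain ⟨⟨hc₁, hle₁⟩, hc₂, hle₂⟩ := clopen_le_pair (G := Red.DS S M) i π hH hT hlft (idChart S M)
  let A : Set S := {s | LEOn i π (S.fromSpecResidueField s)} ∩ {s | LEOn π i (S.fromSpecResidueField s)}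
  have hA : IsClopen A := hc₁.inter hc₂
  refine ⟨Λ, ⟨A, hA.2⟩, ⟨?_, ?_⟩, hA.1, hle₁ _ fun s hs => hs.1, hle₂ _ fun s hs => hs.2⟩
  · exact leOn_of_fpqc d _ (hd ▸ h1)
  · exact leOn_of_fpqc d _ (hd ▸ h2)

theorem flat_bcMap {T : Scheme.{u}} (v : T ⟶ S) {A B : Over S} (f : A ⟶ B) [Flat f.left] :
    Flat ((Over.pullback v).map f).left :=
  MorphismProperty.overPullbackMap (P := @Flat) _ _ ‹_›

theorem surjective_bcMap {T : Scheme.{u}} (v : T ⟶ S) {A B : Over S} (f : A ⟶ B) [Surjective f.left] :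
    Surjective ((Over.pullback v).map f).left :=
  MorphismProperty.overPullbackMap (P := @Surjective) _ _ ‹_›

theorem lfp_bcMap {T : Scheme.{u}} (v : T ⟶ S) {A B : Over S} (f : A ⟶ B) [LocallyOfFinitePresentation f.left] :
    LocallyOfFinitePresentation ((Over.pullback v).map f).left :=
  MorphismProperty.overPullbackMap (P := @LocallyOfFinitePresentation) _ _ ‹_›

theorem bcEquiv_symm_one {T : Scheme.{u}} (v : T ⟶ S) (A : Over S) [GrpObj A] (X : Over T) :
    (bcEquiv v A X).symm 1 = 1 :=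
  H21Quot.eq_one_of_mul_self _ ((bcEquiv_symm_mul v A X 1 1).symm.trans (congrArg _ (_root_.mul_one _)))

theorem comp_bcMap_eq_one_iff {T : Scheme.{u}} (v : T ⟶ S) {A B : Over S} [GrpObj B] (f : A ⟶ B)
    {X : Over T} (x : X ⟶ Red.bc v A) :
    x ≫ ((Over.pullback v).map f : Red.bc v A ⟶ Red.bc v B) = 1 ↔ (bcEquiv v A X).symm x ≫ f = 1 := by
  have h : (bcEquiv v B X).symm (x ≫ ((Over.pullback v).map f : Red.bc v A ⟶ Red.bc v B)) =
      (bcEquiv v A X).symm x ≫ f := (Over.mapPullbackAdj v).homEquiv_naturality_right_symm x f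
  rw [← h, ← bcEquiv_symm_one v B X, (bcEquiv v B X).symm.injective.eq_iff]

/-- The quotient of `D(M)` by a subgroup of multiplicative type is, over a clopen neighbourhood of each
point, `D` of a subgroup of `M`. -/
theorem exists_clopen_quotient {G Q : Over S} [GrpObj G] [GrpObj Q] (e : Grp.mk G ≅ Grp.mk (Red.DS S M))
    (hH : SGA3x.IsMultTypeFT H) (i : H ⟶ G) [IsMonHom i] [Mono i] (q : G ⟶ Q) [IsMonHom q]
    (hq : H21Quot.IsKernelQuot i q) (s : S) :
    ∃ (Λ : AddSubgroup M) (V : S.Opens), s ∈ V ∧ IsClosed (V : Set S) ∧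
      Nonempty (Grp.mk (Red.bc V.ι Q) ≅ Grp.mk (Red.DS (V : Scheme.{u}) Λ)) := by
  let f : G ⟶ Red.DS S M := e.hom.hom.hom
  let f' : Red.DS S M ⟶ G := e.inv.hom.hom
  have hff' : f ≫ f' = 𝟙 G := congrArg (fun k => k.hom.hom) e.hom_inv_id
  have hf'f : f' ≫ f = 𝟙 _ := congrArg (fun k => k.hom.hom) e.inv_hom_id
  have : IsIso f := ⟨f', hff', hf'f⟩
  have : IsIso f' := ⟨f, hf'f, hff'⟩
  have : IsMonHom f := e.hom.hom.isMonHom_hom
  have : IsMonHom f' := e.inv.hom.isMonHom_hom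
  obtain ⟨Λ, V, hsV, hV, hle₁, hle₂⟩ := exists_clopen_type hH (i ≫ f) s
  refine ⟨Λ, V, hsV, hV, ?_⟩
  let _ : AddGroup.FG Λ := by
    have : Module.Finite ℤ M := Module.Finite.iff_addGroup_fg.mpr inferInstance
    exact Module.Finite.iff_addGroup_fg.mp (inferInstanceAs (Module.Finite ℤ Λ.toIntSubmodule))
  obtain ⟨hq1, hq2, hq3, hqker⟩ := id hq
  have : IsIso f'.left := inferInstanceAs (IsIso ((Over.forget S).map f'))
  let qD : Red.DS S M ⟶ Q := f' ≫ q
  let qΛ : Red.DS S M ⟶ Red.DS S Λ := Red.DSmap S Λ.subtype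
  have : Flat qD.left := by change Flat (f'.left ≫ q.left); infer_instance
  have : Surjective qD.left := by change Surjective (f'.left ≫ q.left); infer_instance
  have : LocallyOfFinitePresentation qD.left := by
    change LocallyOfFinitePresentation (f'.left ≫ q.left); infer_instance
  obtain ⟨_, _⟩ := flat_surjective_DSmap S Λ.subtype Subtype.val_injective
  have : LocallyOfFinitePresentation qΛ.left := locallyOfFinitePresentation_DSmap _
  let qV : Red.bc V.ι (Red.DS S M) ⟶ Red.bc V.ι Q := (Over.pullback V.ι).map qD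
  let pV : Red.bc V.ι (Red.DS S M) ⟶ Red.bc V.ι (Red.DS S Λ) := (Over.pullback V.ι).map qΛ
  have : IsMonHom qV := isMonHom_bcMap V.ι qD
  have : IsMonHom pV := isMonHom_bcMap V.ι qΛ
  have := flat_bcMap V.ι qD; have := surjective_bcMap V.ι qD; have := lfp_bcMap V.ι qD
  have := flat_bcMap V.ι qΛ; have := surjective_bcMap V.ι qΛ; have := lfp_bcMap V.ι qΛ
  have hker : ∀ (T : Over (V : Scheme.{u})) (x : T ⟶ Red.bc V.ι (Red.DS S M)), x ≫ qV = 1 ↔ x ≫ pV = 1 := by
    intro T x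
    rw [comp_bcMap_eq_one_iff, comp_bcMap_eq_one_iff]
    generalize (bcEquiv V.ι (Red.DS S M) T).symm x = x'
    constructor
    · intro hx
      obtain ⟨n, hn⟩ := (hqker (x' ≫ f')).mp (by rw [Category.assoc]; exact hx)
      obtain ⟨m, hm⟩ := hle₁ T.left T.hom n
      rw [show x' = m ≫ Red.DSmap S (QuotientAddGroup.mk' Λ) by
        refine Eq.trans ?_ hm.symm
        rw [← Category.assoc, hn, Category.assoc, hf'f]
        exact (Category.comp_id _).symm]
      exact mk'_comp_subtype_eq_one Λ m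
    · intro hx
      obtain ⟨z, hz⟩ := exists_lift_kernel Λ.subtype (QuotientAddGroup.mk' Λ) (QuotientAddGroup.mk'_surjective _)
        (fun m hm => ⟨⟨m, (QuotientAddGroup.eq_zero_iff m).mp hm⟩, rfl⟩) x' hx
      obtain ⟨n, hn⟩ := hle₂ T.left T.hom z
      rw [show x' ≫ qD = (x' ≫ f') ≫ q from (Category.assoc _ _ _).symm]
      refine (hqker (x' ≫ f')).mpr ⟨n, ?_⟩
      have hn' : n ≫ i ≫ f = x' := hn.trans hz
      rw [← hn']
      simp only [Category.assoc, hff', Category.comp_id]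
  obtain ⟨ψ, -⟩ := H21Quot.exists_grpIso qV pV hker
  exact ⟨ψ ≪≫ bcDSIso V.ι Λ⟩

/-- An isomorphism of character groups gives an isomorphism of diagonalisable groups. -/
theorem nonempty_DS_iso (T : Scheme.{u}) {A B : Type} [AddCommGroup A] [AddCommGroup B] (e : A ≃+ B) :
    Nonempty (Grp.mk (Red.DS T A) ≅ Grp.mk (Red.DS T B)) := by
  let f : Red.DS T A ⟶ Red.DS T B := Red.DSmap T e.symm.toAddMonoidHom
  have : IsMonHom f := isMonHom_DSmap T _
  have : IsIso f := by
    refine ⟨Red.DSmap T e.toAddMonoidHom, ?_, ?_⟩ <;>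
    · refine chr_ext (MonoidHom.ext fun m => ?_)
      simp only [f]
      rw [chr_comp_DSmap, ← Category.id_comp (Red.DSmap T _), chr_comp_DSmap]
      simp
  exact ⟨Grp.mkIso' (asIso f)⟩

/-- The quotient of a split torus by a subgroup of multiplicative type is split, of no larger rank, over a
clopen neighbourhood of each point. -/
theorem exists_clopen_split_quotient {G Q : Over S} [GrpObj G] [GrpObj Q] {H : Over S} [GrpObj H] (r : ℕ)
    (e : Grp.mk G ≅ Grp.mk (Red.DS S (Fin r → ℤ)))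
    (hH : SGA3x.IsMultTypeFT H) (i : H ⟶ G) [IsMonHom i] [Mono i] (q : G ⟶ Q) [IsMonHom q]
    (hq : H21Quot.IsKernelQuot i q) (s : S) :
    ∃ (r' : ℕ) (V : S.Opens), r' ≤ r ∧ s ∈ V ∧ IsClosed (V : Set S) ∧
      Red.IsSplitTorusWith (Fin r' → ℤ) (Red.bc V.ι Q) := by
  have : AddGroup.FG (Fin r → ℤ) := Module.Finite.iff_addGroup_fg.mp inferInstance
  obtain ⟨Λ, V, hsV, hV, ⟨ψ⟩⟩ := exists_clopen_quotient e hH i q hq s
  obtain ⟨n, hn, b⟩ : ∃ n, n ≤ r ∧ Nonempty (Module.Basis (Fin n) ℤ Λ.toIntSubmodule) := by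
    obtain ⟨n, b⟩ := Submodule.basisOfPid (Pi.basisFun ℤ (Fin r)) Λ.toIntSubmodule
    refine ⟨n, ?_, ⟨b⟩⟩
    have h1 := Submodule.finrank_le Λ.toIntSubmodule
    rwa [Module.finrank_eq_card_basis b, Module.finrank_fin_fun, Fintype.card_fin] at h1
  obtain ⟨b⟩ := b
  obtain ⟨φ⟩ := nonempty_DS_iso (V : Scheme.{u}) (A := Λ) (B := Fin n → ℤ) b.equivFun.toAddEquiv
  exact ⟨n, V, hn, hsV, hV, ⟨ψ ≪≫ φ⟩⟩

/-- Splitness pulls back. -/
theorem isSplit_comp {A : Type} [AddCommGroup A] {Q : Over S} [GrpObj Q] {V V' : Scheme.{u}} (v : V ⟶ S)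
    (w : V' ⟶ V) {v' : V' ⟶ S} (hv : v' = w ≫ v) (h : Red.IsSplitTorusWith A (Red.bc v Q)) :
    Red.IsSplitTorusWith A (Red.bc v' Q) := by
  obtain ⟨e⟩ := h
  exact ⟨bcCongrIso hv Q ≪≫ bcCompIso w v Q ≪≫ bcMapIso w e ≪≫ bcDSIso w A⟩

/-- Splitness over the whole base. -/
theorem isSplit_of_id {A : Type} [AddCommGroup A] {Q : Over S} [GrpObj Q]
    (h : Red.IsSplitTorusWith A (Red.bc (𝟙 S) Q)) : Red.IsSplitTorusWith A Q := by
  obtain ⟨e⟩ := h
  exact ⟨(Grp.mkIso' (asIso (bcIdHom Q))).symm ≪≫ e⟩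

/-- Being a quotient by kernel on points is stable under base change. -/
theorem isKernelQuot_bc {T : Scheme.{u}} (v : T ⟶ S) {A B C : Over S} [GrpObj B] [GrpObj C] [GrpObj A] (i : A ⟶ B)
    (q : B ⟶ C) (hq : H21Quot.IsKernelQuot i q) :
    H21Quot.IsKernelQuot ((Over.pullback v).map i : Red.bc v A ⟶ Red.bc v B)
      ((Over.pullback v).map q : Red.bc v B ⟶ Red.bc v C) := by
  obtain ⟨_, _, _, hker⟩ := hq
  refine ⟨surjective_bcMap v q, flat_bcMap v q, lfp_bcMap v q, fun {X} x => ?_⟩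
  rw [comp_bcMap_eq_one_iff, hker]
  have h : ∀ n : X ⟶ Red.bc v A, (bcEquiv v B X).symm (n ≫ (Over.pullback v).map i) =
      (bcEquiv v A X).symm n ≫ i := fun n => (Over.mapPullbackAdj v).homEquiv_naturality_right_symm n i
  constructor
  · rintro ⟨n, hn⟩
    refine ⟨bcEquiv v A X n, (bcEquiv v B X).symm.injective ?_⟩
    rw [h, Equiv.symm_apply_apply, hn]
  · rintro ⟨n, hn⟩
    exact ⟨(bcEquiv v A X).symm n, by rw [← h, hn]⟩

/-- The version over a base change. -/
theorem exists_split_quotient_bc {U : Scheme.{u}} (v : U ⟶ S) {G Q : Over S} [GrpObj G] [GrpObj Q] {H : Over S}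
    [GrpObj H] (r : ℕ) (hT : Red.IsSplitTorusWith (Fin r → ℤ) (Red.bc v G))
    (hH : SGA3x.IsMultTypeFT H) (i : H ⟶ G) [IsMonHom i] [Mono i] (q : G ⟶ Q) [IsMonHom q]
    (hq : RedSub.IsQuotient i q) (s : U) :
    ∃ (r' : ℕ) (V : U.Opens), s ∈ V ∧ Red.IsSplitTorusWith (Fin r' → ℤ) (Red.bc (V.ι ≫ v) Q) := by
  obtain ⟨e⟩ := hT
  have := (Over.mapPullbackAdj v).isRightAdjoint
  let iv : Red.bc v H ⟶ Red.bc v G := (Over.pullback v).map i
  let qv : Red.bc v G ⟶ Red.bc v Q := (Over.pullback v).map q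
  have : IsMonHom iv := isMonHom_bcMap v i
  have : IsMonHom qv := isMonHom_bcMap v q
  have : Mono iv := inferInstanceAs (Mono ((Over.pullback v).map i))
  obtain ⟨r', V, -, hsV, -, ⟨e'⟩⟩ := exists_clopen_split_quotient r e (isMultTypeFT_bc hH v) iv qv
    (isKernelQuot_bc v i q (H21Quot.isKernelQuot_of_isQuotient hq)) s
  exact ⟨r', V, hsV, ⟨bcCompIso V.ι v Q ≪≫ e'⟩⟩

end Groth.Agent.H21Diag
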