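import Groth.Agent.H21Diag.BaseChange

/-!
Base change of tori.
-/

open CategoryTheory MonoidalCategory CartesianMonoidalCategory MonObj GrpObj AlgebraicGeometry
open CategoryTheory.Limits

universe u

namespace Groth.Agent.H21Diag

variable {S T : Scheme.{u}}

/-- tori are stable under base change -/
theorem isTorus_bc {G : Over S} [GrpObj G] (hG : Red.IsTorus G) (h : T ⟶ S) :
    Red.IsTorus (Red.bc h G) := by
  obtain ⟨S', g, hg, hs, hqc, hloc⟩ := hG
  refine ⟨pullback g h, pullback.snd g h, inferInstance, inferInstance, fun V hV => ?_, fun x => ?_⟩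
  · have key : ∀ t : (V : Set T), ∃ W : T.Opens, (t : T) ∈ W ∧ IsAffineOpen W ∧ W ≤ V ∧
        ∃ Q : (pullback g h).Opens, IsCompact (Q : Set ↥(pullback g h)) ∧
          (pullback.snd g h).base '' (Q : Set ↥(pullback g h)) = (W : Set T) := by
      rintro ⟨t, ht⟩
      obtain ⟨Vs, hVs, htVs, -⟩ := exists_isAffineOpen_mem_and_subset (U := ⊤) (x := h.base t) (Set.mem_univ _)
      obtain ⟨W, hW, htW, hWsub⟩ := exists_isAffineOpen_mem_and_subset (U := V ⊓ h ⁻¹ᵁ Vs) (x := t) ⟨ht, htVs⟩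
      obtain ⟨P, hPc, hP⟩ := hqc Vs hVs
      have hle : W ≤ h ⁻¹ᵁ Vs := fun w hw => (hWsub hw).2
      have hlP : P ≤ g ⁻¹ᵁ Vs := fun w hw => by
        change g.base w ∈ (Vs : Set S)
        rw [← hP]; exact ⟨w, hw, rfl⟩
      have : CompactSpace P := isCompact_iff_compactSpace.mp hPc
      have : IsAffine W := hW
      have : IsAffine Vs := hVs
      have hqcP : QuasiCompact (g.resLE Vs P hlP) := inferInstance
      have hqcPt : CompactSpace ↥(pullback (g.resLE Vs P hlP) (h.resLE Vs W hle)) :=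
        QuasiCompact.compactSpace_of_compactSpace (pullback.snd (g.resLE Vs P hlP) (h.resLE Vs W hle))
      let ε := pullback.map (g.resLE Vs P hlP) (h.resLE Vs W hle) g h P.ι W.ι Vs.ι
        (Scheme.Hom.resLE_comp_ι _ _) (Scheme.Hom.resLE_comp_ι _ _)
      refine ⟨W, htW, hW, fun w hw => (hWsub hw).1, ε.opensRange, ?_, ?_⟩
      · rw [Scheme.Hom.coe_opensRange]
        exact isCompact_range ε.base.hom.continuous
      · rw [Scheme.Hom.coe_opensRange]
        refine subset_antisymm ?_ fun w hw => ?_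
        · rintro _ ⟨_, ⟨q, rfl⟩, rfl⟩
          rw [← Scheme.Hom.comp_apply, show ε ≫ pullback.snd g h = pullback.snd _ _ ≫ W.ι from
            pullback.lift_snd _ _ _, Scheme.Hom.comp_apply]
          exact Subtype.property _
        · have hsj : Surjective (g.resLE Vs P hlP) := ⟨fun v => by
            obtain ⟨p, hp, hpv⟩ : Vs.ι.base v ∈ g.base '' (P : Set S') := by rw [hP]; exact Subtype.property v
            refine ⟨⟨p, hp⟩, Vs.ι.isOpenEmbedding.injective ?_⟩
            exact (congrArg (fun z : (P : Scheme.{u}) ⟶ S => z.base ⟨p, hp⟩)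
              (Scheme.Hom.resLE_comp_ι g hlP)).trans hpv⟩
          obtain ⟨q, hq⟩ := (inferInstance : Surjective (pullback.snd (g.resLE Vs P hlP) (h.resLE Vs W hle))).surj ⟨w, hw⟩
          refine ⟨_, ⟨q, rfl⟩, ?_⟩
          rw [← Scheme.Hom.comp_apply, show ε ≫ pullback.snd g h = pullback.snd _ _ ≫ W.ι from
            pullback.lift_snd _ _ _, Scheme.Hom.comp_apply, hq]
          rfl
    choose W htW hW hWV Q hQc hQ using key
    obtain ⟨F, hF⟩ := hV.isCompact.elim_finite_subcover (fun t => (W t : Set T)) (fun t => (W t).isOpen)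
      (fun t ht => Set.mem_iUnion.mpr ⟨⟨t, ht⟩, htW ⟨t, ht⟩⟩)
    refine ⟨⨆ t ∈ F, Q t, ?_, ?_⟩
    · simp only [TopologicalSpace.Opens.coe_iSup]
      exact F.isCompact_biUnion fun t _ => hQc t
    · simp only [TopologicalSpace.Opens.coe_iSup, Set.image_iUnion, hQ]
      exact subset_antisymm (Set.iUnion₂_subset fun t _ => hWV t) hF
  · obtain ⟨U', hU', r, ⟨e⟩⟩ := hloc ((pullback.fst g h).base x)
    let Q := pullback.fst g h ⁻¹ᵁ U'
    let ε := (pullback.fst g h).resLE U' Q le_rfl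
    have hε : (Q.ι ≫ pullback.snd g h) ≫ h = ε ≫ U'.ι ≫ g := by
      rw [← Category.assoc ε, Scheme.Hom.resLE_comp_ι, Category.assoc, Category.assoc, pullback.condition]
    exact ⟨Q, hU', r, ⟨(bcCompIso _ h G).symm ≪≫ bcCongrIso hε G ≪≫
      bcCompIso ε (U'.ι ≫ g) G ≪≫ bcMapIso ε e ≪≫ bcDSIso ε _⟩⟩

end Groth.Agent.H21Diag
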