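import Mathlib.AlgebraicGeometry.Morphisms.LocalFlatDescent
import Groth.Agent.H18Descent.Basic

/-!
Properties that descend along fpqc morphisms can be checked on affine charts of an fpqc cover.
-/

open CategoryTheory AlgebraicGeometry
open CategoryTheory.Limits

universe u

namespace Groth.Agent.H21Diag

theorem of_fpqc_cover (P : MorphismProperty Scheme.{u}) [IsZariskiLocalAtTarget P] [P.IsStableUnderBaseChange]
    [P.DescendsAlong H18Descent.fpqc.{u}] {S S' A B : Scheme.{u}} (g : S' ⟶ S) [Flat g]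
    (hqc : ∀ V : S.Opens, IsAffineOpen V → ∃ W : S'.Opens, IsCompact (W : Set S') ∧ g.base '' (W : Set S') = (V : Set S))
    (f : A ⟶ B) (b : B ⟶ S)
    (h : ∀ s' : S', ∃ (R : CommRingCat.{u}) (y : Spec R ⟶ S'), IsOpenImmersion y ∧ s' ∈ Set.range y.base ∧
      P (pullback.snd f (pullback.fst b (y ≫ g)))) : P f := by
  rw [IsZariskiLocalAtTarget.iff_of_iSup_eq_top (P := P) (fun V : S.affineOpens => b ⁻¹ᵁ (V : S.Opens))
    (eq_top_iff.mpr fun x _ => by
      obtain ⟨V, hV, hxV, -⟩ := exists_isAffineOpen_mem_and_subset (U := ⊤) (x := b.base x) (Set.mem_univ _)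
      exact TopologicalSpace.Opens.mem_iSup.mpr ⟨⟨V, hV⟩, hxV⟩)]
  intro V
  let BV := b ⁻¹ᵁ (V : S.Opens)
  rw [MorphismProperty.arrow_mk_iso_iff P
    (Arrow.isoMk (pullbackRestrictIsoRestrict f BV).symm (Iso.refl _) (by
      simp [Iso.inv_comp_eq, pullbackRestrictIsoRestrict_hom_morphismRestrict]) :
      Arrow.mk (f ∣_ BV) ≅ Arrow.mk (pullback.snd f BV.ι))]
  obtain ⟨W, hWc, hWV⟩ := hqc V.1 V.2
  have hle : W ≤ g ⁻¹ᵁ V.1 := fun w hw => by
    change g.base w ∈ (V.1 : Set S)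
    rw [← hWV]; exact ⟨w, hw, rfl⟩
  let gW := g.resLE V.1 W hle
  have hgW : gW ≫ V.1.ι = W.ι ≫ g := Scheme.Hom.resLE_comp_ι _ _
  have hfl : Flat gW := by change Flat (g.resLE V.1 W hle); infer_instance
  have hsj : Surjective gW := ⟨fun v => by
    obtain ⟨w, hw, hwv⟩ : V.1.ι.base v ∈ g.base '' (W : Set S') := by rw [hWV]; exact Subtype.property v
    refine ⟨⟨w, hw⟩, V.1.ι.isOpenEmbedding.injective ?_⟩
    exact (congrArg (fun z : (W : Scheme.{u}) ⟶ S => z.base ⟨w, hw⟩) hgW).trans hwv⟩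
  have : CompactSpace W := isCompact_iff_compactSpace.mp hWc
  have : IsAffine V.1 := V.2
  have hqcW : QuasiCompact gW := inferInstance
  let bV := b.resLE V.1 BV le_rfl
  have hbV : bV ≫ V.1.ι = BV.ι ≫ b := Scheme.Hom.resLE_comp_ι _ _
  let q := pullback.fst bV gW
  refine MorphismProperty.of_pullback_snd_of_descendsAlong (P := P) (Q := H18Descent.fpqc.{u})
    (f := pullback.snd f BV.ι) (g := q) ⟨⟨inferInstance, inferInstance⟩, inferInstance⟩ ?_
  rw [← pullbackLeftPullbackSndIso_hom_snd f BV.ι q, P.cancel_left_of_respectsIso]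
  -- locally on the cover
  let d : pullback bV gW ⟶ S' := pullback.snd bV gW ≫ W.ι
  have hd : (q ≫ BV.ι) ≫ b = d ≫ g := by
    rw [Category.assoc, ← hbV, ← Category.assoc, pullback.condition, Category.assoc, hgW, ← Category.assoc]
  choose R y hy hmem hP using h
  rw [IsZariskiLocalAtTarget.iff_of_iSup_eq_top (P := P) (fun s' => d ⁻¹ᵁ (y s').opensRange)
    (eq_top_iff.mpr fun x _ => TopologicalSpace.Opens.mem_iSup.mpr ⟨d.base x, hmem _⟩)]
  intro s'
  let O := d ⁻¹ᵁ (y s').opensRange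
  rw [MorphismProperty.arrow_mk_iso_iff P
    (Arrow.isoMk (pullbackRestrictIsoRestrict (pullback.snd f (q ≫ BV.ι)) O).symm (Iso.refl _) (by
      simp [Iso.inv_comp_eq, pullbackRestrictIsoRestrict_hom_morphismRestrict]) :
      Arrow.mk ((pullback.snd f (q ≫ BV.ι)) ∣_ O) ≅ Arrow.mk (pullback.snd (pullback.snd f (q ≫ BV.ι)) O.ι))]
  rw [← pullbackLeftPullbackSndIso_hom_snd f (q ≫ BV.ι) O.ι, P.cancel_left_of_respectsIso]
  have : IsOpenImmersion (y s') := hy s'
  have hr : Set.range (O.ι ≫ d).base ⊆ Set.range (y s').base := by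
    rintro _ ⟨x, rfl⟩
    exact x.2
  let l : (O : Scheme.{u}) ⟶ Spec (R s') := IsOpenImmersion.lift (y s') (O.ι ≫ d) hr
  have hl : (O.ι ≫ q ≫ BV.ι) ≫ b = l ≫ y s' ≫ g := by
    rw [← Category.assoc l, IsOpenImmersion.lift_fac, Category.assoc, hd]
    simp only [Category.assoc]
  have key : ∀ {Z : Scheme.{u}} (c : Z ⟶ B) (k : Z ⟶ pullback b (y s' ≫ g)),
      k ≫ pullback.fst b (y s' ≫ g) = c → P (pullback.snd f c) := by
    rintro Z c k rfl
    rw [← pullbackLeftPullbackSndIso_inv_snd_snd f (pullback.fst b (y s' ≫ g)) k, P.cancel_left_of_respectsIso]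
    exact P.pullback_snd _ _ (hP s')
  exact key _ (pullback.lift (O.ι ≫ q ≫ BV.ι) l hl) (pullback.lift_fst _ _ _)

/-- The same for a morphism to the base. -/
theorem of_fpqc_cover_base (P : MorphismProperty Scheme.{u}) [IsZariskiLocalAtTarget P] [P.IsStableUnderBaseChange]
    [P.DescendsAlong H18Descent.fpqc.{u}] {S S' A : Scheme.{u}} (g : S' ⟶ S) [Flat g]
    (hqc : ∀ V : S.Opens, IsAffineOpen V → ∃ W : S'.Opens, IsCompact (W : Set S') ∧ g.base '' (W : Set S') = (V : Set S))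
    (f : A ⟶ S) (h : ∀ s' : S', ∃ U : S'.Opens, s' ∈ U ∧ P (pullback.snd f (U.ι ≫ g))) : P f := by
  refine of_fpqc_cover P g hqc f (𝟙 S) fun s' => ?_
  obtain ⟨U, hsU, hU⟩ := h s'
  obtain ⟨V, hV, hsV, hVU⟩ := exists_isAffineOpen_mem_and_subset (U := U) (x := s') hsU
  refine ⟨_, hV.fromSpec, inferInstance, by rw [hV.range_fromSpec]; exact hsV, ?_⟩
  have hr : Set.range hV.fromSpec.base ⊆ Set.range U.ι.base := by
    rw [hV.range_fromSpec, Scheme.Opens.range_ι]; exact hVU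
  have he : pullback.fst (𝟙 S) (hV.fromSpec ≫ g) =
      (pullback.snd (𝟙 S) (hV.fromSpec ≫ g) ≫ IsOpenImmersion.lift U.ι hV.fromSpec hr) ≫ U.ι ≫ g := by
    rw [Category.assoc, ← Category.assoc (IsOpenImmersion.lift U.ι hV.fromSpec hr), IsOpenImmersion.lift_fac,
      ← pullback.condition, Category.comp_id]
  rw [he, ← pullbackLeftPullbackSndIso_inv_snd_snd f (U.ι ≫ g), P.cancel_left_of_respectsIso]
  exact P.pullback_snd _ _ hU

end Groth.Agent.H21Diag
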