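import Groth.Agent.H21Diag.Cover
import Groth.Agent.H21Diag.FpqcLocal
import Groth.Agent.H21Diag.FiniteType
import Groth.Prelude.Def_TwC

/-!
Groups that are diagonalisable locally for fpqc, without finiteness: base change, common covers, affineness.
-/

open CategoryTheory MonoidalCategory CartesianMonoidalCategory MonObj GrpObj AlgebraicGeometry
open CategoryTheory.Limits

universe u

namespace Groth.Agent.H21Diag

variable {S T : Scheme.{u}}

/-- fpqc-locally diagonalisable -/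
def IsDiagLoc {S : Scheme.{u}} (G : Over S) [GrpObj G] : Prop :=
  TwC.Locally S TwC.Topology.fpqc (fun S' f => ∃ (M : Type) (_ : AddCommGroup M),
    Nonempty (Grp.mk (Red.bc f G) ≅ Grp.mk (Red.DS S' M)))

/-- groups of multiplicative type are stable under base change -/
theorem isDiagLoc_bc {G : Over S} [GrpObj G] (hG : IsDiagLoc G) (h : T ⟶ S) :
    IsDiagLoc (Red.bc h G) := by
  obtain ⟨S', g, hg, hs, hqc, hloc⟩ := hG
  refine ⟨pullback g h, pullback.snd g h, inferInstance, inferInstance, fun V hV => ?_, fun x => ?_⟩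
  · have key : ∀ t : (V : Set T), ∃ W : T.Opens, (t : T) ∈ W ∧ IsAffineOpen W ∧ W ≤ V ∧
        ∃ Q : (pullback g h).Opens, IsCompact (Q : Set ↥(pullback g h)) ∧
          (pullback.snd g h).base '' (Q : Set ↥(pullback g h)) = (W : Set T) := by
      rintro ⟨t, ht⟩
      obtain ⟨Vs, hVs, htVs, -⟩ := exists_isAffineOpen_mem_and_subset (U := ⊤) (x := h.base t) (Set.mem_univ _)
      obtain ⟨W, hW, htW, hWsub⟩ := exists_isAffineOpen_mem_and_subset (U := V ⊓ h ⁻¹ᵁ Vs) (x := t) ⟨ht, htVs⟩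
      obtain ⟨P, hPc, hP⟩ := hqc Vs hVs
      have hle : W ≤ h ⁻¹ᵁ Vs := fun w hw => (hWsub hw).2
      have hlP : P ≤ g ⁻¹ᵁ Vs := fun w hw => by
        change g.base w ∈ (Vs : Set S)
        rw [← hP]; exact ⟨w, hw, rfl⟩
      have : CompactSpace P := isCompact_iff_compactSpace.mp hPc
      have : IsAffine W := hW
      have : IsAffine Vs := hVs
      have hqcP : QuasiCompact (g.resLE Vs P hlP) := inferInstance
      have hqcPt : CompactSpace ↥(pullback (g.resLE Vs P hlP) (h.resLE Vs W hle)) :=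
        QuasiCompact.compactSpace_of_compactSpace (pullback.snd (g.resLE Vs P hlP) (h.resLE Vs W hle))
      let ε := pullback.map (g.resLE Vs P hlP) (h.resLE Vs W hle) g h P.ι W.ι Vs.ι
        (Scheme.Hom.resLE_comp_ι _ _) (Scheme.Hom.resLE_comp_ι _ _)
      refine ⟨W, htW, hW, fun w hw => (hWsub hw).1, ε.opensRange, ?_, ?_⟩
      · rw [Scheme.Hom.coe_opensRange]
        exact isCompact_range ε.base.hom.continuous
      · rw [Scheme.Hom.coe_opensRange]
        refine subset_antisymm ?_ fun w hw => ?_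
        · rintro _ ⟨_, ⟨q, rfl⟩, rfl⟩
          rw [← Scheme.Hom.comp_apply, show ε ≫ pullback.snd g h = pullback.snd _ _ ≫ W.ι from
            pullback.lift_snd _ _ _, Scheme.Hom.comp_apply]
          exact Subtype.property _
        · have hsj : Surjective (g.resLE Vs P hlP) := ⟨fun v => by
            obtain ⟨p, hp, hpv⟩ : Vs.ι.base v ∈ g.base '' (P : Set S') := by rw [hP]; exact Subtype.property v
            refine ⟨⟨p, hp⟩, Vs.ι.isOpenEmbedding.injective ?_⟩
            exact (congrArg (fun z : (P : Scheme.{u}) ⟶ S => z.base ⟨p, hp⟩)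
              (Scheme.Hom.resLE_comp_ι g hlP)).trans hpv⟩
          obtain ⟨q, hq⟩ := (inferInstance : Surjective (pullback.snd (g.resLE Vs P hlP) (h.resLE Vs W hle))).surj ⟨w, hw⟩
          refine ⟨_, ⟨q, rfl⟩, ?_⟩
          rw [← Scheme.Hom.comp_apply, show ε ≫ pullback.snd g h = pullback.snd _ _ ≫ W.ι from
            pullback.lift_snd _ _ _, Scheme.Hom.comp_apply, hq]
          rfl
    choose W htW hW hWV Q hQc hQ using key
    obtain ⟨F, hF⟩ := hV.isCompact.elim_finite_subcover (fun t => (W t : Set T)) (fun t => (W t).isOpen)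
      (fun t ht => Set.mem_iUnion.mpr ⟨⟨t, ht⟩, htW ⟨t, ht⟩⟩)
    refine ⟨⨆ t ∈ F, Q t, ?_, ?_⟩
    · simp only [TopologicalSpace.Opens.coe_iSup]
      exact F.isCompact_biUnion fun t _ => hQc t
    · simp only [TopologicalSpace.Opens.coe_iSup, Set.image_iUnion, hQ]
      exact subset_antisymm (Set.iUnion₂_subset fun t _ => hWV t) hF
  · obtain ⟨U', hU', M, _, ⟨e⟩⟩ := hloc ((pullback.fst g h).base x)
    let Q := pullback.fst g h ⁻¹ᵁ U'
    let ε := (pullback.fst g h).resLE U' Q le_rfl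
    have hε : (Q.ι ≫ pullback.snd g h) ≫ h = ε ≫ U'.ι ≫ g := by
      rw [← Category.assoc ε, Scheme.Hom.resLE_comp_ι, Category.assoc, Category.assoc, pullback.condition]
    exact ⟨Q, hU', M, inferInstance, ⟨(bcCompIso _ h G).symm ≪≫ bcCongrIso hε G ≪≫
      bcCompIso ε (U'.ι ≫ g) G ≪≫ bcMapIso ε e ≪≫ bcDSIso ε M⟩⟩


/-- two groups of multiplicative type are diagonalisable over a common cover -/
theorem exists_common_cover_diag {G H : Over S} [GrpObj G] [GrpObj H]
    (hG : IsDiagLoc G) (hH : IsDiagLoc H) :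
    ∃ (T : Scheme.{u}) (g : T ⟶ S), Flat g ∧ Surjective g ∧
      (∀ V : S.Opens, IsAffineOpen V → ∃ W : T.Opens, IsCompact (W : Set T) ∧ g.base '' (W : Set T) = (V : Set S)) ∧
      ∀ t : T, ∃ U : T.Opens, t ∈ U ∧
        (∃ (M : Type) (_ : AddCommGroup M), 
          Nonempty (Grp.mk (Red.bc (U.ι ≫ g) G) ≅ Grp.mk (Red.DS (U : Scheme.{u}) M))) ∧
        ∃ (M : Type) (_ : AddCommGroup M), 
          Nonempty (Grp.mk (Red.bc (U.ι ≫ g) H) ≅ Grp.mk (Red.DS (U : Scheme.{u}) M)) := by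
  obtain ⟨S', f, hf, hs, hqc, hloc⟩ := hG
  obtain ⟨T, g', hg', hs', hqc', hloc'⟩ := isDiagLoc_bc hH f
  refine ⟨T, g' ≫ f, inferInstance, inferInstance, comp_cover f g' hqc hqc', fun t => ?_⟩
  obtain ⟨U₁, htU₁, M, _, ⟨e⟩⟩ := hloc (g'.base t)
  obtain ⟨U₂, htU₂, M', _, ⟨e'⟩⟩ := hloc' t
  let U := g' ⁻¹ᵁ U₁ ⊓ U₂
  refine ⟨U, ⟨htU₁, htU₂⟩, ⟨M, inferInstance, ⟨?_⟩⟩, ⟨M', inferInstance, ⟨?_⟩⟩⟩
  · refine restrictChart e (g'.resLE U₁ U inf_le_left) ?_
    rw [← Category.assoc, Scheme.Hom.resLE_comp_ι, Category.assoc]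
  · refine restrictChart (u₀ := U₂.ι ≫ g' ≫ f) (bcCongrIso (Category.assoc _ _ _).symm H ≪≫
      bcCompIso (U₂.ι ≫ g') f H ≪≫ e') (T.homOfLE inf_le_right) ?_
    rw [← Category.assoc (T.homOfLE _), Scheme.homOfLE_ι]


theorem isAffineHom_of_diagLoc {G : Over S} [GrpObj G] (hG : IsDiagLoc G) : IsAffineHom G.hom := by
  obtain ⟨S', g, hg, hs, hqc, hloc⟩ := hG
  refine Groth.Agent.H21Diag.of_fpqc_cover_base (@IsAffineHom) g hqc G.hom fun s' => ?_
  obtain ⟨U, hsU, M, _, ⟨e⟩⟩ := hloc s'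
  refine ⟨U, hsU, ?_⟩
  have h1 : IsAffineHom (Red.DS (U : Scheme.{u}) M).hom :=
    MorphismProperty.pullback_snd _ _ (Groth.Agent.H21Diag.isAffineHom_diag M)
  have : IsIso e.hom.hom.hom.left := by
    refine ⟨⟨e.inv.hom.hom.left, ?_, ?_⟩⟩
    · exact congrArg (fun z => z.hom.hom.left) e.hom_inv_id
    · exact congrArg (fun z => z.hom.hom.left) e.inv_hom_id
  have h3 : Limits.pullback.snd G.hom (U.ι ≫ g) = e.hom.hom.hom.left ≫ (Red.DS (U : Scheme.{u}) M).hom :=
    (Over.w e.hom.hom.hom).symm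
  rw [h3, MorphismProperty.cancel_left_of_respectsIso (P := @IsAffineHom)]
  exact h1

end Groth.Agent.H21Diag
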