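import Groth.Agent.H21Diag.KernelType
import Groth.Agent.H21Diag.LocallyDiag
import Groth.Agent.H21Diag.TransporterSub

/-!
Commuting subgroups of multiplicative type: the locus where one is contained in the other is open and closed.
-/

open CategoryTheory MonoidalCategory CartesianMonoidalCategory MonObj GrpObj AlgebraicGeometry
open CategoryTheory.Limits

universe u

set_option backward.isDefEq.respectTransparency false
set_option maxHeartbeats 800000

namespace Groth.Agent.H21Diag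

variable {S : Scheme.{u}} {G H H' : Over S}

/-- over `v`, the points of `H` come from `H'` -/
def LEOn (i : H ⟶ G) (i' : H' ⟶ G) {T : Scheme.{u}} (v : T ⟶ S) : Prop :=
  ∀ (X : Scheme.{u}) (x : X ⟶ T) (h : Over.mk (x ≫ v) ⟶ H), ∃ h' : Over.mk (x ≫ v) ⟶ H', h' ≫ i' = h ≫ i

/-- the points of `H` over an affine test scheme come from `H'` -/
def LEPt (i : H ⟶ G) (i' : H' ⟶ G) {T : Scheme.{u}} (z : T ⟶ S) : Prop :=
  ∀ h : Over.mk z ⟶ H, ∃ h' : Over.mk z ⟶ H', h' ≫ i' = h ≫ i

section descent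

variable {i : H ⟶ G} {i' : H' ⟶ G}

theorem LEOn.comp {T T' : Scheme.{u}} {v : T ⟶ S} (h : LEOn i i' v) (d : T' ⟶ T) : LEOn i i' (d ≫ v) := by
  intro X x
  rw [← Category.assoc]
  exact h X (x ≫ d)

theorem LEOn.pt {T T' : Scheme.{u}} {v : T ⟶ S} (h : LEOn i i' v) (x : T' ⟶ T) : LEPt i i' (x ≫ v) := h T' x

variable [Mono i'.left]

theorem leOn_of_points {T : Scheme.{u}} (v : T ⟶ S)
    (h : ∀ (D : Type u) [CommRing D] (z : Spec (CommRingCat.of D) ⟶ T), LEPt i i' (z ≫ v)) : LEOn i i' v := by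
  intro X x a
  obtain ⟨b, hb⟩ := exists_lift_of_cover i'.left (a.left ≫ i.left) X.affineCover fun j => by
    let f := X.affineCover.f j
    obtain ⟨h', hh'⟩ := h _ (f ≫ x) (Over.homMk (f ≫ a.left) (by
      change (f ≫ a.left) ≫ H.hom = (f ≫ x) ≫ v
      rw [Category.assoc, Over.w a, Category.assoc]; rfl))
    exact ⟨h'.left, (congrArg (fun m => m.left) hh').trans (Category.assoc _ _ _)⟩
  refine ⟨Over.homMk b ?_, Over.OverMorphism.ext hb⟩
  change b ≫ H'.hom = x ≫ v
  rw [← Over.w i', ← Category.assoc, hb, Category.assoc, Over.w i]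
  exact Over.w a

/-- the pullback of the test monomorphism has a section where the lift exists -/
theorem isIso_snd_of_lift {X Z : Scheme.{u}} {x : X ⟶ S} (a : Over.mk x ⟶ H) (π : Z ⟶ X) (b : Z ⟶ H'.left)
    (hb : b ≫ i'.left = π ≫ a.left ≫ i.left) :
    IsIso (pullback.snd (pullback.fst (a.left ≫ i.left) i'.left) π) := by
  let c : Z ⟶ pullback (a.left ≫ i.left) i'.left := pullback.lift π b hb.symm
  let c' : Z ⟶ pullback (pullback.fst (a.left ≫ i.left) i'.left) π := pullback.lift c (𝟙 Z) (by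
    rw [Category.id_comp, pullback.lift_fst])
  refine ⟨c', ?_, pullback.lift_snd _ _ _⟩
  rw [← cancel_mono (pullback.snd (pullback.fst (a.left ≫ i.left) i'.left) π), Category.assoc,
    pullback.lift_snd, Category.comp_id, Category.id_comp]

theorem exists_of_isIso_fst {X : Scheme.{u}} {x : X ⟶ S} (a : Over.mk x ⟶ H)
    [IsIso (pullback.fst (a.left ≫ i.left) i'.left)] : ∃ b : Over.mk x ⟶ H', b ≫ i' = a ≫ i := by
  let p := pullback.fst (a.left ≫ i.left) i'.left
  have hc : (inv p ≫ pullback.snd (a.left ≫ i.left) i'.left) ≫ i'.left = a.left ≫ i.left := by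
    rw [Category.assoc, ← pullback.condition, IsIso.inv_hom_id_assoc]
  refine ⟨Over.homMk (inv p ≫ pullback.snd (a.left ≫ i.left) i'.left) ?_, Over.OverMorphism.ext hc⟩
  rw [← Over.w i', ← Category.assoc, hc, Category.assoc, Over.w i]
  exact Over.w a

/-- containment descends along fpqc maps -/
theorem leOn_of_fpqc {T T' : Scheme.{u}} (d : T' ⟶ T) [Flat d] [Surjective d] [QuasiCompact d] (v : T ⟶ S)
    (h : LEOn i i' (d ≫ v)) : LEOn i i' v := by
  intro X x a
  let π := pullback.fst x d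
  obtain ⟨b, hb⟩ := h (pullback x d) (pullback.snd x d) (Over.homMk (π ≫ a.left) (by
    change (π ≫ a.left) ≫ H.hom = pullback.snd x d ≫ d ≫ v
    rw [Category.assoc, Over.w a, ← pullback.condition_assoc]; rfl))
  have := isIso_snd_of_lift (i := i) (i' := i') a π b.left ((congrArg (fun m => m.left) hb).trans (Category.assoc _ _ _))
  have : IsIso (pullback.fst (a.left ≫ i.left) i'.left) :=
    MorphismProperty.of_pullback_snd_of_descendsAlong (P := MorphismProperty.isomorphisms Scheme.{u})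
      (Q := H18Descent.fpqc.{u}) (g := π) ⟨⟨inferInstance, inferInstance⟩, inferInstance⟩ this
  exact exists_of_isIso_fst a

/-- containment can be checked on points of an fpqc cover -/
theorem leOn_of_cover {S' : Scheme.{u}} (g : S' ⟶ S) [Flat g]
    (hqc : ∀ V : S.Opens, IsAffineOpen V → ∃ W : S'.Opens, IsCompact (W : Set S') ∧ g.base '' (W : Set S') = (V : Set S))
    {T : Scheme.{u}} (v : T ⟶ S)
    (h : ∀ t : S', ∃ (R : CommRingCat.{u}) (y : Spec R ⟶ S'), IsOpenImmersion y ∧ t ∈ Set.range y.base ∧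
      ∀ (D : Type u) [CommRing D] (z : Spec (CommRingCat.of D) ⟶ T) (z' : Spec (CommRingCat.of D) ⟶ Spec R),
        z ≫ v = z' ≫ y ≫ g → LEPt i i' (z ≫ v)) : LEOn i i' v := by
  intro X x a
  suffices hp : IsIso (pullback.fst (a.left ≫ i.left) i'.left) from exists_of_isIso_fst a
  refine of_fpqc_cover (MorphismProperty.isomorphisms Scheme.{u}) g hqc
    (pullback.fst (a.left ≫ i.left) i'.left) (x ≫ v) fun t => ?_
  obtain ⟨R, y, hy, ht, hle⟩ := h t
  refine ⟨R, y, hy, ht, ?_⟩
  let π := pullback.fst (x ≫ v) (y ≫ g)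
  obtain ⟨b, hb⟩ := exists_lift_of_cover i'.left (π ≫ a.left ≫ i.left) (pullback (x ≫ v) (y ≫ g)).affineCover fun j => by
    let f := (pullback (x ≫ v) (y ≫ g)).affineCover.f j
    obtain ⟨h', hh'⟩ := hle _ (f ≫ π ≫ x) (f ≫ pullback.snd _ _) (by
      simp only [Category.assoc, π]
      exact congrArg (f ≫ ·) pullback.condition) (Over.homMk (f ≫ π ≫ a.left) (by
        change (f ≫ π ≫ a.left) ≫ H.hom = (f ≫ π ≫ x) ≫ v
        simp only [Category.assoc, Over.w a]; rfl))
    exact ⟨h'.left, (congrArg (fun m => m.left) hh').trans (by simp only [Over.homMk_left, Category.assoc]; rfl)⟩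
  exact isIso_snd_of_lift (i := i) (i' := i') a π b hb

/-- two subgroups containing each other are isomorphic compatibly with the inclusions -/
theorem exists_iso_of_leOn [Mono i.left] {T : Scheme.{u}} (v : T ⟶ S) (h : LEOn i i' v) (h' : LEOn i' i v) :
    ∃ ψ : Red.bc v H ≅ Red.bc v H', ψ.hom ≫ (Over.pullback v).map i' = (Over.pullback v).map i := by
  let adj := Over.mapPullbackAdj v
  have key : ∀ {A B : Over S} (j : A ⟶ G) (j' : B ⟶ G), LEOn j j' v →
      ∃ φ : Red.bc v A ⟶ Red.bc v B, φ ≫ (Over.pullback v).map j' = (Over.pullback v).map j := by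
    intro A B j j' hle
    let a : (Over.map v).obj (Red.bc v A) ⟶ A := adj.counit.app A
    obtain ⟨b, hb⟩ := hle _ (Red.bc v A).hom a
    refine ⟨adj.homEquiv (Red.bc v A) B b, ?_⟩
    refine (adj.homEquiv_naturality_right b j').symm.trans ?_
    refine (congrArg (adj.homEquiv (Red.bc v A) G) hb).trans ?_
    refine (adj.homEquiv_naturality_right a j).trans ?_
    rw [show adj.homEquiv (Red.bc v A) A a = 𝟙 _ by
      rw [Adjunction.homEquiv_unit]; exact adj.right_triangle_components A]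
    exact Category.id_comp _
  obtain ⟨φ, hφ⟩ := key i i' h
  obtain ⟨φ', hφ'⟩ := key i' i h'
  have : Mono i := Over.mono_of_mono_left _
  have : Mono i' := Over.mono_of_mono_left _
  refine ⟨⟨φ, φ', ?_, ?_⟩, hφ⟩
  · rw [← cancel_mono ((Over.pullback v).map i), Category.assoc, hφ', hφ, Category.id_comp]
  · rw [← cancel_mono ((Over.pullback v).map i'), Category.assoc, hφ, hφ', Category.id_comp]

omit [Mono i'.left] in
/-- isomorphic subgroups have the same points -/
theorem leOn_of_iso {T : Scheme.{u}} (v : T ⟶ S) (ψ : Red.bc v H ⟶ Red.bc v H')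
    (hψ : ψ ≫ (Over.pullback v).map i' = (Over.pullback v).map i) : LEOn i i' v := by
  intro X x a
  let T₁ : Over T := Over.mk x
  let a' : (Over.map v).obj T₁ ⟶ H := a
  let b : (Over.map v).obj T₁ ⟶ H' :=
    ((Over.mapPullbackAdj v).homEquiv T₁ H').symm ((Over.mapPullbackAdj v).homEquiv T₁ H a' ≫ ψ)
  have hb : b ≫ i' = a' ≫ i := by
    refine ((Over.mapPullbackAdj v).homEquiv T₁ G).injective ?_
    rw [Adjunction.homEquiv_naturality_right, Adjunction.homEquiv_naturality_right, Equiv.apply_symm_apply,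
      Category.assoc]
    exact congrArg (_ ≫ ·) hψ
  exact ⟨b, hb⟩

end descent

section pair

variable [GrpObj G] [GrpObj H] [GrpObj H'] {U : Scheme.{u}} {u₀ : U ⟶ S} {M M' : Type} [AddCommGroup M]
  [AddCommGroup M'] (e : Grp.mk (Red.bc u₀ H) ≅ Grp.mk (Red.DS U M))
  (e' : Grp.mk (Red.bc u₀ H') ≅ Grp.mk (Red.DS U M')) (i : H ⟶ G) [IsMonHom i] (i' : H' ⟶ G) [IsMonHom i']

/-- the quotient of points of two commuting subgroups -/
noncomputable def pairFam (hcomm : ∀ (X : Over S) (h : X ⟶ H) (h' : X ⟶ H'),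
      (h ≫ i) * (h' ≫ i') = (h' ≫ i') * (h ≫ i)) : CharFam u₀ G (M × M') where
  pt y χ := (gpt e y (χ.comp (AddMonoidHom.toMultiplicative (AddMonoidHom.inl M M'))) ≫ i) *
    (gpt e' y (χ.comp (AddMonoidHom.toMultiplicative (AddMonoidHom.inr M M'))) ≫ i')⁻¹
  pt_comp {B} _ y χ {B'} _ φ := by
    let τ : Over.mk ((Spec.map (CommRingCat.ofHom φ) ≫ y) ≫ u₀) ⟶ Over.mk (y ≫ u₀) :=
      Over.homMk (Spec.map (CommRingCat.ofHom φ)) (Category.assoc _ _ _).symm
    have h1 : ∀ χ₁ : Multiplicative M →* B, τ ≫ gpt e y χ₁ =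
        gpt e (Spec.map (CommRingCat.ofHom φ) ≫ y) (φ.toMonoidHom.comp χ₁) := fun χ₁ =>
      Over.OverMorphism.ext (gpt_comp e y χ₁ φ).symm
    have h2 : ∀ χ₂ : Multiplicative M' →* B, τ ≫ gpt e' y χ₂ =
        gpt e' (Spec.map (CommRingCat.ofHom φ) ≫ y) (φ.toMonoidHom.comp χ₂) := fun χ₂ =>
      Over.OverMorphism.ext (gpt_comp e' y χ₂ φ).symm
    change _ = (τ ≫ (gpt e y (χ.comp (AddMonoidHom.toMultiplicative (AddMonoidHom.inl M M'))) ≫ i *
      (gpt e' y (χ.comp (AddMonoidHom.toMultiplicative (AddMonoidHom.inr M M'))) ≫ i')⁻¹)).left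
    rw [MonObj.comp_mul, GrpObj.comp_inv, ← Category.assoc, ← Category.assoc, h1, h2]
    rfl
  pt_mul y χ χ' := by
    have hswap := (hcomm _ (gpt e y (χ'.comp (AddMonoidHom.toMultiplicative (AddMonoidHom.inl M M'))))
      (gpt e' y (χ.comp (AddMonoidHom.toMultiplicative (AddMonoidHom.inr M M')))))
    rw [MonoidHom.mul_comp, MonoidHom.mul_comp, gpt_mul,
      _root_.mul_comm (χ.comp (AddMonoidHom.toMultiplicative (AddMonoidHom.inr M M'))), gpt_mul,
      MonObj.mul_comp, MonObj.mul_comp, _root_.mul_inv_rev]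
    exact (Commute.inv_right hswap).mul_mul_mul_comm _ _

variable {hcomm : ∀ (X : Over S) (h : X ⟶ H) (h' : X ⟶ H'), (h ≫ i) * (h' ≫ i') = (h' ≫ i') * (h ≫ i)}

/-- the character of a pair -/
noncomputable def pairChar {D : Type*} [CommMonoid D] (χ : Multiplicative M →* D) (χ' : Multiplicative M' →* D) :
    Multiplicative (M × M') →* D :=
  χ.comp (AddMonoidHom.toMultiplicative (AddMonoidHom.fst M M')) *
    χ'.comp (AddMonoidHom.toMultiplicative (AddMonoidHom.snd M M'))

theorem pairFam_pair_iff {B : Type u} [CommRing B] (y : Spec (CommRingCat.of B) ⟶ U)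
    (χ : Multiplicative M →* B) (χ' : Multiplicative M' →* B) :
    (pairFam e e' i i' hcomm).pt y (pairChar χ χ') = 1 ↔ gpt e y χ ≫ i = gpt e' y χ' ≫ i' := by
  have h1 : (pairChar χ χ').comp (AddMonoidHom.toMultiplicative (AddMonoidHom.inl M M')) = χ :=
    MonoidHom.ext fun m => by
      change χ m * χ' 1 = _
      rw [map_one, _root_.mul_one]
  have h2 : (pairChar χ χ').comp (AddMonoidHom.toMultiplicative (AddMonoidHom.inr M M')) = χ' :=
    MonoidHom.ext fun m => by
      change χ 1 * χ' m = _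
      rw [map_one, _root_.one_mul]
  change _ * _⁻¹ = 1 ↔ _
  rw [h1, h2]
  exact mul_inv_eq_one

theorem finKer_pairFam [IsSeparated G.hom] (hH : SGA3x.IsMultTypeFT H) (hH' : SGA3x.IsMultTypeFT H')
    (hG : IsLocallyNoetherian S ∨ LocallyOfFiniteType G.hom) : (pairFam e e' i i' hcomm).FinKer := by
  rcases hG with hS | hG
  swap
  · exact CharFam.finKer_of_lft _
  intro B _ y
  let δ : H ⊗ H' ⟶ G := (fst H H' ≫ i) * (snd H H' ≫ i')⁻¹
  have := lfp_of_multTypeFT hH
  have := lfp_of_multTypeFT hH'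
  have : LocallyOfFiniteType (H ⊗ H').hom :=
    (inferInstance : LocallyOfFiniteType (pullback.fst H.hom H'.hom ≫ H.hom))
  have : IsLocallyNoetherian (H ⊗ H').left := LocallyOfFiniteType.isLocallyNoetherian (H ⊗ H').hom
  have : IsClosedImmersion (η[G]).left := by
    have : IsClosedImmersion ((η[G]).left ≫ G.hom) := by
      rw [one_hom_left]
      exact (inferInstance : IsClosedImmersion (𝟙 S))
    exact IsClosedImmersion.of_comp _ G.hom
  have hker : LocallyOfFinitePresentation (pullback.fst δ.left (η[G]).left) :=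
    H12AlgSp.lfp_of_lft_of_isLocallyNoetherian _
  let y₁ := Spec.map (CommRingCat.ofHom (MonoidAlgebra.singleOneRingHom :
    B →+* MonoidAlgebra B (Multiplicative (M × M')))) ≫ y
  let χ₁ := MonoidAlgebra.of B (Multiplicative (M × M'))
  let w : Over.mk (y₁ ≫ u₀) ⟶ H ⊗ H' := CartesianMonoidalCategory.lift
    (gpt e y₁ (χ₁.comp (AddMonoidHom.toMultiplicative (AddMonoidHom.inl M M'))))
    (gpt e' y₁ (χ₁.comp (AddMonoidHom.toMultiplicative (AddMonoidHom.inr M M'))))
  have hw : (pairFam e e' i i' hcomm).pt y₁ χ₁ = w ≫ δ := by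
    simp only [δ, w, MonObj.comp_mul, GrpObj.comp_inv, CartesianMonoidalCategory.lift_fst_assoc,
      CartesianMonoidalCategory.lift_snd_assoc]
    rfl
  have hv : (pairFam e e' i i' hcomm).univPt y = w.left ≫ δ.left :=
    (congrArg (fun m => m.left) hw).trans rfl
  have key : ∀ v, v = w.left ≫ δ.left → LocallyOfFinitePresentation (pullback.fst v (η[G]).left) := by
    rintro v rfl
    rw [← pullbackRightPullbackFstIso_inv_fst δ.left (η[G]).left w.left]
    infer_instance
  exact key _ hv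

variable [Mono i'.left]

/-- where no nonzero character of `H` is killed, the points of `H` come from `H'` -/
theorem exists_char_of_KI {B : Type u} [CommRing B] (y : Spec (CommRingCat.of B) ⟶ U)
    (Λ : Subgroup (Multiplicative (M × M'))) (hI : (pairFam e e' i i' hcomm).KI Λ y)
    (hΛ : ∀ m : M, Multiplicative.ofAdd (m, (0 : M')) ∈ Λ → m = 0) (χ : Multiplicative M →* B) :
    ∃ χ' : Multiplicative M' →* B, gpt e' y χ' ≫ i' = gpt e y χ ≫ i := by
  have : Mono i' := Over.mono_of_mono_left _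
  rcases subsingleton_or_nontrivial B with hB | hB
  · refine ⟨1, ?_⟩
    rw [show χ = 1 from MonoidHom.ext fun m => Subsingleton.elim _ _, gpt_one, gpt_one, MonObj.one_comp,
      MonObj.one_comp]
  let p₂ : Λ →* Multiplicative M' := (AddMonoidHom.toMultiplicative (AddMonoidHom.snd M M')).comp Λ.subtype
  let p₁ : Λ →* Multiplicative M := (AddMonoidHom.toMultiplicative (AddMonoidHom.fst M M')).comp Λ.subtype
  have hinj : Function.Injective p₂ := by
    refine (injective_iff_map_eq_one p₂).mpr fun l hl => Subtype.ext ?_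
    have h1 : l.1.toAdd.2 = 0 := congrArg Multiplicative.toAdd hl
    have h2 : l.1.toAdd.1 = 0 := hΛ _ (by
      have : (l.1.toAdd.1, (0 : M')) = l.1.toAdd := Prod.ext rfl h1.symm
      rw [this]; exact l.2)
    exact Multiplicative.toAdd.injective (Prod.ext h2 h1)
  have hsurj : Function.Surjective p₂ := by
    rw [← MonoidHom.range_eq_top, eq_top_iff]
    intro m' _
    let q := QuotientGroup.mk' p₂.range
    let χ₂ : Multiplicative M' →* MonoidAlgebra B (Multiplicative M' ⧸ p₂.range) := (MonoidAlgebra.of B _).comp q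
    have h1 := hI _ (MonoidAlgebra.singleOneRingHom : B →+* MonoidAlgebra B (Multiplicative M' ⧸ p₂.range))
      (pairChar 1 χ₂) fun l hl => by
        change 1 * MonoidAlgebra.of B _ (q (p₂ ⟨l, hl⟩)) = 1
        rw [show q (p₂ ⟨l, hl⟩) = 1 from (QuotientGroup.eq_one_iff _).mpr ⟨_, rfl⟩, map_one, _root_.one_mul]
    rw [pairFam_pair_iff, gpt_one, MonObj.one_comp] at h1
    have h2 : χ₂ = 1 := gpt_injective e' _ ((cancel_mono i').mp (by rw [← h1, gpt_one, MonObj.one_comp]))
    have h3 : MonoidAlgebra.of B (Multiplicative M' ⧸ p₂.range) (q m') = MonoidAlgebra.of B _ 1 := by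
      rw [map_one]; exact DFunLike.congr_fun h2 m'
    exact (QuotientGroup.eq_one_iff _).mp (MonoidAlgebra.of_injective h3)
  let σ := MulEquiv.ofBijective p₂ ⟨hinj, hsurj⟩
  refine ⟨χ.comp (p₁.comp σ.symm.toMonoidHom)⁻¹, ?_⟩
  have h1 := hI B (RingHom.id B) (pairChar χ (χ.comp (p₁.comp σ.symm.toMonoidHom)⁻¹)) fun l hl => by
    have hl' : σ.symm (p₂ ⟨l, hl⟩) = ⟨l, hl⟩ := σ.symm_apply_apply _
    change χ (p₁ ⟨l, hl⟩) * χ (p₁ (σ.symm (p₂ ⟨l, hl⟩)))⁻¹ = 1
    rw [hl', ← map_mul, mul_inv_cancel, map_one]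
  rw [CommRingCat.ofHom_id, Spec.map_id, Category.id_comp, pairFam_pair_iff] at h1
  exact h1.symm

omit [Mono i'.left] in
/-- containment at a field point leaves no killed character -/
theorem eq_zero_of_le {K : Type u} [Field K] (y : Spec (CommRingCat.of K) ⟶ U)
    (Λ : Subgroup (Multiplicative (M × M'))) (hS : (pairFam e e' i i' hcomm).KS Λ y)
    (hle : ∀ (D : Type u) [CommRing D] (g : K →+* D) (χ : Multiplicative M →* D), ∃ χ' : Multiplicative M' →* D,
      gpt e' (Spec.map (CommRingCat.ofHom g) ≫ y) χ' ≫ i' = gpt e (Spec.map (CommRingCat.ofHom g) ≫ y) χ ≫ i)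
    (m : M) (hm : Multiplicative.ofAdd (m, (0 : M')) ∈ Λ) : m = 0 := by
  let K₁ := MonoidAlgebra K (Multiplicative M)
  let g₁ : K →+* K₁ := MonoidAlgebra.singleOneRingHom
  let χ₁ : Multiplicative M →* K₁ := MonoidAlgebra.of K (Multiplicative M)
  obtain ⟨χ', hχ'⟩ := hle K₁ g₁ χ₁
  have h0 := (pairFam_pair_iff e e' i i' (hcomm := hcomm) (Spec.map (CommRingCat.ofHom g₁) ≫ y) χ₁ χ').mpr hχ'.symm
  have h1 := hS K₁ g₁ (pairChar χ₁ χ') h0 _ hm
  have h2 : χ₁ (Multiplicative.ofAdd m) * χ' 1 = 1 := h1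
  rw [map_one, _root_.mul_one] at h2
  exact ofAdd_eq_one.mp (MonoidAlgebra.of_injective (h2.trans (map_one χ₁).symm))

end pair

end Groth.Agent.H21Diag
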