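import Groth.Agent.H21Diag.SplitSubtori
import Groth.Agent.H21Quot.ImageGlue

/-!
Images of products of locally split subtori.
-/

set_option backward.isDefEq.respectTransparency false

open CategoryTheory MonoidalCategory CartesianMonoidalCategory MonObj GrpObj AlgebraicGeometry
open CategoryTheory.Limits

universe u

namespace Groth.Agent.H21Diag

open Groth.Agent.H18Torsor.DiagExact

variable {S : Scheme.{u}}

theorem nat_bcCompIso {U T : Scheme.{u}} (h : U ⟶ T) (v : T ⟶ S) {A B : Over S} [GrpObj A] [GrpObj B]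
    (f : A ⟶ B) :
    ((Over.pullback (h ≫ v)).map f : Red.bc (h ≫ v) A ⟶ Red.bc (h ≫ v) B) ≫ (bcCompIso h v B).hom.hom.hom =
      (bcCompIso h v A).hom.hom.hom ≫ (Over.pullback h).map ((Over.pullback v).map f) := by
  simp [bcCompIso]
  exact (Category.id_comp _).symm

theorem flat_DS (S : Scheme.{u}) (M : Type) [AddCommGroup M] : Flat (Red.DS S M).hom := by
  have : Flat (Red.diag (ULift.{u} ℤ) M).hom :=
    Flat.SpecMap_iff.mpr (RingHom.flat_algebraMap_iff.mpr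
      (inferInstanceAs (Module.Flat (ULift.{u} ℤ) (MonoidAlgebra (ULift.{u} ℤ) (Multiplicative M)))))
  exact MorphismProperty.pullback_snd (P := @Flat) _ _ this

theorem flat_of_lSplit {E : Over S} [GrpObj E] (h : LSplit E) : Flat E.hom := by
  choose U hU r hr using h
  let 𝒰 := S.openCoverOfIsOpenCover U (eq_top_iff.mpr fun s _ => TopologicalSpace.Opens.mem_iSup.mpr ⟨s, hU s⟩)
  refine IsZariskiLocalAtTarget.of_openCover (P := @Flat) 𝒰 fun s => ?_
  obtain ⟨e⟩ := hr s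
  let f : Red.bc (U s).ι E ⟶ Red.DS (U s : Scheme.{u}) (Fin (r s) → ℤ) := e.hom.hom.hom
  have : IsIso f := ⟨e.inv.hom.hom, congrArg (fun k => k.hom.hom) e.hom_inv_id,
    congrArg (fun k => k.hom.hom) e.inv_hom_id⟩
  have : IsIso f.left := inferInstanceAs (IsIso ((Over.forget _).map f))
  change Flat (Red.bc (U s).ι E).hom
  rw [← Over.w f]
  have := flat_DS (U s : Scheme.{u}) (Fin (r s) → ℤ)
  infer_instance

theorem multTypeFT_of_lSplit {E : Over S} [GrpObj E] (h : LSplit E) : SGA3x.IsMultTypeFT E :=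
  Groth.Agent.S16611.multTypeFT_of_torus (isTorus_of_lSplit h)

theorem lift_isMonHom {A B C : Over S} [GrpObj A] [GrpObj B] [GrpObj C] (p : A ⟶ B) (q : A ⟶ C) [IsMonHom p]
    [IsMonHom q] {P : Over S} [GrpObj P] (a : P ⟶ B) (b : P ⟶ C) [IsMonHom a] [IsMonHom b] (κ : A ⟶ P)
    (ha : κ ≫ a = p) (hb : κ ≫ b = q)
    (hext : ∀ {T : Over S} (x y : T ⟶ P), x ≫ a = y ≫ a → x ≫ b = y ≫ b → x = y) : IsMonHom κ := by
  refine isMonHom_of_mul _ fun x y => hext _ _ ?_ ?_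
  · rw [Category.assoc, ha, MonObj.mul_comp, MonObj.mul_comp, Category.assoc, Category.assoc, ha]
  · rw [Category.assoc, hb, MonObj.mul_comp, MonObj.mul_comp, Category.assoc, Category.assoc, hb]

theorem isIso_lift_of_sections {A B C : Over S} [GrpObj A] [GrpObj B] [GrpObj C] (p : A ⟶ B) (q : A ⟶ C)
    [IsMonHom p] [IsMonHom q] (s : B ⟶ A) (t : C ⟶ A) (hsp : s ≫ p = 𝟙 B) (hsq : s ≫ q = 1) (htp : t ≫ p = 1)
    (htq : t ≫ q = 𝟙 C) (hmono : ∀ {T : Over S} (x y : T ⟶ A), x ≫ p = y ≫ p → x ≫ q = y ≫ q → x = y) :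
    IsIso (CartesianMonoidalCategory.lift p q) := by
  let θ : B ⊗ C ⟶ A := (fst B C ≫ s) * (snd B C ≫ t)
  have hp : θ ≫ p = fst B C := by
    rw [MonObj.mul_comp, Category.assoc, Category.assoc, hsp, htp, Category.comp_id, MonObj.comp_one,
      _root_.mul_one]
  have hq : θ ≫ q = snd B C := by
    rw [MonObj.mul_comp, Category.assoc, Category.assoc, hsq, htq, Category.comp_id, MonObj.comp_one,
      _root_.one_mul]
  refine ⟨θ, ?_, ?_⟩
  · refine hmono _ _ ?_ ?_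
    · rw [Category.assoc, hp, lift_fst, Category.id_comp]
    · rw [Category.assoc, hq, lift_snd, Category.id_comp]
  · ext
    · rw [Category.assoc, lift_fst, hp, Category.id_comp]
    · rw [Category.assoc, lift_snd, hq, Category.id_comp]

/-- the product of two split tori is a split torus -/
theorem exists_prod_iso {A B : Over S} [GrpObj A] [GrpObj B] {T : Scheme.{u}} (v : T ⟶ S) {r₁ r₂ : ℕ}
    (h₁ : Red.IsSplitTorusWith (Fin r₁ → ℤ) (Red.bc v A)) (h₂ : Red.IsSplitTorusWith (Fin r₂ → ℤ) (Red.bc v B)) :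
    ∃ κ : Red.DS T (Fin (r₁ + r₂) → ℤ) ⟶ Red.bc v (A ⊗ B), IsMonHom κ ∧ IsIso κ := by
  obtain ⟨e₁⟩ := h₁
  obtain ⟨e₂⟩ := h₂
  let M := Fin (r₁ + r₂) → ℤ
  let i₁ : (Fin r₁ → ℤ) →+ M :=
    { toFun := fun v => Fin.append v 0
      map_zero' := by funext i; induction i using Fin.addCases <;> simp [M]
      map_add' := fun v w => by funext i; induction i using Fin.addCases <;> simp [M] }
  let i₂ : (Fin r₂ → ℤ) →+ M :=
    { toFun := fun v => Fin.append 0 v
      map_zero' := by funext i; induction i using Fin.addCases <;> simp [M]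
      map_add' := fun v w => by funext i; induction i using Fin.addCases <;> simp [M] }
  let p₁ : M →+ (Fin r₁ → ℤ) :=
    { toFun := fun v i => v (Fin.castAdd r₂ i)
      map_zero' := rfl
      map_add' := fun _ _ => rfl }
  let p₂ : M →+ (Fin r₂ → ℤ) :=
    { toFun := fun v i => v (Fin.natAdd r₁ i)
      map_zero' := rfl
      map_add' := fun _ _ => rfl }
  have h11 : p₁.comp i₁ = AddMonoidHom.id _ := AddMonoidHom.ext fun v => funext fun i => Fin.append_left v 0 i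
  have h22 : p₂.comp i₂ = AddMonoidHom.id _ := AddMonoidHom.ext fun v => funext fun i => Fin.append_right 0 v i
  have h12 : p₁.comp i₂ = 0 := AddMonoidHom.ext fun v => funext fun i => Fin.append_left 0 v i
  have h21 : p₂.comp i₁ = 0 := AddMonoidHom.ext fun v => funext fun i => Fin.append_right v 0 i
  have hgen : ∀ m : M, m = i₁ (p₁ m) + i₂ (p₂ m) := fun m => by
    funext i; induction i using Fin.addCases <;> simp [i₁, i₂, p₁, p₂, M]
  have hiso := isIso_lift_of_sections (Red.DSmap T i₁) (Red.DSmap T i₂) (Red.DSmap T p₁) (Red.DSmap T p₂)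
    (DSmap_comp_eq_id i₁ p₁ h11) (DSmap_comp_eq_one i₂ p₁ h12) (DSmap_comp_eq_one i₁ p₂ h21)
    (DSmap_comp_eq_id i₂ p₂ h22) fun x y hx hy => chr_ext (MonoidHom.ext fun m => by
      have a := DFunLike.congr_fun (congrArg chr hx) (Multiplicative.ofAdd (p₁ m.toAdd))
      have b := DFunLike.congr_fun (congrArg chr hy) (Multiplicative.ofAdd (p₂ m.toAdd))
      rw [chr_comp_DSmap, chr_comp_DSmap] at a b
      change chr x (Multiplicative.ofAdd (i₁ (p₁ m.toAdd))) = chr y (Multiplicative.ofAdd (i₁ (p₁ m.toAdd))) at a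
      change chr x (Multiplicative.ofAdd (i₂ (p₂ m.toAdd))) = chr y (Multiplicative.ofAdd (i₂ (p₂ m.toAdd))) at b
      rw [show m = Multiplicative.ofAdd (i₁ (p₁ m.toAdd)) * Multiplicative.ofAdd (i₂ (p₂ m.toAdd)) from
        congrArg Multiplicative.ofAdd (hgen m.toAdd), map_mul, map_mul, a, b])
  let q₁ : Red.DS T M ⟶ Red.bc v A := Red.DSmap T i₁ ≫ e₁.inv.hom.hom
  let q₂ : Red.DS T M ⟶ Red.bc v B := Red.DSmap T i₂ ≫ e₂.inv.hom.hom
  have : IsMonHom e₁.inv.hom.hom := e₁.inv.hom.isMonHom_hom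
  have : IsMonHom e₂.inv.hom.hom := e₂.inv.hom.isMonHom_hom
  have : IsIso e₁.inv.hom.hom :=
    ⟨e₁.hom.hom.hom, congrArg (fun k => k.hom.hom) e₁.inv_hom_id, congrArg (fun k => k.hom.hom) e₁.hom_inv_id⟩
  have : IsIso e₂.inv.hom.hom :=
    ⟨e₂.hom.hom.hom, congrArg (fun k => k.hom.hom) e₂.inv_hom_id, congrArg (fun k => k.hom.hom) e₂.hom_inv_id⟩
  have hl : CartesianMonoidalCategory.lift q₁ q₂ =
      CartesianMonoidalCategory.lift (Red.DSmap T i₁) (Red.DSmap T i₂) ≫ (e₁.inv.hom.hom ⊗ₘ e₂.inv.hom.hom) :=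
    (lift_map (Red.DSmap T i₁) (Red.DSmap T i₂) e₁.inv.hom.hom e₂.inv.hom.hom).symm
  have : IsIso (CartesianMonoidalCategory.lift q₁ q₂) := by
    rw [hl]; infer_instance
  have := (Over.mapPullbackAdj v).isRightAdjoint
  let F := Over.pullback v
  let κ : Red.DS T M ⟶ Red.bc v (A ⊗ B) :=
    CartesianMonoidalCategory.lift q₁ q₂ ≫ inv (CartesianMonoidalCategory.prodComparison F A B)
  refine ⟨κ, ?_, inferInstance⟩
  refine lift_isMonHom q₁ q₂ (F.map (fst A B) : Red.bc v (A ⊗ B) ⟶ Red.bc v A)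
    (F.map (snd A B) : Red.bc v (A ⊗ B) ⟶ Red.bc v B) κ ?_ ?_ fun x y hx hy => ?_
  · simp [κ, F]
  · simp [κ, F]
  · rw [← cancel_mono (CartesianMonoidalCategory.prodComparison F A B)]
    refine CartesianMonoidalCategory.hom_ext _ _ ?_ ?_
    · simpa [CartesianMonoidalCategory.prodComparison] using hx
    · simpa [CartesianMonoidalCategory.prodComparison] using hy

theorem isClosedImmersion_of_mono_split {n : ℕ} {A G : Over S} [GrpObj A] [GrpObj G]
    (hA : Red.IsSplitTorusWith (Fin n → ℤ) A) (hG : SGA3x.IsMultTypeFT G) (j : A ⟶ G) [IsMonHom j] [Mono j] :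
    IsClosedImmersion j.left :=
  isClosedImmersion_of_mono (isDiagLoc_of_isMultTypeFT (multTypeFT_of_lSplit (lSplit_of_split hA)))
    (isAffineHom_of_multTypeFT hG) j

/-- Two locally split subtori lie in a third one. -/
theorem exists_lSplit_ge {G : Over S} [GrpObj G] (hG : SGA3x.IsMultTypeFT G) {E₁ E₂ : Over S} [GrpObj E₁]
    [GrpObj E₂] (j₁ : E₁ ⟶ G) [IsMonHom j₁] (j₂ : E₂ ⟶ G) [IsMonHom j₂] (h₁ : LSplit E₁) (h₂ : LSplit E₂) :
    ∃ (E₃ : Over S) (_ : GrpObj E₃) (j₃ : E₃ ⟶ G) (g₁ : E₁ ⟶ E₃) (g₂ : E₂ ⟶ E₃),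
      IsMonHom j₃ ∧ Mono j₃ ∧ LSplit E₃ ∧ g₁ ≫ j₃ = j₁ ∧ g₂ ≫ j₃ = j₂ := by
  have := isAffineHom_of_multTypeFT (multTypeFT_of_lSplit h₁)
  have := isAffineHom_of_multTypeFT (multTypeFT_of_lSplit h₂)
  have := isSeparated_of_multTypeFT hG
  have := lft_of_multTypeFT hG
  have := flat_of_lSplit h₁
  have := flat_of_lSplit h₂
  let H : Over S := E₁ ⊗ E₂
  let f : H ⟶ G := (fst E₁ E₂ ≫ j₁) * (snd E₁ E₂ ≫ j₂)
  have : IsMonHom f := isMonHom_mul _ _ fun a b => mult_comm hG a b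
  have : Flat H.hom := by
    change Flat (pullback.fst E₁.hom E₂.hom ≫ E₁.hom)
    infer_instance
  have : IsAffineHom (pullback.fst E₁.hom E₂.hom) :=
    MorphismProperty.pullback_fst (P := @IsAffineHom) _ _ ‹_›
  have hHaff : IsAffineHom H.hom := by
    change IsAffineHom (pullback.fst E₁.hom E₂.hom ≫ E₁.hom)
    exact MorphismProperty.comp_mem (W := @IsAffineHom) _ _ ‹_› ‹_›
  have : QuasiCompact H.hom := by
    change QuasiCompact (pullback.fst E₁.hom E₂.hom ≫ E₁.hom)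
    infer_instance
  have : QuasiCompact (f.left ≫ G.hom) := by rw [Over.w f]; infer_instance
  have : QuasiCompact f.left := QuasiCompact.of_comp _ G.hom
  have key : ∀ s : S, ∃ (T : Scheme.{u}) (v : T ⟶ S) (Q : Grp (Over T)) (q : Red.bc v H ⟶ Q.X) (j : Q.X ⟶ Red.bc v G),
      IsOpenImmersion v ∧ s ∈ Set.range v.base ∧ (∃ r : ℕ, Red.IsSplitTorusWith (Fin r → ℤ) Q.X) ∧
      Flat q.left ∧ Surjective q.left ∧ QuasiCompact q.left ∧ Flat Q.X.hom ∧
        IsMonHom j ∧ IsClosedImmersion j.left ∧ q ≫ j = (Over.pullback v).map f := by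
    intro s
    obtain ⟨U₁, hs₁, r₁, hr₁⟩ := h₁ s
    obtain ⟨U₂, hs₂, r₂, hr₂⟩ := h₂ s
    let U : S.Opens := U₁ ⊓ U₂
    obtain ⟨κ, hκ, hκi⟩ := exists_prod_iso U.ι
      (isSplit_comp U₁.ι (S.homOfLE inf_le_left) (by simp [U]) hr₁)
      (isSplit_comp U₂.ι (S.homOfLE inf_le_right) (by simp [U]) hr₂)
    let fU : Red.DS (U : Scheme.{u}) (Fin (r₁ + r₂) → ℤ) ⟶ Red.bc U.ι G := κ ≫ (Over.pullback U.ι).map f
    have : IsMonHom ((Over.pullback U.ι).map f : Red.bc U.ι H ⟶ Red.bc U.ι G) := isMonHom_bcMap U.ι f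
    have : IsMonHom fU := inferInstanceAs (IsMonHom (κ ≫ (Over.pullback U.ι).map f))
    have hGU := isMultTypeFT_bc hG U.ι
    have := isSeparated_of_multTypeFT hGU
    have := lft_of_multTypeFT hGU
    obtain ⟨V, n, hsV, -, q, j, hq, hqf, hqs, hj, hjm, hqj⟩ :=
      exists_clopen_image (r₁ + r₂) fU ⟨s, hs₁, hs₂⟩
    let cH : Red.bc (V.ι ≫ U.ι) H ⟶ Red.bc V.ι (Red.bc U.ι H) := (bcCompIso V.ι U.ι H).hom.hom.hom
    let cG : Red.bc (V.ι ≫ U.ι) G ⟶ Red.bc V.ι (Red.bc U.ι G) := (bcCompIso V.ι U.ι G).hom.hom.hom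
    let cG' : Red.bc V.ι (Red.bc U.ι G) ⟶ Red.bc (V.ι ≫ U.ι) G := (bcCompIso V.ι U.ι G).inv.hom.hom
    have hcG : cG ≫ cG' = 𝟙 _ := congrArg (fun k => k.hom.hom) (bcCompIso V.ι U.ι G).hom_inv_id
    have hcG' : cG' ≫ cG = 𝟙 _ := congrArg (fun k => k.hom.hom) (bcCompIso V.ι U.ι G).inv_hom_id
    have : IsIso cG := ⟨cG', hcG, hcG'⟩
    have : IsIso cG' := ⟨cG, hcG', hcG⟩
    have : IsIso cH := ⟨(bcCompIso V.ι U.ι H).inv.hom.hom,
      congrArg (fun k => k.hom.hom) (bcCompIso V.ι U.ι H).hom_inv_id,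
      congrArg (fun k => k.hom.hom) (bcCompIso V.ι U.ι H).inv_hom_id⟩
    have : IsMonHom cG' := (bcCompIso V.ι U.ι G).inv.hom.isMonHom_hom
    let κ' : Red.bc V.ι (Red.bc U.ι H) ⟶ Red.bc V.ι (Red.DS (U : Scheme.{u}) (Fin (r₁ + r₂) → ℤ)) :=
      (Over.pullback V.ι).map (inv κ)
    let q' := cH ≫ κ' ≫ q
    have : IsIso (cH ≫ κ') := inferInstance
    have : IsIso (cH ≫ κ').left := inferInstanceAs (IsIso ((Over.forget _).map (cH ≫ κ')))
    have : IsIso cG'.left := inferInstanceAs (IsIso ((Over.forget _).map cG'))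
    have hq' : q'.left = (cH ≫ κ').left ≫ q.left := congrArg (fun m => m.left) (Category.assoc cH κ' q).symm
    have : IsClosedImmersion j.left :=
      isClosedImmersion_of_mono_split (split_DS (V : Scheme.{u}) n) (isMultTypeFT_bc hGU V.ι) j
    have : IsAffineHom (Red.DS (V : Scheme.{u}) (Fin n → ℤ)).hom := isAffineHom_DS _ _
    have : IsAffineHom (Red.bc U.ι H).hom := by
      exact MorphismProperty.pullback_snd (P := @IsAffineHom) _ _ hHaff
    have : IsAffineHom (Red.bc (V.ι ≫ U.ι) H).hom := by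
      exact MorphismProperty.pullback_snd (P := @IsAffineHom) _ _ hHaff
    have : QuasiCompact (q'.left ≫ (Red.DS (V : Scheme.{u}) (Fin n → ℤ)).hom) := by
      rw [Over.w q']; infer_instance
    refine ⟨V, V.ι ≫ U.ι, Grp.mk (Red.DS (V : Scheme.{u}) (Fin n → ℤ)), q', j ≫ cG', inferInstance,
      ⟨⟨⟨s, hs₁, hs₂⟩, hsV⟩, rfl⟩, ⟨n, split_DS _ n⟩, ?_, ?_,
      QuasiCompact.of_comp _ (Red.DS (V : Scheme.{u}) (Fin n → ℤ)).hom, flat_DS _ _, inferInstance, ?_, ?_⟩
    · rw [hq']; infer_instance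
    · rw [hq']; infer_instance
    · change IsClosedImmersion (j.left ≫ cG'.left); infer_instance
    · change (cH ≫ κ' ≫ q) ≫ j ≫ cG' = _
      rw [Category.assoc, Category.assoc, ← Category.assoc q, hqj, ← Category.assoc κ', ← Functor.map_comp,
        IsIso.inv_hom_id_assoc, ← Category.assoc, show cH ≫ _ = _ from (nat_bcCompIso V.ι U.ι f).symm,
        Category.assoc, hcG, Category.comp_id]
  obtain ⟨K, _, i, f', hi, hf', hfac, hic, -, -, hK⟩ :=
    H21Quot.exists_image f (fun T _ Q => ∃ r : ℕ, Red.IsSplitTorusWith (Fin r → ℤ) Q.X) key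
  have : Mono i.left := inferInstance
  refine ⟨K, inferInstance, i, CartesianMonoidalCategory.lift (𝟙 E₁) 1 ≫ f',
    CartesianMonoidalCategory.lift 1 (𝟙 E₂) ≫ f', hi, Over.mono_of_mono_left i, fun s => ?_, ?_, ?_⟩
  · obtain ⟨T, v, Q, hv, ⟨t, ht⟩, ⟨r, ⟨e⟩⟩, ⟨ψ⟩⟩ := hK s
    refine ⟨v.opensRange, ⟨t, ht⟩, r, isSplit_comp v v.isoOpensRange.inv (by simp) ⟨ψ ≪≫ e⟩⟩
  · rw [Category.assoc, hfac]
    exact section_comp_mul_left _ _ _ j₁ (by rw [lift_fst_assoc, Category.id_comp])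
      (by rw [lift_snd_assoc, MonObj.one_comp])
  · rw [Category.assoc, hfac]
    exact section_comp_mul_right _ _ _ j₂ (by rw [lift_fst_assoc, MonObj.one_comp])
      (by rw [lift_snd_assoc, Category.id_comp])

end Groth.Agent.H21Diag

namespace Groth.Agent.H21Diag

variable {S : Scheme.{u}}

/-- over a connected base a locally split torus has a rank -/
theorem exists_rank [ConnectedSpace ↥S] {E : Over S} [GrpObj E] (h : LSplit E) :
    ∃ r : ℕ, ∀ (s : S) (U : S.Opens) (r' : ℕ), s ∈ U →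
      Red.IsSplitTorusWith (Fin r' → ℤ) (Red.bc U.ι E) → r' = r := by
  have huniq : ∀ {s : S} {U U' : S.Opens} {a a' : ℕ}, s ∈ U → s ∈ U' →
      Red.IsSplitTorusWith (Fin a → ℤ) (Red.bc U.ι E) → Red.IsSplitTorusWith (Fin a' → ℤ) (Red.bc U'.ι E) → a = a' :=
    fun hs hs' ha ha' => le_antisymm (rank_le_of_mono hs hs' ha ha' (𝟙 E)) (rank_le_of_mono hs' hs ha' ha (𝟙 E))
  choose U hU r hr using h
  have hlc : IsLocallyConstant r := (IsLocallyConstant.iff_exists_open r).mpr fun x =>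
    ⟨U x, (U x).isOpen, hU x, fun y hy => huniq (hU y) hy (hr y) (hr x)⟩
  obtain ⟨s₀⟩ := (inferInstance : Nonempty S)
  exact ⟨r s₀, fun s V a hs ha => (huniq hs (hU s) ha (hr s)).trans (hlc.apply_eq_of_preconnectedSpace s s₀)⟩

/-- over a connected base there is a greatest locally split subtorus -/
theorem exists_greatest_lSplit [ConnectedSpace ↥S] {G : Over S} [GrpObj G] (hG : SGA3x.IsMultTypeFT G) :
    ∃ (T : Over S) (_ : GrpObj T) (j : T ⟶ G), IsMonHom j ∧ Mono j ∧ LSplit T ∧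
      ∀ (T' : Over S) [GrpObj T'] (j' : T' ⟶ G) [IsMonHom j'] [Mono j'], LSplit T' → ∃ g : T' ⟶ T, g ≫ j = j' := by
  classical
  obtain ⟨s⟩ := (inferInstance : Nonempty S)
  obtain ⟨N, hN⟩ := exists_rank_bound hG s
  let P : ℕ → Prop := fun r => ∃ (T : Over S) (_ : GrpObj T) (j : T ⟶ G), IsMonHom j ∧ Mono j ∧ LSplit T ∧
    ∃ U : S.Opens, s ∈ U ∧ Red.IsSplitTorusWith (Fin r → ℤ) (Red.bc U.ι T)
  have hb : ∀ r, P r → r ≤ N := by
    rintro r ⟨T, _, j, hj, hm, -, U, hs, hr⟩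
    exact hN j hs hr
  have hP : ∃ r, P r := by
    obtain ⟨r, j, hj, hm, -⟩ := exists_max_rank hG
    exact ⟨r, Red.DS S (Fin r → ℤ), inferInstance, j, hj, hm, lSplit_of_split (split_DS S r), ⊤, trivial,
      split_top (split_DS S r)⟩
  obtain ⟨r₀, hr₀⟩ := hP
  obtain ⟨T, _, j, hj, hm, hT, U, hsU, hU⟩ := Nat.findGreatest_spec (P := P) (hb r₀ hr₀) hr₀
  refine ⟨T, inferInstance, j, hj, hm, hT, fun T' _ j' _ _ hT' => ?_⟩
  obtain ⟨E, _, k, g, g', hk, hkm, hE, hg, hg'⟩ := exists_lSplit_ge hG j j' hT hT'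
  obtain ⟨a, ha⟩ := exists_rank hT
  obtain ⟨b, hb'⟩ := exists_rank hE
  obtain ⟨W, hsW, w, hw⟩ := hE s
  have hwle : w ≤ Nat.findGreatest P N :=
    Nat.le_findGreatest (hb w ⟨E, _, k, hk, hkm, hE, W, hsW, hw⟩) ⟨E, _, k, hk, hkm, hE, W, hsW, hw⟩
  subst hg
  have := isMonHom_of_comp_mono g k
  have : Mono g := mono_of_mono g k
  have : IsIso g := by
    refine isIso_of_same_rank g hT hE fun x V V' c c' hx hx' hc hc' => ?_
    rw [ha x V c hx hc, hb' x V' c' hx' hc', ← ha s U _ hsU hU, ← hb' s W w hsW hw]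
    exact hwle
  exact ⟨g' ≫ inv g, by rw [Category.assoc, IsIso.inv_hom_id_assoc, hg']⟩

end Groth.Agent.H21Diag
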