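import Groth.Agent.H21Diag.MaxTorusExt
import Groth.Agent.H21Diag.TorusBc
import Groth.Agent.H21Diag.MonoLocus
import Groth.Agent.H21Weil.NoTorusExt
import Groth.Agent.H21Mono.Image

/-!
Maximal tori under base change.
-/

set_option autoImplicit false
set_option linter.style.haveILetI false
set_option linter.unusedSectionVars false
set_option backward.isDefEq.respectTransparency false
set_option synthInstance.maxHeartbeats 400000
set_option maxHeartbeats 1000000
universe u

open CategoryTheory CategoryTheory.Limits MonoidalCategory CartesianMonoidalCategory MonObj AlgebraicGeometry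

noncomputable section

namespace Groth.Agent.H21Diag

/-- Iterated base changes along a commutative square. -/
def bcSq {A B C S : Scheme.{u}} (z : A ⟶ B) (g : B ⟶ S) (g' : A ⟶ C) (f : C ⟶ S) (e : z ≫ g = g' ≫ f) (X : Over S) :
    Red.bc z (Red.bc g X) ≅ Red.bc g' (Red.bc f X) :=
  H21Red0.bcTrans z g _ e X ≪≫ (H21Red0.bcTrans g' f _ rfl X).symm

theorem bcSq_natural {A B C S : Scheme.{u}} (z : A ⟶ B) (g : B ⟶ S) (g' : A ⟶ C) (f : C ⟶ S) (e : z ≫ g = g' ≫ f)
    {X Y : Over S} (φ : X ⟶ Y) :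
    (Over.pullback z).map ((Over.pullback g).map φ) ≫ (bcSq z g g' f e Y).hom =
      (bcSq z g g' f e X).hom ≫ (Over.pullback g').map ((Over.pullback f).map φ) := by
  simp only [bcSq, Iso.trans_hom, Iso.symm_hom]
  rw [H21Red0.bcTrans_natural_assoc, Category.assoc]
  congr 1
  rw [Iso.comp_inv_eq, Category.assoc, Iso.eq_inv_comp, H21Red0.bcTrans_natural]

theorem isMonHom_bcSq {A B C S : Scheme.{u}} (z : A ⟶ B) (g : B ⟶ S) (g' : A ⟶ C) (f : C ⟶ S) (e : z ≫ g = g' ≫ f)
    (X : Over S) [GrpObj X] : IsMonHom (bcSq z g g' f e X).hom := by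
  haveI := H21Red0.isMonHom_bcTrans z g _ e X
  haveI := H21Red0.isMonHom_bcTrans g' f _ rfl X
  dsimp only [bcSq, Iso.trans_hom, Iso.symm_hom]
  infer_instance

section Transfer

variable {A B C S : Scheme.{u}} (z : A ⟶ B) (g : B ⟶ S) (g' : A ⟶ C) (f : C ⟶ S) (e : z ≫ g = g' ≫ f)
  {X Y : Over S} [GrpObj X] [GrpObj Y] (i : X ⟶ Y)

include e in
theorem exists_transfer {W : Over A} [GrpObj W] (j : W ⟶ Red.bc g' (Red.bc f Y)) [IsMonHom j] [Mono j]
    (φ : Red.bc g' (Red.bc f X) ⟶ W) (hφ : φ ≫ j = (Over.pullback g').map ((Over.pullback f).map i)) :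
    ∃ (j' : W ⟶ Red.bc z (Red.bc g Y)) (φ' : Red.bc z (Red.bc g X) ⟶ W), IsMonHom j' ∧ Mono j' ∧
      φ' ≫ j' = (Over.pullback z).map ((Over.pullback g).map i) ∧ (IsIso φ' → IsIso φ) := by
  haveI := isMonHom_bcSq z g g' f e Y
  haveI : IsMonHom (bcSq z g g' f e Y).inv := inferInstance
  exact ⟨j ≫ (bcSq z g g' f e Y).inv, (bcSq z g g' f e X).hom ≫ φ, inferInstance, inferInstance,
    by rw [Category.assoc, ← Category.assoc φ, hφ, ← Category.assoc, ← bcSq_natural, Category.assoc,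
      Iso.hom_inv_id, Category.comp_id],
    fun h => IsIso.of_isIso_comp_left (bcSq z g g' f e X).hom φ⟩

include e in
theorem exists_transfer' {W : Over B} [GrpObj W] (j : W ⟶ Red.bc g Y) [IsMonHom j] [Mono j]
    (φ : Red.bc g X ⟶ W) (hφ : φ ≫ j = (Over.pullback g).map i) :
    ∃ (j' : Red.bc z W ⟶ Red.bc g' (Red.bc f Y)) (φ' : Red.bc g' (Red.bc f X) ⟶ Red.bc z W), IsMonHom j' ∧ Mono j' ∧
      φ' ≫ j' = (Over.pullback g').map ((Over.pullback f).map i) ∧ (IsIso φ' → IsIso ((Over.pullback z).map φ)) := by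
  haveI := isMonHom_bcSq z g g' f e Y
  haveI := isMonHom_map z j
  exact ⟨(Over.pullback z).map j ≫ (bcSq z g g' f e Y).hom, (bcSq z g g' f e X).inv ≫ (Over.pullback z).map φ,
    inferInstance, inferInstance,
    by rw [Category.assoc, ← Category.assoc ((Over.pullback z).map φ), ← Functor.map_comp, hφ,
      bcSq_natural, Iso.inv_hom_id_assoc],
    fun h => IsIso.of_isIso_comp_left (bcSq z g g' f e X).inv _⟩

end Transfer

/-- An isomorphism after a field extension is one before. -/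
theorem isIso_of_isIso_bc {K L : Type u} [Field K] [Field L] (z : Spec (CommRingCat.of L) ⟶ Spec (CommRingCat.of K))
    {X Y : Over (Spec (CommRingCat.of K))} (f : X ⟶ Y) [IsIso ((Over.pullback z).map f)] : IsIso f := by
  haveI : Surjective z := ⟨fun x => ⟨IsLocalRing.closedPoint L, Subsingleton.elim (α := PrimeSpectrum K) _ _⟩⟩
  haveI : Flat z := by
    rw [← Spec.map_preimage z]
    refine (HasRingHomProperty.Spec_iff (P := @Flat)).mpr ?_
    letI := (Spec.preimage z).hom.toAlgebra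
    change (algebraMap K L).Flat
    rw [RingHom.flat_algebraMap_iff]
    infer_instance
  haveI : Flat (pullback.fst Y.hom z) := MorphismProperty.pullback_fst _ _ ‹_›
  haveI : Surjective (pullback.fst Y.hom z) := MorphismProperty.pullback_fst _ _ ‹_›
  haveI : QuasiCompact (pullback.fst Y.hom z) := inferInstance
  haveI : IsIso f.left := MorphismProperty.of_isPullback_of_descendsAlong
    (P := MorphismProperty.isomorphisms Scheme.{u}) (Q := H18Descent.fpqc.{u}) (H21Mono.sqBC z f)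
    ⟨⟨‹Surjective (pullback.fst Y.hom z)›, ‹Flat (pullback.fst Y.hom z)›⟩, ‹QuasiCompact (pullback.fst Y.hom z)›⟩
    (inferInstanceAs (IsIso ((Over.forget _).map ((Over.pullback z).map f))))
  have : IsIso ((Over.forget _).map f) := ‹IsIso f.left›
  exact isIso_of_reflects_iso f (Over.forget _)

variable {S S' : Scheme.{u}} {G T : Over S} [GrpObj G] [GrpObj T]

theorem isMaximalTorus_bc (hG : Smooth G.hom) (hGa : IsAffineHom G.hom) (i : T ⟶ G) (f : S' ⟶ S)
    (h : Red.IsMaximalTorus i) : Red.IsMaximalTorus ((Over.pullback f).map i) := by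
  obtain ⟨hi, hm, hT, hmax⟩ := h
  haveI := hi
  haveI := hm
  refine ⟨isMonHom_map f i, inferInstance, isTorus_bc hT f, fun s' T'' _ j _ _ φ hT'' hφ => ?_⟩
  obtain ⟨z, hz⟩ := H21Weil.exists_geomPt_comp f s'
  let g₀ := Red.geomPt (f s')
  let g₁ := Red.geomPt s'
  haveI : Smooth (Red.bc g₀ G).hom := MorphismProperty.pullback_snd _ _ hG
  haveI : IsAffineHom (Red.bc g₀ G).hom := MorphismProperty.pullback_snd _ _ hGa
  haveI := isMonHom_map g₀ i
  obtain ⟨j', φ', hj', hjm, hφ', hiso⟩ := exists_transfer z g₀ g₁ f hz i j φ hφ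
  haveI := hj'
  haveI := hjm
  exact hiso (isIso_of_torus_over_ext z (Red.bc g₀ G) (Red.bc g₀ T) ((Over.pullback g₀).map i) (isTorus_bc hT g₀)
    (hmax (f s')) T'' hT'' j' φ' hφ')

theorem isMaximalTorus_of_bc (i : T ⟶ G) [IsMonHom i] [Mono i] (hT : Red.IsTorus T) (f : S' ⟶ S)
    (hf : Surjective f) (h : Red.IsMaximalTorus ((Over.pullback f).map i)) : Red.IsMaximalTorus i := by
  obtain ⟨-, -, -, hmax⟩ := h
  refine ⟨inferInstance, inferInstance, hT, fun s T' _ j _ _ φ hT' hφ => ?_⟩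
  obtain ⟨s', rfl⟩ := hf.surj s
  obtain ⟨z, hz⟩ := H21Weil.exists_geomPt_comp f s'
  let g₀ := Red.geomPt (f s')
  let g₁ := Red.geomPt s'
  obtain ⟨j', φ', hj', hjm, hφ', hiso⟩ := exists_transfer' z g₀ g₁ f hz i j φ hφ
  haveI := hj'
  haveI := hjm
  haveI := hiso (hmax s' (Red.bc z T') j' φ' (isTorus_bc hT' z) hφ')
  exact isIso_of_isIso_bc z φ

end Groth.Agent.H21Diag
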