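import Mathlib.RingTheory.Etale.Pi
import Mathlib.RingTheory.RingHom.Etale
import Mathlib.RingTheory.Spectrum.Prime.Topology
import Mathlib.RingTheory.Localization.Away.Basic
import Mathlib.RingTheory.LocalRing.ResidueField.Ideal

/-!
An algebra covered by finitely many disjoint sections is a product of copies of the base ring.
-/

universe u v

namespace Groth.Agent.H21Diag

/-- If the points of an algebra are locally classified by a finite set, with a section for each element,
the algebra is finite étale. -/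
theorem finite_etale_of_locally_classified {B E : Type u} [CommRing B] [CommRing E] (k : B →+* E) {Φ : Type} [Finite Φ]
    (Pt : ∀ (D : Type u) [CommRing D], (E →+* D) → Φ → Prop)
    (hcomp : ∀ {D D' : Type u} [CommRing D] [CommRing D'] (h : D →+* D') (g : E →+* D) (φ : Φ),
      Pt D g φ → Pt D' (h.comp g) φ)
    (hloc : ∀ p : PrimeSpectrum E, ∃ (r : E) (φ : Φ), r ∉ p.asIdeal ∧
      ∀ (D : Type u) [CommRing D] (g : E →+* D), IsUnit (g r) → Pt D g φ)
    (huniq : ∀ {D : Type u} [CommRing D] [Nontrivial D] (g : E →+* D) (φ φ' : Φ), Pt D g φ → Pt D g φ' → φ = φ')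
    (σ : Φ → E →+* B) (hσk : ∀ φ, (σ φ).comp k = RingHom.id B) (hσ : ∀ φ, Pt B (σ φ) φ)
    (hext : ∀ {D : Type u} [CommRing D] (g : E →+* D) (φ : Φ), Pt D g φ → g = (g.comp k).comp (σ φ)) :
    k.Finite ∧ k.Etale := by
  classical
  let Q : PrimeSpectrum E → Φ → Prop := fun p φ => Pt _ (algebraMap E p.asIdeal.ResidueField) φ
  have hu : ∀ (q : PrimeSpectrum E) (r : E), r ∉ q.asIdeal → IsUnit (algebraMap E q.asIdeal.ResidueField r) :=
    fun q r hq => isUnit_iff_ne_zero.mpr fun h0 => hq (by rw [← q.asIdeal.ker_algebraMap_residueField]; exact h0)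
  have hQopen : ∀ φ, IsOpen {p | Q p φ} := by
    intro φ
    refine isOpen_iff_forall_mem_open.mpr fun p hp => ?_
    obtain ⟨r, φ', hr, hφ'⟩ := hloc p
    have hφ : φ = φ' := huniq _ _ _ hp (hφ' _ _ (hu p r hr))
    exact ⟨PrimeSpectrum.basicOpen r, fun q hq => hφ ▸ hφ' _ _ (hu q r hq), (PrimeSpectrum.basicOpen r).isOpen, hr⟩
  have hQcl : ∀ φ, IsClopen {p | Q p φ} := by
    intro φ
    refine ⟨?_, hQopen φ⟩
    rw [← isOpen_compl_iff, show {p | Q p φ}ᶜ = ⋃ φ' ∈ {φ' | φ' ≠ φ}, {p | Q p φ'} from ?_]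
    · exact isOpen_biUnion fun φ' _ => hQopen φ'
    · ext p
      simp only [Set.mem_compl_iff, Set.mem_setOf_eq, Set.mem_iUnion, exists_prop]
      constructor
      · intro hp
        obtain ⟨r, φ', hr, hφ'⟩ := hloc p
        have h1 : Q p φ' := hφ' _ _ (hu p r hr)
        exact ⟨φ', fun h => hp (h ▸ h1), h1⟩
      · rintro ⟨φ', hne, h'⟩ h
        exact hne (huniq _ _ _ h' h)
  choose ε hε hεQ using fun φ => PrimeSpectrum.isClopen_iff.mp (hQcl φ)
  have hval : ∀ φ φ', σ φ' (ε φ) = if φ' = φ then 1 else 0 := by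
    intro φ φ'
    have hmem : ∀ q : PrimeSpectrum B, σ φ' (ε φ) ∉ q.asIdeal ↔ φ' = φ := by
      intro q
      let p : PrimeSpectrum E := PrimeSpectrum.comap (σ φ') q
      have h1 : p ∈ PrimeSpectrum.basicOpen (ε φ) ↔ σ φ' (ε φ) ∉ q.asIdeal := Iff.rfl
      rw [← h1, ← SetLike.mem_coe, ← hεQ φ, Set.mem_setOf_eq]
      have hp' : Pt _ ((algebraMap B q.asIdeal.ResidueField).comp (σ φ')) φ' := hcomp _ _ _ (hσ φ')
      let j : p.asIdeal.ResidueField →+* q.asIdeal.ResidueField :=
        Ideal.ResidueField.map p.asIdeal q.asIdeal (σ φ') rfl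
      have hj : j.comp (algebraMap E p.asIdeal.ResidueField) = (algebraMap B q.asIdeal.ResidueField).comp (σ φ') :=
        RingHom.ext fun x => Ideal.ResidueField.map_algebraMap _ _ _ _ x
      constructor
      · intro hp
        have h2 := hcomp j _ _ hp
        rw [hj] at h2
        exact huniq _ _ _ hp' h2
      · rintro rfl
        obtain ⟨r, φ'', hr, hφ''⟩ := hloc p
        have h3 : Q p φ'' := hφ'' _ _ (hu p r hr)
        have h4 := hcomp j _ _ h3
        rw [hj] at h4
        exact (huniq _ _ _ h4 hp') ▸ h3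
    have hid : IsIdempotentElem (σ φ' (ε φ)) := (hε φ).map (σ φ')
    split_ifs with h
    · refine (IsIdempotentElem.iff_eq_one_of_isUnit ?_).mp hid
      by_contra hu
      obtain ⟨q, hq, hmq⟩ := exists_max_ideal_of_mem_nonunits hu
      exact (hmem ⟨q, hq.isPrime⟩).mpr h hmq
    · exact hid.eq_zero_of_isNilpotent (nilpotent_iff_mem_prime.mpr fun q hq => by
        by_contra hmq
        exact h ((hmem ⟨q, hq⟩).mp hmq))
  let := k.toAlgebra
  let F : E →ₐ[B] Φ → B :=
    { (Pi.ringHom σ : E →+* _) with commutes' := fun b => funext fun φ => RingHom.congr_fun (hσk φ) b }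
  have hinj : Function.Injective F := by
    refine (injective_iff_map_eq_zero F).mpr fun x hx => ?_
    by_contra hx0
    let ann : Ideal E := Submodule.annihilator (Submodule.span E ({x} : Set E))
    have hann : ann ≠ ⊤ := fun htop => hx0 (by
      have h1 := Submodule.mem_annihilator.mp (htop ▸ Submodule.mem_top (x := (1 : E))) x
        (Submodule.mem_span_singleton_self x)
      rwa [smul_eq_mul, _root_.one_mul] at h1)
    obtain ⟨q, hq, hle⟩ := Ideal.exists_le_maximal _ hann
    obtain ⟨r, φ, hr, hφ⟩ := hloc ⟨q, hq.isPrime⟩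
    let g := algebraMap E (Localization.Away r)
    have h1 : g x = 0 := by
      rw [hext g φ (hφ _ g (IsLocalization.Away.algebraMap_isUnit r))]
      change g.comp k (σ φ x) = 0
      rw [show σ φ x = 0 from congrFun hx φ, map_zero]
    obtain ⟨⟨c, n, rfl⟩, hc⟩ := (IsLocalization.map_eq_zero_iff (Submonoid.powers r) _ x).mp h1
    refine hr ((hq.isPrime).mem_of_pow_mem n (hle ?_))
    rw [Submodule.mem_annihilator_span_singleton]
    exact hc
  have hsurj : Function.Surjective F := by
    intro b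
    have : Fintype Φ := Fintype.ofFinite _
    refine ⟨∑ φ, k (b φ) * ε φ, funext fun φ' => ?_⟩
    change σ φ' (∑ φ, k (b φ) * ε φ) = b φ'
    rw [map_sum]
    simp only [map_mul, hval, show ∀ φ, σ φ' (k (b φ)) = b φ from fun φ => RingHom.congr_fun (hσk φ') (b φ),
      mul_ite, _root_.mul_one, mul_zero, Finset.sum_ite_eq, Finset.mem_univ, if_true]
  let eF := AlgEquiv.ofBijective F ⟨hinj, hsurj⟩
  exact ⟨Module.Finite.equiv eF.symm.toLinearEquiv, RingHom.etale_algebraMap.mpr (Algebra.Etale.of_equiv eF.symm)⟩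

end Groth.Agent.H21Diag
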