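import Groth.Agent.H21Diag.HomFamily
import Groth.Agent.H21Diag.HomEtaleRing

/-!
The scheme of homomorphisms between finite diagonalisable groups is a constant scheme.
-/

open CategoryTheory MonoidalCategory CartesianMonoidalCategory MonObj GrpObj AlgebraicGeometry
open CategoryTheory.Limits

universe u

set_option backward.isDefEq.respectTransparency false

namespace Groth.Agent.H21Diag

variable {S U : Scheme.{u}} {u₀ : U ⟶ S} {G H : Over S} [GrpObj G] [GrpObj H] {M M' : Type} [AddCommGroup M]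
  [AddCommGroup M'] {e : Grp.mk (Red.bc u₀ G) ≅ Grp.mk (Red.DS U M)}
  {e' : Grp.mk (Red.bc u₀ H) ≅ Grp.mk (Red.DS U M')}

theorem FamChar.congr {T : Over S} {ψ : G ⊗ T ⟶ H} {B : Type u} [CommRing B] {y y' : Spec (CommRingCat.of B) ⟶ U}
    {t : Over.mk (y ≫ u₀) ⟶ T} {t' : Over.mk (y' ≫ u₀) ⟶ T} {φ : Multiplicative M' →* Multiplicative M}
    (h : FamChar e e' ψ y t φ) (hy : y = y') (ht : t.left = t'.left) : FamChar e e' ψ y' t' φ := by
  subst hy
  rwa [show t' = t from Over.OverMorphism.ext ht.symm]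

theorem famChar_whisker {T : Over S} (υ : G ⊗ T ⟶ H) {B : Type u} [CommRing B] {y : Spec (CommRingCat.of B) ⟶ U}
    (a : Over.mk (y ≫ u₀) ⟶ T) (φ : Multiplicative M' →* Multiplicative M) :
    FamChar e e' ((G ◁ a) ≫ υ) y (𝟙 _) φ ↔ FamChar e e' υ y a φ := by
  refine forall_congr' fun D => forall_congr' fun i => forall_congr' fun g => forall_congr' fun χ => ?_
  rw [lift_whiskerLeft_assoc]
  congr! 3

theorem famChar_point_unique (e : Grp.mk (Red.bc u₀ G) ≅ Grp.mk (Red.DS U M))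
    (e' : Grp.mk (Red.bc u₀ H) ≅ Grp.mk (Red.DS U M')) [Finite M] [Finite M'] [AddGroup.FG M'] [IsAffineHom G.hom]
    {A : Over S} (υ : G ⊗ A ⟶ H) (hA : AutFam.RepresentsHom G H A υ) {D : Type u} [CommRing D]
    {w : Spec (CommRingCat.of D) ⟶ U} (a₁ a₂ : Over.mk (w ≫ u₀) ⟶ A) {φ : Multiplicative M' →* Multiplicative M}
    (h₁ : FamChar e e' υ w a₁ φ) (h₂ : FamChar e e' υ w a₂ φ) : a₁ = a₂ := by
  have hψ : (G ◁ a₁) ≫ υ = (G ◁ a₂) ≫ υ :=
    FamChar.ext ((famChar_whisker υ a₁ φ).mpr h₁) ((famChar_whisker υ a₂ φ).mpr h₂)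
  have hfam : AutFam.IsHomFamily G H ((G ◁ a₁) ≫ υ) := fun X g₁ g₂ t => by
    rw [lift_whiskerLeft_assoc, lift_whiskerLeft_assoc, lift_whiskerLeft_assoc]
    exact hA.1 X g₁ g₂ _
  exact (hA.2 _ _ hfam).unique rfl hψ.symm

theorem famChar_left_unique (e : Grp.mk (Red.bc u₀ G) ≅ Grp.mk (Red.DS U M))
    (e' : Grp.mk (Red.bc u₀ H) ≅ Grp.mk (Red.DS U M')) [Finite M] [Finite M'] [AddGroup.FG M'] [IsAffineHom G.hom]
    {A : Over S} (υ : G ⊗ A ⟶ H) (hA : AutFam.RepresentsHom G H A υ) {D : Type u} [CommRing D]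
    {w w' : Spec (CommRingCat.of D) ⟶ U} (hw : w' = w) (a₁ : Over.mk (w ≫ u₀) ⟶ A) (a₂ : Over.mk (w' ≫ u₀) ⟶ A)
    {φ : Multiplicative M' →* Multiplicative M} (h₁ : FamChar e e' υ w a₁ φ) (h₂ : FamChar e e' υ w' a₂ φ) :
    a₁.left = a₂.left := by
  subst hw
  exact congrArg (fun a : Over.mk (w' ≫ u₀) ⟶ A => a.left) (famChar_point_unique e e' υ hA a₁ a₂ h₁ h₂)

/-- the ring-theoretic core of `finite_etale_chart` -/
theorem finite_etale_ring (e : Grp.mk (Red.bc u₀ G) ≅ Grp.mk (Red.DS U M))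
    (e' : Grp.mk (Red.bc u₀ H) ≅ Grp.mk (Red.DS U M')) [Finite M] [Finite M'] [AddGroup.FG M'] [IsAffineHom G.hom]
    {A : Over S} (υ : G ⊗ A ⟶ H) (hA : AutFam.RepresentsHom G H A υ) {B E : Type u} [CommRing B] [CommRing E]
    (y : Spec (CommRingCat.of B) ⟶ U) (k : B →+* E)
    (tE : Over.mk ((Spec.map (CommRingCat.ofHom k) ≫ y) ≫ u₀) ⟶ A)
    (hsec' : ∀ a : Over.mk (y ≫ u₀) ⟶ A, ∃ σ : E →+* B, σ.comp k = RingHom.id B ∧
      Spec.map (CommRingCat.ofHom σ) ≫ tE.left = a.left)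
    (hmono : ∀ {D : Type u} [CommRing D] (g g' : E →+* D), g.comp k = g'.comp k →
      Spec.map (CommRingCat.ofHom g) ≫ tE.left = Spec.map (CommRingCat.ofHom g') ≫ tE.left → g = g') :
    k.Finite ∧ k.Etale := by
  classical
  let yE : Spec (CommRingCat.of E) ⟶ U := Spec.map (CommRingCat.ofHom k) ≫ y
  let Pt : ∀ (D : Type u) [CommRing D], (E →+* D) → (Multiplicative M' →* Multiplicative M) → Prop :=
    fun D _ g φ => FamChar e e' υ (Spec.map (CommRingCat.ofHom g) ≫ yE)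
      ((Over.homMk (Spec.map (CommRingCat.ofHom g)) (Category.assoc _ _ _).symm :
        Over.mk ((Spec.map (CommRingCat.ofHom g) ≫ yE) ≫ u₀) ⟶ Over.mk (yE ≫ u₀)) ≫ tE) φ
  have hcomp : ∀ {D D' : Type u} [CommRing D] [CommRing D'] (h : D →+* D') (g : E →+* D)
      (φ : Multiplicative M' →* Multiplicative M), Pt D g φ → Pt D' (h.comp g) φ := fun h g φ hg =>
    (FamChar.comp hg h).congr (specMap_comp_assoc g h yE) (by
      simp only [Over.comp_left, Over.homMk_left, specMap_comp, Category.assoc])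
  have hloc : ∀ p : PrimeSpectrum E, ∃ (r : E) (φ : Multiplicative M' →* Multiplicative M), r ∉ p.asIdeal ∧
      ∀ (D : Type u) [CommRing D] (g : E →+* D), IsUnit (g r) → Pt D g φ := by
    intro p
    obtain ⟨r, hr, φ, hφ⟩ := exists_famChar e e' υ hA.1 yE tE p.asIdeal p.isPrime
    refine ⟨r, φ, hr, fun D _ g hg D' _ g' χ => ?_⟩
    have h1 := hφ D' (g'.comp g) (hg.map g') χ
    have key : ∀ (w : Spec (CommRingCat.of D') ⟶ U) (hw : w = Spec.map (CommRingCat.ofHom (g'.comp g)) ≫ yE)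
        (a : Over.mk (w ≫ u₀) ⟶ A), a.left = Spec.map (CommRingCat.ofHom (g'.comp g)) ≫ tE.left →
        lift (gpt e w χ) a ≫ υ = gpt e' w (χ.comp φ) := by
      rintro w rfl a ha
      refine Eq.trans ?_ h1
      congr 2
      exact Over.OverMorphism.ext ha
    refine key _ (specMap_comp_assoc g g' yE) _ ?_
    simp only [Over.comp_left, Over.homMk_left, specMap_comp, Category.assoc]
  have hsec : ∀ φ : Multiplicative M' →* Multiplicative M, ∃ σ : E →+* B,
      σ.comp k = RingHom.id B ∧ Pt B σ φ := by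
    intro φ
    obtain ⟨ψ, hψ, hψc⟩ := exists_family (e := e) (e' := e') y φ
    obtain ⟨a, ha, -⟩ := hA.2 _ ψ hψ
    rw [← ha, famChar_whisker] at hψc
    obtain ⟨σ, hid, hσa⟩ := hsec' a
    refine ⟨σ, hid, hψc.congr ?_ ?_⟩
    · change _ = Spec.map (CommRingCat.ofHom σ) ≫ Spec.map (CommRingCat.ofHom k) ≫ y
      rw [← Category.assoc, ← specMap_comp, hid, CommRingCat.ofHom_id, Spec.map_id, Category.id_comp]
    · exact hσa.symm
  choose σ hσk hσ using hsec
  have hext : ∀ {D : Type u} [CommRing D] (g : E →+* D) (φ : Multiplicative M' →* Multiplicative M),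
      Pt D g φ → g = (g.comp k).comp (σ φ) := by
    intro D _ g φ hg
    let g' := (g.comp k).comp (σ φ)
    have hg' : Pt D g' φ := hcomp (g.comp k) (σ φ) φ (hσ φ)
    have hgk : g'.comp k = g.comp k := by
      rw [RingHom.comp_assoc, hσk, RingHom.comp_id]
    exact hmono g g' hgk.symm (famChar_left_unique e e' υ hA
      (show Spec.map (CommRingCat.ofHom g') ≫ yE = Spec.map (CommRingCat.ofHom g) ≫ yE by
        simp only [yE, specMap_comp_assoc, hgk]) _ _ hg hg')
  have : Finite (Multiplicative M' →* Multiplicative M) := Finite.of_injective _ DFunLike.coe_injective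
  exact finite_etale_of_locally_classified k Pt hcomp hloc (fun g φ φ' h h' => h.unique h') σ hσk hσ hext

theorem finite_etale_of_iso {A : Over S} {B E : Type u} [CommRing B] [CommRing E] {P : Scheme.{u}} (y : P ⟶ Spec (CommRingCat.of B))
    (f : Spec (CommRingCat.of E) ≅ P) (k : B →+* E) (hk : Spec.map (CommRingCat.ofHom k) = f.hom ≫ y)
    (h : k.Finite ∧ k.Etale) : IsFinite y ∧ Etale y := by
  have hy : y = f.inv ≫ Spec.map (CommRingCat.ofHom k) := by rw [hk, Iso.inv_hom_id_assoc]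
  have : IsFinite (Spec.map (CommRingCat.ofHom k)) := (IsFinite.SpecMap_iff _).mpr h.1
  have : Etale (Spec.map (CommRingCat.ofHom k)) := (HasRingHomProperty.Spec_iff (P := @Etale)).mpr h.2
  rw [hy]
  exact ⟨inferInstance, inferInstance⟩

theorem mono_aux {T S' A' : Scheme.{u}} {a : A' ⟶ S'} {z : T ⟶ S'} {D : Scheme.{u}} (f : D ⟶ pullback a z) [Mono f]
    {W : Scheme.{u}} (g g' : W ⟶ D) (h1 : (g ≫ f) ≫ pullback.fst a z = (g' ≫ f) ≫ pullback.fst a z)
    (h2 : (g ≫ f) ≫ pullback.snd a z = (g' ≫ f) ≫ pullback.snd a z) : g = g' :=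
  (cancel_mono f).mp (pullback.hom_ext h1 h2)

/-- over a chart, homomorphisms form a finite étale scheme -/
theorem finite_etale_chart (e : Grp.mk (Red.bc u₀ G) ≅ Grp.mk (Red.DS U M))
    (e' : Grp.mk (Red.bc u₀ H) ≅ Grp.mk (Red.DS U M')) [Finite M] [Finite M'] [AddGroup.FG M'] [IsAffineHom G.hom]
    {A : Over S} [IsAffineHom A.hom] (υ : G ⊗ A ⟶ H) (hA : AutFam.RepresentsHom G H A υ) {B : Type u} [CommRing B]
    (y : Spec (CommRingCat.of B) ⟶ U) :
    IsFinite (pullback.snd A.hom (y ≫ u₀)) ∧ Etale (pullback.snd A.hom (y ≫ u₀)) := by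
  have : IsAffineHom (pullback.snd A.hom (y ≫ u₀)) :=
    MorphismProperty.pullback_snd (P := @IsAffineHom) _ _ inferInstance
  have : IsAffine (pullback A.hom (y ≫ u₀)) := isAffine_of_isAffineHom (pullback.snd A.hom (y ≫ u₀))
  suffices h : ∀ (E : CommRingCat.{u}) (f : Spec E ≅ pullback A.hom (y ≫ u₀)),
      IsFinite (pullback.snd A.hom (y ≫ u₀)) ∧ Etale (pullback.snd A.hom (y ≫ u₀)) from
    h _ (pullback A.hom (y ≫ u₀)).isoSpec.symm
  intro E f
  obtain ⟨k, hk⟩ := Spec.map_surjective (f.hom ≫ pullback.snd A.hom (y ≫ u₀))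
  have hk' : Spec.map (CommRingCat.ofHom k.hom) = f.hom ≫ pullback.snd A.hom (y ≫ u₀) := by
    rw [CommRingCat.ofHom_hom]; exact hk
  refine finite_etale_of_iso (A := A) _ f k.hom hk' (finite_etale_ring e e' υ hA y k.hom
    (Over.homMk (f.hom ≫ pullback.fst A.hom (y ≫ u₀)) ?_) ?_ ?_)
  · change (f.hom ≫ pullback.fst A.hom (y ≫ u₀)) ≫ A.hom = (Spec.map (CommRingCat.ofHom k.hom) ≫ y) ≫ u₀
    rw [hk', Category.assoc, pullback.condition]
    simp only [Category.assoc]
  · intro a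
    let l : Spec (CommRingCat.of B) ⟶ pullback A.hom (y ≫ u₀) :=
      pullback.lift a.left (𝟙 _) (by rw [Over.w a, Category.id_comp]; rfl)
    obtain ⟨σ, hσ⟩ := Spec.map_surjective (l ≫ f.inv)
    have hσf : Spec.map (CommRingCat.ofHom σ.hom) ≫ f.hom = l := by
      rw [CommRingCat.ofHom_hom, hσ, Category.assoc, Iso.inv_hom_id, Category.comp_id]
    refine ⟨σ.hom, ?_, ?_⟩
    · refine congrArg CommRingCat.Hom.hom (Spec.map_injective (?_ :
        Spec.map (CommRingCat.ofHom (σ.hom.comp k.hom)) = Spec.map (CommRingCat.ofHom (RingHom.id B))))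
      rw [specMap_comp, hk', ← Category.assoc, hσf, pullback.lift_snd, CommRingCat.ofHom_id, Spec.map_id]
    · change Spec.map (CommRingCat.ofHom σ.hom) ≫ f.hom ≫ pullback.fst A.hom (y ≫ u₀) = a.left
      rw [← Category.assoc, hσf, pullback.lift_fst]
  · intro D _ g g' h1 h2
    refine congrArg CommRingCat.Hom.hom (Spec.map_injective (mono_aux f.hom _ _ ?_ ?_ :
      Spec.map (CommRingCat.ofHom g) = Spec.map (CommRingCat.ofHom g')))
    · rw [Category.assoc, Category.assoc]; exact h2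
    · rw [Category.assoc, Category.assoc, ← hk', ← specMap_comp, ← specMap_comp, h1]

end Groth.Agent.H21Diag
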