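import Groth.Agent.H21Diag.SubgroupEq

/-!
Commuting subgroups of multiplicative type: the containment locus.
-/

open CategoryTheory MonoidalCategory CartesianMonoidalCategory MonObj GrpObj AlgebraicGeometry
open CategoryTheory.Limits

universe u

set_option backward.isDefEq.respectTransparency false
set_option maxHeartbeats 800000

namespace Groth.Agent.H21Diag

variable {S : Scheme.{u}} {G H H' : Over S} [GrpObj G] [GrpObj H] [GrpObj H']
  (i : H ⟶ G) [IsMonHom i] (i' : H' ⟶ G) [IsMonHom i'] [Mono i'.left] [IsSeparated G.hom]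

/-- near a prime, containment is governed by one condition on the type of the kernel -/
theorem exists_nhd_le (hH : SGA3x.IsMultTypeFT H) (hH' : SGA3x.IsMultTypeFT H')
    (hG : IsLocallyNoetherian S ∨ LocallyOfFiniteType G.hom)
    (hcomm : ∀ (X : Over S) (h : X ⟶ H) (h' : X ⟶ H'), (h ≫ i) * (h' ≫ i') = (h' ≫ i') * (h ≫ i))
    {U : Scheme.{u}} {u₀ : U ⟶ S} {M M' : Type} [AddCommGroup M] [AddCommGroup M'] [AddGroup.FG M] [AddGroup.FG M']
    (e : Grp.mk (Red.bc u₀ H) ≅ Grp.mk (Red.DS U M)) (e' : Grp.mk (Red.bc u₀ H') ≅ Grp.mk (Red.DS U M'))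
    {B : Type u} [CommRing B] (y : Spec (CommRingCat.of B) ⟶ U) (p : Ideal B) [p.IsPrime] :
    ∃ r ∉ p, ∃ Q : Prop,
      (∀ (D : Type u) [CommRing D] (a : B →+* D), IsUnit (a r) → Q →
        LEPt i i' ((Spec.map (CommRingCat.ofHom a) ≫ y) ≫ u₀)) ∧
      (∀ (K : Type u) [Field K] (a : B →+* K), IsUnit (a r) →
        LEOn i i' ((Spec.map (CommRingCat.ofHom a) ≫ y) ≫ u₀) → Q) := by
  have : Module.Finite ℤ M := Module.Finite.iff_addGroup_fg.mpr inferInstance
  have : Module.Finite ℤ M' := Module.Finite.iff_addGroup_fg.mpr inferInstance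
  have : AddGroup.FG (M × M') := Module.Finite.iff_addGroup_fg.mp inferInstance
  let Φ := pairFam e e' i i' hcomm
  obtain ⟨Λ, r, hr, hΛ⟩ := Φ.exists_away_type (finKer_pairFam e e' i i' hH hH' hG) y p
  refine ⟨r, hr, ∀ m : M, Multiplicative.ofAdd (m, (0 : M')) ∈ Λ → m = 0, fun D _ a ha hQ h => ?_,
    fun K _ a ha hle => ?_⟩
  · obtain ⟨χ, rfl⟩ := gpt_surjective e (Spec.map (CommRingCat.ofHom a) ≫ y) h
    obtain ⟨χ', hχ'⟩ := exists_char_of_KI e e' i i' _ Λ (hΛ D a ha).2 hQ χ
    exact ⟨_, hχ'⟩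
  · refine eq_zero_of_le e e' i i' _ Λ (hΛ K a ha).1 fun D _ g χ => ?_
    have h1 : LEPt i i' ((Spec.map (CommRingCat.ofHom g) ≫ Spec.map (CommRingCat.ofHom a) ≫ y) ≫ u₀) := by
      rw [Category.assoc]
      exact hle.pt _
    obtain ⟨h', hh'⟩ := h1 (gpt e _ χ)
    obtain ⟨χ', rfl⟩ := gpt_surjective e' _ h'
    exact ⟨χ', hh'⟩

/-- the containment locus is open and closed, and over it containment holds -/
theorem exists_clopen_le (hH : SGA3x.IsMultTypeFT H) (hH' : SGA3x.IsMultTypeFT H')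
    (hG : IsLocallyNoetherian S ∨ LocallyOfFiniteType G.hom)
    (hcomm : ∀ (X : Over S) (h : X ⟶ H) (h' : X ⟶ H'), (h ≫ i) * (h' ≫ i') = (h' ≫ i') * (h ≫ i)) :
    IsClopen {s : S | LEOn i i' (S.fromSpecResidueField s)} ∧
      ∀ V : S.Opens, (∀ s ∈ V, LEOn i i' (S.fromSpecResidueField s)) → LEOn i i' V.ι := by
  obtain ⟨T, g, hg, hs, hqc, hloc⟩ := exists_common_cover hH hH'
  have key : ∀ t : T, ∃ (R : CommRingCat.{u}) (y : Spec R ⟶ T), IsOpenImmersion y ∧ t ∈ Set.range y.base ∧
      ∃ Q : Prop, (∀ q : Spec R, LEOn i i' (S.fromSpecResidueField (g.base (y.base q))) ↔ Q) ∧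
        ∀ (D : Type u) [CommRing D] (z : Spec (CommRingCat.of D) ⟶ Spec R), Q → LEPt i i' (z ≫ y ≫ g) := by
    intro t
    obtain ⟨U, htU, ⟨M, _, hM, ⟨e⟩⟩, M', _, hM', ⟨e'⟩⟩ := hloc t
    obtain ⟨A, hA, htA, hAU⟩ := exists_isAffineOpen_mem_and_subset (U := U) (x := t) htU
    have hr : Set.range hA.fromSpec.base ⊆ Set.range U.ι.base := by
      rw [hA.range_fromSpec, Scheme.Opens.range_ι]; exact hAU
    let y₀ := IsOpenImmersion.lift U.ι hA.fromSpec hr
    have hy₀ : y₀ ≫ U.ι ≫ g = hA.fromSpec ≫ g := by rw [← Category.assoc, IsOpenImmersion.lift_fac]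
    obtain ⟨p, hp⟩ : t ∈ Set.range hA.fromSpec.base := by rw [hA.range_fromSpec]; exact htA
    have := p.isPrime
    obtain ⟨r, hrp, Q, hQ, hQ'⟩ := exists_nhd_le i i' hH hH' hG hcomm e e' y₀ p.asIdeal
    let R := CommRingCat.of (Localization.Away r)
    let α : Γ(T, A) →+* Localization.Away r := algebraMap _ _
    let y : Spec R ⟶ T := Spec.map (CommRingCat.ofHom α) ≫ hA.fromSpec
    have hz : ∀ (D : Type u) [CommRing D] (z : Spec (CommRingCat.of D) ⟶ Spec R),
        ∃ a : Γ(T, A) →+* D, IsUnit (a r) ∧ (Spec.map (CommRingCat.ofHom a) ≫ y₀) ≫ U.ι ≫ g = z ≫ y ≫ g := by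
      intro D _ z
      obtain ⟨b, rfl⟩ := Spec.map_surjective z
      refine ⟨b.hom.comp α, ?_, ?_⟩
      · exact (IsLocalization.Away.algebraMap_isUnit r).map b.hom
      · rw [Category.assoc, hy₀, specMap_comp, CommRingCat.ofHom_hom]
        simp only [y, Category.assoc]
    have hopen : IsOpenImmersion y := inferInstance
    refine ⟨R, y, hopen, ?_, Q, fun q => ?_, fun D _ z hq => ?_⟩
    · obtain ⟨q, hq⟩ : p ∈ Set.range (Spec.map (CommRingCat.ofHom α)).base := by
        have h1 := PrimeSpectrum.localization_away_comap_range (Localization.Away r) r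
        exact h1.symm ▸ hrp
      exact ⟨q, by rw [Scheme.Hom.comp_apply, hq]; exact hp⟩
    · let K := q.asIdeal.ResidueField
      let z : Spec (CommRingCat.of K) ⟶ Spec R :=
        Spec.map (CommRingCat.ofHom (algebraMap (Localization.Away r) K))
      have hzq : z.base (IsLocalRing.closedPoint K) = q :=
        PrimeSpectrum.ext (comap_closedPoint_residueField q.asIdeal)
      obtain ⟨a, ha, ha'⟩ := hz K z
      have hs' : g.base (y.base q) = (z ≫ y ≫ g).base (IsLocalRing.closedPoint K) := by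
        exact congrArg (fun x : Spec R => g.base (y.base x)) hzq.symm
      rw [hs']
      let d : Spec (CommRingCat.of K) ⟶ Spec (S.residueField ((z ≫ y ≫ g).base (IsLocalRing.closedPoint K))) :=
        Spec.map (Scheme.descResidueField (Scheme.stalkClosedPointTo (z ≫ y ≫ g)))
      have hd : d ≫ S.fromSpecResidueField _ = z ≫ y ≫ g :=
        Scheme.descResidueField_stalkClosedPointTo_fromSpecResidueField K S (z ≫ y ≫ g)
      constructor
      · intro h
        refine hQ' K a ha ?_
        rw [ha', ← hd]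
        exact h.comp d
      · intro hq
        have : Flat d := by
          refine Flat.SpecMap_iff.mpr ?_
          let := (Scheme.descResidueField (Scheme.stalkClosedPointTo (z ≫ y ≫ g))).hom.toAlgebra
          exact (inferInstance : Module.Flat (S.residueField ((z ≫ y ≫ g).base (IsLocalRing.closedPoint K))) K)
        have : Surjective d := ⟨fun x => ⟨IsLocalRing.closedPoint K, Subsingleton.elim _ _⟩⟩
        refine leOn_of_fpqc d _ (leOn_of_points _ fun D _ w => ?_)
        rw [hd, ← Category.assoc w]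
        obtain ⟨b, hb, hb'⟩ := hz D (w ≫ z)
        rw [← hb']
        exact hQ D b hb hq
    · obtain ⟨b, hb, hb'⟩ := hz D z
      rw [← hb']
      exact hQ D b hb hq
  choose R y hy hty Q hQ hQ' using key
  refine ⟨isClopen_of_cover g hqc _ ?_, fun V hV => leOn_of_cover g hqc V.ι fun t => ?_⟩
  · have hloc' : ∀ (t x : T), x ∈ Set.range (y t).base →
        (x ∈ g.base ⁻¹' {s : S | LEOn i i' (S.fromSpecResidueField s)} ↔ Q t) := by
      rintro t _ ⟨q, rfl⟩
      exact hQ t q
    constructor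
    · rw [← isOpen_compl_iff, isOpen_iff_forall_mem_open]
      intro t ht
      exact ⟨_, fun x hx hx' => ht ((hloc' t t (hty t)).mpr ((hloc' t x hx).mp hx')),
        (y t).isOpenEmbedding.isOpen_range, hty t⟩
    · rw [isOpen_iff_forall_mem_open]
      intro t ht
      exact ⟨_, fun x hx => (hloc' t x hx).mpr ((hloc' t t (hty t)).mp ht),
        (y t).isOpenEmbedding.isOpen_range, hty t⟩
  · refine ⟨R t, y t, hy t, hty t, fun D _ z z' hzz => ?_⟩
    rw [hzz]
    rcases subsingleton_or_nontrivial D with hD | hD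
    · intro h
      have : IsEmpty ↥(Spec (CommRingCat.of D)) := inferInstanceAs (IsEmpty (PrimeSpectrum D))
      exact ⟨1, Over.OverMorphism.ext ((isInitialOfIsEmpty (X := Spec (CommRingCat.of D))).hom_ext _ _)⟩
    obtain ⟨w⟩ : Nonempty ↥(Spec (CommRingCat.of D)) := inferInstanceAs (Nonempty (PrimeSpectrum D))
    refine hQ' t D z' ((hQ t (z'.base w)).mp (hV _ ?_))
    have h1 : g.base ((y t).base (z'.base w)) = V.ι.base (z.base w) := by
      rw [← Scheme.Hom.comp_apply, ← Scheme.Hom.comp_apply, ← Scheme.Hom.comp_apply, ← hzz]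
    rw [h1]
    exact Subtype.property _

end Groth.Agent.H21Diag
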