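import Groth.Agent.H21Diag.HomLiftExists

/-!
Subgroups of multiplicative type which agree modulo a nilpotent ideal are isomorphic compatibly.
-/

open CategoryTheory MonoidalCategory CartesianMonoidalCategory MonObj GrpObj AlgebraicGeometry
open CategoryTheory.Limits

universe u

namespace Groth.Agent.H21Diag

variable {R₀ : Type u} [CommRing R₀] {G H H' : Over (Spec (CommRingCat.of R₀))} [GrpObj G] [GrpObj H] [GrpObj H']

theorem exists_hom_of_le_mod (hH : IsDiagLoc H) (hH' : IsDiagLoc H') (J : Ideal R₀) (hJ : IsNilpotent J)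
    (i : H ⟶ G) [IsMonHom i] (i' : H' ⟶ G) [IsMonHom i'] [Mono i']
    (hle : ∀ (X : Over (Spec (CommRingCat.of R₀))) (_ : X ⟶ Tst (Ideal.Quotient.mk J)) (h : X ⟶ H),
      ∃ h' : X ⟶ H', h ≫ i = h' ≫ i') :
    ∃ φ : H ⟶ H', IsMonHom φ ∧ ∀ (X : Over (Spec (CommRingCat.of R₀))) (_ : X ⟶ Tst (Ideal.Quotient.mk J))
      (h : X ⟶ H), (h ≫ φ) ≫ i' = h ≫ i := by
  obtain ⟨φ₀, hφ₀⟩ := hle _ (fst (Tst (Ideal.Quotient.mk J)) H) (snd _ _)
  have key : ∀ (X : Over (Spec (CommRingCat.of R₀))) (p : X ⟶ Tst (Ideal.Quotient.mk J)) (h : X ⟶ H),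
      (lift p h ≫ φ₀) ≫ i' = h ≫ i := fun X p h => by
    rw [Category.assoc, ← hφ₀, ← Category.assoc, lift_snd]
  obtain ⟨φ, hm, hφ⟩ := exists_hom_lift hH hH' J hJ φ₀ fun X p a b => by
    rw [← cancel_mono i', key, MonObj.mul_comp, MonObj.mul_comp, key, key]
  exact ⟨φ, hm, fun X p h => by rw [hφ X p h, key]⟩

theorem exists_iso_of_eq_mod (hH : IsDiagLoc H) (hH' : IsDiagLoc H') (J : Ideal R₀) (hJ : IsNilpotent J)
    (i : H ⟶ G) [IsMonHom i] [Mono i] (i' : H' ⟶ G) [IsMonHom i'] [Mono i']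
    (hle : ∀ (X : Over (Spec (CommRingCat.of R₀))) (_ : X ⟶ Tst (Ideal.Quotient.mk J)) (h : X ⟶ H),
      ∃ h' : X ⟶ H', h ≫ i = h' ≫ i')
    (hge : ∀ (X : Over (Spec (CommRingCat.of R₀))) (_ : X ⟶ Tst (Ideal.Quotient.mk J)) (h' : X ⟶ H'),
      ∃ h : X ⟶ H, h' ≫ i' = h ≫ i) :
    ∃ φ : H ≅ H', IsMonHom φ.hom ∧ ∀ (X : Over (Spec (CommRingCat.of R₀))) (_ : X ⟶ Tst (Ideal.Quotient.mk J))
      (h : X ⟶ H), (h ≫ φ.hom) ≫ i' = h ≫ i := by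
  obtain ⟨φ, hm, hφ⟩ := exists_hom_of_le_mod hH hH' J hJ i i' hle
  obtain ⟨ψ, hm', hψ⟩ := exists_hom_of_le_mod hH' hH J hJ i' i hge
  refine ⟨⟨φ, ψ, ?_, ?_⟩, hm, hφ⟩
  · refine hom_ext_of_eq_mod hH hH _ _ J hJ fun X p a => ?_
    rw [← cancel_mono i, Category.comp_id, ← Category.assoc, hψ X p, hφ X p]
  · refine hom_ext_of_eq_mod hH' hH' _ _ J hJ fun X p a => ?_
    rw [← cancel_mono i', Category.comp_id, ← Category.assoc, hφ X p, hψ X p]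

end Groth.Agent.H21Diag
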