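import Groth.Agent.H21Diag.BcPoints

/-!
Integration of a section over a group which is only locally diagonalisable.
-/

open CategoryTheory MonoidalCategory CartesianMonoidalCategory MonObj GrpObj AlgebraicGeometry
open CategoryTheory.Limits

universe u

namespace Groth.Agent.H21Diag

attribute [local instance] IntDat.ringA IntDat.ringP

variable {R₀ : Type u} [CommRing R₀] {G H : Over (Spec (CommRingCat.of R₀))} [GrpObj G] [GrpObj H]
  {f : H ⟶ G} {J : Ideal R₀} {D : Type u} [CommRing D] {k : R₀ →+* D} {Jd : Ideal D} {N : Type} [CommMonoid N]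

/-- `y` is the integral at `a` computed with the auxiliary point `U` -/
def IntPt (f : H ⟶ G) (E : IntDat Jd N) (U : Tst (E.s.comp k) ⟶ H) (a : Tst k ⟶ H) (y : Tst k ⟶ G) : Prop :=
  ∃ e : Tst (E.c.comp k) ⟶ G,
    tst E.ι₀ (g' := E.s.comp k) (by rw [← RingHom.comp_assoc, E.hc]) ≫ e =
      (((tst E.s rfl ≫ a) * U) ≫ f) * (U ≫ f)⁻¹ ∧
    tst (Ideal.Quotient.mk E.I) rfl ≫ e = tst (Ideal.Quotient.mk E.I) rfl ≫ tst E.c rfl ≫ (a ≫ f) ∧
    y = tst E.π (g' := k) (by rw [← RingHom.comp_assoc, E.hπ, RingHom.id_comp]) ≫ e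

theorem intPt_exists (hmod : MulMod f J) (hJd : J.map k ≤ Jd) (E : IntDat Jd N) (U : Tst (E.s.comp k) ⟶ H)
    (a : Tst k ⟶ H) : ∃ y, IntPt f E U a y := by
  let z₀ := tst (g' := E.c.comp k) E.c rfl ≫ (a ≫ f)
  have hι : E.ι₀.comp (E.c.comp k) = E.s.comp k := by rw [← RingHom.comp_assoc, E.hc]
  let q := Ideal.Quotient.mk (E.I.map E.ι₀)
  let W := (((tst E.s rfl ≫ a) * U) ≫ f) * (U ≫ f)⁻¹
  let x : Tst (E.ι₀.comp (E.c.comp k)) ⟶ G :=
    (tst (RingHom.id _) ((RingHom.id_comp _).trans hι.symm) ≫ W) * (tst E.ι₀ rfl ≫ z₀)⁻¹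
  have hq0 : J.map (q.comp (E.s.comp k)) = ⊥ := by
    rw [← RingHom.comp_assoc, ← Ideal.map_map, Ideal.map_eq_bot_iff_le_ker]
    intro d hd
    rw [RingHom.mem_ker, RingHom.comp_apply, Ideal.Quotient.eq_zero_iff_mem, ← E.hc]
    exact Ideal.mem_map_of_mem _ (E.const_mem d (hJd hd))
  have hx : tst (Ideal.Quotient.mk (E.I.map E.ι₀)) rfl ≫ x = 1 := by
    simp only [x, z₀, W, MonObj.comp_mul, GrpObj.comp_inv, ← Category.assoc, tst_comp]
    rw [mul_inv_eq_one, mul_inv_eq_iff_eq_mul, hmod _ _ (by rw [hι]; exact hq0)]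
    exact congrArg (fun z => (z ≫ a) ≫ f * _) (tst_congr (by simp only [RingHom.id_comp, E.hc]) _ _)
  obtain ⟨d, hd₁, hd₂⟩ := exists_tst_descend E.ι₀ E.I E.inj E.nil E.surj (E.c.comp k) x hx
  refine ⟨_, d * z₀, ?_, ?_, rfl⟩
  · have h1 : tst E.ι₀ hι = tst (RingHom.id _) ((RingHom.id_comp _).trans hι) ≫ tst E.ι₀ rfl := by
      rw [tst_comp]; exact tst_congr (RingHom.id_comp _).symm _ _
    rw [h1, Category.assoc, MonObj.comp_mul, MonObj.comp_mul, hd₁]
    simp only [x, MonObj.comp_mul, GrpObj.comp_inv, inv_mul_cancel_right]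
    rw [← Category.assoc, tst_comp, tst_congr (RingHom.id_comp _) _ (RingHom.id_comp _), tst_id, Category.id_comp]
  · rw [MonObj.comp_mul, hd₂, _root_.one_mul]

theorem IntPt.unique {E : IntDat Jd N} {U : Tst (E.s.comp k) ⟶ H} {a : Tst k ⟶ H} {y y' : Tst k ⟶ G}
    (h : IntPt f E U a y) (h' : IntPt f E U a y') : y = y' := by
  obtain ⟨e, he₁, he₂, rfl⟩ := h
  obtain ⟨e', he₁', he₂', rfl⟩ := h'
  congr 1
  exact Over.OverMorphism.ext (point_ext E.ι₀ E.I E.inj E.nil (congrArg (fun z => z.left) (he₁.trans he₁'.symm))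
    (congrArg (fun z => z.left) (he₂.trans he₂'.symm)))

theorem IntPt.of_map_eq_bot (hmod : MulMod f J) (h0 : J.map k = ⊥) (E : IntDat Jd N) (U : Tst (E.s.comp k) ⟶ H)
    (a : Tst k ⟶ H) : IntPt f E U a (a ≫ f) := by
  refine ⟨tst E.c rfl ≫ (a ≫ f), ?_, rfl, ?_⟩
  · rw [hmod _ _ (by rw [← Ideal.map_map, h0, Ideal.map_bot]), mul_inv_cancel_right,
      ← Category.assoc (tst E.ι₀ _), tst_comp, Category.assoc]
    exact congrArg (· ≫ a ≫ f) (tst_congr E.hc _ _)
  · rw [← Category.assoc (tst E.π _), tst_comp, tst_congr E.hπ _ (RingHom.id_comp _), tst_id, Category.id_comp]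

/-- transport of a witness along a map of rings -/
theorem IntPt.push {D' : Type u} [CommRing D'] {t : D →+* D'} {k' : R₀ →+* D'} (hk : t.comp k = k')
    {Jd' : Ideal D'} {N' : Type} [CommMonoid N'] {E : IntDat Jd N} {E' : IntDat Jd' N'}
    (T : IntHom t E E') {U : Tst (E.s.comp k) ⟶ H} {a : Tst k ⟶ H} {y : Tst k ⟶ G} (h : IntPt f E U a y)
    (U' : Tst (E'.s.comp k') ⟶ H)
    (hU : tst T.F (g' := E'.s.comp k') (by rw [← RingHom.comp_assoc, T.hs, RingHom.comp_assoc, hk]) ≫ U = U') :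
    IntPt f E' U' (tst t hk ≫ a) (tst t hk ≫ y) := by
  subst hk hU
  obtain ⟨e, he₁, he₂, rfl⟩ := h
  have hτ : T.τ.comp (E.c.comp k) = E'.c.comp (t.comp k) := by rw [← RingHom.comp_assoc, T.hc]; rfl
  have hT : T.F.comp (E.s.comp k) = E'.s.comp (t.comp k) := by rw [← RingHom.comp_assoc, T.hs]; rfl
  refine ⟨tst T.τ hτ ≫ e, ?_, ?_, ?_⟩
  · rw [← Category.assoc, tst_comp,
      tst_congr T.hι _ (by rw [RingHom.comp_assoc]; exact (congrArg T.F.comp (by rw [← RingHom.comp_assoc, E.hc])).trans hT),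
      ← tst_comp E.ι₀ T.F (by rw [← RingHom.comp_assoc, E.hc]) hT, Category.assoc, he₁]
    simp only [MonObj.comp_mul, GrpObj.comp_inv, ← Category.assoc, tst_comp]
    exact congrArg (fun z => ((z ≫ a) * _) ≫ f * _) (tst_congr T.hs _ _)
  · let q' := Ideal.Quotient.mk E'.I
    let τq : E.P ⧸ E.I →+* E'.P ⧸ E'.I := Ideal.Quotient.lift _ (q'.comp T.τ)
      fun x hx => Ideal.Quotient.eq_zero_iff_mem.mpr (T.hI x hx)
    have hτq : τq.comp (Ideal.Quotient.mk E.I) = q'.comp T.τ := Ideal.Quotient.lift_comp_mk _ _ _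
    have hτq' : τq.comp ((Ideal.Quotient.mk E.I).comp (E.c.comp k)) = q'.comp (E'.c.comp (t.comp k)) := by
      rw [← RingHom.comp_assoc, hτq, RingHom.comp_assoc, hτ]
    have h1 := congrArg (tst τq hτq' ≫ ·) he₂
    simp only [← Category.assoc, tst_comp] at h1 ⊢
    rw [tst_congr hτq.symm _ (by rw [RingHom.comp_assoc]; exact hτq'), h1]
    exact congrArg (fun z => (z ≫ a) ≫ f) (tst_congr (by
      rw [← RingHom.comp_assoc, hτq, RingHom.comp_assoc, T.hc]) _ _)
  · rw [← Category.assoc, ← Category.assoc, tst_comp, tst_comp]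
    exact congrArg (· ≫ e) (tst_congr T.hπ.symm _ _)

theorem IntPt.mul (hmod : MulMod f J) (hJd : J.map k ≤ Jd) {E : IntDat Jd N} {U : Tst (E.s.comp k) ⟶ H}
    {a b : Tst k ⟶ H} (T : IntHom (RingHom.id D) E E)
    (hU : tst T.F (g := E.s.comp k) (g' := E.s.comp k) (by rw [← RingHom.comp_assoc, T.hs, RingHom.comp_id]) ≫ U =
      (tst E.s rfl ≫ b) * U)
    {y y' : Tst k ⟶ G} (h : IntPt f E U a y) (h' : IntPt f E U b y') : IntPt f E U (a * b) (y * y') := by
  have h0 := h.push (RingHom.id_comp k) (N' := N) T _ hU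
  rw [tst_id, Category.id_comp, Category.id_comp] at h0
  obtain ⟨e, h1, h2, rfl⟩ := h0
  obtain ⟨e', h1', h2', rfl⟩ := h'
  refine ⟨e * e', ?_, ?_, (MonObj.comp_mul _ _ _).symm⟩
  · rw [MonObj.comp_mul, h1, h1', MonObj.comp_mul, mul_assoc (tst E.s rfl ≫ a)]
    generalize ((tst E.s rfl ≫ a) * ((tst E.s rfl ≫ b) * U)) ≫ f = p
    generalize ((tst E.s rfl ≫ b) * U) ≫ f = p'
    exact by group
  · rw [MonObj.comp_mul, h2, h2']
    simp only [← Category.assoc, MonObj.comp_mul]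
    rw [hmod _ _ (by
      rw [← RingHom.comp_assoc, ← Ideal.map_map, Ideal.map_eq_bot_iff_le_ker]
      intro w hw
      exact Ideal.Quotient.eq_zero_iff_mem.mpr (E.const_mem w (hJd hw)))]

variable {R : Type u} [CommRing R] {ρ : R₀ →+* R} {M : Type} [AddCommGroup M]

/-- the auxiliary point of a presentation: the universal character -/
noncomputable def Pres.univPt (Q : Pres H ρ M) (k : R₀ →+* D) (g : R →+* D) (hg : g.comp ρ = k) :
    Tst ((MonoidAlgebra.singleOneRingHom : D →+* MonoidAlgebra D (Multiplicative M)).comp k) ⟶ H :=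
  Q.ptf _ ((MonoidAlgebra.singleOneRingHom : D →+* MonoidAlgebra D (Multiplicative M)).comp g)
    (by rw [RingHom.comp_assoc, hg]) (MonoidAlgebra.of D (Multiplicative M))

/-- `y` is the integral at `a` computed with a presentation -/
def IntAt (f : H ⟶ G) (J : Ideal R₀) (Q : Pres H ρ M) (k : R₀ →+* D) (g : R →+* D) (hg : g.comp ρ = k)
    (hJ : (J ^ 2).map k = ⊥) (a : Tst k ⟶ H) (y : Tst k ⟶ G) : Prop :=
  IntPt f (offDat (J.map k) (sq_map k hJ) (Multiplicative M)) (Q.univPt k g hg) a y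

theorem intAt_exists (hmod : MulMod f J) (Q : Pres H ρ M) (g : R →+* D) (hg : g.comp ρ = k)
    (hJ : (J ^ 2).map k = ⊥) (a : Tst k ⟶ H) : ∃ y, IntAt f J Q k g hg hJ a y :=
  intPt_exists hmod le_rfl _ _ a

theorem IntAt.unique {Q : Pres H ρ M} {g : R →+* D} {hg : g.comp ρ = k} {hJ : (J ^ 2).map k = ⊥}
    {a : Tst k ⟶ H} {y y' : Tst k ⟶ G} (h : IntAt f J Q k g hg hJ a y) (h' : IntAt f J Q k g hg hJ a y') : y = y' :=
  IntPt.unique h h'

theorem IntAt.of_map_eq_bot (hmod : MulMod f J) (h0 : J.map k = ⊥) (Q : Pres H ρ M) (g : R →+* D)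
    (hg : g.comp ρ = k) (hJ : (J ^ 2).map k = ⊥) (a : Tst k ⟶ H) : IntAt f J Q k g hg hJ a (a ≫ f) :=
  IntPt.of_map_eq_bot hmod h0 _ _ a

theorem IntAt.mul (hmod : MulMod f J) {Q : Pres H ρ M} {g : R →+* D} {hg : g.comp ρ = k}
    {hJ : (J ^ 2).map k = ⊥} {a b : Tst k ⟶ H} {y y' : Tst k ⟶ G} (h : IntAt f J Q k g hg hJ a y)
    (h' : IntAt f J Q k g hg hJ b y') : IntAt f J Q k g hg hJ (a * b) (y * y') := by
  obtain ⟨χ, rfl⟩ := (Q.ptf_bijective k g hg).2 b
  obtain ⟨T, hT⟩ := exists_twist (M := M) (J.map k) (sq_map k hJ) χ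
  refine IntPt.mul hmod le_rfl T ?_ h h'
  let sN : D →+* MonoidAlgebra D (Multiplicative M) := MonoidAlgebra.singleOneRingHom
  have hsg : (sN.comp g).comp ρ = sN.comp k := by rw [RingHom.comp_assoc, hg]
  have e1 : tst sN (g := k) rfl ≫ Q.ptf k g hg χ = Q.ptf (sN.comp k) (sN.comp g) hsg (sN.toMonoidHom.comp χ) :=
    Q.ptf_nat sN k g hg _ rfl χ
  refine (Q.ptf_nat T.F (sN.comp k) (sN.comp g) hsg (sN.comp k) _ _).trans ?_
  refine Eq.trans ?_ (congrArg (· * Q.univPt k g hg) e1).symm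
  refine Eq.trans ?_ (Q.ptf_mul (sN.comp k) (sN.comp g) hsg _ _)
  have hgg : T.F.comp (sN.comp g) = sN.comp g := RingHom.ext fun r => RingHom.congr_fun T.hs (g r)
  have hgen : ∀ (g' : R →+* MonoidAlgebra D (Multiplicative M)) (_ : g' = sN.comp g) (h' : g'.comp ρ = sN.comp k)
      (c : Multiplicative M →* MonoidAlgebra D (Multiplicative M)),
      Q.ptf (sN.comp k) g' h' c = Q.ptf (sN.comp k) (sN.comp g) hsg c := by rintro _ rfl _ _; rfl
  exact (hgen _ hgg _ _).trans (congrArg _ hT)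

theorem IntAt.map {Q : Pres H ρ M} {g : R →+* D} {hg : g.comp ρ = k} {hJ : (J ^ 2).map k = ⊥}
    {a : Tst k ⟶ H} {y : Tst k ⟶ G} (h : IntAt f J Q k g hg hJ a y) {D' : Type u} [CommRing D'] (t : D →+* D')
    (k' : R₀ →+* D') (hk : t.comp k = k') (hJ' : (J ^ 2).map k' = ⊥) :
    IntAt f J Q k' (t.comp g) (by rw [RingHom.comp_assoc, hg, hk]) hJ' (tst t hk ≫ a) (tst t hk ≫ y) := by
  obtain ⟨T, hT⟩ := exists_mapHom (M := M) t (J.map k) (sq_map k hJ) (J.map k') (sq_map k' hJ')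
    (by rw [Ideal.map_map, hk])
  refine IntPt.push (N' := Multiplicative M) hk T h _ ?_
  let sN : D →+* MonoidAlgebra D (Multiplicative M) := MonoidAlgebra.singleOneRingHom
  let sN' : D' →+* MonoidAlgebra D' (Multiplicative M) := MonoidAlgebra.singleOneRingHom
  have hsg : (sN.comp g).comp ρ = sN.comp k := by rw [RingHom.comp_assoc, hg]
  refine (Q.ptf_nat T.F (sN.comp k) (sN.comp g) hsg (sN'.comp k') _ _).trans ?_
  have hgg : T.F.comp (sN.comp g) = sN'.comp (t.comp g) := RingHom.ext fun r => RingHom.congr_fun T.hs (g r)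
  have hgen : ∀ (g' : R →+* MonoidAlgebra D' (Multiplicative M)) (_ : g' = sN'.comp (t.comp g))
      (h1 : g'.comp ρ = sN'.comp k') (h2 : (sN'.comp (t.comp g)).comp ρ = sN'.comp k')
      (c : Multiplicative M →* MonoidAlgebra D' (Multiplicative M)),
      Q.ptf (sN'.comp k') g' h1 c = Q.ptf (sN'.comp k') (sN'.comp (t.comp g)) h2 c := by rintro _ rfl _ _ _; rfl
  exact (hgen _ hgg _ _ _).trans (congrArg _ hT)

theorem exists_transferHom {M' : Type} [AddCommGroup M'] (Q : Pres H k M) (Q' : Pres H k M')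
    (hd : J.map k * J.map k = ⊥) :
    ∃ (F : MonoidAlgebra D (Multiplicative M') →+* MonoidAlgebra D (Multiplicative M))
      (T : IntHom (RingHom.id D) (offDat (J.map k) hd (Multiplicative M')) (offDat (J.map k) hd (Multiplicative M))),
      T.F = F ∧ Q'.pt (MonoidAlgebra.singleOneRingHom : D →+* MonoidAlgebra D (Multiplicative M))
          (F.toMonoidHom.comp (MonoidAlgebra.of D (Multiplicative M'))) =
        Q.pt (MonoidAlgebra.singleOneRingHom : D →+* MonoidAlgebra D (Multiplicative M))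
          (MonoidAlgebra.of D (Multiplicative M)) := by
  classical
  let sN : D →+* MonoidAlgebra D (Multiplicative M) := MonoidAlgebra.singleOneRingHom
  let x₀ := Q.pt sN (MonoidAlgebra.of D (Multiplicative M))
  obtain ⟨θ, hθ⟩ := Q'.pt_surjective sN x₀
  let F : MonoidAlgebra D (Multiplicative M') →+* MonoidAlgebra D (Multiplicative M) :=
    MonoidAlgebra.liftNCRingHom sN θ fun _ _ => Commute.all _ _
  have hF : F.comp MonoidAlgebra.singleOneRingHom = sN.comp (RingHom.id D) :=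
    RingHom.ext fun b => by simp [F, sN]
  have hco : ∀ w : MonoidAlgebra D (Multiplicative M'), (F w).coeff 1 = w.coeff 1 := fun w => by
    induction w using MonoidAlgebra.induction_linear with
    | zero => simp
    | add a b ha hb => simp [ha, hb]
    | single n r =>
      rw [show F (MonoidAlgebra.single n r) = MonoidAlgebra.single 1 r * θ n from MonoidAlgebra.liftNC_single _ _ _ _,
        MonoidAlgebra.coeff_single_one_mul]
      by_cases hn : n = 1
      · subst hn; simp [MonoidAlgebra.one_def]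
      · rw [transfer_coeff_one Q Q' θ hθ hn, mul_zero, MonoidAlgebra.coeff_single,
          Finsupp.single_eq_of_ne (Ne.symm hn)]
  refine ⟨F, ⟨F, offMap F (RingHom.id D) hF (Ideal.map_id _).le, hF, rfl,
    RingHom.ext fun r => Subtype.ext (RingHom.congr_fun hF r),
    fun w hw => offMap_mem F (RingHom.id D) hF (Ideal.map_id _).le hw, RingHom.ext fun w => hco _⟩, rfl, ?_⟩
  refine Eq.trans (congrArg _ ?_) hθ
  exact MonoidHom.ext fun m => by simp [F]

theorem IntAt.indep {R' : Type u} [CommRing R'] {ρ' : R₀ →+* R'} {M' : Type} [AddCommGroup M']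
    {Q : Pres H ρ M} {Q' : Pres H ρ' M'} {g : R →+* D} {hg : g.comp ρ = k} {g' : R' →+* D} {hg' : g'.comp ρ' = k}
    {hJ : (J ^ 2).map k = ⊥} {a : Tst k ⟶ H} {y y' : Tst k ⟶ G}
    (h : IntAt f J Q k g hg hJ a y) (h' : IntAt f J Q' k g' hg' hJ a y') : y = y' := by
  obtain ⟨F₀, T, hTF, hT⟩ := exists_transferHom (Q.map g k hg) (Q'.map g' k hg') (sq_map k hJ)
  have h1 : IntAt f J Q k g hg hJ (tst (RingHom.id D) (RingHom.id_comp k) ≫ a)
      (tst (RingHom.id D) (RingHom.id_comp k) ≫ y') := by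
    refine IntPt.push (N := Multiplicative M') (Jd := J.map k) (E := offDat (J.map k) (sq_map k hJ) (Multiplicative M')) (N' := Multiplicative M) (Jd' := J.map k) (E' := offDat (J.map k) (sq_map k hJ) (Multiplicative M)) (RingHom.id_comp k) T h' _ ?_
    let sN : D →+* MonoidAlgebra D (Multiplicative M) := MonoidAlgebra.singleOneRingHom
    let sN' : D →+* MonoidAlgebra D (Multiplicative M') := MonoidAlgebra.singleOneRingHom
    have hsg' : (sN'.comp g').comp ρ' = sN'.comp k := by rw [RingHom.comp_assoc, hg']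
    refine (Q'.ptf_nat T.F (sN'.comp k) (sN'.comp g') hsg' (sN.comp k) _ _).trans ?_
    have hgg : T.F.comp (sN'.comp g') = sN.comp g' := RingHom.ext fun r => RingHom.congr_fun T.hs (g' r)
    have hgen : ∀ (g'' : R' →+* MonoidAlgebra D (Multiplicative M)) (_ : g'' = sN.comp g')
        (h1 : g''.comp ρ' = sN.comp k) (h2 : (sN.comp g').comp ρ' = sN.comp k)
        (c : Multiplicative M' →* MonoidAlgebra D (Multiplicative M)),
        Q'.ptf (sN.comp k) g'' h1 c = Q'.ptf (sN.comp k) (sN.comp g') h2 c := by rintro _ rfl _ _ _; rfl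
    subst hTF
    have hsg2 : (sN.comp g').comp ρ' = sN.comp k := by rw [RingHom.comp_assoc, hg']
    exact (hgen _ hgg _ hsg2 _).trans hT
  rw [tst_id, Category.id_comp, Category.id_comp] at h1
  exact IntPt.unique h h1

/-- one step: a morphism multiplicative modulo `J₁` can be made multiplicative modulo `J₂ ⊇ J₁²` -/
theorem exists_mulMod_step_loc (hG : Smooth G.hom) (hH : IsDiagLoc H) (f : H ⟶ G)
    (J₁ J₂ : Ideal R₀) (h12 : J₁ ^ 2 ≤ J₂) (h21 : J₂ ≤ J₁) (hJ₂ : IsNilpotent J₂) (hmod : MulMod f J₁) :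
    ∃ f' : H ⟶ G, MulMod f' J₂ ∧ ∀ (D : Type u) [CommRing D] (k : R₀ →+* D), J₁.map k = ⊥ →
      ∀ a : Tst k ⟶ H, a ≫ f' = a ≫ f := by
  classical
  obtain ⟨F, hF⟩ := exists_charts hH
  choose M hMg hQ using hF
  let Q := fun i => @Classical.ofNonempty _ (hQ i)
  have : IsAffineHom H.hom := isAffineHom_of_diagLoc hH
  have : IsAffine H.left := isAffine_of_isAffineHom H.hom
  obtain ⟨A, _, α, x, y, hyx, hxy⟩ := exists_affine_coord (X := H)
  let I := J₂.map α
  let g₀ : R₀ →+* A ⧸ I := (Ideal.Quotient.mk I).comp α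
  have h0 : J₂.map g₀ = ⊥ := by rw [← Ideal.map_map, Ideal.map_quotient_self]
  have hsq : ∀ {D : Type u} [CommRing D] (k : R₀ →+* D), J₂.map k = ⊥ → (J₁ ^ 2).map k = ⊥ := fun k hk =>
    eq_bot_iff.mpr ((Ideal.map_mono h12).trans hk.le)
  have hsqA : ∀ {D : Type u} [CommRing D] (l : A ⧸ I →+* D) {k : R₀ →+* D}, l.comp g₀ = k → (J₁ ^ 2).map k = ⊥ :=
    fun l _ hl => hsq _ (by rw [← hl, ← Ideal.map_map, h0, Ideal.map_bot])
  let x₀ : Tst g₀ ⟶ H := tst (Ideal.Quotient.mk I) rfl ≫ x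
  let sA := Spec.map (CommRingCat.ofHom g₀)
  let Pb := fun i => pullback sA (Spec.map (CommRingCat.ofHom (F.ρ i)))
  have : ∀ i, IsAffine (Pb i) := fun i => inferInstance
  choose l hl using fun i => Spec.map_surjective ((Pb i).isoSpec.inv ≫ pullback.fst _ _)
  choose g hg using fun i => Spec.map_surjective ((Pb i).isoSpec.inv ≫ pullback.snd _ _)
  have hlg : ∀ i, (g i).hom.comp (F.ρ i) = (l i).hom.comp g₀ := fun i => by
    refine congrArg CommRingCat.Hom.hom (Spec.map_injective ?_ :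
      CommRingCat.ofHom ((g i).hom.comp (F.ρ i)) = CommRingCat.ofHom ((l i).hom.comp g₀))
    rw [specMap_comp, specMap_comp, CommRingCat.ofHom_hom, CommRingCat.ofHom_hom, hg, hl, Category.assoc,
      Category.assoc, ← pullback.condition]
  choose d hd using fun i =>
    @intAt_exists R₀ _ G H _ _ f J₁ _ _ ((l i).hom.comp g₀) (F.R i) _ (F.ρ i) (M i) (hMg i) hmod (Q i) (g i).hom
      (hlg i) (hsqA (l i).hom rfl) (tst (l i).hom rfl ≫ x₀)
  let F' : FFFam (A ⧸ I) :=
    { I := F.I, fin := F.fin, R := fun i => Γ(Pb i, ⊤), ρ := fun i => (l i).hom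
      flat := fun i => by
        have := F.flat i
        rw [CommRingCat.ofHom_hom, hl]; infer_instance
      surj := fun z => by
        obtain ⟨i, p, hp⟩ := F.surj (sA.base z)
        obtain ⟨w, hw, -⟩ := Scheme.Pullback.exists_preimage_pullback
          (f := sA) (g := Spec.map (CommRingCat.ofHom (F.ρ i))) z p hp.symm
        refine ⟨i, (Pb i).isoSpec.hom.base w, ?_⟩
        rw [CommRingCat.ofHom_hom, hl, ← Scheme.Hom.comp_apply, Iso.hom_inv_id_assoc]
        exact hw }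
  let e : ∀ {B : Type u} [CommRing B] (b : A ⧸ I →+* B), (Over.map sA).obj (Tst b) ⟶ Tst (b.comp g₀) :=
    fun b => Over.homMk (𝟙 _) ((Category.id_comp _).trans (specMap_comp g₀ b))
  let c : ∀ i, Tst (F'.ρ i) ⟶ Red.bc sA G := fun i => bcEquiv sA G _ (e (F'.ρ i) ≫ d i)
  have hc : ∀ i, (c i).left ≫ pullback.fst G.hom sA = (d i).left := fun i =>
    (bcEquiv_left_fst sA G _ _).trans (Category.id_comp _)
  obtain ⟨z, hz⟩ := F'.exists_descend c fun i j D _ fD gi gj hi hj => by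
    refine bc_ext ?_
    change (Spec.map (CommRingCat.ofHom gi) ≫ (c i).left) ≫ _ = (Spec.map (CommRingCat.ofHom gj) ≫ (c j).left) ≫ _
    rw [Category.assoc, Category.assoc, hc, hc]
    have hi' : gi.comp ((l i).hom.comp g₀) = fD.comp g₀ := by rw [← RingHom.comp_assoc]; exact congrArg (·.comp g₀) hi
    have hj' : gj.comp ((l j).hom.comp g₀) = fD.comp g₀ := by rw [← RingHom.comp_assoc]; exact congrArg (·.comp g₀) hj
    let := hMg i
    let := hMg j
    have h1 : tst gi hi' ≫ d i = tst gj hj' ≫ d j := by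
      have e1 := (hd i).map gi (fD.comp g₀) hi' (hsqA fD rfl)
      have e2 := (hd j).map gj (fD.comp g₀) hj' (hsqA fD rfl)
      rw [← Category.assoc, tst_comp, tst_congr hi _ rfl] at e1
      rw [← Category.assoc, tst_comp, tst_congr hj _ rfl] at e2
      exact IntAt.indep e1 e2
    exact congrArg (fun m => m.left) h1
  let v : Tst g₀ ⟶ G := Over.homMk (z.left ≫ pullback.fst G.hom sA) (by
    rw [Category.assoc, pullback.condition, ← Category.assoc]
    exact (congrArg (· ≫ sA) (Over.w z)).trans (Category.id_comp _))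
  have hv : ∀ i, tst (l i).hom rfl ≫ v = d i := fun i => Over.OverMorphism.ext (by
      rw [← hc i, ← hz i]
      exact (Category.assoc _ _ _).symm)
  obtain ⟨w, hw⟩ := exists_lift_tst hG α I (hJ₂.map (Ideal.mapHom α)) v
  have key : ∀ (i : F.I) (D : Type u) [CommRing D] (k : R₀ →+* D) (hk : J₂.map k = ⊥)
      (gD : (F.R i : Type u) →+* D) (hgD : gD.comp (F.ρ i) = k) (a : Tst k ⟶ H),
      @IntAt R₀ _ G H _ _ D _ (F.R i) _ (F.ρ i) (M i) (hMg i) f J₁ (Q i) k gD hgD (hsq k hk) a (a ≫ y ≫ w) := by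
    intro i D _ k hk gD hgD a
    let := hMg i
    obtain ⟨m, hm, hdec⟩ := exists_tst_factor (a ≫ y)
    obtain ⟨m', rfl⟩ : ∃ m' : A ⧸ I →+* D, m'.comp (Ideal.Quotient.mk I) = m :=
      ⟨Ideal.Quotient.lift I m fun r hr => by
        rw [← Ideal.mem_bot, ← hk, ← hm, ← Ideal.map_map]
        exact Ideal.mem_map_of_mem m hr, Ideal.Quotient.lift_comp_mk _ _ _⟩
    have hm' : m'.comp g₀ = k := by rw [← hm]; rfl
    let w' := pullback.lift (f := sA) (g := Spec.map (CommRingCat.ofHom (F.ρ i))) (Spec.map (CommRingCat.ofHom m'))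
      (Spec.map (CommRingCat.ofHom gD)) (by rw [← specMap_comp, ← specMap_comp, hm', hgD])
    obtain ⟨v', hv'⟩ := Spec.map_surjective (w' ≫ (Pb i).isoSpec.hom)
    have hvl : v'.hom.comp (l i).hom = m' := by
      refine congrArg CommRingCat.Hom.hom (Spec.map_injective ?_ :
        CommRingCat.ofHom (v'.hom.comp (l i).hom) = CommRingCat.ofHom m')
      rw [specMap_comp, CommRingCat.ofHom_hom, CommRingCat.ofHom_hom, hv', hl, Category.assoc,
        Iso.hom_inv_id_assoc]
      exact pullback.lift_fst _ _ _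
    have hvg : v'.hom.comp (g i).hom = gD := by
      refine congrArg CommRingCat.Hom.hom (Spec.map_injective ?_ :
        CommRingCat.ofHom (v'.hom.comp (g i).hom) = CommRingCat.ofHom gD)
      rw [specMap_comp, CommRingCat.ofHom_hom, CommRingCat.ofHom_hom, hv', hg, Category.assoc,
        Iso.hom_inv_id_assoc]
      exact pullback.lift_snd _ _ _
    subst hvg hvl
    have hv'k : v'.hom.comp ((l i).hom.comp g₀) = k := by rw [← RingHom.comp_assoc]; exact hm'
    have e1 := (hd i).map v'.hom k hv'k (hsq k hk)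
    have hdec' : a ≫ y = tst v'.hom hv'k ≫ tst (l i).hom rfl ≫ tst (g' := g₀) (Ideal.Quotient.mk I) rfl := by
      rw [hdec, tst_comp, tst_comp]; exact tst_congr rfl _ _
    have ha : tst v'.hom hv'k ≫ tst (l i).hom rfl ≫ x₀ = a := by
      rw [← Category.assoc (tst (l i).hom _), ← Category.assoc (tst v'.hom hv'k), ← hdec', Category.assoc, hyx,
        Category.comp_id]
    have hy : tst v'.hom hv'k ≫ d i = a ≫ y ≫ w := by
      rw [← hv i, ← hw, ← Category.assoc a, hdec']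
      simp only [Category.assoc]
    rw [ha, hy] at e1
    exact e1
  refine ⟨y ≫ w, fun D _ k hk a b => F.tst_hom_ext fun i D' _ gD lD hlD => ?_,
    fun D _ k hk a => F.tst_hom_ext fun i D' _ gD lD hlD => ?_⟩
  · let := hMg i
    have hk' : J₂.map (gD.comp (F.ρ i)) = ⊥ := by rw [← hlD, ← Ideal.map_map, hk, Ideal.map_bot]
    rw [← Category.assoc (tst lD hlD), MonObj.comp_mul, MonObj.comp_mul, ← Category.assoc (tst lD hlD) a,
      ← Category.assoc (tst lD hlD) b]
    exact (key i D' _ hk' gD rfl _).unique ((key i D' _ hk' gD rfl _).mul hmod (key i D' _ hk' gD rfl _))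
  · let := hMg i
    have hk1 : J₁.map (gD.comp (F.ρ i)) = ⊥ := by rw [← hlD, ← Ideal.map_map, hk, Ideal.map_bot]
    have hk' : J₂.map (gD.comp (F.ρ i)) = ⊥ := eq_bot_iff.mpr ((Ideal.map_mono h21).trans hk1.le)
    rw [← Category.assoc (tst lD hlD), ← Category.assoc (tst lD hlD) a f]
    exact (key i D' _ hk' gD rfl _).unique (IntAt.of_map_eq_bot hmod hk1 _ gD rfl _ _)

/-- homomorphisms from groups of multiplicative type to smooth groups lift along nilpotent ideals -/
theorem exists_hom_lift_smooth_loc (hG : Smooth G.hom) (hH : IsDiagLoc H) (J : Ideal R₀) (hJ : IsNilpotent J)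
    (φ₀ : Tst (Ideal.Quotient.mk J) ⊗ H ⟶ G)
    (hmul : ∀ (X : Over (Spec (CommRingCat.of R₀))) (p : X ⟶ Tst (Ideal.Quotient.mk J)) (a b : X ⟶ H),
      lift p (a * b) ≫ φ₀ = (lift p a ≫ φ₀) * (lift p b ≫ φ₀)) :
    ∃ f : H ⟶ G, IsMonHom f ∧ ∀ (X : Over (Spec (CommRingCat.of R₀))) (p : X ⟶ Tst (Ideal.Quotient.mk J))
      (a : X ⟶ H), a ≫ f = lift p a ≫ φ₀ := by
  have : IsAffineHom H.hom := isAffineHom_of_diagLoc hH
  have : IsAffine H.left := isAffine_of_isAffineHom H.hom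
  obtain ⟨A, _, α, x, y, hyx, hxy⟩ := exists_affine_coord (X := H)
  let I := J.map α
  let q : R₀ ⧸ J →+* A ⧸ I := Ideal.quotientMap I α Ideal.le_comap_map
  obtain ⟨w, hw⟩ := exists_lift_tst hG α I (hJ.map (Ideal.mapHom α))
    (lift (tst q (g' := (Ideal.Quotient.mk I).comp α) (RingHom.ext fun r => rfl))
      (tst (Ideal.Quotient.mk I) rfl ≫ x) ≫ φ₀)
  have h0 : ∀ (D : Type u) [CommRing D] (k : R₀ →+* D) (p : Tst k ⟶ Tst (Ideal.Quotient.mk J)) (a : Tst k ⟶ H),
      a ≫ y ≫ w = lift p a ≫ φ₀ := by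
    intro D _ k p a
    obtain ⟨m, hm, hdec⟩ := exists_tst_factor (a ≫ y)
    obtain ⟨m', rfl⟩ : ∃ m' : A ⧸ I →+* D, m'.comp (Ideal.Quotient.mk I) = m :=
      ⟨Ideal.Quotient.lift I m fun r hr => by
        rw [← Ideal.mem_bot, ← map_eq_bot_of_hom p, ← hm, ← Ideal.map_map]
        exact Ideal.mem_map_of_mem m hr, Ideal.Quotient.lift_comp_mk _ _ _⟩
    rw [← Category.assoc, hdec,
      ← tst_comp (Ideal.Quotient.mk I) m' rfl (show m'.comp ((Ideal.Quotient.mk I).comp α) = k by rw [← hm]; rfl),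
      Category.assoc, hw, ← Category.assoc, comp_lift]
    congr 2
    · exact tst_quot_unique _ _
    · rw [← Category.assoc, tst_comp, ← hdec, Category.assoc, hyx, Category.comp_id]
  suffices key : ∀ n : ℕ, ∃ f : H ⟶ G, MulMod f (J ^ (n + 1)) ∧ ∀ (D : Type u) [CommRing D] (k : R₀ →+* D)
      (p : Tst k ⟶ Tst (Ideal.Quotient.mk J)) (a : Tst k ⟶ H), a ≫ f = lift p a ≫ φ₀ by
    obtain ⟨n, hn⟩ := hJ
    obtain ⟨f, hmf, hf⟩ := key n
    have hn' : J ^ (n + 1) = ⊥ := by rw [pow_succ, hn, zero_mul]; rfl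
    refine ⟨f, isMonHom_of_mul _ fun {X} a b => ?_, fun X p a => ?_⟩
    · have : IsAffineHom (pullback.fst H.hom H.hom) := inferInstance
      have : IsAffine (H ⊗ H).left := isAffine_of_isAffineHom (pullback.fst H.hom H.hom)
      obtain ⟨B, _, β, x₂, y₂, hyx₂, -⟩ := exists_affine_coord (X := H ⊗ H)
      have hu : (fst H H * snd H H) ≫ f = (fst H H ≫ f) * (snd H H ≫ f) := by
        have h1 := hmf B β (by rw [hn', Ideal.map_bot]) (x₂ ≫ fst H H) (x₂ ≫ snd H H)
        have h2 := congrArg (y₂ ≫ ·) h1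
        simpa only [← Category.assoc, MonObj.comp_mul, hyx₂, Category.id_comp] using h2
      have := congrArg (lift a b ≫ ·) hu
      simpa only [← Category.assoc, MonObj.comp_mul, lift_fst, lift_snd] using this
    · have : IsAffineHom (pullback.fst (Tst (Ideal.Quotient.mk J)).hom H.hom) :=
        MorphismProperty.pullback_fst _ _ (inferInstanceAs (IsAffineHom H.hom))
      have : IsAffine (Tst (Ideal.Quotient.mk J)).left := isAffine_Spec _
      have : IsAffine (Tst (Ideal.Quotient.mk J) ⊗ H).left :=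
        isAffine_of_isAffineHom (pullback.fst (Tst (Ideal.Quotient.mk J)).hom H.hom)
      obtain ⟨B, _, β, x₂, y₂, hyx₂, -⟩ := exists_affine_coord (X := Tst (Ideal.Quotient.mk J) ⊗ H)
      have hu : snd (Tst (Ideal.Quotient.mk J)) H ≫ f = φ₀ := by
        have h1 := hf B β (x₂ ≫ fst _ _) (x₂ ≫ snd _ _)
        rw [← comp_lift, lift_fst_snd, Category.comp_id] at h1
        have h2 := congrArg (y₂ ≫ ·) h1
        simpa only [← Category.assoc, hyx₂, Category.id_comp] using h2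
      rw [← hu, ← Category.assoc, lift_snd]
  intro n
  induction n with
  | zero =>
    refine ⟨y ≫ w, fun D _ k hk a b => ?_, h0⟩
    let p : Tst k ⟶ Tst (Ideal.Quotient.mk J) := tst (Ideal.Quotient.lift J k fun r hr => by
      rw [← Ideal.mem_bot, ← hk, zero_add, pow_one]; exact Ideal.mem_map_of_mem k hr)
      (Ideal.Quotient.lift_comp_mk _ _ _)
    rw [h0 D k p, h0 D k p, h0 D k p, hmul _ p]
  | succ n ih =>
    obtain ⟨f, hmf, hf⟩ := ih
    obtain ⟨f', hmf', hf'⟩ := exists_mulMod_step_loc hG hH f (J ^ (n + 1)) (J ^ (n + 1 + 1))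
      (by rw [← pow_mul]; exact Ideal.pow_le_pow_right (by omega)) (Ideal.pow_le_pow_right (by omega))
      (hJ.pow_succ _) hmf
    refine ⟨f', hmf', fun D _ k p a => ?_⟩
    rw [hf' D k (eq_bot_iff.mpr ((Ideal.map_mono (Ideal.pow_le_self (by omega))).trans (map_eq_bot_of_hom p).le)) a,
      hf D k p a]

end Groth.Agent.H21Diag
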