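import Groth.Agent.H21Diag.WeilLocus
import Groth.Agent.H21Diag.MonoClosed
import Groth.Agent.H12AlgSp.LocPCancel
import Groth.Agent.S4599
import Groth.Agent.S5273
import Groth.Agent.S5294
import Groth.Agent.S5297

/-!
Transporters of homomorphisms and subgroups of multiplicative type: closed subschemes, smooth over the base.
-/

open CategoryTheory MonoidalCategory CartesianMonoidalCategory MonObj GrpObj AlgebraicGeometry
open CategoryTheory.Limits

universe u

namespace Groth.Agent.H21Diag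

variable {S : Scheme.{u}}

/-- the locus of the points over which a family of points of `Y` lands in a closed subscheme -/
theorem exists_preimage_weil {H T Y : Over S} [GrpObj H] (hH : IsDiagLoc H) (ψ : H ⊗ T ⟶ Y) {K : Scheme.{u}}
    (κ₀ : K ⟶ Y.left) [IsClosedImmersion κ₀] [LocallyOfFinitePresentation κ₀] :
    ∃ (Z : Over S) (j : Z ⟶ T), IsClosedImmersion j.left ∧ LocallyOfFinitePresentation j.left ∧
      ∀ (X : Over S) (g : X ⟶ T), (∃ z : X ⟶ Z, z ≫ j = g) ↔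
        ∀ (X' : Over S) (x : X' ⟶ X) (h : X' ⟶ H), ∃ k, k ≫ κ₀ = (lift h (x ≫ g) ≫ ψ).left := by
  obtain ⟨Z, j, hj, hjf, hiff⟩ := exists_weil_locus (Red.bc T.hom H) (pullback.fst ψ.left κ₀)
    (isDiagLoc_bc hH T.hom)
  refine ⟨Over.mk (j ≫ T.hom), Over.homMk j, hj, hjf, fun X g => ?_⟩
  have key : (∃ z : X.left ⟶ Z, z ≫ j = g.left) ↔ ∃ z : X ⟶ Over.mk (j ≫ T.hom), z ≫ Over.homMk j = g :=
    ⟨fun ⟨z, hz⟩ => ⟨Over.homMk z (by change z ≫ j ≫ T.hom = X.hom; rw [← Category.assoc, hz]; exact Over.w g),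
      Over.OverMorphism.ext hz⟩, fun ⟨z, hz⟩ => ⟨z.left, congrArg (fun m => m.left) hz⟩⟩
  rw [← key, hiff]
  constructor
  · intro h X' x y
    let a : X'.left ⟶ (Red.bc T.hom H).left := (lift y (x ≫ g)).left
    obtain ⟨k, hk⟩ := h X'.left x.left a (congrArg (fun m => m.left) (lift_snd y (x ≫ g)))
    refine ⟨k ≫ pullback.snd _ _, ?_⟩
    rw [Category.assoc, ← pullback.condition, ← Category.assoc, hk]
    rfl
  · intro h Y₀ p a ha
    let X' : Over S := Over.mk (p ≫ X.hom)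
    let x : X' ⟶ X := Over.homMk p rfl
    let a' : X' ⟶ H ⊗ T := Over.homMk a (by
      change a ≫ pullback.fst H.hom T.hom ≫ H.hom = p ≫ X.hom
      rw [pullback.condition, ← Category.assoc, ← Over.w g]
      exact (congrArg (· ≫ T.hom) ha).trans (Category.assoc _ _ _))
    obtain ⟨k, hk⟩ := h X' x (a' ≫ fst H T)
    have e : lift (a' ≫ fst H T) (x ≫ g) = a' := by
      rw [show x ≫ g = a' ≫ snd H T from Over.OverMorphism.ext ha.symm, ← comp_lift, lift_fst_snd, Category.comp_id]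
    rw [e] at hk
    exact ⟨pullback.lift a k hk.symm, pullback.lift_fst _ _ _⟩

/-- equalizer version -/
theorem exists_equalizer_weil {H T Y : Over S} [GrpObj H] (hH : IsDiagLoc H) [IsSeparated Y.hom]
    [LocallyOfFiniteType Y.hom] (φ ψ : H ⊗ T ⟶ Y) :
    ∃ (Z : Over S) (j : Z ⟶ T), IsClosedImmersion j.left ∧ LocallyOfFinitePresentation j.left ∧
      ∀ (X : Over S) (g : X ⟶ T), (∃ z : X ⟶ Z, z ≫ j = g) ↔
        ∀ (X' : Over S) (x : X' ⟶ X) (h : X' ⟶ H), lift h (x ≫ g) ≫ φ = lift h (x ≫ g) ≫ ψ := by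
  have := Groth.Agent.S4599.result Y.hom
  obtain ⟨Z, j, hj, hjf, hiff⟩ := exists_preimage_weil hH (lift φ ψ) (pullback.diagonal Y.hom)
  refine ⟨Z, j, hj, hjf, fun X g => (hiff X g).trans ⟨fun h X' x y => ?_, fun h X' x y => ?_⟩⟩
  · obtain ⟨k, hk⟩ := h X' x y
    let q := lift y (x ≫ g)
    have h1 : (q ≫ lift φ ψ).left ≫ pullback.fst Y.hom Y.hom = (q ≫ φ).left := by
      have := congrArg (fun m => m.left) (Category.assoc q (lift φ ψ) (fst Y Y))
      rw [lift_fst] at this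
      exact this
    have h2 : (q ≫ lift φ ψ).left ≫ pullback.snd Y.hom Y.hom = (q ≫ ψ).left := by
      have := congrArg (fun m => m.left) (Category.assoc q (lift φ ψ) (snd Y Y))
      rw [lift_snd] at this
      exact this
    rw [← hk, Category.assoc, pullback.diagonal_fst, Category.comp_id] at h1
    rw [← hk, Category.assoc, pullback.diagonal_snd, Category.comp_id] at h2
    exact Over.OverMorphism.ext (h1.symm.trans h2)
  · let q := lift y (x ≫ g)
    refine ⟨(q ≫ φ).left, ?_⟩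
    have h1 : q ≫ lift φ ψ = (q ≫ φ) ≫ lift (𝟙 Y) (𝟙 Y) := by
      rw [comp_lift, comp_lift, Category.comp_id]
      exact congrArg (lift (q ≫ φ)) (h X' x y).symm
    rw [h1, Over.comp_left]
    congr 1

/-- a closed subscheme of a smooth scheme is smooth if it is finitely presented and points lift -/
theorem smooth_of_lifting {Z T : Over S} (j : Z ⟶ T) [LocallyOfFinitePresentation j.left] [Mono j.left]
    (hT : Smooth T.hom)
    (h : ∀ (A : Type u) [CommRing A] (I : Ideal A), I ^ 2 = ⊥ → ∀ (b : Spec (CommRingCat.of A) ⟶ S)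
      (g₀ : Over.mk (Spec.map (CommRingCat.ofHom (Ideal.Quotient.mk I)) ≫ b) ⟶ T), (∃ z, z ≫ j = g₀) →
      ∃ g : Over.mk b ⟶ T, (∃ z, z ≫ j = g) ∧
        Spec.map (CommRingCat.ofHom (Ideal.Quotient.mk I)) ≫ g.left = g₀.left) : Smooth Z.hom := by
  rw [Groth.Agent.S1488.result]
  have := ((Groth.Agent.S1488.result T.hom).mp hT).1
  refine ⟨by rw [← Over.w j]; infer_instance, fun A _ I hI a b hab => ?_⟩
  let g₀ : Over.mk (Spec.map (CommRingCat.ofHom (Ideal.Quotient.mk I)) ≫ b) ⟶ T :=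
    Over.homMk (a ≫ j.left) (by rw [Category.assoc, Over.w j]; exact hab.symm)
  obtain ⟨g, ⟨z, hz⟩, hg⟩ := h A I hI b g₀ ⟨Over.homMk a hab.symm, Over.OverMorphism.ext rfl⟩
  refine ⟨z.left, ?_, Over.w z⟩
  rw [← cancel_mono j.left, Category.assoc]
  exact (congrArg (fun m => _ ≫ m.left) hz).trans hg

/-- a subgroup from a stable monomorphism -/
theorem exists_grpObj_of_mono {Z G : Over S} [GrpObj G] (j : Z ⟶ G) [Mono j]
    (h1 : ∃ e, e ≫ j = (1 : 𝟙_ (Over S) ⟶ G))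
    (hmul : ∀ (X : Over S) (a b : X ⟶ Z), ∃ c, c ≫ j = (a ≫ j) * (b ≫ j))
    (hinv : ∀ (X : Over S) (a : X ⟶ Z), ∃ c, c ≫ j = (a ≫ j)⁻¹) :
    ∃ _ : GrpObj Z, IsMonHom j := by
  obtain ⟨e, he⟩ := h1
  obtain ⟨μ₀, hμ⟩ := hmul (Z ⊗ Z) (fst _ _) (snd _ _)
  obtain ⟨ι₁, hι⟩ := hinv Z (𝟙 Z)
  have hμ' : ∀ {X : Over S} (a b : X ⟶ Z), (lift a b ≫ μ₀) ≫ j = (a ≫ j) * (b ≫ j) := fun a b => by
    rw [Category.assoc, hμ, MonObj.comp_mul, ← Category.assoc, ← Category.assoc, lift_fst, lift_snd]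
  have he' : ∀ X : Over S, (toUnit X ≫ e) ≫ j = 1 := fun X => by rw [Category.assoc, he, MonObj.comp_one]
  have hι' : ∀ {X : Over S} (a : X ⟶ Z), (a ≫ ι₁) ≫ j = (a ≫ j)⁻¹ := fun a => by
    rw [Category.assoc, hι, GrpObj.comp_inv, Category.id_comp]
  let m : MonObj Z :=
    { one := e
      mul := μ₀
      one_mul := by
        rw [← cancel_mono j]
        have : e ▷ Z = lift (toUnit _ ≫ e) (snd (𝟙_ _) Z) := by
          refine hom_ext _ _ ?_ ?_
          · rw [lift_fst, whiskerRight_fst, toUnit_unique (fst (𝟙_ _) Z) (toUnit _)]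
          · rw [lift_snd, whiskerRight_snd]
        rw [this, hμ', he', _root_.one_mul, leftUnitor_hom]
      mul_one := by
        rw [← cancel_mono j]
        have : Z ◁ e = lift (fst Z (𝟙_ _)) (toUnit _ ≫ e) := by
          refine hom_ext _ _ ?_ ?_
          · rw [lift_fst, whiskerLeft_fst]
          · rw [lift_snd, whiskerLeft_snd, toUnit_unique (snd Z (𝟙_ _)) (toUnit _)]
        rw [this, hμ', he', _root_.mul_one, rightUnitor_hom]
      mul_assoc := by
        rw [← cancel_mono j]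
        have e1 : μ₀ ▷ Z = lift (fst (Z ⊗ Z) Z ≫ μ₀) (snd _ _) := by
          refine hom_ext _ _ ?_ ?_
          · rw [lift_fst, whiskerRight_fst]
          · rw [lift_snd, whiskerRight_snd]
        have e2 : (α_ Z Z Z).hom ≫ Z ◁ μ₀ =
            lift (fst (Z ⊗ Z) Z ≫ fst _ _) (lift (fst (Z ⊗ Z) Z ≫ snd _ _) (snd _ _) ≫ μ₀) := by
          refine hom_ext _ _ ?_ ?_
          · rw [lift_fst, Category.assoc, whiskerLeft_fst, associator_hom_fst]
          · rw [lift_snd, Category.assoc, whiskerLeft_snd, ← Category.assoc]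
            congr 1
            refine hom_ext _ _ ?_ ?_
            · rw [lift_fst, Category.assoc, associator_hom_snd_fst]
            · rw [lift_snd, Category.assoc, associator_hom_snd_snd]
        rw [e1, hμ', ← Category.assoc (α_ Z Z Z).hom, e2, hμ', hμ', Category.assoc (fst (Z ⊗ Z) Z) μ₀, hμ,
          MonObj.comp_mul, _root_.mul_assoc]
        simp only [Category.assoc] }
  refine ⟨{ m with
    inv := ι₁
    left_inv := by
      rw [← cancel_mono j]
      change (lift ι₁ (𝟙 Z) ≫ μ₀) ≫ j = (toUnit Z ≫ e) ≫ j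
      rw [hμ', he', hι, Category.id_comp, inv_mul_cancel]
    right_inv := by
      rw [← cancel_mono j]
      change (lift (𝟙 Z) ι₁ ≫ μ₀) ≫ j = (toUnit Z ≫ e) ≫ j
      rw [hμ', he', hι, Category.id_comp, mul_inv_cancel] }, ?_⟩
  refine ⟨?_, ?_⟩
  · change e ≫ j = η[G]
    rw [he, Hom.one_def, toUnit_unit, Category.id_comp]
  · change μ₀ ≫ j = (j ⊗ₘ j) ≫ μ[G]
    rw [hμ, MonObj.mul_eq_mul, MonObj.comp_mul, tensorHom_fst, tensorHom_snd]

/-- the transporter condition for homomorphisms -/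
def TransHom {H G : Over S} [GrpObj G] (u₁ u₂ : H ⟶ G) {X : Over S} (g : X ⟶ G) : Prop :=
  ∀ (X' : Over S) (x : X' ⟶ X) (h : X' ⟶ H), (x ≫ g) * (h ≫ u₁) * (x ≫ g)⁻¹ = h ≫ u₂

theorem exists_transHom {H G : Over S} [GrpObj H] [GrpObj G] (hH : IsDiagLoc H) [IsSeparated G.hom]
    [LocallyOfFiniteType G.hom] (u₁ u₂ : H ⟶ G) :
    ∃ (Z : Over S) (j : Z ⟶ G), IsClosedImmersion j.left ∧ LocallyOfFinitePresentation j.left ∧
      ∀ (X : Over S) (g : X ⟶ G), (∃ z : X ⟶ Z, z ≫ j = g) ↔ TransHom u₁ u₂ g := by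
  obtain ⟨Z, j, hj, hjf, hiff⟩ := exists_equalizer_weil (T := G) hH
    (snd H G * (fst H G ≫ u₁) * (snd H G)⁻¹) (fst H G ≫ u₂)
  refine ⟨Z, j, hj, hjf, fun X g => (hiff X g).trans (forall_congr' fun X' => forall_congr' fun x =>
    forall_congr' fun h => ?_)⟩
  simp only [MonObj.comp_mul, GrpObj.comp_inv, ← Category.assoc, lift_fst, lift_snd]

section lifting

variable {A : Type u} [CommRing A] (b : Spec (CommRingCat.of A) ⟶ S)

theorem bcHom_conj {G : Over S} [GrpObj G] {X' : Over (Spec (CommRingCat.of A))}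
    {T : Over (Spec (CommRingCat.of A))} (g : T ⟶ Red.bc b G) (x : X' ⟶ T) (h : X' ⟶ Red.bc b G) :
    bcHom b G X' ((x ≫ g) * h * (x ≫ g)⁻¹) =
      ((Over.map b).map x ≫ bcHom b G T g) * bcHom b G X' h * ((Over.map b).map x ≫ bcHom b G T g)⁻¹ := by
  rw [map_mul, map_mul, map_inv, bcHom_precomp]

/-- an object over `S` with a map to `Spec A`, seen over `Spec A` -/
theorem exists_over_lift {X : Over S} (x : X ⟶ Over.mk b) :
    ∃ (X' : Over (Spec (CommRingCat.of A))) (e : X ⟶ (Over.map b).obj X') (e' : (Over.map b).obj X' ⟶ X),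
      e ≫ e' = 𝟙 X ∧ e ≫ (Over.map b).map (toUnit X') = x ≫ Over.homMk (𝟙 _) (by simp) := by
  refine ⟨Over.mk x.left, Over.homMk (𝟙 _) ((Category.id_comp _).trans (Over.w x)),
    Over.homMk (𝟙 _) ((Category.id_comp _).trans (Over.w x).symm), Over.OverMorphism.ext (Category.id_comp _),
    Over.OverMorphism.ext ?_⟩
  change 𝟙 _ ≫ x.left = x.left ≫ 𝟙 _
  rw [Category.id_comp, Category.comp_id]

/-- base change data of a point modulo an ideal -/
theorem exists_bc_point {G : Over S} [GrpObj G] (I : Ideal A)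
    (g₀ : Over.mk (Spec.map (CommRingCat.ofHom (Ideal.Quotient.mk I)) ≫ b) ⟶ G) :
    ∃ (g₀' : Tst (Ideal.Quotient.mk I) ⟶ Red.bc b G)
      (e : (Over.map b).obj (Tst (Ideal.Quotient.mk I)) ⟶
        Over.mk (Spec.map (CommRingCat.ofHom (Ideal.Quotient.mk I)) ≫ b)),
      bcHom b G _ g₀' = e ≫ g₀ ∧ e.left = 𝟙 _ :=
  ⟨bcEquiv b G _ (Over.homMk (𝟙 _) (Category.id_comp _) ≫ g₀), Over.homMk (𝟙 _) (Category.id_comp _),
    Equiv.symm_apply_apply _ _, rfl⟩

/-- a section of a base change as a point -/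
noncomputable def bcSection {G : Over S} [GrpObj G] (g : 𝟙_ (Over (Spec (CommRingCat.of A))) ⟶ Red.bc b G) :
    Over.mk b ⟶ G :=
  (Over.homMk (𝟙 _) (by simp) : Over.mk b ⟶ (Over.map b).obj (𝟙_ (Over (Spec (CommRingCat.of A))))) ≫
    bcHom b G _ g

theorem bcSection_left {G : Over S} [GrpObj G] {I : Ideal A} {g : 𝟙_ (Over (Spec (CommRingCat.of A))) ⟶ Red.bc b G}
    {g₀ : Over.mk (Spec.map (CommRingCat.ofHom (Ideal.Quotient.mk I)) ≫ b) ⟶ G}
    {g₀' : Tst (Ideal.Quotient.mk I) ⟶ Red.bc b G}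
    {e : (Over.map b).obj (Tst (Ideal.Quotient.mk I)) ⟶
      Over.mk (Spec.map (CommRingCat.ofHom (Ideal.Quotient.mk I)) ≫ b)}
    (h : toUnit (Tst (Ideal.Quotient.mk I)) ≫ g = g₀') (hb : bcHom b G _ g₀' = e ≫ g₀) (he : e.left = 𝟙 _) :
    Spec.map (CommRingCat.ofHom (Ideal.Quotient.mk I)) ≫ (bcSection b g).left = g₀.left := by
  subst h
  rw [bcHom_precomp] at hb
  have h1 := congrArg (fun m => m.left) hb
  rw [Over.comp_left, Over.comp_left, he, Category.id_comp] at h1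
  rw [← h1]
  change _ ≫ 𝟙 _ ≫ _ = _
  rw [Category.id_comp]
  rfl

theorem isMonHom_pullback {G H : Over S} [GrpObj G] [GrpObj H] (u : H ⟶ G) [IsMonHom u] :
    IsMonHom ((Over.pullback b).map u : Red.bc b H ⟶ Red.bc b G) :=
  isMonHom_of_mul _ fun x y => MonObj.mul_comp _ _ _

theorem exists_lift_transHom {H G : Over S} [GrpObj H] [GrpObj G] (hH : IsDiagLoc H) (hG : Smooth G.hom)
    (u₁ u₂ : H ⟶ G) [IsMonHom u₁] [IsMonHom u₂] (I : Ideal A) (hI : I ^ 2 = ⊥)
    (g₀ : Over.mk (Spec.map (CommRingCat.ofHom (Ideal.Quotient.mk I)) ≫ b) ⟶ G) (h₀ : TransHom u₁ u₂ g₀) :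
    ∃ g : Over.mk b ⟶ G, TransHom u₁ u₂ g ∧ Spec.map (CommRingCat.ofHom (Ideal.Quotient.mk I)) ≫ g.left = g₀.left := by
  obtain ⟨g₀', e, hb, he⟩ := exists_bc_point b I g₀
  have := isMonHom_pullback b u₁
  have := isMonHom_pullback b u₂
  have hsm : Smooth (Red.bc b G).hom := by change Smooth (pullback.snd G.hom b); infer_instance
  obtain ⟨g, hg0, hg⟩ := Groth.Agent.S5273.result I ⟨2, hI⟩ (Red.bc b H) (Red.bc b G) (isDiagLoc_bc hH b) hsm
    ((Over.pullback b).map u₁) ((Over.pullback b).map u₂) g₀' fun X p h => by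
      refine (bcEquiv b G X).symm.injective ?_
      change bcHom b G X _ = bcHom b G X _
      rw [bcHom_conj, bcHom_comp, bcHom_comp, hb, ← Category.assoc]
      exact (h₀ _ ((Over.map b).map p ≫ e) (bcHom b H X h)).symm
  refine ⟨bcSection b g, fun X x h => ?_, bcSection_left b hg0 hb he⟩
  obtain ⟨X', e₁, e₂, he₁₂, hx⟩ := exists_over_lift b x
  have h1 := congrArg (fun m => e₁ ≫ bcHom b G X' m) (hg X' (bcEquiv b H X' (e₂ ≫ h)))
  simp only [bcHom_conj, MonObj.comp_mul, GrpObj.comp_inv, bcHom_comp] at h1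
  rw [show bcHom b H X' (bcEquiv b H X' (e₂ ≫ h)) = e₂ ≫ h from Equiv.symm_apply_apply _ _] at h1
  simp only [← Category.assoc, hx, he₁₂, Category.id_comp] at h1
  simp only [bcSection, ← Category.assoc]
  exact h1.symm

end lifting

/-- transporters of homomorphisms of multiplicative type groups into smooth affine groups are smooth -/
theorem exists_smooth_transHom {H G : Over S} [GrpObj H] [GrpObj G] (hH : IsDiagLoc H) (hG : Smooth G.hom)
    [IsSeparated G.hom] (u₁ u₂ : H ⟶ G) [IsMonHom u₁] [IsMonHom u₂] :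
    ∃ (Z : Over S) (j : Z ⟶ G), IsClosedImmersion j.left ∧ Smooth Z.hom ∧
      ∀ (X : Over S) (g : X ⟶ G), (∃ z : X ⟶ Z, z ≫ j = g) ↔ TransHom u₁ u₂ g := by
  have := ((Groth.Agent.S1488.result G.hom).mp hG).1
  obtain ⟨Z, j, hj, hjf, hiff⟩ := exists_transHom hH u₁ u₂
  refine ⟨Z, j, hj, smooth_of_lifting j hG fun A _ I hI b g₀ hg₀ => ?_, hiff⟩
  obtain ⟨g, hg, hgl⟩ := exists_lift_transHom b hH hG u₁ u₂ I hI g₀ ((hiff _ g₀).mp hg₀)
  exact ⟨g, (hiff _ g).mpr hg, hgl⟩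

end Groth.Agent.H21Diag
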