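import Groth.Agent.H21Diag.SplitSubtori
import Groth.Agent.H21Diag.Transporter

/-!
Subgroups over the pieces of a coproduct of schemes glue.
-/

set_option autoImplicit false
set_option linter.style.haveILetI false
set_option linter.unusedSectionVars false
set_option backward.isDefEq.respectTransparency false
set_option synthInstance.maxHeartbeats 400000
set_option maxHeartbeats 1000000

universe u

open CategoryTheory CategoryTheory.Limits MonoidalCategory CartesianMonoidalCategory MonObj AlgebraicGeometry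

noncomputable section

namespace Groth.Agent.H21Diag

variable {I : Type u} {U : I → Scheme.{u}}

theorem exists_sigma_sub (G : Over (∐ U)) [GrpObj G] (T : ∀ i, Over (U i)) [∀ i, GrpObj (T i)]
    (j : ∀ i, T i ⟶ Red.bc (Sigma.ι U i) G) [∀ i, IsMonHom (j i)] [∀ i, Mono (j i)] :
    ∃ (X : Over (∐ U)) (_ : GrpObj X) (x : X ⟶ G), IsMonHom x ∧ Mono x ∧
      ∀ i, ∃ φ : T i ≅ Red.bc (Sigma.ι U i) X, IsMonHom φ.hom ∧
        φ.hom ≫ (Over.pullback (Sigma.ι U i)).map x = j i := by
  let Tl : I → Scheme.{u} := fun i => (T i).left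
  let p : ∀ i, Tl i ⟶ U i := fun i => (T i).hom
  let X : Over (∐ U) := Over.mk (Limits.Sigma.map p)
  let a : ∀ i, (Over.map (Sigma.ι U i)).obj (T i) ⟶ G := fun i => (bcEquiv (Sigma.ι U i) G (T i)).symm (j i)
  let x : X ⟶ G := Over.homMk (Sigma.desc fun i => (a i).left) (by
    refine Sigma.hom_ext _ _ fun i => ?_
    rw [Sigma.ι_desc_assoc, Over.w (a i)]
    exact (Limits.Sigma.ι_map p i).symm)
  have hsq : ∀ i, IsPullback (Sigma.ι Tl i) (p i) X.hom (Sigma.ι U i) := fun i => by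
    refine (IsOpenImmersion.isPullback _ _ _ _ (Limits.Sigma.ι_map p i) ?_).flip
    apply le_antisymm
    · rintro z ⟨w, hzw⟩
      obtain ⟨l, w', rfl⟩ := (sigmaOpenCover Tl).exists_eq z
      rw [show (sigmaOpenCover Tl).f l = Sigma.ι Tl l from rfl, ← Scheme.Hom.comp_apply,
        Limits.Sigma.ι_map, Scheme.Hom.comp_apply] at hzw
      obtain ⟨rfl⟩ := (sigmaι_eq_iff U i l w (p l w')).mp hzw
      exact ⟨w', rfl⟩
    · rintro _ ⟨z, rfl⟩
      refine ⟨p i z, ?_⟩
      rw [← Scheme.Hom.comp_apply, ← Scheme.Hom.comp_apply, Limits.Sigma.ι_map]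
  let φ : ∀ i, T i ≅ Red.bc (Sigma.ι U i) X := fun i =>
    Over.isoMk (hsq i).isoPullback (hsq i).isoPullback_hom_snd
  have hφ : ∀ i, (φ i).hom ≫ (Over.pullback (Sigma.ι U i)).map x = j i := fun i => by
    apply (bcEquiv (Sigma.ι U i) G (T i)).symm.injective
    refine ((Over.mapPullbackAdj _).homEquiv_naturality_right_symm (φ i).hom x).trans
      (Over.OverMorphism.ext ?_)
    change ((bcEquiv (Sigma.ι U i) X (T i)).symm (φ i).hom).left ≫ x.left = (a i).left
    rw [← bcEquiv_left_fst (Sigma.ι U i) X (T i) ((bcEquiv (Sigma.ι U i) X (T i)).symm (φ i).hom),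
      Equiv.apply_symm_apply]
    change ((hsq i).isoPullback.hom ≫ pullback.fst _ _) ≫ x.left = _
    rw [(hsq i).isoPullback_hom_fst]
    exact Sigma.ι_desc _ _
  haveI hmono : ∀ i, Mono ((Over.pullback (Sigma.ι U i)).map x) := fun i => by
    rw [show (Over.pullback (Sigma.ι U i)).map x = (φ i).inv ≫ j i by rw [← hφ i, Iso.inv_hom_id_assoc]]
    infer_instance
  -- pieces of a test object
  let B : ∀ (A : Over (∐ U)) (i : I), Over (U i) := fun A i => Red.bc (Sigma.ι U i) A
  let c : ∀ (A : Over (∐ U)) (i : I), (Over.map (Sigma.ι U i)).obj (B A i) ⟶ A := fun A i =>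
    Over.homMk (pullback.fst A.hom (Sigma.ι U i)) pullback.condition
  let L : ∀ {A Y : Over (∐ U)} (i : I), (A ⟶ Y) → (B A i ⟶ Red.bc (Sigma.ι U i) Y) := fun {A Y} i g =>
    bcEquiv (Sigma.ι U i) Y (B A i) (c A i ≫ g)
  have hL : ∀ {A : Over (∐ U)} (i : I) (g : A ⟶ X), L i (g ≫ x) = L i g ≫ (Over.pullback (Sigma.ι U i)).map x :=
    fun {A} i g => by
      change bcEquiv (Sigma.ι U i) G (B A i) (c A i ≫ g ≫ x) = _
      rw [← Category.assoc]
      exact (Over.mapPullbackAdj _).homEquiv_naturality_right _ x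
  let 𝒰 : ∀ A : Over (∐ U), A.left.OpenCover := fun A => (sigmaOpenCover U).pullback₁ A.hom
  haveI : Mono x := ⟨fun {A} g g' h => by
    refine Over.OverMorphism.ext ((𝒰 A).hom_ext _ _ fun i => ?_)
    have h1 : L i g = L i g' := (cancel_mono ((Over.pullback (Sigma.ι U i)).map x)).mp (by rw [← hL, ← hL, h])
    exact congrArg (fun m => m.left) ((bcEquiv (Sigma.ι U i) X (B A i)).injective h1)⟩
  haveI : Mono x.left := (Over.forget _).map_mono x
  have hfac : ∀ {A : Over (∐ U)} (g : A ⟶ G), (∀ i, ∃ w, w ≫ (Over.pullback (Sigma.ι U i)).map x = L i g) →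
      ∃ w : A ⟶ X, w ≫ x = g := fun {A} g hg => by
    choose w hw using hg
    let w' : ∀ i, (Over.map (Sigma.ι U i)).obj (B A i) ⟶ X := fun i => (bcEquiv (Sigma.ι U i) X (B A i)).symm (w i)
    have hw' : ∀ i, w' i ≫ x = c A i ≫ g := fun i => by
      apply (bcEquiv (Sigma.ι U i) G (B A i)).injective
      refine ((Over.mapPullbackAdj _).homEquiv_naturality_right _ x).trans ?_
      exact (congrArg (· ≫ _) ((bcEquiv (Sigma.ι U i) X (B A i)).apply_symm_apply (w i))).trans (hw i)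
    have hw'' : ∀ i, (w' i).left ≫ x.left = (𝒰 A).f i ≫ g.left := fun i => congrArg (fun m => m.left) (hw' i)
    let v : A.left ⟶ X.left := (𝒰 A).glueMorphisms (fun i => (w' i).left) fun i k => (cancel_mono x.left).mp (by
      rw [Category.assoc, Category.assoc, hw'', hw'', ← Category.assoc, pullback.condition, Category.assoc])
    have hv : v ≫ x.left = g.left := (𝒰 A).hom_ext _ _ fun i => by
      rw [Scheme.Cover.ι_glueMorphisms_assoc, hw'']
    refine ⟨Over.homMk v ?_, Over.OverMorphism.ext hv⟩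
    rw [← Over.w x, ← Category.assoc, hv, Over.w g]
  have hcl : ∀ (A : Over (∐ U)) (i : I) (g : A ⟶ X), ∃ y : B A i ⟶ T i, y ≫ j i = L i (g ≫ x) := fun A i g =>
    ⟨L i g ≫ (φ i).inv, by rw [Category.assoc, ← hφ i, Iso.inv_hom_id_assoc, hL]⟩
  have hLmul : ∀ {A : Over (∐ U)} (i : I) (g g' : A ⟶ G), L i (g * g') = L i g * L i g' := fun {A} i g g' => by
    simp only [L, MonObj.comp_mul, bcEquiv_mul]
  have hLone : ∀ {A : Over (∐ U)} (i : I), L i (1 : A ⟶ G) = 1 := fun {A} i => by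
    simp only [L, MonObj.comp_one, bcEquiv_one]
  obtain ⟨gX, hx⟩ := exists_grpObj_of_mono x
    (hfac _ fun i => ⟨1 ≫ (φ i).hom, by rw [Category.assoc, hφ i, MonObj.one_comp, hLone]⟩)
    (fun A p q => hfac _ fun i => by
      obtain ⟨y, hy⟩ := hcl A i p
      obtain ⟨y', hy'⟩ := hcl A i q
      exact ⟨(y * y') ≫ (φ i).hom, by rw [Category.assoc, hφ i, MonObj.mul_comp, hy, hy', hLmul]⟩)
    (fun A p => hfac _ fun i => by
      obtain ⟨y, hy⟩ := hcl A i p
      refine ⟨y⁻¹ ≫ (φ i).hom, ?_⟩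
      rw [Category.assoc, hφ i, GrpObj.inv_comp, hy]
      refine inv_eq_of_mul_eq_one_right ?_
      rw [← hLmul, mul_inv_cancel, hLone])
  letI := gX
  haveI := hx
  refine ⟨X, gX, x, hx, inferInstance, fun i => ⟨φ i, ?_, hφ i⟩⟩
  haveI : IsMonHom ((Over.pullback (Sigma.ι U i)).map x : Red.bc (Sigma.ι U i) X ⟶ Red.bc (Sigma.ι U i) G) :=
    isMonHom_bcMap (Sigma.ι U i) x
  haveI : IsMonHom ((φ i).hom ≫ (Over.pullback (Sigma.ι U i)).map x) := (hφ i).symm ▸ inferInstance
  exact isMonHom_of_comp_mono (φ i).hom ((Over.pullback (Sigma.ι U i)).map x)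

end Groth.Agent.H21Diag
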