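import Groth.Agent.H21Diag.RedRank
import Groth.Agent.H21Diag.SigmaGrp
import Groth.Agent.H21Diag.MaxTorusBc
import Groth.Agent.H20Conj.Factor
import Groth.Agent.H20Conj.MaxConv
import Groth.Agent.H20Conj.Split

/-!
The reductive rank bounds every torus; maximal tori from maximal rank; local constancy of ranks of tori.
-/

set_option autoImplicit false
set_option linter.style.haveILetI false
set_option linter.unusedSectionVars false
set_option backward.isDefEq.respectTransparency false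
set_option synthInstance.maxHeartbeats 400000
set_option maxHeartbeats 1000000

universe u

open CategoryTheory CategoryTheory.Limits MonoidalCategory CartesianMonoidalCategory MonObj AlgebraicGeometry

noncomputable section

namespace Groth.Agent.H21Diag

theorem rank_unique {K : Type u} [Field K] {r r' : ℕ}
    (e : Grp.mk (Red.DS (Spec (CommRingCat.of K)) (Fin r → ℤ)) ≅ Grp.mk (Red.DS (Spec (CommRingCat.of K)) (Fin r' → ℤ))) :
    r = r' := by
  have h : (r : WithBot ℕ∞) = (r' : WithBot ℕ∞) :=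
    (dim_DS_field (K := K) r).symm.trans
      (((Scheme.homeoOfIso ((Over.forget _).mapIso ((Grp.forget _).mapIso e))).isHomeomorph.topologicalKrullDim_eq).trans
        (dim_DS_field r'))
  exact_mod_cast h

/-- a subtorus has rank at most that of a maximal torus -/
theorem rank_le_of_maxTorus {K : Type u} [Field K] [IsAlgClosed K] {G T : Over (Spec (CommRingCat.of K))} [GrpObj G]
    [GrpObj T] [Smooth G.hom] [IsAffineHom G.hom] {i : T ⟶ G} (hi : Red.IsMaximalTorus i) {r : ℕ}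
    (e : Grp.mk T ≅ Grp.mk (Red.DS (Spec (CommRingCat.of K)) (Fin r → ℤ))) {m : ℕ}
    (u : Red.DS (Spec (CommRingCat.of K)) (Fin m → ℤ) ⟶ G) [IsMonHom u] [Mono u] : m ≤ r := by
  haveI : IsAffine G.left := isAffine_of_isAffineHom G.hom
  obtain ⟨hi1, hi2, -, -⟩ := id hi
  haveI := hi1
  haveI := hi2
  obtain ⟨n, ec, co, hec, -, hprod, hcomm⟩ :=
    H20Conj.exists_cochars (Red.DS (Spec (CommRingCat.of K)) (Fin m → ℤ)) (H27Witt.isTorus_DS _ m)
  haveI := hec
  obtain ⟨g, hg⟩ := H20Conj.exists_conj_factor (H20Conj.isMaxTorus_of_isMaximalTorus hi) (fun k => ec k ≫ u)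
    fun a b s t => by
      show _ * _ = _ * _
      rw [← Category.assoc, ← Category.assoc, ← MonObj.mul_comp, ← MonObj.mul_comp, hcomm]
  choose d hd using hg
  let w : G ⟶ G := H20Mu.conj g⁻¹
  haveI : Mono w := by
    refine ⟨fun {X} a b hab => ?_⟩
    rw [H20Mu.comp_conj, H20Mu.comp_conj] at hab
    exact mul_left_cancel (mul_right_cancel hab)
  let v : Red.DS (Spec (CommRingCat.of K)) (Fin m → ℤ) ⟶ T := (List.ofFn fun k => co k ≫ d k).prod
  let ψ : (Red.DS (Spec (CommRingCat.of K)) (Fin m → ℤ) ⟶ Red.DS (Spec (CommRingCat.of K)) (Fin m → ℤ)) →*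
      (Red.DS (Spec (CommRingCat.of K)) (Fin m → ℤ) ⟶ G) :=
    { toFun := fun a => a ≫ u ≫ w, map_one' := MonObj.one_comp (u ≫ w), map_mul' := fun a b => MonObj.mul_comp a b (u ≫ w) }
  let χ : (Red.DS (Spec (CommRingCat.of K)) (Fin m → ℤ) ⟶ T) →*
      (Red.DS (Spec (CommRingCat.of K)) (Fin m → ℤ) ⟶ G) :=
    { toFun := fun a => a ≫ i, map_one' := MonObj.one_comp i, map_mul' := fun a b => MonObj.mul_comp a b i }
  have hv : v ≫ i = u ≫ w := by
    calc v ≫ i = χ (List.ofFn fun k => co k ≫ d k).prod := rfl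
      _ = (List.ofFn fun k => χ (co k ≫ d k)).prod := by rw [map_list_prod, List.map_ofFn]; rfl
      _ = (List.ofFn fun k => ψ (co k ≫ ec k)).prod := by
        congr 1
        refine List.ofFn_inj.mpr (funext fun k => ?_)
        change (co k ≫ d k) ≫ i = (co k ≫ ec k) ≫ u ≫ w
        rw [Category.assoc, hd, H20Conj.conjBy_eq]
        simp only [w, Category.assoc]
      _ = ψ (List.ofFn fun k => co k ≫ ec k).prod := by rw [map_list_prod, List.map_ofFn]; rfl
      _ = u ≫ w := by rw [hprod]; exact Category.id_comp (u ≫ w)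
  haveI : IsMonHom (v ≫ i) := hv ▸ inferInstance
  haveI : IsMonHom v := isMonHom_of_comp_mono v i
  haveI : Mono (v ≫ i) := hv ▸ inferInstance
  haveI : Mono v := mono_of_mono v i
  let s : ↥(Spec (CommRingCat.of K)) := (IsLocalRing.closedPoint K : PrimeSpectrum K)
  exact rank_le_of_mono (show s ∈ (⊤ : Scheme.Opens _) from trivial) (show s ∈ (⊤ : Scheme.Opens _) from trivial)
    ⟨bcDSIso _ _⟩ ⟨bcMapIso _ e ≪≫ bcDSIso _ _⟩ v

/-- a torus at any geometric point has rank at most the reductive rank -/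
theorem rank_le_of_hasRedRank {S : Scheme.{u}} {G : Over S} [GrpObj G] [Smooth G.hom] [IsAffineHom G.hom] {s : S}
    {r : WithBot ℕ∞} (h : SGA3x.HasRedRank G s r) {Ω : Type u} [Field Ω] [IsAlgClosed Ω]
    (z : Spec (CommRingCat.of Ω) ⟶ S) (hz : z.base (IsLocalRing.closedPoint Ω) = s) {m : ℕ}
    (u : Red.DS (Spec (CommRingCat.of Ω)) (Fin m → ℤ) ⟶ Red.bc z G) [IsMonHom u] [Mono u] :
    (m : WithBot ℕ∞) ≤ r := by
  obtain ⟨T, gT, i, hi, rfl⟩ := h
  letI := gT
  obtain ⟨r, ⟨e⟩⟩ := exists_DS_iso_algClosed T hi.2.2.1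
  have hd : topologicalKrullDim ↥T.left = (r : WithBot ℕ∞) :=
    (Scheme.homeoOfIso ((Over.forget _).mapIso ((Grp.forget _).mapIso e))).isHomeomorph.topologicalKrullDim_eq.trans
      (dim_DS_field r)
  rw [hd]
  obtain ⟨U, g, hg, hsr, v, hv, hv'⟩ := exists_etale_splitTorus z G m u
  haveI := hg
  haveI := hv
  haveI := hv'
  rw [hz] at hsr
  obtain ⟨w, rfl⟩ := hsr
  obtain ⟨z', hz'⟩ := exists_geomPt_lift g w
  haveI := (Over.mapPullbackAdj z').isRightAdjoint
  haveI : Mono ((Over.pullback z').map v) := inferInstance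
  haveI : IsMonHom ((Over.pullback z').map v) := isMonHom_map z' v
  let θ := H21Red0.bcTrans z' g (Red.geomPt (g.base w)) hz' G
  haveI : IsMonHom θ.hom := H21Red0.isMonHom_bcTrans z' g _ hz' G
  let ε := bcDSIso z' (Fin m → ℤ)
  haveI : IsMonHom ε.inv.hom.hom := ε.inv.hom.isMonHom_hom
  haveI : IsIso ε.inv.hom.hom := ((Grp.forget _).mapIso ε).isIso_inv
  haveI : IsAffineHom (Red.geomFibre (g.base w) G).hom :=
    MorphismProperty.pullback_snd (P := @IsAffineHom) _ _ inferInstance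
  haveI : Smooth (Red.geomFibre (g.base w) G).hom :=
    MorphismProperty.pullback_snd (P := @Smooth) _ _ inferInstance
  have := rank_le_of_maxTorus hi e (ε.inv.hom.hom ≫ (Over.pullback z').map v ≫ θ.hom)
  exact_mod_cast this

/-- a locally split torus of largest rank in every geometric fibre is a maximal torus -/
theorem isMaximalTorus_of_rank {S : Scheme.{u}} {T G : Over S} [GrpObj T] [GrpObj G] (i : T ⟶ G) [IsMonHom i] [Mono i]
    (h : ∀ s : S, ∃ U : S.Opens, s ∈ U ∧ ∃ r : ℕ, Red.IsSplitTorusWith (Fin r → ℤ) (Red.bc U.ι T) ∧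
      ∀ (m : ℕ) (u : Red.DS (Spec (CommRingCat.of (AlgebraicClosure (S.residueField s)))) (Fin m → ℤ) ⟶ Red.geomFibre s G)
        [IsMonHom u] [Mono u], m ≤ r) : Red.IsMaximalTorus i := by
  refine ⟨inferInstance, inferInstance, isTorus_of_lSplit fun s => ?_, fun s T' _ j _ _ f hT' hf => ?_⟩
  · obtain ⟨U, hs, r, hr, -⟩ := h s
    exact ⟨U, hs, r, hr⟩
  obtain ⟨U, hs, r, hr, hb⟩ := h s
  obtain ⟨e₀⟩ := split_geomFibre hs hr
  obtain ⟨r', ⟨e⟩⟩ := exists_DS_iso_algClosed T' hT'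
  haveI : IsMonHom e.inv.hom.hom := e.inv.hom.isMonHom_hom
  haveI : IsIso e.inv.hom.hom := ((Grp.forget _).mapIso e).isIso_inv
  have hr' : r' ≤ r := hb r' (e.inv.hom.hom ≫ j)
  haveI := (Over.mapPullbackAdj (Red.geomPt s)).isRightAdjoint
  haveI : Mono ((Over.pullback (Red.geomPt s)).map i) := inferInstance
  haveI : IsMonHom ((Over.pullback (Red.geomPt s)).map i) := isMonHom_map _ i
  haveI : IsMonHom (f ≫ j) := hf ▸ (inferInstance : IsMonHom ((Over.pullback (Red.geomPt s)).map i))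
  haveI : IsMonHom f := isMonHom_of_comp_mono f j
  haveI : Mono (f ≫ j) := hf ▸ (inferInstance : Mono ((Over.pullback (Red.geomPt s)).map i))
  haveI : Mono f := mono_of_mono f j
  refine isIso_of_same_rank f (lSplit_of_split ⟨e₀⟩) (lSplit_of_split ⟨e⟩)
    fun p V V' a a' hp hp' ha ha' => ?_
  have h1 : a' ≤ r' := rank_le_of_mono hp' (show p ∈ (⊤ : Scheme.Opens _) from trivial) ha'
    ⟨bcMapIso _ e ≪≫ bcDSIso _ _⟩ (𝟙 T')
  have h2 : r ≤ a := rank_le_of_mono (show p ∈ (⊤ : Scheme.Opens _) from trivial) hp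
    ⟨bcMapIso _ e₀ ≪≫ bcDSIso _ _⟩ ha (𝟙 (Red.geomFibre s T))
  omega

/-- the rank of a torus is locally constant -/
theorem exists_rank_nhd {S : Scheme.{u}} {T : Over S} [GrpObj T] (hT : Red.IsTorus T) (s : S) :
    ∃ (V : S.Opens) (r : ℕ), s ∈ V ∧ ∀ t ∈ V, Red.IsSplitTorusWith (Fin r → ℤ) (Red.geomFibre t T) := by
  obtain ⟨r, ⟨e⟩⟩ := exists_DS_iso_algClosed (Red.geomFibre s T) (isTorus_bc hT _)
  let A : Set S := {t | Red.IsSplitTorusWith (Fin r → ℤ) (Red.geomFibre t T)}
  suffices h : IsOpen A from ⟨⟨A, h⟩, r, ⟨e⟩, fun t ht => ht⟩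
  obtain ⟨S', g, hg, hs, hqc, hloc⟩ := id hT
  refine isOpen_of_cover g hqc A (isOpen_iff_forall_mem_open.mpr fun s' hs' => ?_)
  obtain ⟨U', hU', r', hsplit⟩ := hloc s'
  have key : ∀ w ∈ U', ∀ r₀ : ℕ, Red.IsSplitTorusWith (Fin r₀ → ℤ) (Red.geomFibre (g.base w) T) → r₀ = r' := by
    intro w hw r₀ h₀
    obtain ⟨e₀⟩ := h₀
    obtain ⟨z, hz⟩ := H21Weil.exists_geomPt_comp g w
    have hr : Set.range (Red.geomPt w).base ⊆ Set.range U'.ι.base := by
      rintro _ ⟨p, rfl⟩
      rw [Scheme.Opens.range_ι, Scheme.Hom.comp_apply]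
      exact (Scheme.fromSpecResidueField_apply w _).symm ▸ hw
    obtain ⟨e'⟩ := isSplit_comp (U'.ι ≫ g) (IsOpenImmersion.lift U'.ι (Red.geomPt w) hr)
      (v' := z ≫ Red.geomPt (g.base w))
      (hz.trans ((congrArg (· ≫ g) (IsOpenImmersion.lift_fac _ _ hr)).symm.trans (Category.assoc _ _ _))) hsplit
    exact rank_unique ((bcDSIso z _).symm ≪≫ bcMapIso z e₀.symm ≪≫ (bcCompIso z _ T).symm ≪≫ e')
  refine ⟨(U' : Set S'), fun w hw => ?_, U'.isOpen, hU'⟩
  obtain ⟨r₀, ⟨e₀⟩⟩ := exists_DS_iso_algClosed (Red.geomFibre (g.base w) T) (isTorus_bc hT _)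
  have h1 := key w hw r₀ ⟨e₀⟩
  have h2 := key s' hU' r hs'
  show Red.IsSplitTorusWith _ _
  rw [h2, ← h1]
  exact ⟨e₀⟩

/-- geometric points of a given point lift along etale morphisms -/
theorem exists_geomPt_lift' {U S : Scheme.{u}} (g : U ⟶ S) [Etale g] (w : U) :
    ∃ z : Spec (CommRingCat.of (AlgebraicClosure (S.residueField (g.base w)))) ⟶ U,
      z ≫ g = Red.geomPt (g.base w) ∧ z.base (IsLocalRing.closedPoint _) = w := by
  obtain ⟨s, hs⟩ := H7Weight.exists_pts g (Red.geomPt (g.base w)) w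
    (Scheme.fromSpecResidueField_apply (g.base w) _).symm
  exact ⟨s.1, s.2, hs⟩

/-- a geometric point factors through the chosen geometric point at its image -/
theorem exists_factor_geomPt {S : Scheme.{u}} {Ω : Type u} [Field Ω] [IsAlgClosed Ω]
    (z : Spec (CommRingCat.of Ω) ⟶ S) {t : S} (hz : z.base (IsLocalRing.closedPoint Ω) = t) :
    ∃ w : Spec (CommRingCat.of Ω) ⟶ Spec (CommRingCat.of (AlgebraicClosure (S.residueField t))),
      w ≫ Red.geomPt t = z := by
  subst hz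
  haveI := Scheme.isLocalHom_stalkClosedPointTo' z
  let φ := Scheme.descResidueField (Scheme.stalkClosedPointTo z)
  letI : Algebra (S.residueField (z.base (IsLocalRing.closedPoint Ω))) Ω := φ.hom.toAlgebra
  let ψ : AlgebraicClosure (S.residueField (z.base (IsLocalRing.closedPoint Ω))) →ₐ[S.residueField (z.base (IsLocalRing.closedPoint Ω))] Ω :=
    IsAlgClosed.lift
  refine ⟨Spec.map (CommRingCat.ofHom ψ.toRingHom), ?_⟩
  rw [← Category.assoc, ← Spec.map_comp, ← CommRingCat.ofHom_comp,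
    show ψ.toRingHom.comp (algebraMap (S.residueField (z.base (IsLocalRing.closedPoint Ω))) _) = φ.hom from ψ.comp_algebraMap]
  exact S.descResidueField_stalkClosedPointTo_fromSpecResidueField Ω z

end Groth.Agent.H21Diag
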