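import Groth.Agent.H21Diag.MaxTorusExt
import Groth.Agent.H21Diag.Conj
import Groth.Agent.S5246
import Groth.Agent.S4599
import Groth.Agent.H18Et.TopInvariance
import Groth.Prelude.Def_SGA3x

/-!
A central homomorphism of multiplicative type which factors through a smooth affine subgroup on every
geometric fibre factors through it.
-/

set_option autoImplicit false
set_option linter.style.haveILetI false
set_option linter.unusedSectionVars false
set_option backward.isDefEq.respectTransparency false
set_option synthInstance.maxHeartbeats 400000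
set_option maxHeartbeats 1000000

universe u

open CategoryTheory CategoryTheory.Limits MonoidalCategory CartesianMonoidalCategory MonObj AlgebraicGeometry

noncomputable section

namespace Groth.Agent.H21Diag

variable {S : Scheme.{u}}

/-- central homomorphisms of multiplicative type factor through a smooth affine subgroup if they do on
geometric fibres -/
theorem exists_factor_of_geomFibres {G T H : Over S} [GrpObj G] [GrpObj T] [GrpObj H] [Smooth T.hom]
    [IsAffineHom T.hom] [IsSeparated G.hom] [LocallyOfFinitePresentation G.hom] (hH : SGA3x.IsMultTypeFT H)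
    (i : T ⟶ G) [IsMonHom i] [Mono i] (u : H ⟶ G) [IsMonHom u]
    (hc : ∀ (X : Over S) (x : X ⟶ H) (g : X ⟶ G), (x ≫ u) * g = g * (x ≫ u))
    (hfac : ∀ s : S, ∃ w : Red.geomFibre s H ⟶ Red.geomFibre s T,
      w ≫ (Over.pullback (Red.geomPt s)).map i = (Over.pullback (Red.geomPt s)).map u) :
    ∃ w : H ⟶ T, w ≫ i = u := by
  obtain ⟨A, υ, hυ, hAs, -⟩ := S5246.result H T hH inferInstance inferInstance
  haveI := hAs
  let υA : H ⊗ Over.mk A.hom ⟶ T := υ
  let ψ : H ⊗ Over.mk A.hom ⟶ G := (υA ≫ i) * (fst H (Over.mk A.hom) ≫ u)⁻¹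
  have hψ : AutFam.IsHomFamily H G ψ := fun X g₁ g₂ t => by
    have h := hυ.1 X g₁ g₂ t
    simp only [ψ, MonObj.comp_mul, GrpObj.comp_inv, lift_fst_assoc, MonObj.mul_comp]
    rw [← Category.assoc, h, MonObj.mul_comp, Category.assoc, Category.assoc, mul_inv_rev]
    have hb : Commute (lift g₂ t ≫ υA ≫ i) (g₁ ≫ u)⁻¹ := (Commute.inv_left (hc X g₁ _)).symm
    have hb' : Commute (g₂ ≫ u)⁻¹ (g₁ ≫ u)⁻¹ := (Commute.inv_inv (hc X g₂ (g₁ ≫ u)))
    simp only [_root_.mul_assoc]
    rw [hb'.eq, ← _root_.mul_assoc (lift g₂ t ≫ υA ≫ i), hb.eq, _root_.mul_assoc]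
  let dA := ofFam A.hom ψ
  haveI : IsMonHom dA := isMonHom_ofFam A.hom ψ hψ
  haveI : IsSeparated (Red.bc A.hom G).hom := MorphismProperty.pullback_snd (P := @IsSeparated) _ _ ‹_›
  haveI : LocallyOfFinitePresentation (Red.bc A.hom G).hom :=
    MorphismProperty.pullback_snd (P := @LocallyOfFinitePresentation) _ _ ‹_›
  have : LocallyOfFinitePresentation (Limits.pullback.diagonal (Red.bc A.hom G).hom) :=
    S4599.result (Red.bc A.hom G).hom
  obtain ⟨W, -, hW, hW1⟩ := exists_trivial_locus dA (isMultTypeFT_bc hH A.hom) inferInstance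
  -- over the locus the parametrised homomorphism lifts `u`
  have key : ∀ (X : Over S) (h : X ⟶ H) (t : X ⟶ Over.mk A.hom) (r : X.left ⟶ (W : Scheme.{u})),
      r ≫ W.ι = t.left → lift h t ≫ υA ≫ i = h ≫ u := by
    intro X h t r hr
    obtain ⟨e, he⟩ := exists_pack A.hom t
    let P : Over A.left := Over.mk t.left
    let g : P ⟶ Red.bc A.hom H := bcEquiv A.hom H P (e.inv ≫ h)
    have h1 : g ≫ dA = 1 := comp_eq_one_of_pullback W.ι dA hW1 r hr g
    have h2 := congrArg (bcHom A.hom G P) h1
    rw [bcHom_ofFam, map_one] at h2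
    rw [show bcHom A.hom H P g = e.inv ≫ h from (bcEquiv A.hom H P).symm_apply_apply _] at h2
    have h3 := congrArg (e.hom ≫ ·) h2
    simp only [MonObj.comp_one] at h3
    rw [← Category.assoc, comp_lift, Iso.hom_inv_id_assoc] at h3
    have h4 : e.hom ≫ strTo A.hom P = t := by
      ext : 1
      rw [Over.comp_left, he]
      exact Category.id_comp _
    rw [h4] at h3
    simp only [ψ, MonObj.comp_mul, GrpObj.comp_inv, lift_fst_assoc] at h3
    exact mul_inv_eq_one.mp h3
  let π : (W : Scheme.{u}) ⟶ S := W.ι ≫ A.hom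
  haveI : Mono π := ⟨fun {Z} a b hab => by
    let X : Over S := Over.mk (a ≫ π)
    let tA : X ⟶ A := Over.homMk (a ≫ W.ι) (Category.assoc a W.ι A.hom)
    let tB : X ⟶ A := Over.homMk (b ≫ W.ι) ((Category.assoc b W.ι A.hom).trans hab.symm)
    have e : ∀ (c : Z ⟶ (W : Scheme.{u})) (t : X ⟶ A), c ≫ W.ι = t.left →
        ((H ◁ t) ≫ υ) ≫ i = fst H X ≫ u := fun c t ht => by
      rw [← key (H ⊗ X) (fst H X) (snd H X ≫ t) ((snd H X).left ≫ c) (by
        rw [Category.assoc, ht]; rfl), Category.assoc]
      congr 1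
    have hfam : AutFam.IsHomFamily H T ((H ◁ tA) ≫ υ) := fun Y g₁ g₂ t => by
      simp only [lift_whiskerLeft_assoc]
      exact hυ.1 Y g₁ g₂ _
    have h : tA = tB := (hυ.2 X _ hfam).unique rfl
      ((cancel_mono i).mp ((e b tB rfl).trans (e a tA rfl).symm))
    exact (cancel_mono W.ι).mp (congrArg (fun m => m.left) h)⟩
  haveI : Surjective π := ⟨fun s => by
    let z := Red.geomPt s
    obtain ⟨w, hw⟩ := hfac s
    haveI : Mono ((Over.pullback z).map i) :=
      haveI := (Over.mapPullbackAdj z).isRightAdjoint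
      inferInstance
    haveI : IsMonHom ((Over.pullback z).map i) := isMonHom_map z i
    haveI : IsMonHom (w ≫ (Over.pullback z).map i) := hw ▸ isMonHom_map z u
    haveI : IsMonHom w := isMonHom_of_comp_mono w ((Over.pullback z).map i)
    obtain ⟨φ, hφ, hφw⟩ := exists_family_of_hom z w
    obtain ⟨a, ha, -⟩ := hυ.2 _ φ hφ
    let x : A.left := a.left (IsLocalRing.closedPoint _)
    have hx : x ∈ W := by
      refine (hW x).mpr (trivAt_of_field dA a.left fun Y p g => ?_)
      let P : Over (Spec (CommRingCat.of (AlgebraicClosure (S.residueField s)))) := Over.mk p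
      let P' : Over A.left := Over.mk (p ≫ a.left)
      have haw : a.left ≫ A.hom = z := Over.w a
      let r : (Over.map z).obj P ⟶ (Over.map A.hom).obj P' :=
        Over.homMk (𝟙 Y) (by
          change 𝟙 Y ≫ (p ≫ a.left) ≫ A.hom = p ≫ z
          rw [Category.id_comp, Category.assoc, haw])
      haveI : IsIso r.left := inferInstanceAs (IsIso (𝟙 Y))
      haveI : Epi r := Over.epi_of_epi_left r
      apply (bcEquiv A.hom G P').symm.injective
      change bcHom A.hom G P' _ = bcHom A.hom G P' 1
      rw [map_one, bcHom_ofFam, ← cancel_epi r, MonObj.comp_one]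
      let g₀ := bcHom A.hom H P' g
      have h4 : r ≫ strTo A.hom P' = strTo z P ≫ (a : Over.mk z ⟶ Over.mk A.hom) := by
        ext : 1
        exact Category.id_comp _
      rw [← Category.assoc, comp_lift, h4]
      simp only [ψ, MonObj.comp_mul, GrpObj.comp_inv, lift_fst_assoc]
      refine mul_inv_eq_one.mpr ?_
      let q := bcEquiv z H P (r ≫ g₀)
      have h5 := hφw P q
      rw [show bcHom z H P q = r ≫ g₀ from (bcEquiv z H P).symm_apply_apply _, ← ha] at h5
      have h6 : lift (r ≫ g₀) (strTo z P ≫ a) ≫ υ = bcHom z T P (q ≫ w) := by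
        rw [← h5, lift_whiskerLeft_assoc]
      have h7 : bcHom z T P (q ≫ w) ≫ i = bcHom z G P ((q ≫ w) ≫ (Over.pullback z).map i) :=
        ((Over.mapPullbackAdj z).homEquiv_naturality_right_symm (q ≫ w) i).symm
      have h8 : bcHom z G P (q ≫ (Over.pullback z).map u) = bcHom z H P q ≫ u :=
        (Over.mapPullbackAdj z).homEquiv_naturality_right_symm q u
      rw [← Category.assoc, h6, h7, Category.assoc, hw, h8]
      exact congrArg (· ≫ u) ((bcEquiv z H P).symm_apply_apply _)
    refine ⟨⟨x, hx⟩, ?_⟩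
    show A.hom x = s
    rw [← Scheme.Hom.comp_apply, Over.w a]
    exact (Scheme.Hom.comp_apply _ _ _).trans (Scheme.fromSpecResidueField_apply s _)⟩
  haveI : Smooth π := inferInstanceAs (Smooth (W.ι ≫ A.hom))
  haveI : Etale π := Etale.of_formallyUnramified_of_flat π
  haveI : IsOpenImmersion π := H18Et.TopInv.isOpenImmersion_of_etale_of_universallyInjective π
  haveI : IsIso π := (isIso_iff_isOpenImmersion_and_epi_base π).mpr
    ⟨inferInstance, (TopCat.epi_iff_surjective _).mpr π.surjective⟩
  let a : 𝟙_ (Over S) ⟶ Over.mk A.hom := Over.homMk (inv π ≫ W.ι) (by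
    change (inv π ≫ W.ι) ≫ A.hom = 𝟙 S
    rw [Category.assoc]
    exact IsIso.inv_hom_id π)
  refine ⟨lift (𝟙 H) (toUnit H ≫ a) ≫ υA, ?_⟩
  rw [Category.assoc, key H (𝟙 H) (toUnit H ≫ a) ((toUnit H).left ≫ inv π)
    (by rw [Category.assoc]; rfl), Category.id_comp]

end Groth.Agent.H21Diag
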