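import Groth.Agent.H21Diag.RedRankLocal
import Groth.Agent.H21Diag.Conjugate
import Groth.Agent.H21Diag.Conj
import Groth.Agent.H21Dyn.CentralizerField
import Groth.Agent.H21Taylor.OpenSub
import Groth.Agent.H21EtPt.Subgroup
import Groth.Agent.H19Grp.FibreLoci
import Groth.Agent.H19Grp.RepresentsOpen
import Groth.Prelude.Def_Red2

/-!
Self-centralizing tori are maximal; a torus which is its own centralizer on one fibre is so near that fibre.
-/

set_option autoImplicit false
set_option linter.style.haveILetI false
set_option linter.unusedSectionVars false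
set_option backward.isDefEq.respectTransparency false
set_option synthInstance.maxHeartbeats 400000
set_option maxHeartbeats 1000000

universe u

open CategoryTheory CategoryTheory.Limits MonoidalCategory CartesianMonoidalCategory MonObj AlgebraicGeometry

noncomputable section

namespace Groth.Agent.H21Diag

theorem geometricallyConnected_of_fibres {S : Scheme.{u}} (G : Over S) [GrpObj G] [LocallyOfFiniteType G.hom]
    (hconn : ∀ s : S, _root_.IsConnected (G.hom.base ⁻¹' {s})) : GeometricallyConnected G.hom := by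
  have hc : ∀ s : S, ConnectedSpace (G.hom.fiber s) := fun s => by
    haveI : ConnectedSpace ↥(G.hom.base ⁻¹' {s}) := isConnected_iff_connectedSpace.mp (hconn s)
    exact (G.hom.fiberHomeo s).symm.surjective.connectedSpace (G.hom.fiberHomeo s).symm.continuous
  refine ⟨fun Ω _ y Z fst snd h => ?_⟩
  haveI := H19Grp.irreducibleSpace_pullback_of_connected_fibres G hc y
  exact (Scheme.Hom.homeomorph h.isoPullback.inv).surjective.connectedSpace
    (Scheme.Hom.homeomorph h.isoPullback.inv).continuous

variable {S : Scheme.{u}} {G T C : Over S} [GrpObj G] [GrpObj T]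

/-- a torus through which everything commuting with it factors, on each geometric fibre, is maximal -/
theorem isMaximalTorus_of_selfCentralizing (i : T ⟶ G) [IsMonHom i] [Mono i] (hT : Red.IsTorus T)
    (hc : ∀ (s : S) (X : Over (Spec (CommRingCat.of (AlgebraicClosure (S.residueField s)))))
      (g : X ⟶ Red.geomFibre s G),
      (∀ (X' : Over _) (x : X' ⟶ X) (t : X' ⟶ Red.geomFibre s T),
        (x ≫ g) * (t ≫ (Over.pullback (Red.geomPt s)).map i) = (t ≫ (Over.pullback (Red.geomPt s)).map i) * (x ≫ g)) →
      ∃ t : X ⟶ Red.geomFibre s T, t ≫ (Over.pullback (Red.geomPt s)).map i = g) :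
    Red.IsMaximalTorus i := by
  refine ⟨inferInstance, inferInstance, hT, fun s T' _ j _ _ f hT' hf => ?_⟩
  haveI : Mono ((Over.pullback (Red.geomPt s)).map i) :=
    haveI := (Over.mapPullbackAdj (Red.geomPt s)).isRightAdjoint
    inferInstance
  obtain ⟨w, hw⟩ := hc s T' j fun X' x t => by
    rw [← hf, ← Category.assoc, ← MonObj.mul_comp, ← MonObj.mul_comp, mult_comm (isMultTypeFT_of_isTorus hT')]
  refine ⟨w, (cancel_mono ((Over.pullback (Red.geomPt s)).map i)).mp ?_, (cancel_mono j).mp ?_⟩
  · rw [Category.assoc, hw, hf, Category.id_comp]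
  · rw [Category.assoc, hf, hw, Category.id_comp]

/-- a torus isomorphic to its centralizer is maximal -/
theorem isMaximalTorus_of_centralizer (i : T ⟶ G) [IsMonHom i] [Mono i] (hT : Red.IsTorus T) (c : C ⟶ G)
    (hC : ∀ (X : Over S) (g : X ⟶ G), (∃ z : X ⟶ C, z ≫ c = g) ↔
      ∀ (X' : Over S) (x : X' ⟶ X) (q : X' ⟶ T), (x ≫ g) * (q ≫ i) = (q ≫ i) * (x ≫ g))
    (f : T ⟶ C) [IsIso f] (hf : f ≫ c = i) : Red.IsMaximalTorus i := by
  refine isMaximalTorus_of_selfCentralizing i hT fun s X g hg => ?_
  let F := Over.pullback (Red.geomPt s)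
  obtain ⟨z, hz⟩ := (H21Dyn.centralizer_bc (Red.geomPt s) i c hC X g).mpr hg
  exact ⟨z ≫ F.map (inv f), by
    rw [Category.assoc, ← Functor.map_comp, ← hf, IsIso.inv_hom_id_assoc, hz]⟩

/-- if a torus is its centralizer on one fibre, then it is on the fibres nearby -/
theorem exists_nhd_isIso_centralizer [GrpObj C] [Smooth G.hom] [IsAffineHom G.hom] [Smooth C.hom]
    [IsAffineHom C.hom]
    (hconn : ∀ s : S, _root_.IsConnected (G.hom.base ⁻¹' {s})) (i : T ⟶ G) [IsMonHom i] [Mono i] (hT : Red.IsTorus T)
    (c : C ⟶ G) [IsMonHom c] [Mono c]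
    (hC : ∀ (X : Over S) (g : X ⟶ G), (∃ z : X ⟶ C, z ≫ c = g) ↔
      ∀ (X' : Over S) (x : X' ⟶ X) (q : X' ⟶ T), (x ≫ g) * (q ≫ i) = (q ≫ i) * (x ≫ g))
    (f : T ⟶ C) (hf : f ≫ c = i) (s : S) [IsIso ((Over.pullback (Red.geomPt s)).map f)] :
    ∃ U : S.Opens, s ∈ U ∧ IsIso ((Over.pullback U.ι).map f) := by
  haveI : IsMonHom (f ≫ c) := hf ▸ inferInstance
  haveI : IsMonHom f := isMonHom_of_comp_mono f c
  haveI : Mono (f ≫ c) := hf ▸ inferInstance
  haveI : Mono f := mono_of_mono f c
  have hM := isMultTypeFT_of_isTorus hT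
  haveI := H21EtPt.flat_of_multTypeFT hM
  haveI := lfp_of_multTypeFT hM
  let ρ := S.fromSpecResidueField s
  let z : Spec (CommRingCat.of (AlgebraicClosure (S.residueField s))) ⟶ Spec (S.residueField s) :=
    Spec.map (CommRingCat.ofHom (algebraMap (S.residueField s) (AlgebraicClosure (S.residueField s))))
  haveI : IsIso ((Over.pullback z).map ((Over.pullback ρ).map f)) := by
    have h := (NatIso.isIso_map_iff (Over.pullbackComp z ρ) f).mp ‹IsIso ((Over.pullback (Red.geomPt s)).map f)›
    exact h
  haveI : IsIso ((Over.pullback ρ).map f) := isIso_of_isIso_bc z _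
  obtain ⟨hopen, heq⟩ := H19Grp.isOpen_etale_and_eq f
  let V : S.Opens := ⟨{t | Etale ((Over.pullback (S.fromSpecResidueField t)).map f).left}, hopen⟩
  have hsV : s ∈ V := by
    show Etale ((Over.pullback ρ).map f).left
    haveI : IsIso ((Over.pullback ρ).map f).left :=
      inferInstanceAs (IsIso ((Over.forget _).map ((Over.pullback ρ).map f)))
    infer_instance
  refine ⟨V, hsV, ?_⟩
  let F := Over.pullback V.ι
  let g := F.map f
  haveI : Mono g := by
    haveI := (Over.mapPullbackAdj V.ι).isRightAdjoint
    exact inferInstanceAs (Mono (F.map f))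
  haveI : Mono g.left := (Over.forget _).map_mono g
  haveI : Etale g.left := by
    refine H19Grp.of_forall_onNhd @Etale _ fun x => ?_
    refine H19Grp.ptBC_onNhd (P := @Etale) _ _ _ _ (H19Grp.isPullback_map V.ι f) x ?_
    refine (Set.ext_iff.mp heq _).mpr ?_
    have h : T.hom (pullback.fst T.hom V.ι x) = V.ι (pullback.snd T.hom V.ι x) := by
      rw [← Scheme.Hom.comp_apply, pullback.condition, Scheme.Hom.comp_apply]
    show T.hom (pullback.fst T.hom V.ι x) ∈ V
    rw [h]
    exact (pullback.snd T.hom V.ι x).2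
  haveI : IsOpenImmersion g.left := H18Et.TopInv.isOpenImmersion_of_etale_of_universallyInjective g.left
  haveI : Smooth (Red.bc V.ι C).hom := MorphismProperty.pullback_snd (P := @Smooth) _ _ ‹Smooth C.hom›
  haveI : GeometricallyIrreducible (Red.bc V.ι C).hom := by
    have hc' : ∀ t : ↥V, ConnectedSpace ((Red.bc V.ι C).hom.fiber t) := fun t => by
      let r := (V : Scheme.{u}).fromSpecResidueField t
      let w := r ≫ V.ι
      haveI : IsAffineHom (Red.bc w G).hom := MorphismProperty.pullback_snd (P := @IsAffineHom) _ _ ‹_›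
      haveI : Smooth (Red.bc w G).hom := MorphismProperty.pullback_snd (P := @Smooth) _ _ ‹_›
      haveI : IsAffine (Red.bc w G).left := isAffine_of_isAffineHom (Red.bc w G).hom
      haveI : GeometricallyConnected (Red.bc w G).hom :=
        haveI := geometricallyConnected_of_fibres G hconn
        inferInstanceAs (GeometricallyConnected (pullback.snd G.hom w))
      haveI : ConnectedSpace (Red.bc w G).left :=
        GeometricallyConnected.connectedSpace_of_subsingleton (Red.bc w G).hom
      haveI : IsMonHom ((Over.pullback w).map i) := isMonHom_map w i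
      haveI : Mono ((Over.pullback w).map c) :=
        haveI := (Over.mapPullbackAdj w).isRightAdjoint
        inferInstance
      haveI h := H21Dyn.connectedSpace_centralizer_field (k := (V : Scheme.{u}).residueField t) (Red.bc w G)
        (Red.bc w T) (isTorus_bc hT w) ((Over.pullback w).map i) (Red.bc w C) ((Over.pullback w).map c)
        (H21Dyn.centralizer_bc w i c hC)
      let e := pullbackLeftPullbackSndIso C.hom V.ι r
      haveI : ConnectedSpace ↥(pullback C.hom (r ≫ V.ι)) := h
      exact (Scheme.Hom.homeomorph e.inv).surjective.connectedSpace (Scheme.Hom.homeomorph e.inv).continuous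
    refine ⟨fun Ω _ y Z fst snd h => ?_⟩
    haveI := H19Grp.irreducibleSpace_pullback_of_connected_fibres (Red.bc V.ι C) hc' y
    exact (Scheme.Hom.homeomorph h.isoPullback.hom).irreducibleSpace_iff.mpr ‹_›
  haveI : IsMonHom g := isMonHom_map V.ι f
  haveI : IsIso g.left := H21Taylor.isIso_of_open_nhd_one g
    (fun X a b => ⟨a * b, MonObj.mul_comp a b g⟩) g.left.opensRange
    (fun t => ⟨η[Red.bc V.ι T].left t, by
      rw [← Scheme.Hom.comp_apply, ← Over.comp_left, IsMonHom.one_hom]⟩)
    g.left.isoOpensRange.inv (by simp)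
  haveI : IsIso ((Over.forget _).map g) := ‹IsIso g.left›
  exact isIso_of_reflects_iso g (Over.forget _)

end Groth.Agent.H21Diag
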