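import Groth.Agent.H21Diag.MaxTorusLocal

/-!
The image of the power map with locally constant exponent: the maximal torus of a group of multiplicative type.
-/

set_option backward.isDefEq.respectTransparency false

open CategoryTheory MonoidalCategory CartesianMonoidalCategory MonObj GrpObj AlgebraicGeometry
open CategoryTheory.Limits

universe u

namespace Groth.Agent.H21Diag

variable {S : Scheme.{u}}

/-- powers with a locally constant exponent, as a property -/
def IsLcPow {G : Over S} [GrpObj G] (n : S → ℕ) (f : G ⟶ G) : Prop :=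
  ∀ (k : ℕ) {X : Over S} (x : X ⟶ G), (∀ z : X.left, n (X.hom.base z) = k) → x ≫ f = x ^ k

/-- morphisms agreeing where the exponent is constant are equal -/
theorem ext_pieces {n : S → ℕ} (hn : IsLocallyConstant n) {X A : Over S} (a b : X ⟶ A)
    (h : ∀ (k : ℕ) {X' : Over S} (p : X' ⟶ X), (∀ z : X'.left, n (X'.hom.base z) = k) → p ≫ a = p ≫ b) : a = b := by
  let V : ℕ → S.Opens := fun k => ⟨n ⁻¹' {k}, hn.isOpen_fiber k⟩
  let 𝒰 := X.left.openCoverOfIsOpenCover (fun k => X.hom ⁻¹ᵁ V k)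
    (eq_top_iff.mpr fun z _ => TopologicalSpace.Opens.mem_iSup.mpr ⟨n (X.hom.base z), rfl⟩)
  refine Over.OverMorphism.ext (Scheme.Cover.hom_ext 𝒰 _ _ fun k => ?_)
  exact congrArg (fun m => m.left) (h k (Over.homMk (X.hom ⁻¹ᵁ V k).ι rfl :
    Over.mk ((X.hom ⁻¹ᵁ V k).ι ≫ X.hom) ⟶ X) fun z => z.2)

theorem isMonHom_lcPow {G : Over S} [GrpObj G] {n : S → ℕ} (hn : IsLocallyConstant n)
    (hcomm : ∀ {T : Over S} (a b : T ⟶ G), a * b = b * a) {f : G ⟶ G} (hf : IsLcPow n f) : IsMonHom f := by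
  refine isMonHom_of_mul _ fun a b => ext_pieces hn _ _ fun k X' p hp => ?_
  rw [← Category.assoc, hf k _ hp, MonObj.comp_mul, MonObj.comp_mul, ← Category.assoc p a f, ← Category.assoc p b f,
    hf k _ hp, hf k _ hp]
  exact Commute.mul_pow (hcomm _ _) k

theorem bcEquiv_symm_pow {T : Scheme.{u}} (v : T ⟶ S) (A : Over S) [GrpObj A] (X : Over T)
    (a : X ⟶ Red.bc v A) (k : ℕ) : (bcEquiv v A X).symm (a ^ k) = ((bcEquiv v A X).symm a) ^ k := by
  induction k with
  | zero => rw [pow_zero, pow_zero, bcEquiv_symm_one]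
  | succ j ih => rw [pow_succ, pow_succ, bcEquiv_symm_mul, ih]

/-- base change of a locally constant power to where the exponent is constant -/
theorem map_lcPow {G : Over S} [GrpObj G] {n : S → ℕ} {f : G ⟶ G} (hf : IsLcPow n f) {T : Scheme.{u}} (v : T ⟶ S)
    (k : ℕ) (hv : ∀ x : T, n (v.base x) = k) :
    ((Over.pullback v).map f : Red.bc v G ⟶ Red.bc v G) = (𝟙 (Red.bc v G)) ^ k := by
  refine (bcEquiv v G (Red.bc v G)).symm.injective ?_
  rw [bcEquiv_symm_pow]
  have h1 : (bcEquiv v G (Red.bc v G)).symm (𝟙 (Red.bc v G) ≫ (Over.pullback v).map f) =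
      (bcEquiv v G (Red.bc v G)).symm (𝟙 (Red.bc v G)) ≫ f :=
    (Over.mapPullbackAdj v).homEquiv_naturality_right_symm (𝟙 _) f
  rw [Category.id_comp] at h1
  rw [h1]
  exact hf k _ fun z => hv _

theorem isMonHom_iso_hom {A B : Over S} [GrpObj A] [GrpObj B] (e : Grp.mk A ≅ Grp.mk B) :
    IsMonHom e.hom.hom.hom :=
  e.hom.hom.isMonHom_hom

/-- conjugating a power by an isomorphism of groups -/
theorem pow_conj {A B : Over S} [GrpObj A] [GrpObj B] (c : A ⟶ B) [IsMonHom c] (c' : B ⟶ A) (h : c ≫ c' = 𝟙 A)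
    [IsMonHom c'] (k : ℕ) : c ≫ ((𝟙 B : B ⟶ B) ^ k) ≫ c' = (𝟙 A : A ⟶ A) ^ k := by
  rw [MonObj.pow_comp, Category.id_comp, comp_pow, h]

theorem bc_chart_pow {G : Over S} [GrpObj G] {n : S → ℕ} {f : G ⟶ G} (hf : IsLcPow n f) {T : Scheme.{u}}
    (v : T ⟶ S) {M : Type} [AddCommGroup M] (e : Grp.mk (Red.bc v G) ≅ Grp.mk (Red.DS T M)) (k : ℕ)
    (hv : ∀ x : T, n (v.base x) = k) :
    ((Over.pullback v).map f : Red.bc v G ⟶ Red.bc v G) = e.hom.hom.hom ≫ ((𝟙 (Red.DS T M)) ^ k) ≫ e.inv.hom.hom := by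
  have := isMonHom_iso_hom e
  have : IsMonHom e.inv.hom.hom := e.inv.hom.isMonHom_hom
  rw [map_lcPow hf v k hv]
  exact (pow_conj e.hom.hom.hom e.inv.hom.hom (congrArg (fun z => z.hom.hom) e.hom_inv_id) k).symm

theorem flat_left_of_iso {A B : Over S} (c : A ⟶ B) [IsIso c] : Flat c.left := by
  have : IsIso c.left := inferInstanceAs (IsIso ((Over.forget _).map c))
  infer_instance

/-- the power map of a torus is faithfully flat -/
theorem lcPow_torus {R : Over S} [GrpObj R] (hR : Red.IsTorus R) {n : S → ℕ} (hn : IsLocallyConstant n)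
    (hpos : ∀ s, 0 < n s) {f : R ⟶ R} (hf : IsLcPow n f) : Flat f.left ∧ Surjective f.left := by
  obtain ⟨S', g, hg, hs, -, hloc⟩ := hR
  choose U hU r hr using hloc
  let A : S' → S'.Opens := fun t => U t ⊓ g ⁻¹ᵁ ⟨n ⁻¹' {n (g.base t)}, hn.isOpen_fiber _⟩
  refine flat_surjective_of_cover g A (fun t => ⟨t, hU t, rfl⟩) f fun t => ?_
  obtain ⟨e⟩ := isSplit_comp ((U t).ι ≫ g) (S'.homOfLE (inf_le_left : A t ≤ U t))
    (v' := (A t).ι ≫ g) (by simp [A]) (hr t)
  let k := n (g.base t)
  have hmap := bc_chart_pow hf ((A t).ι ≫ g) e k fun x => x.2.2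
  have hinj : Function.Injective (nsmulAddMonoidHom (α := Fin (r t) → ℤ) k) := by
    intro a b hab
    funext i
    exact mul_left_cancel₀ (b := a i) (c := b i) (Int.natCast_ne_zero.mpr (hpos _).ne')
      (by simpa using congrFun hab i)
  obtain ⟨_, _⟩ := flat_surjective_DSmap (A t : Scheme.{u}) _ hinj
  let c := e.hom.hom.hom
  let c' := e.inv.hom.hom
  have : IsIso c := ⟨c', congrArg (fun z => z.hom.hom) e.hom_inv_id, congrArg (fun z => z.hom.hom) e.inv_hom_id⟩
  have : IsIso c' := ⟨c, congrArg (fun z => z.hom.hom) e.inv_hom_id, congrArg (fun z => z.hom.hom) e.hom_inv_id⟩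
  have : IsIso c.left := inferInstanceAs (IsIso ((Over.forget _).map c))
  have : IsIso c'.left := inferInstanceAs (IsIso ((Over.forget _).map c'))
  rw [hmap, id_pow_eq_DSmap, Over.comp_left, Over.comp_left]
  exact ⟨inferInstance, inferInstance⟩

/-- tori factor through the image of a power map -/
theorem factor_torus {G : Over S} [GrpObj G] {n : S → ℕ} (hn : IsLocallyConstant n) (hpos : ∀ s, 0 < n s)
    {f : G ⟶ G} (hf : IsLcPow n f) {T : Over S} (i : T ⟶ G) [IsClosedImmersion i.left] (f' : G ⟶ T)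
    (hfac : f' ≫ i = f) {R : Over S} [GrpObj R] (j : R ⟶ G) [IsMonHom j] (hR : Red.IsTorus R) :
    ∃ g : R ⟶ T, g ≫ i = j := by
  have hRm := Groth.Agent.S16611.multTypeFT_of_torus hR
  obtain ⟨p, hp⟩ := exists_lcPow (G := R) n hn
  obtain ⟨_, _⟩ := lcPow_torus hR hn hpos hp
  have := isAffineHom_of_multTypeFT hRm
  have : QuasiCompact (p.left ≫ R.hom) := by rw [Over.w p]; infer_instance
  have : QuasiCompact p.left := QuasiCompact.of_comp _ R.hom
  have := H21Quot.dominant_of_fpqc p.left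
  refine H19Grp.exists_factor_closed p i j (j ≫ f') ?_
  rw [Category.assoc, hfac]
  refine ext_pieces hn _ _ fun k X' q hq => ?_
  rw [← Category.assoc, hp k q hq, MonObj.pow_comp, ← Category.assoc, hf k _ hq]

theorem flat_diag (M : Type) [AddCommGroup M] : Flat (Red.diag (ULift.{u} ℤ) M).hom :=
  Flat.SpecMap_iff.mpr (RingHom.flat_algebraMap_iff.mpr
    (inferInstanceAs (Module.Flat (ULift.{u} ℤ) (MonoidAlgebra (ULift.{u} ℤ) (Multiplicative M)))))

/-- on a chart with constant exponent the power map is a dominant map followed by a closed torus -/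
theorem exists_chart_data {G : Over S} [GrpObj G] {n : S → ℕ} {f : G ⟶ G} (hf : IsLcPow n f) {A : Scheme.{u}}
    (v : A ⟶ S) {M : Type} [AddCommGroup M] [AddGroup.FG M] (e : Grp.mk (Red.bc v G) ≅ Grp.mk (Red.DS A M)) (k : ℕ)
    (hv : ∀ x : A, n (v.base x) = k) (hk : ∀ m : M, IsOfFinAddOrder m → k • m = 0) (hk0 : 0 < k) :
    ∃ (r : ℕ) (q : Red.bc v G ⟶ Red.DS A (Fin r → ℤ)) (j : Red.DS A (Fin r → ℤ) ⟶ Red.bc v G),
      IsSchemeTheoreticallyDominant q.left ∧ QuasiCompact q.left ∧ IsClosedImmersion j.left ∧ IsMonHom j ∧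
        Flat (Red.bc v G).hom ∧ q ≫ j = (Over.pullback v).map f := by
  obtain ⟨r, q, j, hq, hj, hqf, hqs, hqq, hjc, hqj⟩ := exists_pow_factor A M k hk hk0
  have hmap := bc_chart_pow hf v e k hv
  let c := e.hom.hom.hom
  let c' := e.inv.hom.hom
  have : IsIso c := ⟨c', congrArg (fun z => z.hom.hom) e.hom_inv_id, congrArg (fun z => z.hom.hom) e.inv_hom_id⟩
  have : IsIso c' := ⟨c, congrArg (fun z => z.hom.hom) e.inv_hom_id, congrArg (fun z => z.hom.hom) e.hom_inv_id⟩
  have : IsIso c.left := inferInstanceAs (IsIso ((Over.forget _).map c))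
  have : IsIso c'.left := inferInstanceAs (IsIso ((Over.forget _).map c'))
  have : IsMonHom c' := e.inv.hom.isMonHom_hom
  have : IsSchemeTheoreticallyDominant q.left := H21Quot.dominant_of_fpqc q.left
  refine ⟨r, c ≫ q, j ≫ c', ?_, ?_, ?_, inferInstance, ?_, ?_⟩
  · rw [Over.comp_left]; infer_instance
  · rw [Over.comp_left]; infer_instance
  · rw [Over.comp_left]; infer_instance
  · rw [← Over.w c]
    have := flat_DS A M
    infer_instance
  · rw [hmap, ← hqj]
    simp only [Category.assoc]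
    rfl

/-- flatness of a candidate image on a chart -/
theorem flat_of_chart_data {G K : Over S} [GrpObj G] (f : G ⟶ G) (i : K ⟶ G) [IsClosedImmersion i.left] (f' : G ⟶ K)
    [IsSchemeTheoreticallyDominant f'.left] [QuasiCompact f'.left] (hf' : f' ≫ i = f) {A : Scheme.{u}}
    (v : A ⟶ S) [Flat v] {r : ℕ} (q : Red.bc v G ⟶ Red.DS A (Fin r → ℤ)) (j : Red.DS A (Fin r → ℤ) ⟶ Red.bc v G)
    [IsSchemeTheoreticallyDominant q.left] [QuasiCompact q.left] [IsClosedImmersion j.left]
    (hqj : q ≫ j = (Over.pullback v).map f) : Flat (pullback.snd K.hom v) := by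
  obtain ⟨ψ, hψ, -⟩ := exists_comparison_flat f i f' hf' v q j hqj
  have : IsIso ψ.left := inferInstanceAs (IsIso ((Over.forget _).map ψ))
  have hw : (Red.bc v K).hom = inv ψ.left ≫ (Red.DS A (Fin r → ℤ)).hom := by
    rw [← Over.w ψ, IsIso.inv_hom_id_assoc]
  change Flat (Red.bc v K).hom
  rw [hw]
  have := flat_DS A (Fin r → ℤ)
  infer_instance

/-- the image is a split torus on a chart -/
theorem split_of_chart_data {G K : Over S} [GrpObj G] [GrpObj K] (f : G ⟶ G) (i : K ⟶ G) [IsMonHom i]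
    [IsClosedImmersion i.left] (f' : G ⟶ K) [IsSchemeTheoreticallyDominant f'.left] [QuasiCompact f'.left]
    (hf' : f' ≫ i = f) {A : Scheme.{u}} (v : A ⟶ S) [Flat v] {r : ℕ} (q : Red.bc v G ⟶ Red.DS A (Fin r → ℤ))
    (j : Red.DS A (Fin r → ℤ) ⟶ Red.bc v G)
    [IsSchemeTheoreticallyDominant q.left] [QuasiCompact q.left] [IsClosedImmersion j.left] [IsMonHom j]
    (hqj : q ≫ j = (Over.pullback v).map f) : Red.IsSplitTorusWith (Fin r → ℤ) (Red.bc v K) := by
  obtain ⟨ψ, hψ, hψi⟩ := exists_comparison_flat f i f' hf' v q j hqj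
  let iU : Red.bc v K ⟶ Red.bc v G := (Over.pullback v).map i
  have : IsMonHom iU := isMonHom_bcMap _ i
  have : IsClosedImmersion iU.left := MorphismProperty.overPullbackMap (P := @IsClosedImmersion) _ _ ‹_›
  have : Mono iU := Over.mono_of_mono_left _
  have : IsMonHom ψ := by
    have : IsMonHom (ψ ≫ iU) := by rw [show ψ ≫ iU = j from hψi]; infer_instance
    exact isMonHom_of_comp_mono ψ iU
  exact ⟨(Grp.mkIso' (asIso ψ)).symm⟩

/-- the maximal torus of a group of multiplicative type -/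
theorem exists_maxTorus {G : Over S} [GrpObj G] (hG : SGA3x.IsMultTypeFT G) :
    ∃ (T : Over S) (_ : GrpObj T) (i : T ⟶ G) (n : S → ℕ) (f : G ⟶ G) (f' : G ⟶ T),
      IsMonHom i ∧ IsClosedImmersion i.left ∧ Red.IsTorus T ∧
        IsLocallyConstant n ∧ (∀ s, 0 < n s) ∧ IsLcPow n f ∧ f' ≫ i = f := by
  have := isAffineHom_of_multTypeFT hG
  have := isSeparated_of_multTypeFT hG
  obtain ⟨S', g, hg, hs, hqc, hloc⟩ := hG
  obtain ⟨n, hn, hkey⟩ := exists_exponent g hqc hloc
  choose U hU M instM hM hchart using hloc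
  obtain ⟨f, hf⟩ := exists_lcPow (G := G) n hn
  have hpos : ∀ s, 0 < n s := fun s => by
    obtain ⟨t, rfl⟩ := hs.surj s
    let := instM t; have := hM t
    rw [hkey t (U t) (M t) (hU t) (hchart t)]
    exact torsCard_pos _
  have hcomm : ∀ {T : Over S} (a b : T ⟶ G), a * b = b * a := fun a b =>
    mult_comm ⟨S', g, hg, hs, hqc, fun t => ⟨U t, hU t, M t, instM t, hM t, hchart t⟩⟩ a b
  have : IsMonHom f := isMonHom_lcPow hn hcomm hf
  have : QuasiCompact (f.left ≫ G.hom) := by rw [Over.w f]; infer_instance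
  have : QuasiCompact f.left := QuasiCompact.of_comp _ G.hom
  let A : S' → S'.Opens := fun t => U t ⊓ g ⁻¹ᵁ ⟨n ⁻¹' {n (g.base t)}, hn.isOpen_fiber _⟩
  have hA : ∀ t : S', ∃ i, t ∈ A i := fun t => ⟨t, hU t, rfl⟩
  let v : ∀ t, (A t : Scheme.{u}) ⟶ S := fun t => (A t).ι ≫ g
  have data : ∀ t, ∃ (r : ℕ) (q : Red.bc (v t) G ⟶ Red.DS (A t : Scheme.{u}) (Fin r → ℤ))
      (j : Red.DS (A t : Scheme.{u}) (Fin r → ℤ) ⟶ Red.bc (v t) G),
      IsSchemeTheoreticallyDominant q.left ∧ QuasiCompact q.left ∧ IsClosedImmersion j.left ∧ IsMonHom j ∧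
        Flat (Red.bc (v t) G).hom ∧ q ≫ j = (Over.pullback (v t)).map f := by
    intro t
    let := instM t; have := hM t
    obtain ⟨e₀⟩ := hchart t
    exact exists_chart_data hf (v t) (restrictChart e₀ (S'.homOfLE (inf_le_left : A t ≤ U t)) (by simp [A, v]))
      (n (g.base t)) (fun x => x.2.2)
      (fun m hm => by rw [hkey t (U t) (M t) (hU t) (hchart t)]; exact torsCard_nsmul _ hm) (hpos _)
  choose r q j hqd hqq hjc hjh hGf hqj using data
  have hflatG : Flat G.hom := flat_hom_of_cover g A hA hGf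
  let Z : Over S := Over.mk (f.left.imageι ≫ G.hom)
  let ιZ : Z ⟶ G := Over.homMk f.left.imageι rfl
  let fZ : G ⟶ Z := Over.homMk f.left.toImage (by
    change f.left.toImage ≫ f.left.imageι ≫ G.hom = G.hom
    rw [Scheme.Hom.toImage_imageι_assoc, Over.w f])
  have : IsClosedImmersion ιZ.left := inferInstanceAs (IsClosedImmersion f.left.imageι)
  have : IsSchemeTheoreticallyDominant fZ.left := ⟨H17.ker_toImage f.left⟩
  have : QuasiCompact fZ.left := inferInstanceAs (QuasiCompact f.left.toImage)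
  have hflatZ : Flat (f.left.imageι ≫ G.hom) := by
    refine flat_hom_of_cover (X := Z) g A hA fun t => ?_
    have := hqd t; have := hqq t; have := hjc t
    exact flat_of_chart_data f ιZ fZ (Over.OverMorphism.ext f.left.toImage_imageι) (v t) (q t) (j t) (hqj t)
  obtain ⟨T, _, i, f', hi, hf', hfac, hic, hdom, hqc'⟩ := H19Grp.exists_schemImage f
  refine ⟨T, inferInstance, i, n, f, f', hi, hic, ⟨S', g, hg, hs, hqc, fun t => ⟨A t, ⟨hU t, rfl⟩, r t, ?_⟩⟩,
    hn, hpos, hf, hfac⟩
  have := hqd t; have := hqq t; have := hjc t; have := hjh t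
  exact split_of_chart_data f i f' hfac (v t) (q t) (j t) (hqj t)

/-- A group of multiplicative type has a unique maximal torus, containing all subtori. -/
theorem exists_isMaximalTorus {G : Over S} [GrpObj G] (hG : SGA3x.IsMultTypeFT G) :
    ∃ (T : Over S) (_ : GrpObj T) (i : T ⟶ G), Red.IsMaximalTorus i ∧
      ∀ (R : Over S) [GrpObj R] (j : R ⟶ G) [IsMonHom j] [Mono j], Red.IsTorus R → ∃ g : R ⟶ T, g ≫ i = j := by
  obtain ⟨T, _, i, n, f, f', hi, hic, hT, hn, hpos, hf, hfac⟩ := exists_maxTorus hG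
  have : Mono i := Over.mono_of_mono_left i
  refine ⟨T, inferInstance, i, ⟨hi, inferInstance, hT, ?_⟩,
    fun R _ j _ _ hR => factor_torus hn hpos hf i f' hfac j hR⟩
  intro s T' _ j _ _ c hT' hcj
  let v := Red.geomPt s
  let is : Red.bc v T ⟶ Red.bc v G := (Over.pullback v).map i
  have : IsClosedImmersion is.left := MorphismProperty.overPullbackMap (P := @IsClosedImmersion) _ _ hic
  have : Mono is := Over.mono_of_mono_left _
  have hv : ∀ x, n (v.base x) = n s := fun x => by
    rw [Scheme.Hom.comp_apply]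
    exact congrArg n (Scheme.fromSpecResidueField_apply s _)
  obtain ⟨g, hg⟩ := factor_torus (G := Red.bc v G) (n := fun _ => n s) (IsLocallyConstant.const _)
    (fun _ => hpos s) (f := (Over.pullback v).map f) (fun k X x hx => by
      by_cases hX : IsEmpty X.left
      · exact Over.OverMorphism.ext (Scheme.Cover.hom_ext X.left.affineCover _ _ fun a => by
          have : IsEmpty (X.left.affineCover.X a) := Function.isEmpty (X.left.affineCover.f a).base
          exact isInitialOfIsEmpty.hom_ext _ _)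
      · obtain ⟨z⟩ := not_isEmpty_iff.mp hX
        rw [map_lcPow hf v (n s) hv, ← hx z, comp_pow, Category.comp_id])
    is ((Over.pullback v).map f') (by rw [← Functor.map_comp, hfac]) j hT'
  refine ⟨g, ?_, ?_⟩
  · rw [← cancel_mono is, Category.assoc, hg, hcj, Category.id_comp]
  · rw [← cancel_mono j, Category.assoc, hcj, hg, Category.id_comp]

end Groth.Agent.H21Diag
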