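import Groth.Agent.H21Diag.LcPow
import Groth.Agent.H21Diag.LocSplit

/-!
The maximal torus of a group of multiplicative type.
-/

set_option backward.isDefEq.respectTransparency false

open CategoryTheory MonoidalCategory CartesianMonoidalCategory MonObj GrpObj AlgebraicGeometry
open CategoryTheory.Limits

universe u

namespace Groth.Agent.H21Diag

open Groth.Agent.H18Torsor.DiagExact

variable {S : Scheme.{u}}

/-- A schematically dominant factorisation commutes with flat base change. -/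
theorem exists_comparison_flat {H G K : Over S} (f : H ⟶ G) (i : K ⟶ G) [IsClosedImmersion i.left] (f' : H ⟶ K)
    [IsSchemeTheoreticallyDominant f'.left] [QuasiCompact f'.left] (hf' : f' ≫ i = f)
    {T : Scheme.{u}} (v : T ⟶ S) [Flat v] {Q : Over T} (q : Red.bc v H ⟶ Q) (j : Q ⟶ Red.bc v G)
    [IsSchemeTheoreticallyDominant q.left] [QuasiCompact q.left] [IsClosedImmersion j.left]
    (hqj : q ≫ j = (Over.pullback v).map f) :
    ∃ ψ : Q ⟶ Red.bc v K, IsIso ψ ∧ ψ ≫ (Over.pullback v).map i = j := by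
  let iU : Red.bc v K ⟶ Red.bc v G := (Over.pullback v).map i
  let gU : Red.bc v H ⟶ Red.bc v K := (Over.pullback v).map f'
  have : IsClosedImmersion iU.left := MorphismProperty.overPullbackMap (P := @IsClosedImmersion) _ _ ‹_›
  have : Flat (pullback.fst K.hom v) := MorphismProperty.pullback_fst (P := @Flat) _ _ ‹_›
  have : IsSchemeTheoreticallyDominant gU.left :=
    IsSchemeTheoreticallyDominant.of_isPullback (isPullback_bc_map f' v).flip
  have : QuasiCompact gU.left := MorphismProperty.overPullbackMap (P := @QuasiCompact) _ _ ‹_›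
  have hgi : gU.left ≫ iU.left = q.left ≫ j.left := by
    rw [← Over.comp_left, ← Over.comp_left, hqj, ← hf', Functor.map_comp]
  have hker : iU.left.ker = j.left.ker := by
    have h := congrArg Scheme.Hom.ker hgi
    rwa [Scheme.Hom.ker_comp, Scheme.Hom.ker_comp, Scheme.Hom.ker_eq_bot gU.left, Scheme.Hom.ker_eq_bot q.left,
      Scheme.IdealSheafData.map_bot, Scheme.IdealSheafData.map_bot] at h
  let ψl := IsClosedImmersion.lift iU.left j.left hker.le
  have hψ : ψl ≫ iU.left = j.left := IsClosedImmersion.lift_fac _ _ _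
  have : IsIso ψl := IsClosedImmersion.isIso_of_ker_eq j.left iU.left ψl hψ hker.symm
  let ψ : Q ⟶ Red.bc v K := Over.homMk ψl (by rw [← Over.w iU, ← Category.assoc, hψ, Over.w j])
  have : IsIso ((Over.forget _).map ψ) := inferInstanceAs (IsIso ψl)
  exact ⟨ψ, isIso_of_reflects_iso ψ (Over.forget _), Over.OverMorphism.ext hψ⟩

theorem pow_of_hom {A : Type*} [Monoid A] {X G : Over S} [GrpObj G] (F : A → (X ⟶ G)) (h1 : F 1 = 1)
    (hm : ∀ a b, F (a * b) = F a * F b) (a : A) (k : ℕ) : (F a) ^ k = F (a ^ k) :=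
  (map_pow ({ toFun := F, map_one' := h1, map_mul' := hm } : A →* (X ⟶ G)) a k).symm

theorem dpt_pow {D : Type u} [CommRing D] {M : Type} [AddCommGroup M] (y : Spec (CommRingCat.of D) ⟶ S)
    (χ : Multiplicative M →* D) (k : ℕ) : dpt y χ ^ k = dpt y (χ ^ k) :=
  pow_of_hom (G := Red.DS S M) (fun χ => dpt y χ) (dpt_one y) (fun a b => dpt_mul y a b) χ k

/-- powers on diagonalisable groups -/
theorem id_pow_eq_DSmap (M : Type) [AddCommGroup M] (k : ℕ) :
    (𝟙 (Red.DS S M)) ^ k = Red.DSmap S (nsmulAddMonoidHom (α := M) k) := by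
  let X := (Red.DS S M)
  refine Over.OverMorphism.ext (Scheme.Cover.hom_ext X.left.affineCover _ _ fun i => ?_)
  let w := (X.left.affineCover.X i).isoSpec.inv ≫ X.left.affineCover.f i
  rw [← cancel_epi (X.left.affineCover.X i).isoSpec.inv, ← Category.assoc, ← Category.assoc]
  let p : Over.mk (w ≫ X.hom) ⟶ X := Over.homMk w rfl
  have key : p ≫ (𝟙 X ^ k) = p ≫ Red.DSmap S (nsmulAddMonoidHom (α := M) k) := by
    obtain ⟨χ, hχ⟩ := dpt_surjective (w ≫ X.hom) p
    have h1 : p ≫ (𝟙 X ^ k) = (p ≫ 𝟙 X) ^ k := comp_pow (A := Red.DS S M) p (𝟙 X) k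
    rw [h1, Category.comp_id, ← hχ, dpt_pow, dpt_comp_DSmap]
    refine congrArg _ (MonoidHom.ext fun m => ?_)
    change χ m ^ k = χ (Multiplicative.ofAdd (k • m.toAdd))
    rw [ofAdd_nsmul, ofAdd_toAdd, map_pow]
  exact congrArg (fun m => m.left) key

/-- powers of a diagonalisable group factor through the torus -/
theorem exists_pow_factor (B : Scheme.{u}) (M : Type) [AddCommGroup M] [AddGroup.FG M] (k : ℕ)
    (hk : ∀ m : M, IsOfFinAddOrder m → k • m = 0) (hk0 : 0 < k) :
    ∃ (r : ℕ) (q : Red.DS B M ⟶ Red.DS B (Fin r → ℤ)) (j : Red.DS B (Fin r → ℤ) ⟶ Red.DS B M),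
      IsMonHom q ∧ IsMonHom j ∧ Flat q.left ∧ Surjective q.left ∧ QuasiCompact q.left ∧ IsClosedImmersion j.left ∧
        q ≫ j = (𝟙 (Red.DS B M)) ^ k := by
  let φ : M →+ M := nsmulAddMonoidHom k
  let R := φ.range
  have hfg : AddGroup.FG R := AddGroup.fg_of_surjective φ.rangeRestrict_surjective
  have : Module.Finite ℤ R := Module.Finite.iff_addGroup_fg.mpr hfg
  have htf : Module.IsTorsionFree ℤ R := by
    rw [Submodule.isTorsionFree_iff_torsion_eq_bot]
    refine (Submodule.eq_bot_iff _).mpr fun a ha => ?_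
    obtain ⟨m, hm⟩ := φ.rangeRestrict_surjective a
    obtain ⟨c, hc⟩ := (Submodule.mem_torsion_iff a).mp ha
    have hc0 : (c : ℤ) ≠ 0 := nonZeroDivisors.coe_ne_zero c
    have hm' : IsOfFinAddOrder m := by
      rw [isOfFinAddOrder_iff_zsmul_eq_zero]
      refine ⟨(c : ℤ) * k, mul_ne_zero hc0 (by exact_mod_cast hk0.ne'), ?_⟩
      rw [mul_smul, natCast_zsmul]
      have h1 : (c : ℤ) • (a : M) = 0 := congrArg Subtype.val hc
      rw [← hm] at h1
      exact h1
    rw [← hm]
    exact Subtype.ext (hk m hm')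
  let b := Module.Free.chooseBasis ℤ R
  have : Fintype (Module.Free.ChooseBasisIndex ℤ R) := Module.Free.ChooseBasisIndex.fintype _ _
  let e : R ≃+ (Fin (Fintype.card (Module.Free.ChooseBasisIndex ℤ R)) → ℤ) :=
    (b.reindex (Fintype.equivFin _)).equivFun.toAddEquiv
  let ι₁ : (Fin (Fintype.card (Module.Free.ChooseBasisIndex ℤ R)) → ℤ) →+ M := R.subtype.comp e.symm.toAddMonoidHom
  let π₁ : M →+ (Fin (Fintype.card (Module.Free.ChooseBasisIndex ℤ R)) → ℤ) := e.toAddMonoidHom.comp φ.rangeRestrict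
  have hinj : Function.Injective ι₁ := Subtype.val_injective.comp e.symm.injective
  have hsur : Function.Surjective π₁ := e.surjective.comp φ.rangeRestrict_surjective
  obtain ⟨hf, hs⟩ := flat_surjective_DSmap B ι₁ hinj
  have := isAffineHom_DS B M
  have := isAffineHom_DS B (Fin (Fintype.card (Module.Free.ChooseBasisIndex ℤ R)) → ℤ)
  refine ⟨_, Red.DSmap B ι₁, Red.DSmap B π₁, isMonHom_DSmap B _, isMonHom_DSmap B _, hf, hs, ?_,
    isClosedImmersion_DSmap B π₁ hsur, ?_⟩
  · have : QuasiCompact ((Red.DSmap B ι₁).left ≫ (Red.DS B _).hom) := by rw [Over.w]; infer_instance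
    exact QuasiCompact.of_comp _ (Red.DS B _).hom
  · rw [id_pow_eq_DSmap]
    refine chr_ext (MonoidHom.ext fun m => ?_)
    rw [chr_comp_DSmap, ← Category.id_comp (Red.DSmap B ι₁), chr_comp_DSmap]
    conv_rhs => rw [← Category.id_comp (Red.DSmap B _), chr_comp_DSmap]
    change chr (𝟙 _) (Multiplicative.ofAdd (ι₁ (π₁ m.toAdd))) = chr (𝟙 _) (Multiplicative.ofAdd (k • m.toAdd))
    simp [ι₁, π₁, φ]
    rfl

end Groth.Agent.H21Diag
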