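import Groth.Agent.H21Diag.Conj
import Groth.Agent.H21Diag.FiniteType
import Groth.Prelude.Def_AlgGrp

/-!
The open and closed set of points of a group commuting with a normal subgroup of multiplicative type.
-/

open CategoryTheory MonoidalCategory CartesianMonoidalCategory MonObj GrpObj AlgebraicGeometry

universe u

namespace Groth.Agent.H21Diag

variable {S : Scheme.{u}}

theorem exists_commuting_locus (K H : Over S) [GrpObj K] [GrpObj H] (i : H ⟶ K) [IsMonHom i] [Mono i]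
    (hH : SGA3x.IsMultTypeFT H) (hn : AlgGrp.IsNormalHom i) :
    ∃ U : K.left.Opens, IsClosed (U : Set K.left) ∧
      (∀ (X : Over S) (k : X ⟶ K), Set.range k.left.base ⊆ (U : Set K.left) →
        ∀ h : X ⟶ H, k * (h ≫ i) = (h ≫ i) * k) ∧
      ∀ (B : Type u) [Field B] (z : Spec (CommRingCat.of B) ⟶ K.left),
        (∀ (X : Over S) (k : X ⟶ K) (p : X.left ⟶ Spec (CommRingCat.of B)), p ≫ z = k.left →
          ∀ h : X ⟶ H, k * (h ≫ i) = (h ≫ i) * k) →
        z.base (IsLocalRing.closedPoint B) ∈ U := by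
  -- the commutator with the universal point of `K`
  let T := K.left
  let κ : Over T ⥤ Over S := Over.map K.hom
  let pt : ∀ (Y : Over T), κ.obj Y ⟶ K := fun Y => Over.homMk Y.hom rfl
  let N : ∀ {Y : Over T}, (κ.obj Y ⟶ H) → (κ.obj Y ⟶ H) := fun {Y} n =>
    (hn (κ.obj Y) (pt Y) n).choose * n⁻¹
  have hN : ∀ {Y : Over T} (n : κ.obj Y ⟶ H),
      (hn (κ.obj Y) (pt Y) n).choose ≫ i = pt Y * (n ≫ i) * (pt Y)⁻¹ :=
    fun {Y} n => (hn (κ.obj Y) (pt Y) n).choose_spec.symm
  have hNmul : ∀ {Y : Over T} (n m : κ.obj Y ⟶ H), N (n * m) = N n * N m := by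
    intro Y n m
    have e : (hn (κ.obj Y) (pt Y) (n * m)).choose =
        (hn (κ.obj Y) (pt Y) n).choose * (hn (κ.obj Y) (pt Y) m).choose := by
      rw [← cancel_mono i, hN, MonObj.mul_comp, MonObj.mul_comp, hN, hN]
      group
    have key : ∀ a b c d : κ.obj Y ⟶ H, a * b * (c * d)⁻¹ = a * c⁻¹ * (b * d⁻¹) := by
      intro a b c d
      rw [_root_.mul_inv_rev, _root_.mul_assoc a b, ← _root_.mul_assoc b,
        mult_comm hH (b * d⁻¹) c⁻¹, ← _root_.mul_assoc a]
    exact (congrArg (· * (n * m)⁻¹) e).trans (key _ _ _ _)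
  have hNnat : ∀ {Y Y' : Over T} (t : Y' ⟶ Y) (n : κ.obj Y ⟶ H), κ.map t ≫ N n = N (κ.map t ≫ n) := by
    intro Y Y' t n
    have hp : κ.map t ≫ pt Y = pt Y' := Over.OverMorphism.ext (Over.w t)
    have e : κ.map t ≫ (hn (κ.obj Y) (pt Y) n).choose = (hn (κ.obj Y') (pt Y') (κ.map t ≫ n)).choose := by
      rw [← cancel_mono i, Category.assoc, hN, hN, MonObj.comp_mul, MonObj.comp_mul, GrpObj.comp_inv, hp,
        Category.assoc]
    change κ.map t ≫ (_ * n⁻¹) = _ * (κ.map t ≫ n)⁻¹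
    rw [MonObj.comp_mul, GrpObj.comp_inv, e]
  let E : ∀ Y : Over T, (κ.obj Y ⟶ H) ≃ (Y ⟶ Red.bc K.hom H) := bcEquiv K.hom H
  let f : Red.bc K.hom H ⟶ Red.bc K.hom H := E _ (N ((E _).symm (𝟙 _)))
  have hf : ∀ {Y : Over T} (a : Y ⟶ Red.bc K.hom H), a ≫ f = E Y (N ((E Y).symm a)) := by
    intro Y a
    have h1 : (E Y).symm a = κ.map a ≫ (E _).symm (𝟙 _) :=
      ((congrArg (E Y).symm (Category.comp_id a)).symm).trans
        ((Over.mapPullbackAdj K.hom).homEquiv_naturality_left_symm a (𝟙 _))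
    rw [h1, ← hNnat]
    exact ((Over.mapPullbackAdj K.hom).homEquiv_naturality_left a _).symm
  have : IsMonHom f := isMonHom_of_mul f (fun {Y} a b => by
    rw [hf, hf, hf]
    exact ((congrArg (fun n => E Y (N n)) (bcEquiv_symm_mul K.hom H Y a b)).trans
      (congrArg (E Y) (hNmul _ _))).trans (bcEquiv_mul K.hom H Y _ _))
  have hHT := isMultTypeFT_bc hH K.hom
  have := isSeparated_of_multTypeFT hHT
  have := lft_of_multTypeFT hHT
  have : LocallyOfFinitePresentation (Limits.pullback.diagonal (Red.bc K.hom H).hom) := S4599.result _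
  obtain ⟨U, hUc, hU, hU1⟩ := exists_trivial_locus f hHT inferInstance
  refine ⟨U, hUc, fun X k hk' h => ?_, fun B _ z hz => ?_⟩
  swap
  · rw [hU]
    refine trivAt_of_field f z fun Y p g => ?_
    rw [hf]
    have hN1 : ∀ n, N (Y := Over.mk (p ≫ z)) n = 1 := fun n => by
      have hc := hz (κ.obj (Over.mk (p ≫ z))) (pt _) p rfl n
      have e : (hn (κ.obj (Over.mk (p ≫ z))) (pt _) n).choose = n := by
        rw [← cancel_mono i, hN, hc, mul_inv_cancel_right]
      change _ * n⁻¹ = 1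
      rw [e, mul_inv_cancel]
    rw [hN1]
    have h2 := bcEquiv_mul K.hom H (Over.mk (p ≫ z)) 1 1
    rw [_root_.mul_one] at h2
    exact left_eq_mul.mp h2
  -- evaluate at the given points
  let Y : Over T := Over.mk k.left
  let τ : X ⟶ κ.obj Y := Over.homMk (𝟙 X.left) (by
    change 𝟙 X.left ≫ k.left ≫ K.hom = X.hom
    rw [Category.id_comp, Over.w k])
  let τ' : κ.obj Y ⟶ X := Over.homMk (𝟙 X.left) (by
    change 𝟙 X.left ≫ X.hom = k.left ≫ K.hom
    rw [Category.id_comp, Over.w k])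
  have hτ : τ ≫ τ' = 𝟙 X := Over.OverMorphism.ext (Category.id_comp _)
  have hk : τ ≫ pt Y = k := Over.OverMorphism.ext (Category.id_comp _)
  obtain ⟨p, hp⟩ : ∃ p : X.left ⟶ (U : Scheme.{u}), p ≫ U.ι = k.left :=
    ⟨IsOpenImmersion.lift U.ι k.left (by rw [Scheme.Opens.range_ι]; exact hk'),
      IsOpenImmersion.lift_fac _ _ _⟩
  have h1 : N (τ' ≫ h) = 1 := by
    have h3 := comp_eq_one_of_pullback U.ι f hU1 (y := k.left) p hp (E Y (τ' ≫ h))
    rw [hf, Equiv.symm_apply_apply] at h3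
    refine (E Y).injective (h3.trans ?_)
    have h2 := bcEquiv_mul K.hom H Y 1 1
    rw [_root_.mul_one] at h2
    exact (left_eq_mul.mp h2).symm
  have h4 : (hn (κ.obj Y) (pt Y) (τ' ≫ h)).choose = τ' ≫ h := mul_inv_eq_one.mp h1
  have h5 := hN (τ' ≫ h)
  rw [h4, Category.assoc] at h5
  have h6 := congrArg (τ ≫ ·) h5
  simp only [MonObj.comp_mul, GrpObj.comp_inv, hk] at h6
  rw [← Category.assoc, hτ, Category.id_comp] at h6
  exact eq_mul_inv_iff_mul_eq.mp h6 |>.symm

end Groth.Agent.H21Diag
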