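import Groth.Agent.H21Diag.CentreKernel
import Groth.Agent.H21Diag.DSMap
import Groth.Agent.H21Diag.MaxTorusBc
import Groth.Agent.H21Diag.RedRankLocal
import Groth.Agent.H21Cent.SubMove
import Groth.Agent.S8398

/-!
A reductive centre exists near every point of an affine piece with a split maximal torus.
-/

set_option autoImplicit false
set_option linter.unusedSectionVars false
set_option linter.style.haveILetI false
set_option backward.isDefEq.respectTransparency false
set_option synthInstance.maxHeartbeats 400000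
set_option maxHeartbeats 1000000

universe u

open CategoryTheory CategoryTheory.Limits MonoidalCategory CartesianMonoidalCategory MonObj AlgebraicGeometry

noncomputable section

namespace Groth.Agent.H21Diag

variable {S : Scheme.{u}}

theorem bcEquiv_symm_comp_map {S' : Scheme.{u}} (f : S' ⟶ S) {A B : Over S} (T : Over S') (a : T ⟶ Red.bc f A)
    (φ : A ⟶ B) :
    (bcEquiv f B T).symm (a ≫ (Over.pullback f).map φ) = (bcEquiv f A T).symm a ≫ φ :=
  (Over.mapPullbackAdj f).homEquiv_naturality_right_symm a φ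

/-- `z` is a reductive centre of `G` over the piece `π`, tested on points -/
def IsPieceCentre {U : Scheme.{u}} (π : U ⟶ S) (G : Over S) [GrpObj G] {Z : Over U} [GrpObj Z]
    (z : Z ⟶ Red.bc π G) : Prop :=
  (IsMonHom z ∧ Mono z) ∧ (∀ (X : Over U) (x : X ⟶ Z) (g : X ⟶ Red.bc π G), (x ≫ z) * g = g * (x ≫ z)) ∧
    ∀ (S'' : Scheme.{u}) (g : S'' ⟶ U) (k : S'' ⟶ S), g ≫ π = k →
      ∀ (H : Over S'') [GrpObj H] (v : H ⟶ Red.bc k G) [IsMonHom v], SGA3x.IsMultTypeFT H →
        (∀ (X : Over S'') (x : X ⟶ H) (y : X ⟶ Red.bc k G), (x ≫ v) * y = y * (x ≫ v)) →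
        ∃ w : H.left ⟶ Z.left, w ≫ Z.hom = H.hom ≫ g ∧
          w ≫ z.left ≫ pullback.fst G.hom π = v.left ≫ pullback.fst G.hom k

/-- the centre piece cut out by a kernel inside a maximal torus -/
theorem pieceCentre_of_kernel {P : Scheme.{u}} (e : P ⟶ S) (G : Over S) [GrpObj G] [Smooth G.hom]
    [IsAffineHom G.hom] (hconn : ∀ s : S, _root_.IsConnected (G.hom.base ⁻¹' {s}))
    {T DR : Over P} [GrpObj T] [GrpObj DR] (i : T ⟶ Red.bc e G) (hi : Red.IsMaximalTorus i)
    (q : DR ⟶ T) [IsMonHom q] [Mono q] (W : P.Opens)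
    (hC : ∀ (X : Over P), Set.range X.hom.base ⊆ (W : Set P) → ∀ (x : X ⟶ DR) (y : X ⟶ Red.bc e G),
      ((x ≫ q) ≫ i) * y = y * ((x ≫ q) ≫ i))
    (hK : ∀ (X : Over P), Set.range X.hom.base ⊆ (W : Set P) → ∀ t : X ⟶ T,
      (∀ (X' : Over P) (x : X' ⟶ X) (y : X' ⟶ Red.bc e G), ((x ≫ t) ≫ i) * y = y * ((x ≫ t) ≫ i)) →
      ∃ r : X ⟶ DR, r ≫ q = t) :
    IsPieceCentre (W.ι ≫ e) G
      ((Over.pullback W.ι).map (q ≫ i) ≫ (H21Red0.bcTrans W.ι e (W.ι ≫ e) rfl G).hom) := by
  obtain ⟨hi1, hi2, hiT, -⟩ := id hi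
  haveI := hi1
  haveI := hi2
  have hGs : Smooth G.hom := inferInstance
  have hGa : IsAffineHom G.hom := inferInstance
  haveI hs' : Smooth (Red.bc e G).hom := MorphismProperty.pullback_snd (P := @Smooth) _ _ hGs
  haveI ha' : IsAffineHom (Red.bc e G).hom := MorphismProperty.pullback_snd (P := @IsAffineHom) _ _ hGa
  haveI := geometricallyConnected_of_fibres G hconn
  have hc' : ∀ s, _root_.IsConnected ((Red.bc e G).hom.base ⁻¹' {s}) := fun s => by
    haveI : GeometricallyConnected (Red.bc e G).hom :=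
      inferInstanceAs (GeometricallyConnected (pullback.snd G.hom e))
    exact (Red.bc e G).hom.isConnected_preimage_singleton s
  let θ := H21Red0.bcTrans W.ι e (W.ι ≫ e) rfl G
  haveI : IsMonHom θ.hom := H21Red0.isMonHom_bcTrans W.ι e _ rfl G
  haveI : IsMonHom θ.inv := inferInstance
  haveI := (Over.mapPullbackAdj W.ι).isRightAdjoint
  haveI : IsMonHom ((Over.pullback W.ι).map (q ≫ i)) := isMonHom_map W.ι _
  haveI : Mono ((Over.pullback W.ι).map (q ≫ i)) := inferInstance
  refine ⟨⟨inferInstance, inferInstance⟩, fun X x g => ?_, fun S'' g k hk H _ v _ hH hv => ?_⟩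
  · apply (cancel_mono θ.inv).mp
    rw [MonObj.mul_comp, MonObj.mul_comp, Category.assoc, Category.assoc, Iso.hom_inv_id, Category.comp_id]
    apply (bcEquiv W.ι (Red.bc e G) X).symm.injective
    rw [bcEquiv_symm_mul, bcEquiv_symm_mul, bcEquiv_symm_comp_map, ← Category.assoc]
    exact hC _ (by
      rintro _ ⟨a, rfl⟩
      exact (X.hom.base a).2) _ _
  · let g' : S'' ⟶ P := g ≫ W.ι
    have hk' : g' ≫ e = k := (Category.assoc _ _ _).trans hk
    let θ' := H21Red0.bcTrans g' e k hk' G
    haveI : IsMonHom θ'.hom := H21Red0.isMonHom_bcTrans g' e k hk' G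
    haveI : IsMonHom θ'.inv := inferInstance
    let v' := v ≫ θ'.inv
    have hv' : ∀ (X : Over S'') (x : X ⟶ H) (y : X ⟶ Red.bc g' (Red.bc e G)), (x ≫ v') * y = y * (x ≫ v') :=
      fun X x y => by
        apply (cancel_mono θ'.hom).mp
        rw [MonObj.mul_comp, MonObj.mul_comp, Category.assoc, Category.assoc, Iso.inv_hom_id, Category.comp_id]
        exact hv X x _
    haveI : Smooth (Red.bc g' (Red.bc e G)).hom := MorphismProperty.pullback_snd (P := @Smooth) _ _ hs'
    haveI : IsAffineHom (Red.bc g' (Red.bc e G)).hom := MorphismProperty.pullback_snd (P := @IsAffineHom) _ _ ha'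
    haveI := geometricallyConnected_of_fibres (Red.bc e G) hc'
    haveI : GeometricallyConnected (Red.bc g' (Red.bc e G)).hom :=
      inferInstanceAs (GeometricallyConnected (pullback.snd (Red.bc e G).hom g'))
    obtain ⟨w, hw⟩ := S8398.result S'' (Red.bc g' (Red.bc e G))
      (fun s => (Red.bc g' (Red.bc e G)).hom.isConnected_preimage_singleton s)
      (Red.bc g' T) ((Over.pullback g').map i) (isMaximalTorus_bc hs' ha' i g' hi) H hH v' hv'
    let t := (bcEquiv g' T H).symm w
    have hti : t ≫ i = (bcEquiv g' (Red.bc e G) H).symm v' := by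
      rw [← hw, bcEquiv_symm_comp_map]
    obtain ⟨r, hr⟩ := hK ((Over.map g').obj H) (by
      rintro _ ⟨a, rfl⟩
      change g'.base (H.hom.base a) ∈ W
      exact (g.base (H.hom.base a)).2) t fun X' x y => by
        let X'' : Over S'' := Over.mk (x.left ≫ H.hom)
        let ν : (Over.map g').obj X'' ⟶ X' := Over.homMk (𝟙 _) (by
          rw [Category.id_comp, ← Over.w x]
          exact (Category.assoc _ _ _).symm)
        let x' : X'' ⟶ H := Over.homMk x.left rfl
        haveI : IsIso ν.left := inferInstanceAs (IsIso (𝟙 _))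
        haveI : Epi ν := Over.epi_of_epi_left ν
        rw [← cancel_epi ν, Category.assoc x t i, MonObj.comp_mul, MonObj.comp_mul, ← Category.assoc ν x, hti]
        have hx : ν ≫ x = (Over.map g').map x' := Over.OverMorphism.ext (Category.id_comp _)
        rw [hx, show (Over.map g').map x' ≫ (bcEquiv g' (Red.bc e G) H).symm v' =
          (bcEquiv g' (Red.bc e G) X'').symm (x' ≫ v') from
          ((Over.mapPullbackAdj g').homEquiv_naturality_left_symm x' v').symm,
          show ν ≫ y = (bcEquiv g' (Red.bc e G) X'').symm (bcEquiv g' (Red.bc e G) X'' (ν ≫ y)) from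
            (Equiv.symm_apply_apply _ _).symm, ← bcEquiv_symm_mul, ← bcEquiv_symm_mul, hv']
    obtain ⟨l, hl1, hl2⟩ : ∃ l : H.left ⟶ pullback DR.hom W.ι,
        l ≫ pullback.fst _ _ = r.left ∧ l ≫ pullback.snd _ _ = H.hom ≫ g :=
      ⟨pullback.lift r.left (H.hom ≫ g) (by rw [Over.w r]; exact (Category.assoc _ _ _).symm),
        pullback.lift_fst _ _ _, pullback.lift_snd _ _ _⟩
    refine ⟨l, hl2, ?_⟩
    have h1 : r.left ≫ (q ≫ i).left = ((bcEquiv g' (Red.bc e G) H).symm v').left := by
      rw [← Over.comp_left, ← Category.assoc, hr, hti]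
    have h2 : ((bcEquiv g' (Red.bc e G) H).symm v').left = v'.left ≫ pullback.fst (Red.bc e G).hom g' := by
      rw [← bcEquiv_left_fst g' (Red.bc e G) H, Equiv.apply_symm_apply]
    have h3 : ((Over.pullback W.ι).map (q ≫ i)).left ≫ pullback.fst (pullback.snd G.hom e) W.ι =
        pullback.fst DR.hom W.ι ≫ (q ≫ i).left := pullback.lift_fst _ _ _
    rw [Over.comp_left, Category.assoc, H21Red0.bcTrans_fst, reassoc_of% h3, reassoc_of% hl1,
      reassoc_of% h1, h2, Category.assoc]
    have h4 : θ'.inv.left ≫ pullback.fst (pullback.snd G.hom e) g' ≫ pullback.fst G.hom e = pullback.fst G.hom k := by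
      rw [← H21Red0.bcTrans_fst g' e k hk', ← Category.assoc, ← Over.comp_left, Iso.inv_hom_id]
      exact Category.id_comp _
    exact (Category.assoc _ _ _).trans (congrArg (v.left ≫ ·) h4)


theorem exists_pieceCentre {R : Type u} [CommRing R] (e : Spec (CommRingCat.of R) ⟶ S) (G : Over S) [GrpObj G]
    [Smooth G.hom] [IsAffineHom G.hom] (hconn : ∀ s : S, _root_.IsConnected (G.hom.base ⁻¹' {s}))
    {M : Type} [AddCommGroup M] [AddGroup.FG M] (i : Red.DS (Spec (CommRingCat.of R)) M ⟶ Red.bc e G)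
    (hi : Red.IsMaximalTorus i) (p : PrimeSpectrum R) :
    ∃ (W : (Spec (CommRingCat.of R)).Opens) (Λ : AddSubgroup M)
      (z : Red.bc W.ι (Red.DS (Spec (CommRingCat.of R)) (M ⧸ Λ)) ⟶ Red.bc (W.ι ≫ e) G),
      p ∈ W ∧ IsPieceCentre (W.ι ≫ e) G z := by
  obtain ⟨hi1, -, -, -⟩ := id hi
  haveI := hi1
  have hGs : Smooth G.hom := inferInstance
  have hGa : IsAffineHom G.hom := inferInstance
  haveI : Smooth (Red.bc e G).hom := MorphismProperty.pullback_snd (P := @Smooth) _ _ hGs
  haveI : IsAffineHom (Red.bc e G).hom := MorphismProperty.pullback_snd (P := @IsAffineHom) _ _ hGa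
  haveI := geometricallyConnected_of_fibres G hconn
  obtain ⟨W, Λ, hpW, hC, hK⟩ := exists_nhd_centralType (fun s => by
    haveI : GeometricallyConnected (Red.bc e G).hom :=
      inferInstanceAs (GeometricallyConnected (pullback.snd G.hom e))
    exact (Red.bc e G).hom.isConnected_preimage_singleton s) i p
  let q : Red.DS (Spec (CommRingCat.of R)) (M ⧸ Λ) ⟶ Red.DS (Spec (CommRingCat.of R)) M :=
    Red.DSmap _ (QuotientAddGroup.mk' Λ)
  haveI : Mono q := Groth.Agent.H18Torsor.DiagExact.mono_DSmap _ (QuotientAddGroup.mk'_surjective Λ)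
  haveI : IsMonHom q := isMonHom_DSmap _ _
  exact ⟨W, Λ, _, hpW, pieceCentre_of_kernel e G hconn i hi q W hC hK⟩

end Groth.Agent.H21Diag
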