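import Groth.Agent.S8399
import Groth.Agent.S3901
import Groth.Agent.S3003
import Groth.Agent.H20Conj.MaxConv

/-!
Unipotent rank zero: split maximal tori equal to their centralisers exist etale locally.
-/

set_option autoImplicit false
set_option linter.unusedSectionVars false
set_option linter.style.haveILetI false
set_option backward.isDefEq.respectTransparency false
set_option synthInstance.maxHeartbeats 400000
set_option maxHeartbeats 1000000

universe u

open CategoryTheory CategoryTheory.Limits MonoidalCategory CartesianMonoidalCategory MonObj AlgebraicGeometry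

noncomputable section

namespace Groth.Agent.H21Diag

/-- self-centralising is carried over by conjugacy -/
theorem selfCentralizing_of_maxTorus {k : Type u} [Field k] [IsAlgClosed k]
    {G T T' : Over (Spec (CommRingCat.of k))} [GrpObj G] [GrpObj T] [GrpObj T'] [IsAffine G.left] [Smooth G.hom]
    [ConnectedSpace G.left] (i : T ⟶ G) (hi : Red.IsMaximalTorus i) (hc : Red.IsCentralizerOf i i)
    (i' : T' ⟶ G) (hi' : Red.IsMaximalTorus i') {X : Over (Spec (CommRingCat.of k))} (y : X ⟶ G)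
    (hy : ∀ (X' : Over _) (x : X' ⟶ X) (q : X' ⟶ T'), (x ≫ y) * (q ≫ i') = (q ≫ i') * (x ≫ y)) :
    ∃ t : X ⟶ T', t ≫ i' = y := by
  obtain ⟨g, φ, hφ⟩ := S3901.result k G T T' i i' (H20Conj.isMaxTorus_of_isMaximalTorus hi)
    (H20Conj.isMaxTorus_of_isMaximalTorus hi')
  obtain ⟨t, ht⟩ := (hc.2.2 X ((toUnit X ≫ g)⁻¹ * y * (toUnit X ≫ g))).mpr fun X' x q => by
    have h := hy X' x (q ≫ φ.hom)
    rw [Category.assoc q φ.hom i', hφ, AGF.conjBy, MonObj.comp_mul, MonObj.comp_mul, GrpObj.comp_inv,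
      ← Category.assoc, toUnit_unique (q ≫ toUnit T) (toUnit X')] at h
    simp only [MonObj.comp_mul, GrpObj.comp_inv]
    rw [← Category.assoc, toUnit_unique (x ≫ toUnit X) (toUnit X')]
    set a := toUnit X' ≫ g
    set b := x ≫ y
    set c := q ≫ i
    calc a⁻¹ * b * a * c = a⁻¹ * (b * (a * c * a⁻¹)) * a := by group
      _ = a⁻¹ * (a * c * a⁻¹ * b) * a := by rw [h]
      _ = c * (a⁻¹ * b * a) := by group
  refine ⟨t ≫ φ.hom, ?_⟩
  rw [Category.assoc, hφ, AGF.conjBy, MonObj.comp_mul, MonObj.comp_mul, GrpObj.comp_inv, ← Category.assoc,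
    toUnit_unique (t ≫ toUnit T) (toUnit X), ht]
  group

/-- a morphism into the centraliser is an isomorphism on a fibre where the torus is its own centraliser -/
theorem isIso_map_of_selfCentralizing {U K : Scheme.{u}} (z : K ⟶ U) {G' T C : Over U} [GrpObj G']
    (v : T ⟶ G') (c : C ⟶ G') [Mono c]
    (hC : ∀ (X : Over U) (g : X ⟶ G'), (∃ w : X ⟶ C, w ≫ c = g) ↔
      ∀ (X' : Over U) (x : X' ⟶ X) (q : X' ⟶ T), (x ≫ g) * (q ≫ v) = (q ≫ v) * (x ≫ g))
    (f : T ⟶ C) (hf : f ≫ c = v) [Mono v]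
    (hself : ∀ (X : Over K) (y : X ⟶ Red.bc z G'),
      (∀ (X' : Over K) (x : X' ⟶ X) (q : X' ⟶ Red.bc z T),
        (x ≫ y) * (q ≫ (Over.pullback z).map v) = (q ≫ (Over.pullback z).map v) * (x ≫ y)) →
      ∃ t : X ⟶ Red.bc z T, t ≫ (Over.pullback z).map v = y) :
    IsIso ((Over.pullback z).map f) := by
  let F := Over.pullback z
  haveI := (Over.mapPullbackAdj z).isRightAdjoint
  haveI : Mono (f ≫ c) := hf ▸ inferInstance
  haveI : Mono f := mono_of_mono f c
  haveI : Mono (F.map f) := inferInstance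
  haveI : Mono (F.map c) := inferInstance
  obtain ⟨t, ht⟩ := hself _ (F.map c) ((H21Dyn.centralizer_bc z v c hC _ (F.map c)).mp ⟨𝟙 _, Category.id_comp _⟩)
  have h : t ≫ F.map f = 𝟙 _ := by
    rw [← cancel_mono (F.map c), Category.assoc, ← Functor.map_comp, hf, ht, Category.id_comp]
  haveI : IsSplitEpi (F.map f) := IsSplitEpi.mk' ⟨t, h⟩
  exact isIso_of_mono_of_isSplitEpi _

theorem isIso_map_congr {S U : Scheme.{u}} {r r' : S ⟶ U} (h : r = r') {X Y : Over U} (f : X ⟶ Y)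
    (hf : IsIso ((Over.pullback r).map f)) : IsIso ((Over.pullback r').map f) := by
  subst h; exact hf

/-- a self-centralising torus on an open piece, after base change -/
theorem selfCentralizing_bc {S U P : Scheme.{u}} (e : U ⟶ S) (r : P ⟶ U) (G : Over S) [GrpObj G]
    {T C : Over U} [GrpObj T] {T' : Over P} [GrpObj T'] (φ : T' ≅ Red.bc r T) [IsMonHom φ.hom]
    (v : T ⟶ Red.bc e G) [IsMonHom v] [Mono v] (hT' : Red.IsTorus T') (c : C ⟶ Red.bc e G)
    (hC : ∀ (X : Over U) (g : X ⟶ Red.bc e G), (∃ z : X ⟶ C, z ≫ c = g) ↔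
      ∀ (X' : Over U) (x : X' ⟶ X) (q : X' ⟶ T), (x ≫ g) * (q ≫ v) = (q ≫ v) * (x ≫ g))
    (f : T ⟶ C) (hf : f ≫ c = v) [IsIso ((Over.pullback r).map f)] :
    ∃ i : T' ⟶ Red.bc (r ≫ e) G, Red.IsMaximalTorus i ∧ ∀ (X : Over P) (y : X ⟶ Red.bc (r ≫ e) G),
      (∀ (X' : Over P) (x : X' ⟶ X) (q : X' ⟶ T'), (x ≫ y) * (q ≫ i) = (q ≫ i) * (x ≫ y)) →
      ∃ t : X ⟶ T', t ≫ i = y := by
  let θ := H21Red0.bcTrans r e (r ≫ e) rfl G
  haveI : IsMonHom θ.hom := H21Red0.isMonHom_bcTrans r e _ rfl G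
  haveI := (Over.mapPullbackAdj r).isRightAdjoint
  haveI : Mono ((Over.pullback r).map v) := inferInstance
  haveI : IsMonHom ((Over.pullback r).map v) := isMonHom_map r v
  let i := φ.hom ≫ (Over.pullback r).map v ≫ θ.hom
  have hself : ∀ (X : Over P) (y : X ⟶ Red.bc (r ≫ e) G),
      (∀ (X' : Over P) (x : X' ⟶ X) (q : X' ⟶ T'), (x ≫ y) * (q ≫ i) = (q ≫ i) * (x ≫ y)) →
      ∃ t : X ⟶ T', t ≫ i = y := by
    intro X y hy
    obtain ⟨w, hw⟩ := (H21Dyn.centralizer_bc r v c hC X (y ≫ θ.inv)).mpr fun X' x q => by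
      apply (cancel_mono θ.hom).mp
      have h := hy X' x (q ≫ φ.inv)
      simp only [i, MonObj.mul_comp, Category.assoc, Iso.inv_hom_id, Iso.inv_hom_id_assoc, Category.comp_id] at h ⊢
      exact h
    refine ⟨w ≫ inv ((Over.pullback r).map f) ≫ φ.inv, ?_⟩
    simp only [i, Category.assoc, Iso.inv_hom_id_assoc]
    rw [← hf, Functor.map_comp, Category.assoc, IsIso.inv_hom_id_assoc, reassoc_of% hw, Iso.inv_hom_id,
      Category.comp_id]
  refine ⟨i, isMaximalTorus_of_centralizer i hT' i (fun X y => ⟨?_, hself X y⟩) (𝟙 _) (Category.id_comp _), hself⟩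
  rintro ⟨t, rfl⟩ X' x q
  rw [← Category.assoc, ← MonObj.mul_comp, ← MonObj.mul_comp, mult_comm (isMultTypeFT_of_isTorus hT')]

/-- a split subtorus of the largest rank at a geometric point lying over a self-centralising maximal torus is
its own centraliser on that fibre -/
theorem isIso_centralizer_fibre {S U : Scheme.{u}} (G : Over S) [GrpObj G] [Smooth G.hom] [IsAffineHom G.hom]
    (hconn : ∀ s : S, _root_.IsConnected (G.hom.base ⁻¹' {s})) (hu : SGA3x.UnipotentRankZero G) (e : U ⟶ S) (s : S)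
    (n : ℕ) (i₀ : Red.DS (Spec (CommRingCat.of (AlgebraicClosure (S.residueField s)))) (Fin n → ℤ) ⟶ Red.geomFibre s G)
    (hi₀ : Red.IsMaximalTorus i₀) (v : Red.DS U (Fin n → ℤ) ⟶ Red.bc e G) [IsMonHom v] [Mono v]
    (z : Spec (CommRingCat.of (AlgebraicClosure (S.residueField s))) ⟶ U) (hz : z ≫ e = Red.geomPt s)
    {C : Over U} (c : C ⟶ Red.bc e G) [Mono c]
    (hC : ∀ (X : Over U) (g : X ⟶ Red.bc e G), (∃ w : X ⟶ C, w ≫ c = g) ↔
      ∀ (X' : Over U) (x : X' ⟶ X) (q : X' ⟶ Red.DS U (Fin n → ℤ)), (x ≫ g) * (q ≫ v) = (q ≫ v) * (x ≫ g))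
    (f : Red.DS U (Fin n → ℤ) ⟶ C) (hf : f ≫ c = v) :
    IsIso ((Over.pullback z).map f) := by
  have hGs : Smooth G.hom := inferInstance
  have hGa : IsAffineHom G.hom := inferInstance
  haveI := geometricallyConnected_of_fibres G hconn
  let z₀ := Red.geomPt s
  haveI : Smooth (Red.geomFibre s G).hom := MorphismProperty.pullback_snd (P := @Smooth) _ _ hGs
  haveI : IsAffineHom (Red.geomFibre s G).hom := MorphismProperty.pullback_snd (P := @IsAffineHom) _ _ hGa
  haveI : IsAffine (Red.geomFibre s G).left := isAffine_of_isAffineHom (Red.geomFibre s G).hom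
  haveI : GeometricallyConnected (Red.geomFibre s G).hom :=
    inferInstanceAs (GeometricallyConnected (pullback.snd G.hom z₀))
  haveI : ConnectedSpace ↥(Red.geomFibre s G).left :=
    GeometricallyConnected.connectedSpace_of_subsingleton (Red.geomFibre s G).hom
  let θ := H21Red0.bcTrans z e z₀ hz G
  haveI : IsMonHom θ.hom := H21Red0.isMonHom_bcTrans z e z₀ hz G
  haveI := (Over.mapPullbackAdj z).isRightAdjoint
  haveI : Mono ((Over.pullback z).map v) := inferInstance
  haveI : IsMonHom ((Over.pullback z).map v) := isMonHom_map z v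
  let ε := bcDSIso z (Fin n → ℤ)
  haveI : IsMonHom ε.inv.hom.hom := ε.inv.hom.isMonHom_hom
  haveI : IsIso ε.inv.hom.hom := ((Grp.forget _).mapIso ε).isIso_inv
  let iz := ε.inv.hom.hom ≫ (Over.pullback z).map v ≫ θ.hom
  have hrk : SGA3x.HasRedRank G s (n : WithBot ℕ∞) := ⟨_, inferInstance, i₀, hi₀, dim_DS_field n⟩
  have hiz : Red.IsMaximalTorus iz := S8399.isMaximalTorus_of_hasRedRank G n z₀ iz fun t => by
    have : z₀.base t = s :=
      (Scheme.Hom.comp_apply _ _ _).trans (Scheme.fromSpecResidueField_apply _ _)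
    rw [this]; exact hrk
  refine isIso_map_of_selfCentralizing z v c hC f hf fun X y hy => ?_
  obtain ⟨t, ht⟩ := selfCentralizing_of_maxTorus i₀ hi₀ (hu _ _ i₀ hi₀) iz hiz (y ≫ θ.hom) fun X' x q => by
    have h := congrArg (· ≫ θ.hom) (hy X' x (q ≫ ε.inv.hom.hom))
    simp only [MonObj.mul_comp, Category.assoc] at h
    exact h
  exact ⟨t ≫ ε.inv.hom.hom, (cancel_mono θ.hom).mp (by rw [Category.assoc, Category.assoc]; exact ht)⟩

/-- in unipotent rank zero a split maximal torus equal to its centraliser exists near every point -/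
theorem exists_selfCentral_nhd {S : Scheme.{u}} (G : Over S) [GrpObj G] [Smooth G.hom] [IsAffineHom G.hom]
    (hconn : ∀ s : S, _root_.IsConnected (G.hom.base ⁻¹' {s})) (hu : SGA3x.UnipotentRankZero G) (s : S) :
    ∃ (R : CommRingCat.{u}) (e : Spec R ⟶ S) (m : ℕ) (i : Red.DS (Spec R) (Fin m → ℤ) ⟶ Red.bc e G),
      Etale e ∧ s ∈ Set.range e.base ∧ Red.IsMaximalTorus i ∧
        ∀ (X : Over (Spec R)) (y : X ⟶ Red.bc e G),
          (∀ (X' : Over (Spec R)) (x : X' ⟶ X) (q : X' ⟶ Red.DS (Spec R) (Fin m → ℤ)),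
            (x ≫ y) * (q ≫ i) = (q ≫ i) * (x ≫ y)) →
          ∃ t : X ⟶ Red.DS (Spec R) (Fin m → ℤ), t ≫ i = y := by
  have hGs : Smooth G.hom := inferInstance
  have hGa : IsAffineHom G.hom := inferInstance
  haveI := geometricallyConnected_of_fibres G hconn
  haveI : Smooth (Red.geomFibre s G).hom := MorphismProperty.pullback_snd (P := @Smooth) _ _ hGs
  haveI : IsAffineHom (Red.geomFibre s G).hom := MorphismProperty.pullback_snd (P := @IsAffineHom) _ _ hGa
  obtain ⟨n₀, i₀, hi₀⟩ := S3003.exists_maxTorus_field (Red.geomFibre s G)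
  obtain ⟨hi₀1, hi₀2, -, -⟩ := id hi₀
  haveI := hi₀1
  haveI := hi₀2
  obtain ⟨U, e, he, ⟨p₁, hp₁⟩, v, hv, hv'⟩ := exists_etale_splitTorus (Red.geomPt s) G n₀ i₀
  haveI := he
  haveI := hv
  haveI := hv'
  have hps : e.base p₁ = s := by
    rw [hp₁, Scheme.Hom.comp_apply]
    exact Scheme.fromSpecResidueField_apply s _
  subst hps
  obtain ⟨z, hz, hzp⟩ := exists_geomPt_lift' e p₁
  haveI : AddGroup.FG (Fin n₀ → ℤ) := Module.Finite.iff_addGroup_fg.mp inferInstance
  haveI hs' : Smooth (Red.bc e G).hom := MorphismProperty.pullback_snd (P := @Smooth) _ _ hGs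
  haveI ha' : IsAffineHom (Red.bc e G).hom := MorphismProperty.pullback_snd (P := @IsAffineHom) _ _ hGa
  obtain ⟨C, gC, c, ⟨hc1, hc2, hC⟩, hcc, hCs⟩ :=
    S5247.result (Red.DS U (Fin n₀ → ℤ)) (Red.bc e G) (isMultTypeFT_DS U _) hs' ha' v
  letI := gC
  haveI := hc1
  haveI := hc2
  haveI := hCs
  haveI := hcc
  haveI : IsAffineHom C.hom := by rw [← Over.w c]; infer_instance
  obtain ⟨f, hf⟩ := (hC _ v).mpr fun X' x q => by
    rw [← MonObj.mul_comp, ← MonObj.mul_comp, mult_comm (isMultTypeFT_DS U (Fin n₀ → ℤ))]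
  haveI := isIso_centralizer_fibre G hconn hu e (e.base p₁) n₀ i₀ hi₀ v z hz c hC f hf
  haveI : IsIso ((Over.pullback (Red.geomPt p₁)).map f) := by
    obtain ⟨w, hw⟩ := exists_factor_geomPt z hzp
    haveI : IsIso ((Over.pullback w).map ((Over.pullback (Red.geomPt p₁)).map f)) := by
      have h : IsIso ((Over.pullback (w ≫ Red.geomPt p₁)).map f) := by rw [hw]; infer_instance
      exact (NatIso.isIso_map_iff (Over.pullbackComp w (Red.geomPt p₁)) f).mp h
    exact isIso_of_isIso_bc w _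
  haveI : GeometricallyConnected (Red.bc e G).hom := inferInstanceAs (GeometricallyConnected (pullback.snd G.hom e))
  have hU : Red.IsTorus (Red.DS U (Fin n₀ → ℤ)) :=
    isTorus_of_lSplit fun t => ⟨⊤, trivial, n₀, ⟨bcDSIso _ _⟩⟩
  obtain ⟨V, hpV, hViso⟩ := exists_nhd_isIso_centralizer
    (fun t => (Red.bc e G).hom.isConnected_preimage_singleton t) v hU c hC f hf p₁
  obtain ⟨A, hA, hpA, hAV⟩ := exists_isAffineOpen_mem_and_subset (U := V) (x := p₁) hpV
  let r : Spec Γ(U, A) ⟶ U := hA.fromSpec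
  obtain ⟨p, hp⟩ : p₁ ∈ Set.range r.base := by
    rw [show Set.range r.base = (A : Set U) from hA.range_fromSpec]; exact hpA
  haveI : IsIso ((Over.pullback r).map f) := by
    let l := IsOpenImmersion.lift V.ι r (by
      rw [Scheme.Opens.range_ι, show Set.range r.base = (A : Set U) from hA.range_fromSpec]; exact hAV)
    have h : IsIso ((Over.pullback l).map ((Over.pullback V.ι).map f)) := inferInstance
    have h' := (NatIso.isIso_map_iff (Over.pullbackComp l V.ι) f).mpr h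
    exact isIso_map_congr (IsOpenImmersion.lift_fac _ _ _) f h'
  let φ : Red.DS (Spec Γ(U, A)) (Fin n₀ → ℤ) ≅ Red.bc r (Red.DS U (Fin n₀ → ℤ)) :=
    (Grp.forget _).mapIso (bcDSIso r (Fin n₀ → ℤ)).symm
  haveI : IsMonHom φ.hom := (bcDSIso r (Fin n₀ → ℤ)).symm.hom.hom.isMonHom_hom
  obtain ⟨i, hi, hself⟩ := selfCentralizing_bc (P := Spec Γ(U, A)) e r G φ v
    (isTorus_of_lSplit fun t => ⟨⊤, trivial, n₀, ⟨bcDSIso _ _⟩⟩) c hC f hf
  exact ⟨Γ(U, A), r ≫ e, n₀, i, inferInstance, ⟨p, by rw [Scheme.Hom.comp_apply, hp]⟩, hi, hself⟩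

/-- unipotent rank zero forces locally constant reductive rank -/
theorem redRankLocallyConstant_of_unipotentRankZero {S : Scheme.{u}} (G : Over S) [GrpObj G] [Smooth G.hom]
    [IsAffineHom G.hom] (hconn : ∀ s : S, _root_.IsConnected (G.hom.base ⁻¹' {s}))
    (hu : SGA3x.UnipotentRankZero G) : SGA3x.RedRankLocallyConstant G := by
  intro s
  obtain ⟨R, e, m, i, he, ⟨p, hp⟩, hi, -⟩ := exists_selfCentral_nhd G hconn hu s
  haveI := he
  have hGs : Smooth G.hom := inferInstance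
  have hGa : IsAffineHom G.hom := inferInstance
  obtain ⟨hi1, hi2, -, -⟩ := id hi
  haveI := hi1
  haveI := hi2
  haveI hs' : Smooth (Red.bc e G).hom := MorphismProperty.pullback_snd (P := @Smooth) _ _ hGs
  haveI ha' : IsAffineHom (Red.bc e G).hom := MorphismProperty.pullback_snd (P := @IsAffineHom) _ _ hGa
  refine ⟨⟨Set.range e.base, e.isOpenMap.isOpen_range⟩, ⟨p, hp⟩, (m : WithBot ℕ∞), ?_⟩
  rintro _ ⟨t, rfl⟩
  obtain ⟨z, hz, -⟩ := exists_geomPt_lift' e t
  haveI := (Over.mapPullbackAdj z).isRightAdjoint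
  haveI : IsMonHom ((Over.pullback z).map i) := isMonHom_map z i
  let ψ := H21Red0.bcTrans z e (Red.geomPt (e.base t)) hz G
  haveI : IsMonHom ψ.hom := H21Red0.isMonHom_bcTrans z e _ hz G
  haveI : IsMonHom ψ.inv := inferInstance
  obtain ⟨ε⟩ : Nonempty (Grp.mk (Red.bc z (Red.DS (Spec R) (Fin m → ℤ))) ≅ Grp.mk (Red.DS _ (Fin m → ℤ))) :=
    ⟨bcDSIso z _⟩
  exact ⟨Red.bc z (Red.DS (Spec R) (Fin m → ℤ)), inferInstance, (Over.pullback z).map i ≫ ψ.hom,
    S3003.isMaximalTorus_postcomp ψ (isMaximalTorus_bc hs' ha' i z hi),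
    (Scheme.homeoOfIso ((Over.forget _).mapIso ((Grp.forget _).mapIso ε))).isHomeomorph.topologicalKrullDim_eq.trans
      (dim_DS_field m)⟩

end Groth.Agent.H21Diag
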