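import Groth.Agent.H21Diag.EtaleTorus
import Groth.Agent.H21Diag.SplitSubtori
import Groth.Agent.H21Split.Red0.IsoBase
import Groth.Agent.H21Split.Corad.Dim
import Groth.Agent.H21Mono.ClosedImmersion
import Groth.Agent.H7Weight.GeomPts

/-!
Maximal tori of largest rank over an algebraically closed field.
-/

set_option autoImplicit false
set_option linter.style.haveILetI false
set_option linter.unusedSectionVars false
set_option backward.isDefEq.respectTransparency false
set_option synthInstance.maxHeartbeats 400000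
set_option maxHeartbeats 1000000

universe u

open CategoryTheory CategoryTheory.Limits MonoidalCategory CartesianMonoidalCategory MonObj AlgebraicGeometry

noncomputable section

namespace Groth.Agent.H21Diag

variable {K : Type u} [Field K]

/-- the dimension of a split torus over a field -/
theorem dim_DS_field (r : ℕ) :
    topologicalKrullDim ↥(Red.DS (Spec (CommRingCat.of K)) (Fin r → ℤ)).left = (r : WithBot ℕ∞) := by
  haveI : IsIso (diagToDS K (Fin r → ℤ)).left :=
    ((Over.forget _).mapIso (asIso (diagToDS K (Fin r → ℤ)))).isIso_hom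
  refine ((Scheme.homeoOfIso (asIso (diagToDS K (Fin r → ℤ)).left)).isHomeomorph.topologicalKrullDim_eq).symm.trans ?_
  refine (PrimeSpectrum.topologicalKrullDim_eq_ringKrullDim _).trans ?_
  change ringKrullDim (MonoidAlgebra K (Multiplicative (Fin r → ℤ))) = _
  rw [H21Split.Corad.ringKrullDim_monoidAlgebra, Module.finrank_fin_fun]

/-- affine schemes of finite type over a field are finite dimensional -/
theorem exists_dim_bound (X : Over (Spec (CommRingCat.of K))) [IsAffineHom X.hom] [LocallyOfFiniteType X.hom] :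
    ∃ d : ℕ, topologicalKrullDim ↥X.left ≤ (d : WithBot ℕ∞) := by
  haveI : IsAffine X.left := isAffine_of_isAffineHom X.hom
  let φ : CommRingCat.of K ⟶ Γ(X.left, ⊤) := (Scheme.ΓSpecIso (CommRingCat.of K)).inv ≫ X.hom.appTop
  letI := φ.hom.toAlgebra
  haveI : Algebra.FiniteType K Γ(X.left, ⊤) := by
    have h1 : X.hom.appTop.hom.FiniteType :=
      HasRingHomProperty.iff_of_isAffine (P := @LocallyOfFiniteType).mp inferInstance
    exact h1.comp (RingHom.FiniteType.of_surjective _
      (Scheme.ΓSpecIso (CommRingCat.of K)).commRingCatIsoToRingEquiv.symm.surjective)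
  obtain ⟨n, f, hf⟩ := Algebra.FiniteType.iff_quotient_mvPolynomial''.mp ‹Algebra.FiniteType K Γ(X.left, ⊤)›
  refine ⟨n, ?_⟩
  rw [(Scheme.homeoOfIso X.left.isoSpec).isHomeomorph.topologicalKrullDim_eq]
  refine (PrimeSpectrum.topologicalKrullDim_eq_ringKrullDim _).le.trans ?_
  refine (ringKrullDim_le_of_surjective f.toRingHom hf).trans ?_
  rw [MvPolynomial.ringKrullDim_of_isNoetherianRing, ringKrullDim_eq_zero_of_field, Nat.card_fin, zero_add]

/-- geometric points lift along etale morphisms -/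
theorem exists_geomPt_lift {U S : Scheme.{u}} (g : U ⟶ S) [Etale g] (w : U) :
    ∃ z : Spec (CommRingCat.of (AlgebraicClosure (S.residueField (g.base w)))) ⟶ U, z ≫ g = Red.geomPt (g.base w) := by
  obtain ⟨s, -⟩ := H7Weight.exists_pts g (Red.geomPt (g.base w)) w
    (Scheme.fromSpecResidueField_apply (g.base w) _).symm
  exact ⟨s.1, s.2⟩

variable [IsAlgClosed K]

/-- a split subtorus is dominated in rank by a maximal torus -/
theorem exists_maxTorus_rank_ge (G : Over (Spec (CommRingCat.of K))) [GrpObj G] [IsAffineHom G.hom]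
    [LocallyOfFiniteType G.hom] (m : ℕ) (u : Red.DS (Spec (CommRingCat.of K)) (Fin m → ℤ) ⟶ G) [IsMonHom u] [Mono u] :
    ∃ (r : ℕ) (i : Red.DS (Spec (CommRingCat.of K)) (Fin r → ℤ) ⟶ G), m ≤ r ∧ Red.IsMaximalTorus i := by
  classical
  obtain ⟨d, hd⟩ := exists_dim_bound G
  haveI : IsSeparated G.hom := inferInstance
  haveI : QuasiCompact G.hom := inferInstance
  let P : ℕ → Prop := fun r =>
    ∃ i : Red.DS (Spec (CommRingCat.of K)) (Fin r → ℤ) ⟶ G, IsMonHom i ∧ Mono i
  have hb : ∀ r, P r → r ≤ d := fun r hr => by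
    obtain ⟨i, hi, hi'⟩ := hr
    haveI : AddGroup.FG (Fin r → ℤ) := Module.Finite.iff_addGroup_fg.mp inferInstance
    haveI := H21Mono.isClosedImmersion_of_mono_DS i
    have h := i.left.isClosedEmbedding.isInducing.topologicalKrullDim_le.trans hd
    rw [dim_DS_field] at h
    exact_mod_cast h
  have hPm : P m := ⟨u, inferInstance, inferInstance⟩
  let r := Nat.findGreatest P d
  obtain ⟨i, hi, hi'⟩ : P r := Nat.findGreatest_spec (hb m hPm) hPm
  refine ⟨r, i, Nat.le_findGreatest (hb m hPm) hPm, ?_⟩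
  haveI := hi
  haveI := hi'
  have hT : Red.IsTorus (Red.DS (Spec (CommRingCat.of K)) (Fin r → ℤ)) := H27Witt.isTorus_DS _ r
  refine H21Red0.isMaximalTorus_of_maximal i hT fun T' _ j _ _ f hT' hf => ?_
  obtain ⟨r', ⟨e⟩⟩ := exists_DS_iso_algClosed T' hT'
  haveI : IsMonHom e.inv.hom.hom := e.inv.hom.isMonHom_hom
  haveI : IsIso e.inv.hom.hom := ((Grp.forget _).mapIso e).isIso_inv
  have hr' : r' ≤ r := Nat.le_findGreatest (hb r' ⟨e.inv.hom.hom ≫ j, inferInstance, inferInstance⟩)
    ⟨e.inv.hom.hom ≫ j, inferInstance, inferInstance⟩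
  haveI : IsMonHom (f ≫ j) := hf ▸ hi
  haveI : IsMonHom f := isMonHom_of_comp_mono f j
  haveI : Mono (f ≫ j) := hf ▸ hi'
  haveI : Mono f := mono_of_mono f j
  refine isIso_of_same_rank f (lSplit_of_split ⟨Iso.refl _⟩) (lSplit_of_split ⟨e⟩)
    fun s U U' a a' hs hs' ha ha' => ?_
  let ι' := e.inv.hom.hom
  haveI : IsMonHom e.hom.hom.hom := e.hom.hom.isMonHom_hom
  haveI : IsIso e.hom.hom.hom := ((Grp.forget _).mapIso e).isIso_hom
  have h1 : a' ≤ r' := rank_le_of_mono hs' (show s ∈ (⊤ : Scheme.Opens _) from trivial) ha'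
    ⟨bcMapIso _ e ≪≫ bcDSIso _ _⟩ (𝟙 T')
  have h2 : r ≤ a := rank_le_of_mono (show s ∈ (⊤ : Scheme.Opens _) from trivial) hs
    ⟨bcDSIso _ _⟩ ha (𝟙 (Red.DS (Spec (CommRingCat.of K)) (Fin r → ℤ)))
  omega

end Groth.Agent.H21Diag
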