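import Groth.Agent.H21Diag.TorusQuot
import Groth.Agent.H21Quot.Third

/-!
Kernels of homomorphisms out of diagonalisable groups of finitely generated type: locally constant type,
factorisation through the quotient by the kernel.
-/

set_option backward.isDefEq.respectTransparency false

open CategoryTheory MonoidalCategory CartesianMonoidalCategory MonObj GrpObj AlgebraicGeometry
open CategoryTheory.Limits

universe u

namespace Groth.Agent.H21Diag

open Groth.Agent.H18Torsor.DiagExact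

variable {S : Scheme.{u}} {M : Type} [AddCommGroup M] {X : Over S} [GrpObj X] (f : Red.DS S M ⟶ X) [IsMonHom f]

theorem gpt_idChart_mul {D : Type u} [CommRing D] (y : Spec (CommRingCat.of D) ⟶ S)
    (χ χ' : Multiplicative M →* D) :
    gpt (idChart S M) y (χ * χ') = gpt (idChart S M) y χ * gpt (idChart S M) y χ' :=
  gpt_mul (idChart S M) y χ χ'

/-- the family of values of a homomorphism out of `D(M)` -/
noncomputable def dsFam : CharFam (𝟙 S) X M where
  pt y χ := gpt (idChart S M) y χ ≫ f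
  pt_comp {B} _ y χ {B'} _ φ := by
    rw [Over.comp_left, gpt_comp, Over.comp_left]
    exact Category.assoc _ _ _
  pt_mul y χ χ' := by
    rw [gpt_idChart_mul, MonObj.mul_comp]

/-- over `W`, the kernel of `f` is the kernel of the restriction of characters to `Λ` -/
def KerEq (Λ : AddSubgroup M) (W : Set S) : Prop :=
  ∀ {T : Over S}, Set.range T.hom.base ⊆ W → ∀ x : T ⟶ Red.DS S M,
    x ≫ f = 1 ↔ x ≫ Red.DSmap S Λ.subtype = 1

theorem gpt_comp_subtype_eq_one_iff (Λ : AddSubgroup M) {D : Type u} [CommRing D]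
    (y : Spec (CommRingCat.of D) ⟶ S) (χ : Multiplicative M →* D) :
    gpt (idChart S M) y χ ≫ Red.DSmap S Λ.subtype = 1 ↔ ∀ l ∈ Λ, χ (Multiplicative.ofAdd l) = 1 := by
  let t : (Over.mk y : Over S) ⟶ Over.mk (y ≫ 𝟙 S) := Over.homMk (𝟙 _) (by
    change 𝟙 _ ≫ y ≫ 𝟙 S = y
    simp)
  let t' : (Over.mk (y ≫ 𝟙 S) : Over S) ⟶ Over.mk y := Over.homMk (𝟙 _) (by
    change 𝟙 _ ≫ y = y ≫ 𝟙 S
    simp)
  have h1 : gpt (idChart S M) y χ = t' ≫ dpt y χ :=
    Over.OverMorphism.ext ((gpt_idChart y χ).trans (Category.id_comp _).symm)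
  have ht : t ≫ t' = 𝟙 _ := Over.OverMorphism.ext (Category.id_comp _)
  have h2 : gpt (idChart S M) y χ ≫ Red.DSmap S Λ.subtype =
      t' ≫ dpt y (χ.comp (AddMonoidHom.toMultiplicative Λ.subtype)) := by
    rw [h1, Category.assoc, dpt_comp_DSmap]
  constructor
  · intro h l hl
    have h3 : dpt y (χ.comp (AddMonoidHom.toMultiplicative Λ.subtype)) = 1 := by
      have h4 := congrArg (t ≫ ·) (h2.symm.trans h)
      simp only [MonObj.comp_one, ← Category.assoc, ht, Category.id_comp] at h4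
      exact h4
    exact DFunLike.congr_fun (dpt_injective y (h3.trans (dpt_one y).symm)) (Multiplicative.ofAdd ⟨l, hl⟩)
  · intro h
    rw [h2, show χ.comp (AddMonoidHom.toMultiplicative Λ.subtype) = 1 from
      MonoidHom.ext fun m => h _ m.toAdd.2, dpt_one, MonObj.comp_one]

variable {f}

omit [IsMonHom f] in
/-- the kernel type is unique -/
theorem KerEq.le {Λ Λ' : AddSubgroup M} {W W' : Set S} (h : KerEq f Λ W) (h' : KerEq f Λ' W') {s : S}
    (hs : s ∈ W) (hs' : s ∈ W') : Λ' ≤ Λ := by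
  intro l hl
  let K := S.residueField s
  let A := MonoidAlgebra K (Multiplicative (M ⧸ Λ))
  let y : Spec (CommRingCat.of A) ⟶ S :=
    Spec.map (CommRingCat.ofHom (MonoidAlgebra.singleOneRingHom : K →+* A)) ≫ S.fromSpecResidueField s
  let χ : Multiplicative M →* A :=
    (MonoidAlgebra.of K _).comp (AddMonoidHom.toMultiplicative (QuotientAddGroup.mk' Λ))
  have hr : ∀ {V : Set S}, s ∈ V → Set.range (Over.mk (y ≫ 𝟙 S) : Over S).hom.base ⊆ V := by
    rintro V hV _ ⟨p, rfl⟩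
    change (y ≫ 𝟙 S).base p ∈ V
    rw [Category.comp_id, Scheme.Hom.comp_apply]
    exact (Scheme.fromSpecResidueField_apply s _).symm ▸ hV
  have h1 := (h (hr hs) (gpt (idChart S M) y χ)).mpr ((gpt_comp_subtype_eq_one_iff Λ y χ).mpr fun m hm => by
    change MonoidAlgebra.of K _ (Multiplicative.ofAdd (QuotientAddGroup.mk' Λ m)) = 1
    rw [show QuotientAddGroup.mk' Λ m = 0 from (QuotientAddGroup.eq_zero_iff m).mpr hm, ofAdd_zero, map_one])
  have h2 := (gpt_comp_subtype_eq_one_iff Λ' y χ).mp ((h' (hr hs') _).mp h1) l hl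
  refine (QuotientAddGroup.eq_zero_iff l).mp (Multiplicative.ofAdd.injective
    (MonoidAlgebra.of_injective (R := K) ?_))
  rw [ofAdd_zero, map_one]
  exact h2

omit [IsMonHom f] in
/-- kernel equality is local on the base -/
theorem kerEq_iUnion {Λ : AddSubgroup M} {ι' : Type*} (W : ι' → S.Opens) (h : ∀ i, KerEq f Λ (W i : Set S)) :
    KerEq f Λ (⋃ i, (W i : Set S)) := by
  intro T hT x
  have key : ∀ {Y : Over S} (g : Red.DS S M ⟶ Y) [GrpObj Y],
      x ≫ g = 1 ↔ ∀ (i : ι') (p : Over.mk ((T.hom ⁻¹ᵁ W i).ι ≫ T.hom) ⟶ T),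
        p.left = (T.hom ⁻¹ᵁ W i).ι → (p ≫ x) ≫ g = 1 := by
    intro Y g _
    refine ⟨fun hx i p _ => by rw [Category.assoc, hx, MonObj.comp_one], fun hx => ?_⟩
    have hall : ∀ z : T.left, ∃ i, z ∈ T.hom ⁻¹ᵁ W i := fun z => (Set.mem_iUnion.mp (hT ⟨z, rfl⟩) : ∃ i, T.hom.base z ∈ W i)
    choose c hc using hall
    refine Over.OverMorphism.ext (Scheme.Cover.hom_ext (T.left.openCoverOfIsOpenCover (fun z => T.hom ⁻¹ᵁ W (c z))
      (eq_top_iff.mpr fun z _ => TopologicalSpace.Opens.mem_iSup.mpr ⟨z, hc z⟩)) _ _ fun z => ?_)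
    let p : Over.mk ((T.hom ⁻¹ᵁ W (c z)).ι ≫ T.hom) ⟶ T := Over.homMk (T.hom ⁻¹ᵁ W (c z)).ι rfl
    have h1 := hx (c z) p rfl
    rw [Category.assoc, ← MonObj.comp_one p] at h1
    exact congrArg (fun m => m.left) h1
  rw [key, key]
  refine forall_congr' fun i => forall_congr' fun p => imp_congr_right fun _ => h i ?_ (p ≫ x)
  rintro _ ⟨z, rfl⟩
  exact z.2

variable (f)

/-- a kernel type on characters over a basic open of an affine open is a kernel type -/
theorem kerEq_of_affine {A : S.Opens} (hA : IsAffineOpen A) (t : Γ(S, A)) (ΛA : AddSubgroup M)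
    (hΛ : ∀ (D : Type u) [CommRing D] (g : Γ(S, A) →+* D), IsUnit (g t) → ∀ χ : Multiplicative M →* D,
      gpt (idChart S M) (Spec.map (CommRingCat.ofHom g) ≫ hA.fromSpec) χ ≫ f = 1 ↔
        ∀ l ∈ ΛA, χ (Multiplicative.ofAdd l) = 1) :
    KerEq f ΛA ((hA.fromSpec ''ᵁ (PrimeSpectrum.basicOpen t) : S.Opens) : Set S) := by
  let y : Spec (CommRingCat.of Γ(S, A)) ⟶ S := hA.fromSpec
  intro T hT x
  have key : ∀ (D : Type u) [CommRing D] (w : Spec (CommRingCat.of D) ⟶ T.left),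
      (Over.homMk w rfl : Over.mk (w ≫ T.hom) ⟶ T) ≫ x ≫ f = 1 ↔
        (Over.homMk w rfl : Over.mk (w ≫ T.hom) ⟶ T) ≫ x ≫ Red.DSmap S ΛA.subtype = 1 := by
    intro D _ w
    have hr : Set.range (w ≫ T.hom).base ⊆ Set.range hA.fromSpec.base := by
      rintro _ ⟨q, rfl⟩
      obtain ⟨q', -, hq'⟩ := hT ⟨w.base q, rfl⟩
      exact ⟨q', hq'⟩
    obtain ⟨φ, hφ⟩ := Spec.map_surjective (IsOpenImmersion.lift hA.fromSpec (w ≫ T.hom) hr)
    let g : Γ(S, A) →+* D := φ.hom
    have hz : Spec.map (CommRingCat.ofHom g) ≫ y = w ≫ T.hom := by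
      rw [CommRingCat.ofHom_hom, hφ, IsOpenImmersion.lift_fac]
    have hu : IsUnit (g t) := by
      by_contra hnu
      obtain ⟨m, hm, hmem⟩ := exists_max_ideal_of_mem_nonunits (mem_nonunits_iff.mpr hnu)
      let q : Spec (CommRingCat.of D) := (⟨m, hm.isPrime⟩ : PrimeSpectrum D)
      obtain ⟨q', hq't, hq'⟩ := hT ⟨w.base q, rfl⟩
      have h1 : hA.fromSpec.base ((Spec.map φ).base q) = hA.fromSpec.base q' := by
        refine Eq.trans ?_ hq'.symm
        rw [hφ]
        change (IsOpenImmersion.lift hA.fromSpec (w ≫ T.hom) hr ≫ hA.fromSpec).base q = _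
        rw [IsOpenImmersion.lift_fac]
        rfl
      have h2 := hA.fromSpec.isOpenEmbedding.injective h1
      exact hq't (show t ∈ q'.asIdeal from h2 ▸ hmem)
    let τ : Over.mk ((Spec.map (CommRingCat.ofHom g) ≫ y) ≫ 𝟙 S) ⟶ Over.mk (w ≫ T.hom) :=
      Over.homMk (𝟙 _) (by change 𝟙 _ ≫ w ≫ T.hom = _; simp [hz])
    let τ' : Over.mk (w ≫ T.hom) ⟶ Over.mk ((Spec.map (CommRingCat.ofHom g) ≫ y) ≫ 𝟙 S) :=
      Over.homMk (𝟙 _) (by change 𝟙 _ ≫ _ = w ≫ T.hom; simp [hz])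
    have hττ : τ' ≫ τ = 𝟙 _ := Over.OverMorphism.ext (Category.id_comp _)
    have hmove : ∀ {Y : Over S} [GrpObj Y] (h : Red.DS S M ⟶ Y),
        (Over.homMk w rfl : Over.mk (w ≫ T.hom) ⟶ T) ≫ x ≫ h = 1 ↔
          (τ ≫ (Over.homMk w rfl : Over.mk (w ≫ T.hom) ⟶ T) ≫ x) ≫ h = 1 := fun h =>
      ⟨fun e => (Category.assoc _ _ _).trans ((congrArg (τ ≫ ·) ((Category.assoc _ _ _).trans e)).trans
        (MonObj.comp_one τ)), fun e => by
        have := congrArg (τ' ≫ ·) e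
        simpa only [MonObj.comp_one, ← Category.assoc, hττ, Category.id_comp] using this⟩
    rw [hmove, hmove]
    obtain ⟨χ, hχ⟩ := gpt_surjective (idChart S M) (Spec.map (CommRingCat.ofHom g) ≫ y)
      (τ ≫ (Over.homMk w rfl : Over.mk (w ≫ T.hom) ⟶ T) ≫ x)
    rw [← hχ, gpt_comp_subtype_eq_one_iff]
    exact hΛ D g hu χ
  have loc : ∀ {Y : Over S} [GrpObj Y] (h : Red.DS S M ⟶ Y), x ≫ h = 1 ↔
      ∀ j, (Over.homMk ((T.left.affineCover.X j).isoSpec.inv ≫ T.left.affineCover.f j) rfl :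
        Over.mk (((T.left.affineCover.X j).isoSpec.inv ≫ T.left.affineCover.f j) ≫ T.hom) ⟶ T) ≫ x ≫ h = 1 := by
    intro Y _ h
    refine ⟨fun e j => by rw [e, MonObj.comp_one], fun e => ?_⟩
    refine Over.OverMorphism.ext (Scheme.Cover.hom_ext T.left.affineCover _ _ fun j => ?_)
    have h1 := e j
    rw [← MonObj.comp_one (Over.homMk ((T.left.affineCover.X j).isoSpec.inv ≫ T.left.affineCover.f j) rfl :
        Over.mk (((T.left.affineCover.X j).isoSpec.inv ≫ T.left.affineCover.f j) ≫ T.hom) ⟶ T)] at h1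
    have h2 := congrArg (fun m => m.left) h1
    simp only [Over.comp_left, Over.homMk_left, Category.assoc, cancel_epi] at h2
    exact h2
  rw [loc, loc]
  exact forall_congr' fun j => key _ _

/-- near every point the kernel has a fixed type -/
theorem exists_nhd_kerEq [AddGroup.FG M] [IsSeparated X.hom] [LocallyOfFiniteType X.hom] (s : S) :
    ∃ (Λ : AddSubgroup M) (W : S.Opens), s ∈ W ∧ KerEq f Λ (W : Set S) := by
  obtain ⟨A, hA, hsA, -⟩ := exists_isAffineOpen_mem_and_subset (U := (⊤ : S.Opens)) (x := s) trivial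
  let y : Spec (CommRingCat.of Γ(S, A)) ⟶ S := hA.fromSpec
  obtain ⟨p, hp⟩ : s ∈ Set.range hA.fromSpec.base := by rw [hA.range_fromSpec]; exact hsA
  obtain ⟨Λ, t, ht, hΛ⟩ := (dsFam f).exists_away_type (dsFam f).finKer_of_lft y p.asIdeal
  refine ⟨Subgroup.toAddSubgroup' Λ, hA.fromSpec ''ᵁ (PrimeSpectrum.basicOpen t), ⟨p, ht, hp⟩,
    kerEq_of_affine f hA t _ fun D _ g hu χ => ?_⟩
  obtain ⟨hS, hI⟩ := hΛ D g hu
  have h1 : Spec.map (CommRingCat.ofHom (RingHom.id D)) ≫ Spec.map (CommRingCat.ofHom g) ≫ y =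
      Spec.map (CommRingCat.ofHom g) ≫ y := by
    rw [CommRingCat.ofHom_id, Spec.map_id, Category.id_comp]
  constructor
  · intro e l hl
    refine hS D (RingHom.id D) χ ?_ (Multiplicative.ofAdd l) hl
    rw [h1]
    exact e
  · intro e
    have h2 := hI D (RingHom.id D) χ fun l hl => e l.toAdd hl
    rw [h1] at h2
    exact h2

/-- local kernel types glue over clopen sets -/
theorem clopen_of_kerEq {f : Red.DS S M ⟶ X} (Λ : S → AddSubgroup M) (W : S → S.Opens) (hW : ∀ x, x ∈ W x)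
    (hK : ∀ x, KerEq f (Λ x) (W x : Set S)) (s : S) :
    ∃ V : S.Opens, (V : Set S) = ⋃ i : {x : S // Λ x = Λ s}, (W i.1 : Set S) ∧ IsClosed (V : Set S) ∧ s ∈ V ∧
      KerEq f (Λ s) (V : Set S) := by
  let V : S.Opens := ⨆ i : {x : S // Λ x = Λ s}, W i.1
  have hV : (V : Set S) = ⋃ i : {x : S // Λ x = Λ s}, (W i.1 : Set S) := TopologicalSpace.Opens.coe_iSup _
  refine ⟨V, hV, ?_, TopologicalSpace.Opens.mem_iSup.mpr ⟨⟨s, rfl⟩, hW s⟩, ?_⟩
  · rw [← isOpen_compl_iff, isOpen_iff_forall_mem_open]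
    intro x hx
    refine ⟨W x, fun z hz hzV => ?_, (W x).isOpen, hW x⟩
    rw [hV] at hzV hx
    obtain ⟨⟨i, hi⟩, hzi⟩ := Set.mem_iUnion.mp hzV
    have h1 : Λ x = Λ s :=
      (le_antisymm (KerEq.le (hK i) (hK x) hzi hz) (KerEq.le (hK x) (hK i) hz hzi)).trans hi
    exact hx (Set.mem_iUnion.mpr ⟨⟨x, h1⟩, hW x⟩)
  · rw [hV]
    refine kerEq_iUnion _ ?_
    intro i
    have h1 : KerEq f (Λ i.1) (W i.1 : Set S) := hK i.1
    rw [i.2] at h1
    exact @h1

/-- the kernel has a fixed type on a clopen neighbourhood of every point -/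
theorem exists_clopen_kerEq [AddGroup.FG M] [IsSeparated X.hom] [LocallyOfFiniteType X.hom] (s : S) :
    ∃ (Λ : AddSubgroup M) (V : S.Opens), s ∈ V ∧ IsClosed (V : Set S) ∧ KerEq f Λ (V : Set S) := by
  choose Λ W hW hK using exists_nhd_kerEq f
  obtain ⟨V, hV, hVc, hsV, hVK⟩ := clopen_of_kerEq Λ W hW (fun x => hK x) s
  exact ⟨Λ s, V, hsV, hVc, hVK⟩

end Groth.Agent.H21Diag
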