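import Groth.Agent.H21Diag.Chart
import Groth.Agent.H21Diag.Diag

/-!
The locus where a homomorphism out of a group of multiplicative type is trivial.
-/

open CategoryTheory MonoidalCategory CartesianMonoidalCategory MonObj GrpObj AlgebraicGeometry
open CategoryTheory.Limits TopologicalSpace

universe u

namespace Groth.Agent.H21Diag

variable {S : Scheme.{u}} {G X : Over S} [GrpObj G] [GrpObj X] (f : G ⟶ X)

/-- triviality on test objects lying over a point -/
def TrivAt (s : S) : Prop :=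
  (Over.pullback (S.fromSpecResidueField s)).map f = 1

omit [GrpObj G] in
theorem TrivAt.comp_eq_one {s : S} (h : TrivAt f s) {T : Scheme.{u}} {y : T ⟶ S}
    (p : T ⟶ Spec (S.residueField s)) (hp : p ≫ S.fromSpecResidueField s = y) (g : Over.mk y ⟶ G) :
    g ≫ f = 1 :=
  comp_eq_one_of_pullback _ f h p hp g

omit [GrpObj G] in
theorem trivAt_of_forall {s : S}
    (h : ∀ (T : Over (Spec (S.residueField s))) (g : (Over.map (S.fromSpecResidueField s)).obj T ⟶ G),
      g ≫ f = 1) : TrivAt f s := by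
  let i := S.fromSpecResidueField s
  let T := Red.bc i G
  let g₀ := (bcEquiv i G T).symm (𝟙 T)
  have h1 : bcEquiv i X T (g₀ ≫ f) = bcEquiv i G T g₀ ≫ (Over.pullback i).map f :=
    (Over.mapPullbackAdj i).homEquiv_naturality_right g₀ f
  rw [h T g₀, Equiv.apply_symm_apply, Category.id_comp] at h1
  have h2 := bcEquiv_mul i X T 1 1
  rw [_root_.mul_one] at h2
  exact h1.symm.trans (left_eq_mul.mp h2)

variable [IsMonHom f]

theorem eq_one_of_chartTriv {U : Scheme.{u}} {u₀ : U ⟶ S} {M : Type} [AddCommGroup M]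
    (e : Grp.mk (Red.bc u₀ G) ≅ Grp.mk (Red.DS U M)) {B : Type u} [CommRing B]
    (y : Spec (CommRingCat.of B) ⟶ U) (h : ChartTriv e f y) {T : Scheme.{u}}
    (q : T ⟶ Spec (CommRingCat.of B)) (g : Over.mk (q ≫ y ≫ u₀) ⟶ G) : g ≫ f = 1 := by
  refine Over.OverMorphism.ext (Scheme.Cover.hom_ext T.affineCover _ _ fun i => ?_)
  obtain ⟨α, hα⟩ := Spec.map_surjective (T.affineCover.f i ≫ q)
  let t : Over.mk ((Spec.map (CommRingCat.ofHom α.hom) ≫ y) ≫ u₀) ⟶ (Over.mk (q ≫ y ≫ u₀) : Over S) :=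
    Over.homMk (T.affineCover.f i) (by
      simp only [Over.mk_hom, CommRingCat.ofHom_hom, hα, Category.assoc]
      try rfl)
  obtain ⟨χ, hχ⟩ := gpt_surjective e _ (t ≫ g)
  have h1 := h _ α.hom χ
  rw [hχ] at h1
  have h2 : t ≫ g ≫ f = t ≫ 1 := (Category.assoc t g f).symm.trans (h1.trans (MonObj.comp_one t).symm)
  exact congrArg (fun m => m.left) h2

section

variable {U : Scheme.{u}} {u₀ : U ⟶ S} {M : Type} [AddCommGroup M]
  (e : Grp.mk (Red.bc u₀ G) ≅ Grp.mk (Red.DS U M))

omit [IsMonHom f] in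
theorem chartTriv_of_trivAt {s : S} (h : TrivAt f s) {B : Type u} [CommRing B]
    (y : Spec (CommRingCat.of B) ⟶ U) (p : Spec (CommRingCat.of B) ⟶ Spec (S.residueField s))
    (hp : p ≫ S.fromSpecResidueField s = y ≫ u₀) : ChartTriv e f y := by
  intro D _ φ χ
  exact TrivAt.comp_eq_one f h (T := Spec (CommRingCat.of D))
    (y := (Spec.map (CommRingCat.ofHom φ) ≫ y) ≫ u₀) (Spec.map (CommRingCat.ofHom φ) ≫ p)
    (by rw [Category.assoc, hp, Category.assoc]) (gpt e (Spec.map (CommRingCat.ofHom φ) ≫ y) χ)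

theorem trivAt_of_chartTriv {B : Type u} [Field B] (y : Spec (CommRingCat.of B) ⟶ U)
    (h : ChartTriv e f y) : TrivAt f ((y ≫ u₀).base (IsLocalRing.closedPoint B)) := by
  set z := y ≫ u₀
  set s := z.base (IsLocalRing.closedPoint B)
  let d : Spec (CommRingCat.of B) ⟶ Spec (S.residueField s) :=
    Spec.map (Scheme.descResidueField (Scheme.stalkClosedPointTo z))
  have hd : d ≫ S.fromSpecResidueField s = z :=
    Scheme.descResidueField_stalkClosedPointTo_fromSpecResidueField B S z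
  have : Flat d := by
    refine Flat.SpecMap_iff.mpr ?_
    let := (Scheme.descResidueField (Scheme.stalkClosedPointTo z)).hom.toAlgebra
    exact (inferInstance : Module.Flat (S.residueField s) B)
  have : Surjective d := ⟨fun x => ⟨IsLocalRing.closedPoint B, Subsingleton.elim _ _⟩⟩
  refine trivAt_of_forall f fun T g => ?_
  let π := pullback.fst T.hom d
  have : Epi π := Flat.epi_of_flat_of_surjective _
  let t : Over.mk (pullback.snd T.hom d ≫ y ≫ u₀) ⟶ (Over.map (S.fromSpecResidueField s)).obj T :=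
    Over.homMk π (by
      change π ≫ T.hom ≫ S.fromSpecResidueField s = pullback.snd T.hom d ≫ y ≫ u₀
      rw [← Category.assoc, show π ≫ T.hom = pullback.snd T.hom d ≫ d from pullback.condition,
        Category.assoc, hd])
  have h1 := eq_one_of_chartTriv f e y h (pullback.snd T.hom d) (t ≫ g)
  have h2 : t ≫ g ≫ f = t ≫ 1 := (Category.assoc t g f).symm.trans (h1.trans (MonObj.comp_one t).symm)
  refine Over.OverMorphism.ext ((cancel_epi π).mp ?_)
  exact congrArg (fun m => m.left) h2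

variable [IsSeparated X.hom]
  (hfp : LocallyOfFinitePresentation (pullback.fst (pullback.lift f.left (1 : G ⟶ X).left
    (by rw [Over.w, Over.w])) (pullback.diagonal X.hom)))

include hfp in
theorem chart_locus {B : Type u} [CommRing B] (y : Spec (CommRingCat.of B) ⟶ U) :
    IsClopen {p : PrimeSpectrum B | TrivAt f ((y ≫ u₀).base p)} ∧
      ((∀ p : PrimeSpectrum B, TrivAt f ((y ≫ u₀).base p)) → ChartTriv e f y) := by
  obtain ⟨c, hc, hnak⟩ := exists_clopen_ideal e f hfp y
  have hset : ∀ p : PrimeSpectrum B, TrivAt f ((y ≫ u₀).base p) ↔ c ≤ p.asIdeal := by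
    intro p
    let φ := algebraMap B p.asIdeal.ResidueField
    have hpt : ((Spec.map (CommRingCat.ofHom φ) ≫ y) ≫ u₀).base (IsLocalRing.closedPoint p.asIdeal.ResidueField) =
        (y ≫ u₀).base p := by
      change (y ≫ u₀).base ((Spec.map (CommRingCat.ofHom φ)).base
        (IsLocalRing.closedPoint p.asIdeal.ResidueField)) = (y ≫ u₀).base p
      refine congrArg _ (PrimeSpectrum.ext ?_)
      change (IsLocalRing.maximalIdeal p.asIdeal.ResidueField).comap φ = p.asIdeal
      rw [IsLocalRing.maximalIdeal_eq_bot]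
      exact p.asIdeal.ker_algebraMap_residueField
    have hker : RingHom.ker φ = p.asIdeal := p.asIdeal.ker_algebraMap_residueField
    refine Iff.trans ?_ ((hc _ φ).trans (iff_of_eq (congrArg (c ≤ ·) hker)))
    rw [← hpt]
    refine ⟨fun h => ?_, trivAt_of_chartTriv f e _⟩
    refine chartTriv_of_trivAt f e h _ (Spec.map (Scheme.descResidueField (Scheme.stalkClosedPointTo
      ((Spec.map (CommRingCat.ofHom φ) ≫ y) ≫ u₀)))) ?_
    exact Scheme.descResidueField_stalkClosedPointTo_fromSpecResidueField _ S _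
  refine ⟨?_, fun h => ?_⟩
  · rw [show {p : PrimeSpectrum B | TrivAt f ((y ≫ u₀).base p)} = PrimeSpectrum.zeroLocus (c : Set B) from
      Set.ext fun p => (hset p).trans (PrimeSpectrum.mem_zeroLocus _ _).symm]
    refine ⟨PrimeSpectrum.isClosed_zeroLocus _, isOpen_iff_forall_mem_open.mpr fun p hp => ?_⟩
    obtain ⟨r, hr, hr'⟩ := hnak p.asIdeal p.isPrime hp
    refine ⟨PrimeSpectrum.basicOpen r, fun q hq t ht => ?_, (PrimeSpectrum.basicOpen r).isOpen, hr⟩
    have : r * t ∈ q.asIdeal := by rw [hr' t ht]; exact zero_mem _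
    exact (q.isPrime.mem_or_mem this).resolve_left hq
  · have hc0 : c ≤ RingHom.ker (RingHom.id B) := by
      intro t ht
      rw [RingHom.mem_ker, RingHom.id_apply]
      by_contra hne
      obtain ⟨m, hm, hle⟩ := Ideal.exists_le_maximal (Submodule.annihilator (Ideal.span {t})) (fun htop => hne (by
        have h1 := Submodule.mem_annihilator.mp (htop ▸ Submodule.mem_top (x := (1 : B))) t
          (Ideal.mem_span_singleton_self t)
        rwa [smul_eq_mul, _root_.one_mul] at h1))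
      obtain ⟨r, hr, hr'⟩ := hnak m hm.isPrime ((hset ⟨m, hm.isPrime⟩).mp (h _))
      refine hr (hle (Submodule.mem_annihilator.mpr fun n hn => ?_))
      obtain ⟨d, rfl⟩ := Ideal.mem_span_singleton'.mp hn
      rw [smul_eq_mul, mul_left_comm, hr' t ht, mul_zero]
    have h1 := (hc B (RingHom.id B)).mpr hc0
    rwa [CommRingCat.ofHom_id, Spec.map_id, Category.id_comp] at h1

end

variable [IsSeparated X.hom]

/-- the trivial locus is open and closed and triviality holds over it -/
theorem exists_trivial_locus (hG : SGA3x.IsMultTypeFT G)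
    (hfp : LocallyOfFinitePresentation (pullback.fst (pullback.lift f.left (1 : G ⟶ X).left
      (by rw [Over.w, Over.w])) (pullback.diagonal X.hom))) :
    ∃ U : S.Opens, IsClosed (U : Set S) ∧ (∀ s : S, s ∈ U ↔ TrivAt f s) ∧
      (Over.pullback U.ι).map f = 1 := by
  obtain ⟨S', g, hg, hs, hqc, hloc⟩ := hG
  have hclopen : ∀ W : S'.Opens, IsClopen {w : W | TrivAt f ((W.ι ≫ g).base w)} := by
    intro W
    have hopen : ∀ (Q : Set S), (∀ (s' : S') (hs' : g.base s' ∈ Q), ∃ N : Set S', IsOpen N ∧ s' ∈ N ∧ N ⊆ g.base ⁻¹' Q) →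
        IsOpen {w : W | (W.ι ≫ g).base w ∈ Q} := by
      intro Q hQ
      have : IsOpen (g.base ⁻¹' Q) := isOpen_iff_forall_mem_open.mpr fun x hx => by
        obtain ⟨N, h1, h2, h3⟩ := hQ x hx; exact ⟨N, h3, h1, h2⟩
      exact this.preimage W.ι.base.hom.continuous
    have hloc' : ∀ s' : S', ∃ N : Set S', IsOpen N ∧ s' ∈ N ∧
        ∀ x ∈ N, TrivAt f (g.base x) ↔ TrivAt f (g.base s') := by
      intro s'
      obtain ⟨U', hU', M, _, -, ⟨e⟩⟩ := hloc s'
      obtain ⟨A, hA, hsA, hAU⟩ := exists_isAffineOpen_mem_and_subset (U := U') (x := s') hU'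
      have hr : Set.range hA.fromSpec.base ⊆ Set.range U'.ι.base := by
        rw [hA.range_fromSpec, Scheme.Opens.range_ι]; exact hAU
      let y := IsOpenImmersion.lift U'.ι hA.fromSpec hr
      have hy : ∀ p, (y ≫ U'.ι ≫ g).base p = g.base (hA.fromSpec.base p) := by
        intro p
        rw [← Category.assoc, IsOpenImmersion.lift_fac, Scheme.Hom.comp_apply]
      obtain ⟨hcl, -⟩ := chart_locus f e hfp y
      rw [show {p : PrimeSpectrum Γ(S', A) | TrivAt f ((y ≫ U'.ι ≫ g).base p)} =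
        {p : PrimeSpectrum Γ(S', A) | TrivAt f (g.base (hA.fromSpec.base p))} from
          Set.ext fun p => iff_of_eq (congrArg (TrivAt f) (hy p))] at hcl
      obtain ⟨p₀, hp₀⟩ : s' ∈ Set.range hA.fromSpec.base := by rw [hA.range_fromSpec]; exact hsA
      by_cases h : TrivAt f (g.base s')
      · refine ⟨hA.fromSpec.base '' {p | TrivAt f (g.base (hA.fromSpec.base p))},
          hA.fromSpec.isOpenEmbedding.isOpenMap _ hcl.2, ⟨p₀, by rw [Set.mem_ofPred_eq, hp₀]; exact h, hp₀⟩, ?_⟩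
        rintro _ ⟨q, hq, rfl⟩
        exact iff_of_true hq h
      · refine ⟨hA.fromSpec.base '' {p | TrivAt f (g.base (hA.fromSpec.base p))}ᶜ,
          hA.fromSpec.isOpenEmbedding.isOpenMap _ hcl.1.isOpen_compl, ⟨p₀, by rw [Set.mem_compl_iff, Set.mem_ofPred_eq, hp₀]; exact h, hp₀⟩, ?_⟩
        rintro _ ⟨q, hq, rfl⟩
        exact iff_of_false hq h
    refine ⟨isOpen_compl_iff.mp (hopen {s | ¬ TrivAt f s} fun s' hs' => ?_), hopen {s | TrivAt f s} fun s' hs' => ?_⟩
    · obtain ⟨N, h1, h2, h3⟩ := hloc' s'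
      exact ⟨N, h1, h2, fun x hx hx' => hs' ((h3 x hx).mp hx')⟩
    · obtain ⟨N, h1, h2, h3⟩ := hloc' s'
      exact ⟨N, h1, h2, fun x hx => (h3 x hx).mpr hs'⟩
  have hopenBoth : IsOpen {s | TrivAt f s} ∧ IsOpen {s | ¬ TrivAt f s} := by
    have key : ∀ s : S, ∃ N : Set S, IsOpen N ∧ s ∈ N ∧ ∀ x ∈ N, TrivAt f x ↔ TrivAt f s := by
      intro s
      obtain ⟨V, hV, hsV, -⟩ := exists_isAffineOpen_mem_and_subset (U := ⊤) (x := s) (Set.mem_univ _)
      obtain ⟨W, hWc, hWV⟩ := hqc V hV
      have hle : W ≤ g ⁻¹ᵁ V := fun w hw => by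
        change g.base w ∈ (V : Set S)
        rw [← hWV]; exact ⟨w, hw, rfl⟩
      let gW := g.resLE V W hle
      have hgW : gW ≫ V.ι = W.ι ≫ g := Scheme.Hom.resLE_comp_ι _ _
      have : Flat gW := by
        change Flat (g.resLE V W hle)
        infer_instance
      have : Surjective gW := ⟨fun v => by
        obtain ⟨w, hw, hwv⟩ : V.ι.base v ∈ g.base '' (W : Set S') := by rw [hWV]; exact Subtype.property v
        refine ⟨⟨w, hw⟩, V.ι.isOpenEmbedding.injective ?_⟩
        exact (congrArg (fun z : (W : Scheme.{u}) ⟶ S => z.base ⟨w, hw⟩) hgW).trans hwv⟩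
      have : CompactSpace W := isCompact_iff_compactSpace.mp hWc
      have : IsAffine V := hV
      have : QuasiCompact gW := inferInstance
      have hq := Flat.isQuotientMap_of_surjective gW
      have hmap : ∀ w : W, (V.ι).base (gW.base w) = (W.ι ≫ g).base w := fun w =>
        congrArg (fun z : (W : Scheme.{u}) ⟶ S => z.base w) hgW
      by_cases h : TrivAt f s
      · refine ⟨V.ι.base '' {v | TrivAt f (V.ι.base v)}, V.ι.isOpenEmbedding.isOpenMap _
          (hq.isOpen_preimage.mp ?_), ⟨⟨s, hsV⟩, h, rfl⟩, ?_⟩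
        · have he : gW.base ⁻¹' {v | TrivAt f (V.ι.base v)} = {w : W | TrivAt f ((W.ι ≫ g).base w)} :=
            Set.ext fun w => iff_of_eq (congrArg (TrivAt f) (hmap w))
          exact he ▸ (hclopen W).2
        · rintro _ ⟨q, hq, rfl⟩; exact iff_of_true hq h
      · refine ⟨V.ι.base '' {v | ¬ TrivAt f (V.ι.base v)}, V.ι.isOpenEmbedding.isOpenMap _
          (hq.isOpen_preimage.mp ?_), ⟨⟨s, hsV⟩, h, rfl⟩, ?_⟩
        · have he : gW.base ⁻¹' {v | ¬ TrivAt f (V.ι.base v)} = {w : W | TrivAt f ((W.ι ≫ g).base w)}ᶜ :=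
            Set.ext fun w => iff_of_eq (congrArg (fun x => ¬ TrivAt f x) (hmap w))
          exact he ▸ (hclopen W).1.isOpen_compl
        · rintro _ ⟨q, hq, rfl⟩; exact iff_of_false hq h
    constructor <;> refine isOpen_iff_forall_mem_open.mpr fun s hs' => ?_
    · obtain ⟨N, h1, h2, h3⟩ := key s
      exact ⟨N, fun x hx => (h3 x hx).mpr hs', h1, h2⟩
    · obtain ⟨N, h1, h2, h3⟩ := key s
      exact ⟨N, fun x hx hx' => hs' ((h3 x hx).mp hx'), h1, h2⟩
  let U : S.Opens := ⟨{s | TrivAt f s}, hopenBoth.1⟩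
  refine ⟨U, ⟨hopenBoth.2⟩, fun s => Iff.rfl, ?_⟩
  let T := Red.bc U.ι G
  let g₀ := (bcEquiv U.ι G T).symm (𝟙 T)
  have hone : g₀ ≫ f = 1 := by
    refine Over.OverMorphism.ext ?_
    let Y := ((Over.map U.ι).obj T)
    have : Epi (pullback.fst Y.hom g) := Flat.epi_of_flat_of_surjective _
    rw [← cancel_epi (pullback.fst Y.hom g)]
    set π := pullback.fst Y.hom g
    set τ := pullback.snd Y.hom g
    have key : ∀ z : ↥(pullback Y.hom g), ∃ (W : (pullback Y.hom g).Opens), z ∈ W ∧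
        W.ι ≫ π ≫ (g₀ ≫ f).left = W.ι ≫ π ≫ (1 : Y ⟶ X).left := by
      intro z
      obtain ⟨U', hzU, M, _, -, ⟨e⟩⟩ := hloc (τ.base z)
      obtain ⟨W, hW, hzW, hWsub⟩ := exists_isAffineOpen_mem_and_subset (U := τ ⁻¹ᵁ U') (x := z) hzU
      refine ⟨W, hzW, ?_⟩
      rw [← cancel_epi hW.isoSpec.inv, IsAffineOpen.isoSpec_inv_ι_assoc, IsAffineOpen.isoSpec_inv_ι_assoc]
      let B := Γ(pullback Y.hom g, W)
      let w : Spec (CommRingCat.of B) ⟶ pullback Y.hom g := hW.fromSpec
      change w ≫ π ≫ _ = w ≫ π ≫ _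
      have hrU : Set.range (w ≫ τ).base ⊆ Set.range U'.ι.base := by
        rintro _ ⟨p, rfl⟩
        rw [Scheme.Opens.range_ι]
        exact hWsub (hW.range_fromSpec.subset ⟨p, rfl⟩)
      let y : Spec (CommRingCat.of B) ⟶ (U' : Scheme.{u}) := IsOpenImmersion.lift U'.ι (w ≫ τ) hrU
      have hy : w ≫ π ≫ Y.hom = y ≫ U'.ι ≫ g := by
        rw [← Category.assoc y, IsOpenImmersion.lift_fac, Category.assoc, pullback.condition]
      have hall : ∀ p : PrimeSpectrum B, TrivAt f ((y ≫ U'.ι ≫ g).base p) := by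
        intro p
        have h1 : (w ≫ π ≫ Y.hom).base p = U.ι.base (T.hom.base ((w ≫ π).base p)) := rfl
        rw [← hy, h1]
        exact (T.hom.base ((w ≫ π).base p)).2
      have hct := (chart_locus f e hfp y).2 hall
      let t : Over.mk (𝟙 _ ≫ y ≫ U'.ι ≫ g) ⟶ Y := Over.homMk (w ≫ π) (by
        simp only [Over.mk_hom, Category.id_comp, Category.assoc, hy])
      have h1 := eq_one_of_chartTriv f e y hct (𝟙 _) (t ≫ g₀)
      have h2 : t ≫ g₀ ≫ f = t ≫ 1 := (Category.assoc t g₀ f).symm.trans (h1.trans (MonObj.comp_one t).symm)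
      rw [← Category.assoc, ← Category.assoc]
      exact congrArg (fun m => m.left) h2
    choose W hW h' using key
    refine Scheme.Cover.hom_ext ((pullback Y.hom g).openCoverOfIsOpenCover W
      (eq_top_iff.mpr fun z _ => TopologicalSpace.Opens.mem_iSup.mpr ⟨z, hW z⟩)) _ _ fun z => ?_
    exact h' z
  have h1 : bcEquiv U.ι X T (g₀ ≫ f) = bcEquiv U.ι G T g₀ ≫ (Over.pullback U.ι).map f :=
    (Over.mapPullbackAdj U.ι).homEquiv_naturality_right g₀ f
  rw [hone, Equiv.apply_symm_apply, Category.id_comp] at h1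
  have h2 := bcEquiv_mul U.ι X T 1 1
  rw [_root_.mul_one] at h2
  exact h1.symm.trans (left_eq_mul.mp h2)

end Groth.Agent.H21Diag
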