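import Groth.Agent.S4101
import Groth.Agent.S4599
import Groth.Agent.H21Diag.TransporterSub

/-!
Loci cut out by conditions on all points of a scheme which is finite, flat and of finite presentation.
-/

open CategoryTheory MonoidalCategory CartesianMonoidalCategory MonObj GrpObj AlgebraicGeometry
open CategoryTheory.Limits

universe u

set_option backward.isDefEq.respectTransparency false

namespace Groth.Agent.H21Diag

/-- finite flat schemes of finite presentation are essentially free -/
theorem isEssentiallyFree_of_finite {S Z : Scheme.{u}} (f : Z ⟶ S) [IsFinite f] [Flat f]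
    [LocallyOfFinitePresentation f] : SGA3x.IsEssentiallyFree f := by
  intro s
  obtain ⟨U, hU, hsU, -⟩ := exists_isAffineOpen_mem_and_subset (U := ⊤) (x := s) (Set.mem_univ _)
  have : IsAffine (U : Scheme.{u}) := hU
  refine ⟨U, hsU, hU, U, hU, 𝟙 _, inferInstance, inferInstance, fun x => ⟨⊤, trivial, ?_, ?_⟩⟩
  · have : IsAffine (pullback f (𝟙 (U : Scheme.{u}) ≫ U.ι)) :=
      isAffine_of_isAffineHom (pullback.snd f (𝟙 (U : Scheme.{u}) ≫ U.ι))
    exact isAffineOpen_top _
  · let v := (⊤ : (pullback f (𝟙 (U : Scheme.{u}) ≫ U.ι)).Opens).ι ≫ pullback.snd f (𝟙 (U : Scheme.{u}) ≫ U.ι)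
    have : IsAffine (pullback f (𝟙 (U : Scheme.{u}) ≫ U.ι)) :=
      isAffine_of_isAffineHom (pullback.snd f (𝟙 (U : Scheme.{u}) ≫ U.ι))
    have : IsAffine ((⊤ : (pullback f (𝟙 (U : Scheme.{u}) ≫ U.ι)).Opens) : Scheme.{u}) := isAffineOpen_top _
    have : IsIso (⊤ : (pullback f (𝟙 (U : Scheme.{u}) ≫ U.ι)).Opens).ι :=
      ⟨(Scheme.topIso _).inv, (Scheme.topIso _).hom_inv_id, (Scheme.topIso _).inv_hom_id⟩
    have hfin : IsFinite v := inferInstance
    have hflat : Flat v := inferInstance
    have hfp : LocallyOfFinitePresentation v := inferInstance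
    letI := v.appTop.hom.toAlgebra
    have h1 : v.appTop.hom.Flat := HasRingHomProperty.appTop (P := @Flat) v hflat
    have h2 : v.appTop.hom.FinitePresentation := HasRingHomProperty.appTop (P := @LocallyOfFinitePresentation) v hfp
    have h3 : v.appTop.hom.Finite := (HasAffineProperty.iff_of_isAffine (P := @IsFinite)).mp hfin |>.2
    have : Module.Flat Γ((U : Scheme.{u}), ⊤) Γ(((⊤ : (pullback f (𝟙 (U : Scheme.{u}) ≫ U.ι)).Opens) : Scheme.{u}), ⊤) := h1
    have : Algebra.FinitePresentation Γ((U : Scheme.{u}), ⊤) Γ(((⊤ : (pullback f (𝟙 (U : Scheme.{u}) ≫ U.ι)).Opens) : Scheme.{u}), ⊤) := h2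
    have : Module.Finite Γ((U : Scheme.{u}), ⊤) Γ(((⊤ : (pullback f (𝟙 (U : Scheme.{u}) ≫ U.ι)).Opens) : Scheme.{u}), ⊤) := h3
    have := Module.FinitePresentation.of_finite_of_finitePresentation Γ((U : Scheme.{u}), ⊤)
      Γ(((⊤ : (pullback f (𝟙 (U : Scheme.{u}) ≫ U.ι)).Opens) : Scheme.{u}), ⊤)
    exact Module.Flat.projective_of_finitePresentation

/-- the points over which a family of points lands in a closed subscheme -/
theorem exists_preimage_finite {S : Scheme.{u}} {Y T W : Over S} [IsFinite Y.hom] [Flat Y.hom]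
    [LocallyOfFinitePresentation Y.hom] (ψ : Y ⊗ T ⟶ W) {K : Scheme.{u}} (κ₀ : K ⟶ W.left) [IsClosedImmersion κ₀] :
    ∃ (Z : Over S) (j : Z ⟶ T), IsClosedImmersion j.left ∧
      (LocallyOfFinitePresentation κ₀ → LocallyOfFinitePresentation j.left) ∧
      ∀ (X : Over S) (g : X ⟶ T), (∃ z : X ⟶ Z, z ≫ j = g) ↔
        ∀ (X' : Over S) (x : X' ⟶ X) (h : X' ⟶ Y), ∃ k, k ≫ κ₀ = (lift h (x ≫ g) ≫ ψ).left := by
  let f : (Y ⊗ T).left ⟶ T.left := pullback.snd Y.hom T.hom
  have : IsFinite f := MorphismProperty.pullback_snd (P := @IsFinite) _ _ inferInstance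
  have : Flat f := MorphismProperty.pullback_snd (P := @Flat) _ _ inferInstance
  have : LocallyOfFinitePresentation f :=
    MorphismProperty.pullback_snd (P := @LocallyOfFinitePresentation) _ _ inferInstance
  let j₀ := pullback.fst ψ.left κ₀
  obtain ⟨Z, t, ht, hiff, hfp⟩ := Groth.Agent.S4101.result T.left (Y ⊗ T).left _ f
    (isEssentiallyFree_of_finite f) j₀
  refine ⟨Over.mk (t ≫ T.hom), Over.homMk t, ht, fun h => hfp inferInstance inferInstance, fun X g => ?_⟩
  have key : (∃ z : X.left ⟶ Z, z ≫ t = g.left) ↔ ∃ z : X ⟶ Over.mk (t ≫ T.hom), z ≫ Over.homMk t = g :=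
    ⟨fun ⟨z, hz⟩ => ⟨Over.homMk z (by change z ≫ t ≫ T.hom = X.hom; rw [← Category.assoc, hz]; exact Over.w g),
      Over.OverMorphism.ext hz⟩, fun ⟨z, hz⟩ => ⟨z.left, congrArg (fun m => m.left) hz⟩⟩
  rw [← key, hiff]
  constructor
  · intro h X' x y
    let a : X'.left ⟶ (Y ⊗ T).left := (lift y (x ≫ g)).left
    let b : X'.left ⟶ pullback f g.left :=
      pullback.lift a x.left (congrArg (fun m => m.left) (lift_snd y (x ≫ g)))
    refine ⟨b ≫ inv (pullback.snd j₀ (pullback.fst f g.left)) ≫ pullback.fst j₀ _ ≫ pullback.snd ψ.left κ₀, ?_⟩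
    simp only [Category.assoc]
    rw [← pullback.condition (f := ψ.left) (g := κ₀), ← Category.assoc (pullback.fst j₀ _),
      pullback.condition (f := j₀), Category.assoc, IsIso.inv_hom_id_assoc, ← Category.assoc, pullback.lift_fst]
    rfl
  · intro h
    let P := pullback f g.left
    let X' : Over S := Over.mk (pullback.snd f g.left ≫ X.hom)
    let x : X' ⟶ X := Over.homMk (pullback.snd f g.left) rfl
    let a' : X' ⟶ Y ⊗ T := Over.homMk (pullback.fst f g.left) (by
      change pullback.fst f g.left ≫ pullback.fst Y.hom T.hom ≫ Y.hom = pullback.snd f g.left ≫ X.hom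
      rw [pullback.condition (f := Y.hom) (g := T.hom), ← Over.w g]
      exact (Category.assoc _ _ _).symm.trans
        ((congrArg (· ≫ T.hom) (pullback.condition (f := f) (g := g.left))).trans (Category.assoc _ _ _)))
    obtain ⟨k, hk⟩ := h X' x (a' ≫ fst Y T)
    have e : lift (a' ≫ fst Y T) (x ≫ g) = a' := by
      rw [show x ≫ g = a' ≫ snd Y T from Over.OverMorphism.ext (pullback.condition (f := f) (g := g.left)).symm,
        ← comp_lift, lift_fst_snd, Category.comp_id]
    rw [e] at hk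
    let c : P ⟶ pullback j₀ (pullback.fst f g.left) :=
      pullback.lift (pullback.lift (pullback.fst f g.left) k hk.symm) (𝟙 _) (by
        rw [Category.id_comp]; exact pullback.lift_fst _ _ _)
    refine ⟨c, ?_, pullback.lift_snd _ _ _⟩
    rw [← cancel_mono (pullback.snd j₀ (pullback.fst f g.left)), Category.assoc, pullback.lift_snd,
      Category.comp_id, Category.id_comp]

/-- the points over which two families of points agree -/
theorem exists_equalizer_finite {S : Scheme.{u}} {Y T W : Over S} [IsFinite Y.hom] [Flat Y.hom]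
    [LocallyOfFinitePresentation Y.hom] [IsSeparated W.hom] (φ ψ : Y ⊗ T ⟶ W) :
    ∃ (Z : Over S) (j : Z ⟶ T), IsClosedImmersion j.left ∧
      (LocallyOfFiniteType W.hom → LocallyOfFinitePresentation j.left) ∧
      ∀ (X : Over S) (g : X ⟶ T), (∃ z : X ⟶ Z, z ≫ j = g) ↔
        ∀ (X' : Over S) (x : X' ⟶ X) (h : X' ⟶ Y), lift h (x ≫ g) ≫ φ = lift h (x ≫ g) ≫ ψ := by
  obtain ⟨Z, j, hj, hjfp, hiff⟩ := exists_preimage_finite (lift φ ψ) (pullback.diagonal W.hom)
  refine ⟨Z, j, hj, fun _ => hjfp (Groth.Agent.S4599.result W.hom),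
    fun X g => (hiff X g).trans ⟨fun h X' x y => ?_, fun h X' x y => ?_⟩⟩
  · obtain ⟨k, hk⟩ := h X' x y
    let q := lift y (x ≫ g)
    have h1 : (q ≫ lift φ ψ).left ≫ pullback.fst W.hom W.hom = (q ≫ φ).left := by
      have := congrArg (fun m => m.left) (Category.assoc q (lift φ ψ) (fst W W))
      rw [lift_fst] at this
      exact this
    have h2 : (q ≫ lift φ ψ).left ≫ pullback.snd W.hom W.hom = (q ≫ ψ).left := by
      have := congrArg (fun m => m.left) (Category.assoc q (lift φ ψ) (snd W W))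
      rw [lift_snd] at this
      exact this
    rw [← hk, Category.assoc, pullback.diagonal_fst, Category.comp_id] at h1
    rw [← hk, Category.assoc, pullback.diagonal_snd, Category.comp_id] at h2
    exact Over.OverMorphism.ext (h1.symm.trans h2)
  · let q := lift y (x ≫ g)
    refine ⟨(q ≫ φ).left, ?_⟩
    have h1 : q ≫ lift φ ψ = (q ≫ φ) ≫ lift (𝟙 W) (𝟙 W) := by
      rw [comp_lift, comp_lift, Category.comp_id]
      exact congrArg (lift (q ≫ φ)) (h X' x y).symm
    rw [h1, Over.comp_left]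
    congr 1

end Groth.Agent.H21Diag
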