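import Groth.Agent.H21Diag.Rigid
import Groth.Prelude.Def_TwC

/-!
An action of a group of multiplicative type which is trivial modulo a nilpotent ideal is trivial.
-/

open CategoryTheory MonoidalCategory CartesianMonoidalCategory MonObj GrpObj AlgebraicGeometry
open CategoryTheory.Limits

universe u

namespace Groth.Agent.H21Diag

/-- two morphisms out of `Spec B` agree if they agree near every point -/
theorem spec_hom_ext {Z : Scheme.{u}} {B : Type u} [CommRing B] (f g : Spec (CommRingCat.of B) ⟶ Z)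
    (h : ∀ z : PrimeSpectrum B, ∃ b : B, b ∉ z.asIdeal ∧
      Spec.map (CommRingCat.ofHom (algebraMap B (Localization.Away b))) ≫ f =
        Spec.map (CommRingCat.ofHom (algebraMap B (Localization.Away b))) ≫ g) : f = g := by
  choose b hb heq using h
  have hs : Ideal.span (Set.range b) = ⊤ := by
    by_contra hne
    obtain ⟨m, hm, hle⟩ := Ideal.exists_le_maximal _ hne
    exact hb ⟨m, hm.isPrime⟩ (hle (Ideal.subset_span (Set.mem_range_self _)))
  exact Scheme.Cover.hom_ext (Scheme.affineOpenCoverOfSpanRangeEqTop (R := CommRingCat.of B) b hs).openCover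
    f g heq

variable {S U : Scheme.{u}} {u₀ : U ⟶ S} {G X : Over S} [GrpObj G] {M : Type} [AddCommGroup M]
  {e : Grp.mk (Red.bc u₀ G) ≅ Grp.mk (Red.DS U M)} {a : AlgGrp.Action G X}

theorem step {B : Type u} [CommRing B] {y : Spec (CommRingCat.of B) ⟶ U} {J : Ideal B}
    (hJ : J * J = ⊥) (htriv : Triv e a y J) (χ : Multiplicative M →* B)
    (x : Spec (CommRingCat.of B) ⟶ X.left) (hx : x ≫ X.hom = y ≫ u₀) :
    act e a y χ x hx = x := by
  refine spec_hom_ext _ _ fun z => ?_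
  obtain ⟨V, hV, hzV, -⟩ := exists_isAffineOpen_mem_and_subset (U := ⊤) (x := X.hom.base (x.base z))
    (Set.mem_univ _)
  obtain ⟨W, hW, hzW, hWV⟩ := exists_isAffineOpen_mem_and_subset (U := X.hom ⁻¹ᵁ V) (x := x.base z) hzV
  obtain ⟨_, ⟨_, ⟨b, rfl⟩, rfl⟩, hzb, hbW⟩ :=
    PrimeSpectrum.isBasis_basic_opens.exists_subset_of_mem_open (show z ∈ x.base ⁻¹' W from hzW)
      (W.isOpen.preimage x.base.hom.continuous)
  refine ⟨b, hzb, ?_⟩
  set φ := algebraMap B (Localization.Away b)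
  -- the affine pieces
  have hr : Set.range (Spec.map (CommRingCat.ofHom φ) ≫ x).base ⊆ Set.range hW.fromSpec.base := by
    rintro _ ⟨w, rfl⟩
    rw [hW.range_fromSpec]
    have hw : (Spec.map (CommRingCat.ofHom φ)).base w ∈ (PrimeSpectrum.basicOpen b : Set (PrimeSpectrum B)) := by
      rw [← PrimeSpectrum.localization_away_comap_range (Localization.Away b) b]
      exact ⟨w, rfl⟩
    exact hbW hw
  obtain ⟨α, hα⟩ := Spec.map_surjective (IsOpenImmersion.lift hW.fromSpec _ hr)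
  have hα' : Spec.map (CommRingCat.ofHom α.hom) ≫ hW.fromSpec = Spec.map (CommRingCat.ofHom φ) ≫ x := by
    rw [CommRingCat.ofHom_hom, hα, IsOpenImmersion.lift_fac]
  have hk : hW.fromSpec ≫ X.hom =
      Spec.map (CommRingCat.ofHom (X.hom.appLE V W hWV).hom) ≫ hV.fromSpec := by
    rw [CommRingCat.ofHom_hom]
    exact (hV.SpecMap_appLE_fromSpec X.hom hW hWV).symm
  have hxb : (Spec.map (CommRingCat.ofHom α.hom) ≫ hW.fromSpec) ≫ X.hom =
      (Spec.map (CommRingCat.ofHom φ) ≫ y) ≫ u₀ := by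
    rw [hα', Category.assoc, hx, Category.assoc]
  have h := step_affine (e := e) (a := a) (J := J.map φ) (by rw [← Ideal.map_mul, hJ, Ideal.map_bot])
    (htriv.map φ) hW.fromSpec hV.fromSpec _ hk α.hom (φ.toMonoidHom.comp χ) hxb
  rw [act_comp]
  exact ((act_congr e a rfl rfl hα'.symm).trans h).trans hα'

theorem triv_bot_of_pow : ∀ (n : ℕ) {B : Type u} [CommRing B] (y : Spec (CommRingCat.of B) ⟶ U)
    (J : Ideal B), J ^ 2 ^ n = ⊥ → Triv e a y J → Triv e a y ⊥ := by
  intro n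
  induction n with
  | zero =>
    intro B _ y J hJ h
    rw [pow_zero, pow_one] at hJ
    rwa [hJ] at h
  | succ n ih =>
    intro B _ y J hJ h
    have hI : Triv e a y (J ^ 2 ^ n) := by
      intro B' _ φ hφ χ x hx
      have h' := ih (Spec.map (CommRingCat.ofHom φ) ≫ y) (J.map φ) (by rw [← Ideal.map_pow, hφ]) (h.map φ)
      have e1 : Spec.map (CommRingCat.ofHom (RingHom.id B')) ≫ Spec.map (CommRingCat.ofHom φ) ≫ y =
          Spec.map (CommRingCat.ofHom φ) ≫ y := by
        rw [CommRingCat.ofHom_id, Spec.map_id, Category.id_comp]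
      exact (act_congr e a e1.symm rfl rfl).trans
        (h' B' (RingHom.id B') Ideal.map_bot χ x (by rw [e1]; exact hx))
    intro B' _ φ _ χ x hx
    refine step ?_ (hI.map φ) χ x hx
    rw [← Ideal.map_mul, ← pow_add, ← two_mul, ← pow_succ', hJ, Ideal.map_bot]

/-- an action trivial modulo a nilpotent ideal is trivial on points over `U` -/
theorem act_eq_self {B : Type u} [CommRing B] {y : Spec (CommRingCat.of B) ⟶ U} {J : Ideal B}
    (hJ : IsNilpotent J) (htriv : Triv e a y J) (χ : Multiplicative M →* B)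
    (x : Spec (CommRingCat.of B) ⟶ X.left) (hx : x ≫ X.hom = y ≫ u₀) :
    act e a y χ x hx = x := by
  obtain ⟨n, hn⟩ := hJ
  have h := triv_bot_of_pow n y J (bot_unique ((Ideal.pow_le_pow_right Nat.lt_two_pow_self.le).trans
    hn.le)) htriv
  have e1 : Spec.map (CommRingCat.ofHom (RingHom.id B)) ≫ y = y := by
    rw [CommRingCat.ofHom_id, Spec.map_id, Category.id_comp]
  exact (act_congr e a e1.symm rfl rfl).trans (h B (RingHom.id B) Ideal.map_bot χ x (by rw [e1]; exact hx))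

omit [GrpObj G] in
/-- a morphism from an affine scheme killing the ideal of a closed immersion lifts -/
theorem exists_lift_closed {S₀ : Scheme.{u}} (i₀ : S₀ ⟶ S) [IsClosedImmersion i₀] (V : S.affineOpens)
    {B : Type u} [CommRing B] (ψ : Γ(S, V) →+* B) (hψ : (i₀.ker.ideal V).map ψ = ⊥) :
    ∃ p : Spec (CommRingCat.of B) ⟶ S₀,
      p ≫ i₀ = Spec.map (CommRingCat.ofHom ψ) ≫ V.2.fromSpec := by
  let l : Γ(S, V) ⧸ i₀.ker.ideal V →+* B := Ideal.Quotient.lift _ ψ fun r hr => by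
    rw [← Ideal.mem_bot, ← hψ]; exact Ideal.mem_map_of_mem ψ hr
  refine ⟨(Spec.map (CommRingCat.ofHom l) ≫ i₀.ker.subschemeCover.f V) ≫ inv i₀.toImage, ?_⟩
  have h1 : inv i₀.toImage ≫ i₀ = i₀.ker.subschemeι := by
    rw [IsIso.inv_comp_eq]; exact i₀.toImage_imageι.symm
  rw [Category.assoc, h1]
  exact (Category.assoc _ _ _).trans ((congrArg (Spec.map (CommRingCat.ofHom l) ≫ ·)
    ((Scheme.IdealSheafData.subschemeCover_map_subschemeι i₀.ker V).trans
      (Scheme.IdealSheafData.glueDataObjι_ι i₀.ker V))).trans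
        (specMap_comp_assoc (Ideal.Quotient.mk (i₀.ker.ideal V)) l V.2.fromSpec))

/-- rigidity of actions of groups that are diagonalisable locally for fpqc -/
theorem action_trivial {S₀ : Scheme.{u}} (i₀ : S₀ ⟶ S) [IsClosedImmersion i₀]
    (hnil : ∀ x : S, ∃ U : S.affineOpens, x ∈ (U : S.Opens) ∧ IsNilpotent (i₀.ker.ideal U))
    (hG : TwC.Locally S TwC.Topology.fpqc (fun S' f => ∃ (M : Type) (_ : AddCommGroup M),
      Nonempty (Grp.mk (Red.bc f G) ≅ Grp.mk (Red.DS S' M))))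
    (a : AlgGrp.Action G X)
    (h0 : ∀ (Y : Over S) (_ : Y ⟶ Over.mk i₀) (g : Y ⟶ G) (x : Y ⟶ X), lift g x ≫ a.act = x)
    (Y : Over S) (g : Y ⟶ G) (x : Y ⟶ X) : lift g x ≫ a.act = x := by
  obtain ⟨S', f, hf, hs, -, hloc⟩ := hG
  refine Over.OverMorphism.ext ?_
  have : Epi (pullback.fst Y.hom f) := Flat.epi_of_flat_of_surjective _
  rw [← cancel_epi (pullback.fst Y.hom f)]
  set π := pullback.fst Y.hom f
  set τ := pullback.snd Y.hom f
  have key : ∀ z : ↥(pullback Y.hom f), ∃ (W : (pullback Y.hom f).Opens), z ∈ W ∧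
      W.ι ≫ π ≫ (lift g x ≫ a.act).left = W.ι ≫ π ≫ x.left := by
    intro z
    obtain ⟨U', hzU, M, _, ⟨e'⟩⟩ := hloc (τ.base z)
    obtain ⟨V, hzV, hnV⟩ := hnil ((π ≫ Y.hom).base z)
    obtain ⟨W, hW, hzW, hWsub⟩ := exists_isAffineOpen_mem_and_subset
      (U := τ ⁻¹ᵁ U' ⊓ (π ≫ Y.hom) ⁻¹ᵁ V.1) (x := z) ⟨hzU, hzV⟩
    refine ⟨W, hzW, ?_⟩
    rw [← cancel_epi hW.isoSpec.inv]
    let B := Γ(pullback Y.hom f, W)
    let w : Spec (CommRingCat.of B) ⟶ pullback Y.hom f := hW.fromSpec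
    rw [IsAffineOpen.isoSpec_inv_ι_assoc, IsAffineOpen.isoSpec_inv_ι_assoc]
    change w ≫ π ≫ _ = w ≫ π ≫ _
    have hrU : Set.range (w ≫ τ).base ⊆ Set.range U'.ι.base := by
      rintro _ ⟨p, rfl⟩
      rw [Scheme.Opens.range_ι]
      exact (hWsub (hW.range_fromSpec.subset ⟨p, rfl⟩)).1
    let y : Spec (CommRingCat.of B) ⟶ (U' : Scheme.{u}) := IsOpenImmersion.lift U'.ι (w ≫ τ) hrU
    have hy : w ≫ π ≫ Y.hom = y ≫ U'.ι ≫ f := by
      rw [← Category.assoc y, IsOpenImmersion.lift_fac, Category.assoc, pullback.condition]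
    let T : Over.mk (y ≫ U'.ι ≫ f) ⟶ Y := Over.homMk (w ≫ π) (by
      rw [← hy]; exact Category.assoc _ _ _)
    obtain ⟨χ, hχ⟩ := gpt_surjective e' y (T ≫ g)
    let ψ : Γ(S, V.1) →+* B := ((π ≫ Y.hom).appLE V.1 W fun p hp => (hWsub hp).2).hom
    have hψ : y ≫ U'.ι ≫ f = Spec.map (CommRingCat.ofHom ψ) ≫ V.2.fromSpec := by
      rw [← hy, CommRingCat.ofHom_hom]
      exact (V.2.SpecMap_appLE_fromSpec (π ≫ Y.hom) hW _).symm
    have htriv : Triv e' a y ((i₀.ker.ideal V).map ψ) := by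
      intro B' _ φ hφ χ' x' hx'
      obtain ⟨p, hp⟩ := exists_lift_closed i₀ V (φ.comp ψ) (by rw [← Ideal.map_map, hφ])
      have hp' : p ≫ i₀ = (Spec.map (CommRingCat.ofHom φ) ≫ y) ≫ U'.ι ≫ f := by
        rw [hp, Category.assoc, hψ, specMap_comp_assoc]
      exact congrArg (fun m => m.left) (h0 (Over.mk ((Spec.map (CommRingCat.ofHom φ) ≫ y) ≫ U'.ι ≫ f))
        (Over.homMk p hp') (gpt e' (Spec.map (CommRingCat.ofHom φ) ≫ y) χ') (Over.homMk x' hx'))
    have h := act_eq_self (hnV.map (Ideal.mapHom ψ)) htriv χ ((w ≫ π) ≫ x.left) (by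
      rw [Category.assoc, Over.w x, Category.assoc, hy])
    have hlift : T ≫ lift g x ≫ a.act =
        lift (gpt e' y χ) (Over.homMk ((w ≫ π) ≫ x.left) (by
          rw [Category.assoc, Over.w x, Category.assoc, hy]; rfl) : Over.mk (y ≫ U'.ι ≫ f) ⟶ X) ≫ a.act := by
      rw [comp_lift_assoc, hχ]
      congr 2
    have h2 := (congrArg (fun m => m.left) hlift).trans h
    rw [Over.comp_left] at h2
    rw [← Category.assoc, ← Category.assoc]
    exact h2
  choose W hW h using key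
  refine Scheme.Cover.hom_ext ((pullback Y.hom f).openCoverOfIsOpenCover W
    (eq_top_iff.mpr fun z _ => TopologicalSpace.Opens.mem_iSup.mpr ⟨z, hW z⟩)) _ _ fun z => ?_
  exact h z

end Groth.Agent.H21Diag
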