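import Groth.Agent.H21Diag.ActTrivial

/-!
Actions of a group through a homomorphism: by translations and by conjugation.
-/

open CategoryTheory MonoidalCategory CartesianMonoidalCategory MonObj GrpObj AlgebraicGeometry

universe u

namespace Groth.Agent.H21Diag

variable {S : Scheme.{u}} {G H : Over S} [GrpObj G] [GrpObj H] (u : G ⟶ H) [IsMonHom u]

/-- left translation through a homomorphism -/
noncomputable def transAct : AlgGrp.Action G H where
  act := (fst G H ≫ u) * snd G H
  one_act := by
    rw [MonObj.comp_mul, whiskerRight_fst_assoc, whiskerRight_snd, IsMonHom.one_hom]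
    rw [show fst (𝟙_ (Over S)) H ≫ η[H] = 1 by simp [Hom.one_def, toUnit_unique (fst _ _) (toUnit _)]]
    rw [_root_.one_mul, leftUnitor_hom]
  mul_act := by
    simp only [MonObj.comp_mul, ← Category.assoc, whiskerRight_fst, whiskerRight_snd,
      whiskerLeft_fst, whiskerLeft_snd]
    simp only [mul_eq_mul, MonObj.comp_mul, MonObj.mul_comp, Category.assoc,
      associator_hom_fst_assoc, whiskerLeft_fst_assoc, associator_hom_fst, whiskerLeft_fst,
      whiskerLeft_snd, whiskerLeft_snd_assoc, associator_hom_snd_fst_assoc, associator_hom_snd_snd,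
      associator_hom_snd_fst]
    rw [_root_.mul_assoc]

theorem lift_transAct {T : Over S} (g : T ⟶ G) (x : T ⟶ H) :
    lift g x ≫ (transAct u).act = (g ≫ u) * x := by
  simp [transAct, MonObj.comp_mul]

/-- conjugation through a homomorphism -/
noncomputable def conjAct : AlgGrp.Action G H where
  act := (fst G H ≫ u) * snd G H * (fst G H ≫ u)⁻¹
  one_act := by
    simp only [MonObj.comp_mul, GrpObj.comp_inv, whiskerRight_fst_assoc, whiskerRight_snd, IsMonHom.one_hom]
    rw [show fst (𝟙_ (Over S)) H ≫ η[H] = 1 by simp [Hom.one_def, toUnit_unique (fst _ _) (toUnit _)]]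
    simp [leftUnitor_hom]
  mul_act := by
    simp only [MonObj.comp_mul, GrpObj.comp_inv, ← Category.assoc, whiskerRight_fst, whiskerRight_snd,
      whiskerLeft_fst, whiskerLeft_snd]
    simp only [mul_eq_mul, MonObj.comp_mul, MonObj.mul_comp, GrpObj.comp_inv, Category.assoc,
      associator_hom_fst_assoc, whiskerLeft_fst_assoc, associator_hom_fst, whiskerLeft_fst,
      whiskerLeft_snd, whiskerLeft_snd_assoc, associator_hom_snd_fst_assoc, associator_hom_snd_snd,
      associator_hom_snd_fst]
    simp [_root_.mul_assoc]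

theorem lift_conjAct {T : Over S} (g : T ⟶ G) (x : T ⟶ H) :
    lift g x ≫ (conjAct u).act = (g ≫ u) * x * (g ≫ u)⁻¹ := by
  simp [conjAct, MonObj.comp_mul, GrpObj.comp_inv]

open CategoryTheory.Limits in
/-- a homomorphism trivial after base change is trivial on points over the new base -/
theorem comp_eq_one_of_pullback {S' T : Scheme.{u}} (i : S' ⟶ S) {G X : Over S} [GrpObj X] (f : G ⟶ X)
    (h : (Over.pullback i).map f = 1) {y : T ⟶ S} (p : T ⟶ S') (hp : p ≫ i = y)
    (g : Over.mk y ⟶ G) : g ≫ f = 1 := by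
  subst hp
  let g₀ : (Over.map i).obj (Over.mk p) ⟶ G := g
  have e1 : bcEquiv i X (Over.mk p) (g₀ ≫ f) = bcEquiv i G (Over.mk p) g₀ ≫ (Over.pullback i).map f :=
    (Over.mapPullbackAdj i).homEquiv_naturality_right g₀ f
  rw [h, MonObj.comp_one] at e1
  refine (bcEquiv i X (Over.mk p)).injective (e1.trans ?_)
  have h2 := bcEquiv_mul i X (Over.mk p) 1 1
  rw [_root_.mul_one] at h2
  exact (left_eq_mul.mp h2).symm

theorem act_transAct_eq {U : Scheme.{u}} {u₀ : U ⟶ S} {M : Type} [AddCommGroup M]
    (e : Grp.mk (Red.bc u₀ G) ≅ Grp.mk (Red.DS U M)) {B : Type u} [CommRing B]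
    (y : Spec (CommRingCat.of B) ⟶ U) (χ : Multiplicative M →* B) (x : Spec (CommRingCat.of B) ⟶ H.left)
    (hx : x ≫ H.hom = y ≫ u₀) (h : gpt e y χ ≫ u = 1) :
    act e (transAct u) y χ x hx = x :=
  congrArg (fun m => m.left) ((lift_transAct u _ (Over.homMk x hx : Over.mk (y ≫ u₀) ⟶ H)).trans
    ((congrArg (· * _) h).trans (_root_.one_mul _)))

end Groth.Agent.H21Diag
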