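import Groth.Agent.H21Diag.Pres

/-!
Averaging: two homomorphisms from a diagonalisable group which agree modulo a square-zero ideal are conjugate.
-/

open CategoryTheory MonoidalCategory CartesianMonoidalCategory MonObj GrpObj AlgebraicGeometry
open CategoryTheory.Limits

universe u

namespace Groth.Agent.H21Diag

section Ring

variable {B : Type u} [CommRing B] (J : Ideal B) (N : Type) [CommMonoid N]

/-- the ideal generated by `J` in the monoid algebra -/
noncomputable abbrev offK : Ideal (MonoidAlgebra B N) :=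
  J.map (MonoidAlgebra.singleOneRingHom : B →+* MonoidAlgebra B N)

/-- elements congruent to constants -/
noncomputable def offSub : Subring (MonoidAlgebra B N) :=
  (((Ideal.Quotient.mk (offK J N)).comp
    (MonoidAlgebra.singleOneRingHom : B →+* MonoidAlgebra B N)).range).comap (Ideal.Quotient.mk (offK J N))

theorem mem_offSub {w : MonoidAlgebra B N} :
    w ∈ offSub J N ↔ ∃ c : B, w - MonoidAlgebra.single 1 c ∈ offK J N := by
  change Ideal.Quotient.mk _ w ∈ RingHom.range _ ↔ _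
  simp only [RingHom.mem_range, RingHom.comp_apply]
  constructor
  · rintro ⟨c, hc⟩
    exact ⟨c, Ideal.Quotient.eq.mp hc.symm⟩
  · rintro ⟨c, hc⟩
    exact ⟨c, (Ideal.Quotient.eq.mpr hc).symm⟩

theorem single_mem_offSub (c : B) : MonoidAlgebra.single (1 : N) c ∈ offSub J N :=
  (mem_offSub J N).mpr ⟨c, by rw [sub_self]; exact zero_mem _⟩

theorem offK_le_offSub {w : MonoidAlgebra B N} (hw : w ∈ offK J N) : w ∈ offSub J N :=
  (mem_offSub J N).mpr ⟨0, by rw [MonoidAlgebra.single_zero, sub_zero]; exact hw⟩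

theorem coeff_mem_of_offK {w : MonoidAlgebra B N} (hw : w ∈ offK J N) (n : N) : w.coeff n ∈ J := by
  have key : offK J N ≤ RingHom.ker (MonoidAlgebra.mapRingHom N (Ideal.Quotient.mk J)) :=
    Ideal.map_le_iff_le_comap.mpr fun b hb => by
      rw [Ideal.mem_comap, RingHom.mem_ker]
      change MonoidAlgebra.mapRingHom N (Ideal.Quotient.mk J) (MonoidAlgebra.single 1 b) = 0
      rw [MonoidAlgebra.mapRingHom_single, Ideal.Quotient.eq_zero_iff_mem.mpr hb, MonoidAlgebra.single_zero]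
  have h := congrArg (fun z => z.coeff n) (RingHom.mem_ker.mp (key hw))
  rw [← Ideal.Quotient.eq_zero_iff_mem]
  simpa [MonoidAlgebra.coeff_mapRingHom] using h

theorem coeff_one_mul (hJ : J * J = ⊥) {w w' : MonoidAlgebra B N} (hw : w ∈ offSub J N)
    (hw' : w' ∈ offSub J N) : (w * w').coeff 1 = w.coeff 1 * w'.coeff 1 := by
  classical
  obtain ⟨c, hc⟩ := (mem_offSub J N).mp hw
  obtain ⟨c', hc'⟩ := (mem_offSub J N).mp hw'
  obtain ⟨k, hk, rfl⟩ : ∃ k ∈ offK J N, MonoidAlgebra.single 1 c + k = w := ⟨_, hc, add_sub_cancel _ _⟩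
  obtain ⟨k', hk', rfl⟩ : ∃ k ∈ offK J N, MonoidAlgebra.single 1 c' + k = w' := ⟨_, hc', add_sub_cancel _ _⟩
  have h0 : k * k' = 0 := by
    rw [← Ideal.mem_bot]
    have := Ideal.mul_mem_mul hk hk'
    rwa [← Ideal.map_mul, hJ, Ideal.map_bot] at this
  have h1 : k.coeff 1 * k'.coeff 1 = 0 := by
    rw [← Ideal.mem_bot, ← hJ]
    exact Ideal.mul_mem_mul (coeff_mem_of_offK J N hk 1) (coeff_mem_of_offK J N hk' 1)
  rw [add_mul, mul_add, mul_add, h0, _root_.mul_comm k]
  simp only [MonoidAlgebra.coeff_add, Finsupp.add_apply, MonoidAlgebra.coeff_single_one_mul,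
    MonoidAlgebra.coeff_single, Finsupp.single_eq_same, add_zero]
  linear_combination -h1

/-- the constant term -/
noncomputable def offProj (hJ : J * J = ⊥) : offSub J N →+* B where
  toFun w := (w : MonoidAlgebra B N).coeff 1
  map_one' := by simp [MonoidAlgebra.one_def]
  map_mul' w w' := coeff_one_mul J N hJ w.2 w'.2
  map_zero' := by simp
  map_add' w w' := by simp

/-- the constants -/
noncomputable def offConst : B →+* offSub J N :=
  (MonoidAlgebra.singleOneRingHom : B →+* MonoidAlgebra B N).codRestrict (offSub J N)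
    (single_mem_offSub J N)

theorem offProj_const (hJ : J * J = ⊥) : (offProj J N hJ).comp (offConst J N) = RingHom.id B := by
  refine RingHom.ext fun b => ?_
  change (MonoidAlgebra.single (1 : N) b).coeff 1 = b
  simp [MonoidAlgebra.coeff_single]

/-- the ideal of the subring -/
noncomputable abbrev offI : Ideal (offSub J N) := (offK J N).comap (offSub J N).subtype

theorem offI_nilpotent (hJ : J * J = ⊥) : IsNilpotent (offI J N) := by
  refine ⟨2, ?_⟩
  rw [pow_two, Ideal.zero_eq_bot, eq_bot_iff, Ideal.mul_le]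
  intro x hx y hy
  rw [Ideal.mem_bot]
  refine Subtype.ext ?_
  have := Ideal.mul_mem_mul (Ideal.mem_comap.mp hx) (Ideal.mem_comap.mp hy)
  rw [← Ideal.map_mul, hJ, Ideal.map_bot, Ideal.mem_bot] at this
  exact this

theorem offI_surj : ∀ k ∈ (offI J N).map (offSub J N).subtype, ∃ c ∈ offI J N, (offSub J N).subtype c = k := by
  intro k hk
  have hk' : k ∈ offK J N := Ideal.map_comap_le hk
  exact ⟨⟨k, offK_le_offSub J N hk'⟩, hk', rfl⟩

theorem offProj_mem (hJ : J * J = ⊥) {w : offSub J N} (hw : w ∈ offI J N) : offProj J N hJ w ∈ J :=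
  coeff_mem_of_offK J N hw 1

theorem offK_eq_map : (offI J N).map (offSub J N).subtype = offK J N :=
  le_antisymm Ideal.map_comap_le fun k hk =>
    Ideal.mem_map_of_mem (offSub J N).subtype (show (⟨k, offK_le_offSub J N hk⟩ : offSub J N) ∈ offI J N from hk)

variable {J N} {B' : Type u} [CommRing B'] {J' : Ideal B'} {N' : Type} [CommMonoid N']

/-- maps preserving constants act on the subrings -/
theorem offMap_mem (F : MonoidAlgebra B N →+* MonoidAlgebra B' N') (q : B →+* B')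
    (hF : F.comp MonoidAlgebra.singleOneRingHom = (MonoidAlgebra.singleOneRingHom : B' →+* MonoidAlgebra B' N').comp q)
    (hq : J.map q ≤ J') {w : MonoidAlgebra B N} (hw : w ∈ offK J N) : F w ∈ offK J' N' := by
  have := Ideal.mem_map_of_mem F hw
  rw [Ideal.map_map, hF, ← Ideal.map_map] at this
  exact Ideal.map_mono hq this

/-- the map of subrings -/
noncomputable def offMap (F : MonoidAlgebra B N →+* MonoidAlgebra B' N') (q : B →+* B')
    (hF : F.comp MonoidAlgebra.singleOneRingHom = (MonoidAlgebra.singleOneRingHom : B' →+* MonoidAlgebra B' N').comp q)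
    (hq : J.map q ≤ J') : offSub J N →+* offSub J' N' :=
  (F.comp (offSub J N).subtype).codRestrict (offSub J' N') fun w => by
    obtain ⟨c, hc⟩ := (mem_offSub J N).mp w.2
    refine (mem_offSub J' N').mpr ⟨q c, ?_⟩
    have := offMap_mem F q hF hq hc
    rw [map_sub] at this
    rw [show MonoidAlgebra.single (1 : N') (q c) = F (MonoidAlgebra.single 1 c) from (RingHom.congr_fun hF c).symm]
    exact this

end Ring

variable {R₀ : Type u} [CommRing R₀] {G H : Over (Spec (CommRingCat.of R₀))} [GrpObj G] [GrpObj H]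

/-- descent of points congruent to the unit -/
theorem exists_tst_descend {C C' : Type u} [CommRing C] [CommRing C'] (ι₀ : C →+* C') (K : Ideal C)
    (hι : Function.Injective ι₀) (hK : IsNilpotent K) (hK' : ∀ k ∈ K.map ι₀, ∃ c ∈ K, ι₀ c = k)
    (g : R₀ →+* C) (x : Tst (ι₀.comp g) ⟶ G)
    (hx : tst (Ideal.Quotient.mk (K.map ι₀)) rfl ≫ x = 1) :
    ∃ z : Tst g ⟶ G, tst ι₀ rfl ≫ z = x ∧ tst (Ideal.Quotient.mk K) rfl ≫ z = 1 := by
  have h1 : ∀ {D : Type u} [CommRing D] (f : C →+* D) (g' : R₀ →+* D) (h : f.comp g = g'),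
      (1 : Tst g' ⟶ G).left = Spec.map (CommRingCat.ofHom f) ≫ (1 : Tst g ⟶ G).left := fun f g' h =>
    (congrArg (fun m : Tst g' ⟶ G => m.left) (MonObj.comp_one (tst f h))).symm
  obtain ⟨z, hz₁, hz₂⟩ := exists_point_descend ι₀ K hι hK hK' (1 : Tst g ⟶ G).left x.left (by
    rw [specMap_comp_assoc, ← h1 _ _ rfl]
    exact congrArg (fun m => m.left) hx)
  have hover : z ≫ G.hom = Spec.map (CommRingCat.ofHom g) := by
    refine point_ext ι₀ K hι hK ?_ ?_
    · rw [← Category.assoc, hz₁, ← specMap_comp]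
      exact Over.w x
    · rw [← Category.assoc, hz₂, Category.assoc]
      exact congrArg (_ ≫ ·) (Over.w (1 : Tst g ⟶ G))
  refine ⟨Over.homMk z hover, Over.OverMorphism.ext hz₁, Over.OverMorphism.ext ?_⟩
  exact hz₂.trans (h1 _ _ rfl).symm

/-- uniqueness of descended points -/
theorem tst_ext {C C' : Type u} [CommRing C] [CommRing C'] (ι₀ : C →+* C') (K : Ideal C)
    (hι : Function.Injective ι₀) (hK : IsNilpotent K) {g : R₀ →+* C} {z z' : Tst g ⟶ G}
    (h1 : tst (g' := ι₀.comp g) ι₀ rfl ≫ z = tst ι₀ rfl ≫ z')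
    (h2 : tst (g' := (Ideal.Quotient.mk K).comp g) (Ideal.Quotient.mk K) rfl ≫ z = tst (Ideal.Quotient.mk K) rfl ≫ z') :
    z = z' :=
  Over.OverMorphism.ext (point_ext ι₀ K hι hK (congrArg (fun m => m.left) h1) (congrArg (fun m => m.left) h2))

variable {R : Type u} [CommRing R] {ρ : R₀ →+* R} {M : Type} [AddCommGroup M] (u v : H ⟶ G)

/-- the quotient of two homomorphisms at a point -/
noncomputable def Pres.quot (Q : Pres H ρ M) {D : Type u} [CommRing D] (g : R →+* D)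
    (χ : Multiplicative M →* D) : Tst (g.comp ρ) ⟶ G :=
  (Q.pt g χ ≫ v) * (Q.pt g χ ≫ u)⁻¹

theorem Pres.quot_nat (Q : Pres H ρ M) {D D' : Type u} [CommRing D] [CommRing D'] (f : D →+* D') (g : R →+* D)
    (χ : Multiplicative M →* D) :
    tst f (g' := (f.comp g).comp ρ) rfl ≫ Q.quot u v g χ = Q.quot u v (f.comp g) (f.toMonoidHom.comp χ) := by
  simp only [Pres.quot, MonObj.comp_mul, GrpObj.comp_inv, ← Category.assoc, Q.pt_nat]

/-- the average of the quotient of two homomorphisms -/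
def IsAvg (J : Ideal R₀) (hJ : J ^ 2 = ⊥) (Q : Pres H ρ M) (c : Tst ρ ⟶ G) : Prop :=
  ∃ d : Tst ((offConst (J.map ρ) (Multiplicative M)).comp ρ) ⟶ G,
    tst (offSub (J.map ρ) (Multiplicative M)).subtype rfl ≫ d =
        Q.quot u v MonoidAlgebra.singleOneRingHom (MonoidAlgebra.of R (Multiplicative M)) ∧
      tst (Ideal.Quotient.mk (offI (J.map ρ) (Multiplicative M))) rfl ≫ d = 1 ∧
      c = tst (offProj (J.map ρ) (Multiplicative M) (by rw [← Ideal.map_mul, ← pow_two, hJ, Ideal.map_bot]))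
        (by rw [← RingHom.comp_assoc, offProj_const, RingHom.id_comp]) ≫ d

variable [IsMonHom u] [IsMonHom v]

theorem exists_avg_point (J : Ideal R₀) (hJ : J ^ 2 = ⊥) (Q : Pres H ρ M)
    (hres : ∀ (D : Type u) [CommRing D] (g : R₀ →+* D), J.map g = ⊥ → ∀ h : Tst g ⟶ H, h ≫ u = h ≫ v) :
    ∃ c : Tst ρ ⟶ G, IsAvg u v J hJ Q c ∧ tst (Ideal.Quotient.mk (J.map ρ)) rfl ≫ c = 1 := by
  classical
  let N := Multiplicative M
  let Jr := J.map ρ
  have hJr : Jr * Jr = ⊥ := by rw [← Ideal.map_mul, ← pow_two, hJ, Ideal.map_bot]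
  let A := MonoidAlgebra R N
  let s₁ : R →+* MonoidAlgebra R N := MonoidAlgebra.singleOneRingHom
  let univ : N →* MonoidAlgebra R N := MonoidAlgebra.of R N
  let K := offK Jr N
  have hq0 : ∀ {D : Type u} [CommRing D] (g : R →+* D) (χ : N →* D), J.map (g.comp ρ) = ⊥ →
      Q.quot u v g χ = 1 := fun {D} _ g χ hg => by
    simp only [Pres.quot, hres D _ hg (Q.pt g χ), mul_inv_cancel]
  have hKmap : ∀ {D : Type u} [CommRing D] (f : MonoidAlgebra R N →+* D), J.map ((f.comp s₁).comp ρ) = K.map f :=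
    fun {D} _ f => by rw [RingHom.comp_assoc, ← Ideal.map_map, ← Ideal.map_map]
  obtain ⟨d, hd₁, hd₂⟩ := exists_tst_descend (offSub Jr N).subtype (offI Jr N) Subtype.val_injective
    (offI_nilpotent Jr N hJr) (offI_surj Jr N) ((offConst Jr N).comp ρ)
    (Q.quot u v s₁ univ) (by
      refine (Q.quot_nat u v (Ideal.Quotient.mk ((offI Jr N).map (offSub Jr N).subtype)) s₁ univ).trans (hq0 _ _ ?_)
      rw [hKmap]
      exact (congrArg (Ideal.map (Ideal.Quotient.mk ((offI Jr N).map (offSub Jr N).subtype)))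
        (offK_eq_map Jr N).symm).trans (Ideal.map_quotient_self _))
  have hproj : (offProj Jr N hJr).comp ((offConst Jr N).comp ρ) = ρ := by
    rw [← RingHom.comp_assoc, offProj_const, RingHom.id_comp]
  let c := tst (offProj Jr N hJr) hproj ≫ d
  have hc0 : tst (Ideal.Quotient.mk Jr) rfl ≫ c = 1 := by
    let l : offSub Jr N ⧸ offI Jr N →+* R ⧸ Jr := Ideal.Quotient.lift _ ((Ideal.Quotient.mk Jr).comp (offProj Jr N hJr))
      fun w hw => Ideal.Quotient.eq_zero_iff_mem.mpr (offProj_mem Jr N hJr hw)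
    have hl : l.comp ((Ideal.Quotient.mk (offI Jr N)).comp ((offConst Jr N).comp ρ)) = (Ideal.Quotient.mk Jr).comp ρ := by
      rw [← RingHom.comp_assoc, show l.comp (Ideal.Quotient.mk (offI Jr N)) =
        (Ideal.Quotient.mk Jr).comp (offProj Jr N hJr) from RingHom.ext fun w => rfl, RingHom.comp_assoc, hproj]
    have := congrArg (tst l hl ≫ ·) hd₂
    simp only [MonObj.comp_one, ← Category.assoc, tst_comp] at this
    rw [← this, ← Category.assoc, tst_comp]
    rfl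
  exact ⟨c, ⟨d, hd₁, hd₂, rfl⟩, hc0⟩

theorem avg_step (J : Ideal R₀) (Q : Pres H ρ M)
    (hres : ∀ (D : Type u) [CommRing D] (g : R₀ →+* D), J.map g = ⊥ → ∀ h : Tst g ⟶ H, h ≫ u = h ≫ v)
    {A A₂ P P₂ : Type u} [CommRing A] [CommRing A₂] [CommRing P] [CommRing P₂]
    (s : R →+* A) (sA : A →+* A₂) (cP : R →+* P) (cP₂ : A →+* P₂) (ιP : P →+* A) (ιP₂ : P₂ →+* A₂)
    (hι₂ : Function.Injective ιP₂) (I : Ideal P) (I₂ : Ideal P₂) (hI₂ : IsNilpotent I₂)
    (π : P →+* R) (π₂ : P₂ →+* A) (F₁ F₂ : A →+* A₂) (f₁ f₂ : P →+* P₂)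
    (hcP : ιP.comp cP = s) (hcP₂ : ιP₂.comp cP₂ = sA) (hπ : π.comp cP = RingHom.id R)
    (hπ₂ : π₂.comp cP₂ = RingHom.id A)
    (hf₁ : ιP₂.comp f₁ = F₁.comp ιP) (hf₂ : ιP₂.comp f₂ = F₂.comp ιP)
    (hF₁ : F₁.comp s = sA.comp s) (hF₂ : F₂.comp s = sA.comp s)
    (hfc₁ : f₁.comp cP = cP₂.comp s) (hfc₂ : f₂.comp cP = cP₂.comp s)
    (hπf₁ : π₂.comp f₁ = s.comp π) (hπf₂ : π₂.comp f₂ = s.comp π)
    (hfI₁ : ∀ w ∈ I, f₁ w ∈ I₂) (hfI₂ : ∀ w ∈ I, f₂ w ∈ I₂)
    (hJ₂ : J.map ((((Ideal.Quotient.mk I₂).comp cP₂).comp s).comp ρ) = ⊥)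
    (χ : Multiplicative M →* A) (hχ : F₁.toMonoidHom.comp χ = sA.toMonoidHom.comp χ * F₂.toMonoidHom.comp χ)
    (d : Tst (cP.comp ρ) ⟶ G)
    (hd₁ : tst ιP (by rw [← RingHom.comp_assoc, hcP]) ≫ d = Q.quot u v s χ)
    (hd₂ : tst (Ideal.Quotient.mk I) rfl ≫ d = 1) :
    Q.pt s χ ≫ v = (tst s rfl ≫ tst π (g' := ρ) (by rw [← RingHom.comp_assoc, hπ, RingHom.id_comp]) ≫ d) *
      (Q.pt s χ ≫ u) *
      (tst s rfl ≫ tst π (g' := ρ) (by rw [← RingHom.comp_assoc, hπ, RingHom.id_comp]) ≫ d)⁻¹ := by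
  classical
  let gP : R₀ →+* P₂ := (cP₂.comp s).comp ρ
  let g₂ : R₀ →+* A₂ := (sA.comp s).comp ρ
  have hι2g : ιP₂.comp gP = g₂ := by simp only [gP, g₂, ← RingHom.comp_assoc, hcP₂]
  let E := tst (g := s.comp ρ) (g' := gP) cP₂ rfl ≫ Q.pt s χ ≫ u
  let Bc := tst (g := s.comp ρ) (g' := gP) cP₂ rfl ≫ Q.quot u v s χ
  have hg₁ : f₁.comp (cP.comp ρ) = gP := by rw [← RingHom.comp_assoc, hfc₁]
  have hg₂ : f₂.comp (cP.comp ρ) = gP := by rw [← RingHom.comp_assoc, hfc₂]
  have hgen : ∀ (g' : R →+* A₂) (g'' : R →+* A₂) (e : g' = g'') (χ' : Multiplicative M →* A₂),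
      (Q.quot u v g' χ').left = (Q.quot u v g'' χ').left := by rintro _ _ rfl χ'; rfl
  have hgen' : ∀ (g' : R →+* A₂) (g'' : R →+* A₂) (e : g' = g'') (χ' : Multiplicative M →* A₂),
      (Q.pt g' χ' ≫ u).left = (Q.pt g'' χ' ≫ u).left := by rintro _ _ rfl χ'; rfl
  have hι' : ∀ (f : P →+* P₂) (F : A →+* A₂) (hf : f.comp (cP.comp ρ) = gP)
      (hcomm : ιP₂.comp f = F.comp ιP) (hF : F.comp s = sA.comp s),
      tst ιP₂ hι2g ≫ tst f hf ≫ d = Q.quot u v (sA.comp s) (F.toMonoidHom.comp χ) := by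
    intro f F hf hcomm hF
    have hFg : F.comp (s.comp ρ) = g₂ := by simp only [g₂, ← RingHom.comp_assoc, hF]
    have hιg : ιP.comp (cP.comp ρ) = s.comp ρ := by rw [← RingHom.comp_assoc, hcP]
    rw [← Category.assoc, tst_comp, tst_congr hcomm _ (by rw [RingHom.comp_assoc, hιg, hFg]),
      ← tst_comp ιP F hιg hFg, Category.assoc, hd₁]
    exact Over.OverMorphism.ext ((congrArg (fun m => m.left) (Q.quot_nat u v F s χ)).trans (hgen _ _ hF _))
  have hsplit : tst f₁ hg₁ ≫ d = Bc * (E * (tst f₂ hg₂ ≫ d) * E⁻¹) := by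
    refine tst_ext ιP₂ I₂ hι₂ hI₂ ?_ ?_
    · have key : tst ιP₂ hι2g ≫ tst f₁ hg₁ ≫ d = tst ιP₂ hι2g ≫ (Bc * (E * (tst f₂ hg₂ ≫ d) * E⁻¹)) := by
        have e1 : tst ιP₂ hι2g ≫ Bc = Q.quot u v (sA.comp s) (sA.toMonoidHom.comp χ) := by
          rw [← Category.assoc, tst_comp, tst_congr hcP₂ _ rfl]
          exact Q.quot_nat u v sA s χ
        have e2 : tst ιP₂ hι2g ≫ E = Q.pt (sA.comp s) (sA.toMonoidHom.comp χ) ≫ u := by
          rw [← Category.assoc, tst_comp, tst_congr hcP₂ _ rfl, ← Category.assoc]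
          exact congrArg (· ≫ u) (Q.pt_nat sA s χ)
        simp only [MonObj.comp_mul, GrpObj.comp_inv, e1, e2]
        rw [hι' f₁ F₁ hg₁ hf₁ hF₁, hι' f₂ F₂ hg₂ hf₂ hF₂, hχ]
        simp only [Pres.quot, Q.pt_mul, MonObj.mul_comp]
        group
      exact Over.OverMorphism.ext (congrArg (fun m : Tst g₂ ⟶ G => m.left) key)
    · have hz : ∀ (f : P →+* P₂) (hf : f.comp (cP.comp ρ) = gP) (hfI : ∀ w ∈ I, f w ∈ I₂),
          tst (g' := (Ideal.Quotient.mk I₂).comp gP) (Ideal.Quotient.mk I₂) rfl ≫ tst f hf ≫ d = 1 := by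
        intro f hf hfI
        let l : P ⧸ I →+* P₂ ⧸ I₂ := Ideal.Quotient.lift _ ((Ideal.Quotient.mk I₂).comp f) fun w hw =>
          Ideal.Quotient.eq_zero_iff_mem.mpr (hfI w hw)
        have hl : l.comp ((Ideal.Quotient.mk I).comp (cP.comp ρ)) = (Ideal.Quotient.mk I₂).comp gP := by
          rw [← RingHom.comp_assoc, show l.comp (Ideal.Quotient.mk I) = (Ideal.Quotient.mk I₂).comp f from
            RingHom.ext fun w => rfl, RingHom.comp_assoc, hf]
        have := congrArg (tst l hl ≫ ·) hd₂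
        simp only [MonObj.comp_one, ← Category.assoc, tst_comp] at this
        rw [← this, ← Category.assoc, tst_comp]
        rfl
      have hB : tst (g' := (Ideal.Quotient.mk I₂).comp gP) (Ideal.Quotient.mk I₂) rfl ≫ Bc = 1 := by
        rw [← Category.assoc, tst_comp]
        refine (Q.quot_nat u v ((Ideal.Quotient.mk I₂).comp cP₂) s χ).trans ?_
        simp only [Pres.quot, hres _ _ hJ₂ (Q.pt _ _), mul_inv_cancel]
      simp only [MonObj.comp_mul, GrpObj.comp_inv]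
      rw [hB, hz f₁ hg₁ hfI₁, hz f₂ hg₂ hfI₂]
      group
  -- evaluate the constant term
  have hπgP : π₂.comp gP = s.comp ρ := by
    simp only [gP, ← RingHom.comp_assoc, hπ₂, RingHom.id_comp]
  have hρ : π.comp (cP.comp ρ) = ρ := by rw [← RingHom.comp_assoc, hπ, RingHom.id_comp]
  let cA := tst (g' := s.comp ρ) s rfl ≫ tst π hρ ≫ d
  have hev : ∀ (f : P →+* P₂) (hf : f.comp (cP.comp ρ) = gP), π₂.comp f = s.comp π →
      tst π₂ hπgP ≫ tst f hf ≫ d = cA := by
    intro f hf he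
    rw [← Category.assoc, tst_comp, tst_congr he _ (by rw [RingHom.comp_assoc, hρ]),
      ← tst_comp π s hρ rfl, Category.assoc]
  have hconst : ∀ (x : Tst (s.comp ρ) ⟶ G), tst π₂ hπgP ≫ tst (g' := gP) cP₂ rfl ≫ x = x := by
    intro x
    rw [← Category.assoc, tst_comp, tst_congr hπ₂ _ (RingHom.id_comp _), tst_id, Category.id_comp]
  have huniv := congrArg (tst π₂ hπgP ≫ ·) hsplit
  simp only [MonObj.comp_mul, GrpObj.comp_inv] at huniv
  rw [hev f₁ hg₁ hπf₁, hev f₂ hg₂ hπf₂, hconst, hconst] at huniv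
  change Q.pt s χ ≫ v = cA * (Q.pt s χ ≫ u) * cA⁻¹
  simp only [Pres.quot] at huniv
  generalize Q.pt s χ ≫ v = V at huniv ⊢
  generalize Q.pt s χ ≫ u = W at huniv ⊢
  have h : cA * W * cA⁻¹ = V * W⁻¹ * (W * cA * W⁻¹) * W * cA⁻¹ := by rw [← huniv]
  rw [h]
  group

omit [CommRing R₀] in
theorem delta_apply {B : Type u} [CommRing B] {N : Type} [CommMonoid N] (n : N) (r : B) :
    MonoidAlgebra.liftNCRingHom
      ((MonoidAlgebra.singleOneRingHom : MonoidAlgebra B N →+* MonoidAlgebra (MonoidAlgebra B N) N).comp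
        (MonoidAlgebra.singleOneRingHom : B →+* MonoidAlgebra B N))
      ((MonoidAlgebra.singleOneRingHom : MonoidAlgebra B N →+* _).toMonoidHom.comp (MonoidAlgebra.of B N) *
        MonoidAlgebra.of (MonoidAlgebra B N) N) (fun _ _ => Commute.all _ _) (MonoidAlgebra.single n r) =
      MonoidAlgebra.single n (MonoidAlgebra.single n r) := by
  simp [MonoidAlgebra.single_mul_single]

theorem avg_universal (J : Ideal R₀) (hJ : J ^ 2 = ⊥) (Q : Pres H ρ M)
    (hres : ∀ (D : Type u) [CommRing D] (g : R₀ →+* D), J.map g = ⊥ → ∀ h : Tst g ⟶ H, h ≫ u = h ≫ v)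
    {c : Tst ρ ⟶ G} (hc : IsAvg u v J hJ Q c) :
    Q.pt MonoidAlgebra.singleOneRingHom (MonoidAlgebra.of R (Multiplicative M)) ≫ v =
      (tst (MonoidAlgebra.singleOneRingHom : R →+* MonoidAlgebra R (Multiplicative M)) rfl ≫ c) *
        (Q.pt MonoidAlgebra.singleOneRingHom (MonoidAlgebra.of R (Multiplicative M)) ≫ u) *
        (tst (MonoidAlgebra.singleOneRingHom : R →+* MonoidAlgebra R (Multiplicative M)) rfl ≫ c)⁻¹ := by
  classical
  let N := Multiplicative M
  let Jr := J.map ρ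
  have hJr : Jr * Jr = ⊥ := by rw [← Ideal.map_mul, ← pow_two, hJ, Ideal.map_bot]
  let s₁ : R →+* MonoidAlgebra R N := MonoidAlgebra.singleOneRingHom
  let K : Ideal (MonoidAlgebra R N) := offK Jr N
  have hKK : K * K = ⊥ := by rw [← Ideal.map_mul, hJr, Ideal.map_bot]
  let sA : MonoidAlgebra R N →+* MonoidAlgebra (MonoidAlgebra R N) N := MonoidAlgebra.singleOneRingHom
  let Δ : MonoidAlgebra R N →+* MonoidAlgebra (MonoidAlgebra R N) N := MonoidAlgebra.liftNCRingHom (sA.comp s₁)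
    ((sA.toMonoidHom.comp (MonoidAlgebra.of R N)) * (MonoidAlgebra.of (MonoidAlgebra R N) N))
    fun _ _ => Commute.all _ _
  let ι₂ : MonoidAlgebra R N →+* MonoidAlgebra (MonoidAlgebra R N) N := MonoidAlgebra.mapRingHom N s₁
  have hΔs : Δ.comp MonoidAlgebra.singleOneRingHom = sA.comp s₁ := RingHom.ext fun r => by simp [Δ, sA, s₁]
  have hι₂s : ι₂.comp MonoidAlgebra.singleOneRingHom = sA.comp s₁ := RingHom.ext fun r => by simp [ι₂, sA, s₁]
  have hcoΔ : ∀ w : MonoidAlgebra R N, (Δ w).coeff 1 = s₁ (w.coeff 1) := by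
    intro w
    induction w using MonoidAlgebra.induction_linear with
    | zero => simp
    | add a b ha hb => simp [ha, hb]
    | single n r =>
      rw [show Δ (MonoidAlgebra.single n r) = _ from delta_apply n r]
      by_cases hn : n = 1
      · subst hn; simp [MonoidAlgebra.coeff_single, s₁]
      · simp [MonoidAlgebra.coeff_single, Finsupp.single_eq_of_ne (Ne.symm hn)]
  have hcoι : ∀ w : MonoidAlgebra R N, (ι₂ w).coeff 1 = s₁ (w.coeff 1) := fun w =>
    MonoidAlgebra.coeff_mapRingHom _ _ _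
  obtain ⟨d, hd₁, hd₂, rfl⟩ := hc
  refine avg_step u v J Q hres s₁ sA (offConst Jr N) (offConst K N) (offSub Jr N).subtype (offSub K N).subtype
    Subtype.val_injective (offI Jr N) (offI K N) (offI_nilpotent K N hKK) (offProj Jr N hJr) (offProj K N hKK)
    Δ ι₂ (offMap (J' := K) Δ s₁ hΔs le_rfl) (offMap (J' := K) ι₂ s₁ hι₂s le_rfl)
    rfl rfl (offProj_const Jr N hJr) (offProj_const K N hKK) rfl rfl hΔs hι₂s
    (RingHom.ext fun r => Subtype.ext (RingHom.congr_fun hΔs r))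
    (RingHom.ext fun r => Subtype.ext (RingHom.congr_fun hι₂s r))
    (RingHom.ext fun w => hcoΔ _) (RingHom.ext fun w => hcoι _)
    (fun w hw => offMap_mem Δ s₁ hΔs le_rfl hw) (fun w hw => offMap_mem ι₂ s₁ hι₂s le_rfl hw)
    ?_ (MonoidAlgebra.of R N) ?_ d hd₁ hd₂
  · rw [RingHom.comp_assoc ρ, RingHom.comp_assoc, ← Ideal.map_map, ← Ideal.map_map, ← Ideal.map_map,
      ← le_bot_iff, Ideal.map_le_iff_le_comap, Ideal.map_le_iff_le_comap]
    intro k hk
    rw [Ideal.mem_comap, Ideal.mem_comap, Ideal.mem_bot]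
    exact Ideal.Quotient.eq_zero_iff_mem.mpr
      (Ideal.mem_map_of_mem (MonoidAlgebra.singleOneRingHom : MonoidAlgebra R N →+* _) hk)
  · refine MonoidHom.ext fun n => ?_
    change Δ (MonoidAlgebra.single n 1) = sA (MonoidAlgebra.single n 1) * ι₂ (MonoidAlgebra.single n 1)
    rw [show Δ (MonoidAlgebra.single n 1) = _ from delta_apply n 1]
    simp [ι₂, sA, s₁, MonoidAlgebra.single_mul_single, MonoidAlgebra.one_def]

omit [IsMonHom u] [IsMonHom v] in
theorem conj_specialise (Q : Pres H ρ M) {A D : Type u} [CommRing A] [CommRing D] (ev : A →+* D) (s : R →+* A)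
    (g : R →+* D) (χ₀ : Multiplicative M →* A) (χ : Multiplicative M →* D) (h1 : ev.comp s = g)
    (h2 : ev.toMonoidHom.comp χ₀ = χ) (c : Tst ρ ⟶ G)
    (h : Q.pt s χ₀ ≫ v = (tst s rfl ≫ c) * (Q.pt s χ₀ ≫ u) * (tst s rfl ≫ c)⁻¹) :
    Q.pt g χ ≫ v = (tst g rfl ≫ c) * (Q.pt g χ ≫ u) * (tst g rfl ≫ c)⁻¹ := by
  subst h1 h2
  have e := Q.pt_nat ev s χ₀
  rw [← e, Category.assoc, h, MonObj.comp_mul, MonObj.comp_mul, GrpObj.comp_inv, ← Category.assoc,
    ← Category.assoc, tst_comp]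

theorem exists_avg (J : Ideal R₀) (hJ : J ^ 2 = ⊥) (Q : Pres H ρ M)
    (hres : ∀ (D : Type u) [CommRing D] (g : R₀ →+* D), J.map g = ⊥ → ∀ h : Tst g ⟶ H, h ≫ u = h ≫ v) :
    ∃ c : Tst ρ ⟶ G, IsAvg u v J hJ Q c ∧ tst (Ideal.Quotient.mk (J.map ρ)) rfl ≫ c = 1 ∧
      ∀ (D : Type u) [CommRing D] (g : R →+* D) (χ : Multiplicative M →* D),
        Q.pt g χ ≫ v = (tst g rfl ≫ c) * (Q.pt g χ ≫ u) * (tst g rfl ≫ c)⁻¹ := by
  obtain ⟨c, hc, hc0⟩ := exists_avg_point u v J hJ Q hres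
  refine ⟨c, hc, hc0, fun D _ g χ => ?_⟩
  refine conj_specialise u v Q (MonoidAlgebra.liftNCRingHom g χ fun _ _ => Commute.all _ _)
    MonoidAlgebra.singleOneRingHom g (MonoidAlgebra.of R (Multiplicative M)) χ ?_ ?_ c
    (avg_universal u v J hJ Q hres hc)
  · exact RingHom.ext fun b => by simp
  · exact MonoidHom.ext fun n => by simp

end Groth.Agent.H21Diag
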