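import Groth.Agent.H21Diag.AvgUnique
import Groth.Agent.H21Diag.LocallyDiag
import Mathlib.AlgebraicGeometry.Sites.Fpqc

/-!
Descent of averages along a finite affine fpqc cover on which the group is diagonalisable.
-/

open CategoryTheory MonoidalCategory CartesianMonoidalCategory MonObj GrpObj AlgebraicGeometry
open CategoryTheory.Limits

universe u

namespace Groth.Agent.H21Diag

variable {R₀ : Type u} [CommRing R₀]

/-- a finite family of algebras which is jointly faithfully flat -/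
structure FFFam (R₀ : Type u) [CommRing R₀] where
  I : Type u
  fin : Finite I
  R : I → CommRingCat.{u}
  ρ : ∀ i, R₀ →+* R i
  flat : ∀ i, Flat (Spec.map (CommRingCat.ofHom (ρ i)))
  surj : ∀ x : Spec (CommRingCat.of R₀), ∃ i, x ∈ Set.range (Spec.map (CommRingCat.ofHom (ρ i))).base

attribute [instance] FFFam.fin

theorem exists_charts {H : Over (Spec (CommRingCat.of R₀))} [GrpObj H] (hH : IsDiagLoc H) :
    ∃ F : FFFam R₀, ∀ i, ∃ (M : Type) (_ : AddCommGroup M), Nonempty (Pres H (F.ρ i) M) := by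
  classical
  obtain ⟨S', g, hg, hs, hqc, hloc⟩ := hH
  obtain ⟨W, hWc, hW⟩ := hqc ⊤ (isAffineOpen_top _)
  choose U hU hP using hloc
  choose V hV hwV hVU using fun w : (W : Set S') =>
    exists_isAffineOpen_mem_and_subset (U := U (w : S')) (x := (w : S')) (hU w)
  obtain ⟨T, hT⟩ := hWc.elim_finite_subcover (fun w => (V w : Set S')) (fun w => (V w).isOpen)
    (fun w hw => Set.mem_iUnion.mpr ⟨⟨w, hw⟩, hwV ⟨w, hw⟩⟩)
  let R : T → CommRingCat.{u} := fun w => Γ(S', V w.1)
  choose ρ hρ using fun w : T => Spec.map_surjective ((hV w.1).fromSpec ≫ g)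
  refine ⟨⟨T, inferInstance, R, fun w => (ρ w).hom, fun w => ?_, fun x => ?_⟩, fun w => ?_⟩
  · rw [CommRingCat.ofHom_hom, hρ]; infer_instance
  · obtain ⟨w, hw, hwx⟩ : x ∈ g.base '' (W : Set S') := by rw [hW]; trivial
    obtain ⟨t, ht, hwt⟩ := Set.mem_iUnion₂.mp (hT hw)
    obtain ⟨p, hp⟩ : w ∈ Set.range (hV t).fromSpec.base := by rw [(hV t).range_fromSpec]; exact hwt
    refine ⟨⟨t, ht⟩, p, ?_⟩
    rw [CommRingCat.ofHom_hom, hρ, Scheme.Hom.comp_apply, hp, hwx]
  · obtain ⟨M, _, ⟨e⟩⟩ := hP (w.1 : S')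
    have hr : Set.range (hV w.1).fromSpec.base ⊆ Set.range (U (w.1 : S')).ι.base := by
      rw [(hV w.1).range_fromSpec, Scheme.Opens.range_ι]; exact hVU w.1
    refine ⟨M, inferInstance, ⟨Pres.ofChart e (IsOpenImmersion.lift (U (w.1 : S')).ι (hV w.1).fromSpec hr) _ ?_⟩⟩
    rw [← Category.assoc, IsOpenImmersion.lift_fac, CommRingCat.ofHom_hom, hρ]

/-- the disjoint union of the family -/
noncomputable def FFFam.π (F : FFFam R₀) : (∐ fun i => Spec (F.R i)) ⟶ Spec (CommRingCat.of R₀) :=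
  Limits.Sigma.desc fun i => Spec.map (CommRingCat.ofHom (F.ρ i))

theorem FFFam.ι_π (F : FFFam R₀) (i : F.I) :
    Limits.Sigma.ι (fun i => Spec (F.R i)) i ≫ F.π = Spec.map (CommRingCat.ofHom (F.ρ i)) :=
  Limits.Sigma.ι_desc _ _

instance (F : FFFam R₀) : Flat F.π :=
  IsZariskiLocalAtSource.of_openCover (P := @Flat) (sigmaOpenCover fun i => Spec (F.R i)) fun i => by
    change Flat (Limits.Sigma.ι (fun i => Spec (F.R i)) i ≫ F.π)
    rw [F.ι_π]; exact F.flat i

instance (F : FFFam R₀) : Surjective F.π := ⟨fun x => by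
  obtain ⟨i, p, hp⟩ := F.surj x
  refine ⟨(Limits.Sigma.ι (fun i => Spec (F.R i)) i).base p, ?_⟩
  rw [← Scheme.Hom.comp_apply, F.ι_π]; exact hp⟩

instance (F : FFFam R₀) : QuasiCompact F.π := inferInstance

/-- morphisms from an algebra agree if they agree after extending along the family -/
theorem FFFam.tst_hom_ext (F : FFFam R₀) {X : Over (Spec (CommRingCat.of R₀))} {D : Type u} [CommRing D]
    {f : R₀ →+* D} {x x' : Tst f ⟶ X}
    (h : ∀ (i : F.I) (D' : Type u) [CommRing D'] (g : (F.R i : Type u) →+* D') (l : D →+* D')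
      (hl : l.comp f = g.comp (F.ρ i)), tst l hl ≫ x = tst l hl ≫ x') : x = x' := by
  refine Over.OverMorphism.ext ?_
  let q := pullback.fst (Spec.map (CommRingCat.ofHom f)) F.π
  have : Epi q := Flat.epi_of_flat_of_surjective _
  have key : q ≫ x.left = q ≫ x'.left := by
    refine Scheme.Cover.hom_ext (Scheme.Pullback.openCoverOfRight (sigmaOpenCover fun i => Spec (F.R i))
      (Spec.map (CommRingCat.ofHom f)) F.π) _ _ fun i => ?_
    let ji := Limits.Sigma.ι (fun i => Spec (F.R i)) i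
    let P := pullback (Spec.map (CommRingCat.ofHom f)) (ji ≫ F.π)
    change pullback.map (Spec.map (CommRingCat.ofHom f)) (ji ≫ F.π) (Spec.map (CommRingCat.ofHom f)) F.π
        (𝟙 _) ji (𝟙 _) (by simp) (Category.comp_id _) ≫ q ≫ x.left =
      pullback.map (Spec.map (CommRingCat.ofHom f)) (ji ≫ F.π)
        (Spec.map (CommRingCat.ofHom f)) F.π (𝟙 _) ji (𝟙 _) (by simp) (Category.comp_id _) ≫ q ≫ x'.left
    simp only [q, pullback.lift_fst_assoc, Category.assoc, Category.id_comp]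
    have : IsAffine P := inferInstance
    rw [← cancel_epi P.isoSpec.inv]
    obtain ⟨l, hl⟩ := Spec.map_surjective (P.isoSpec.inv ≫ pullback.fst _ _)
    obtain ⟨g, hg⟩ := Spec.map_surjective (P.isoSpec.inv ≫ pullback.snd _ _)
    have hlf : l.hom.comp f = g.hom.comp (F.ρ i) := by
      refine congrArg CommRingCat.Hom.hom (Spec.map_injective ?_ :
        CommRingCat.ofHom (l.hom.comp f) = CommRingCat.ofHom (g.hom.comp (F.ρ i)))
      rw [specMap_comp, specMap_comp, CommRingCat.ofHom_hom, CommRingCat.ofHom_hom, hl, hg, Category.assoc,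
        Category.assoc, pullback.condition, ← F.ι_π]
    have h2 := congrArg (fun m => m.left) (h i _ g.hom l.hom hlf)
    change Spec.map (CommRingCat.ofHom l.hom) ≫ _ = Spec.map (CommRingCat.ofHom l.hom) ≫ _ at h2
    rw [CommRingCat.ofHom_hom, hl, Category.assoc, Category.assoc] at h2
    exact h2
  exact (cancel_epi q).mp key

/-- a compatible family of points descends -/
theorem FFFam.exists_descend (F : FFFam R₀) {G : Over (Spec (CommRingCat.of R₀))}
    (c : ∀ i, Tst (F.ρ i) ⟶ G)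
    (h : ∀ (i j : F.I) (D : Type u) [CommRing D] (f : R₀ →+* D) (gi : (F.R i : Type u) →+* D)
      (gj : (F.R j : Type u) →+* D) (hi : gi.comp (F.ρ i) = f) (hj : gj.comp (F.ρ j) = f),
      tst gi hi ≫ c i = tst gj hj ≫ c j) :
    ∃ x : 𝟙_ (Over (Spec (CommRingCat.of R₀))) ⟶ G, ∀ i, toUnit (Tst (F.ρ i)) ≫ x = c i := by
  let e : (∐ fun i => Spec (F.R i)) ⟶ G.left := Limits.Sigma.desc fun i => (c i).left
  have hov : e ≫ G.hom = F.π := Limits.Sigma.hom_ext _ _ fun i => by
    rw [← Category.assoc, Limits.Sigma.ι_desc, F.ι_π]; exact Over.w (c i)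
  have hcompat : ∀ {Z : Scheme.{u}} (g₁ g₂ : Z ⟶ ∐ fun i => Spec (F.R i)),
      g₁ ≫ F.π = g₂ ≫ F.π → g₁ ≫ e = g₂ ≫ e := by
    intro Z g₁ g₂ hg
    suffices hp : pullback.fst F.π F.π ≫ e = pullback.snd F.π F.π ≫ e by
      have := congrArg (pullback.lift g₁ g₂ hg ≫ ·) hp
      rw [← Category.assoc, ← Category.assoc, pullback.lift_fst, pullback.lift_snd] at this
      exact this
    refine Scheme.Cover.hom_ext (Scheme.Pullback.openCoverOfLeftRight (sigmaOpenCover fun i => Spec (F.R i))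
      (sigmaOpenCover fun i => Spec (F.R i)) F.π F.π) _ _ fun ij => ?_
    let ji := Limits.Sigma.ι (fun i => Spec (F.R i)) ij.1
    let jj := Limits.Sigma.ι (fun i => Spec (F.R i)) ij.2
    let P := pullback (ji ≫ F.π) (jj ≫ F.π)
    change pullback.map (ji ≫ F.π) (jj ≫ F.π) F.π F.π ji jj (𝟙 _) (Category.comp_id _) (Category.comp_id _) ≫
        pullback.fst F.π F.π ≫ e =
      pullback.map (ji ≫ F.π) (jj ≫ F.π) F.π F.π ji jj (𝟙 _) (Category.comp_id _) (Category.comp_id _) ≫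
        pullback.snd F.π F.π ≫ e
    simp only [pullback.lift_fst_assoc, pullback.lift_snd_assoc, Category.assoc, e, ji, jj, Limits.Sigma.ι_desc]
    have : IsAffine P := inferInstance
    rw [← cancel_epi P.isoSpec.inv]
    obtain ⟨gi, hgi⟩ := Spec.map_surjective (P.isoSpec.inv ≫ pullback.fst _ _)
    obtain ⟨gj, hgj⟩ := Spec.map_surjective (P.isoSpec.inv ≫ pullback.snd _ _)
    have hij : gj.hom.comp (F.ρ ij.2) = gi.hom.comp (F.ρ ij.1) := by
      refine congrArg CommRingCat.Hom.hom (Spec.map_injective ?_ :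
        CommRingCat.ofHom (gj.hom.comp (F.ρ ij.2)) = CommRingCat.ofHom (gi.hom.comp (F.ρ ij.1)))
      rw [specMap_comp, specMap_comp, CommRingCat.ofHom_hom, CommRingCat.ofHom_hom, hgi, hgj, Category.assoc,
        Category.assoc, ← F.ι_π, ← F.ι_π, pullback.condition]
    have h2 := congrArg (fun m => m.left) (h ij.1 ij.2 _ _ gi.hom gj.hom rfl hij)
    change Spec.map (CommRingCat.ofHom gi.hom) ≫ _ = Spec.map (CommRingCat.ofHom gj.hom) ≫ _ at h2
    rw [CommRingCat.ofHom_hom, CommRingCat.ofHom_hom, hgi, hgj, Category.assoc, Category.assoc] at h2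
    exact h2
  let z := EffectiveEpi.desc F.π e hcompat
  have hz : F.π ≫ z = e := EffectiveEpi.fac F.π e hcompat
  refine ⟨Over.homMk z ?_, fun i => Over.OverMorphism.ext ?_⟩
  · rw [← cancel_epi F.π, ← Category.assoc, hz, hov]
    exact (Category.comp_id _).symm
  · change Spec.map (CommRingCat.ofHom (F.ρ i)) ≫ z = _
    rw [← F.ι_π, Category.assoc, hz, Limits.Sigma.ι_desc]

theorem exists_conj_of_eq_mod {G H : Over (Spec (CommRingCat.of R₀))} [GrpObj G] [GrpObj H]
    (hH : IsDiagLoc H) (u v : H ⟶ G) [IsMonHom u] [IsMonHom v] (J : Ideal R₀) (hJ : J ^ 2 = ⊥)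
    (hres : ∀ (D : Type u) [CommRing D] (g : R₀ →+* D), J.map g = ⊥ → ∀ h : Tst g ⟶ H, h ≫ u = h ≫ v) :
    ∃ c : 𝟙_ (Over (Spec (CommRingCat.of R₀))) ⟶ G,
      (∀ (D : Type u) [CommRing D] (f : R₀ →+* D), J.map f = ⊥ → toUnit (Tst f) ≫ c = 1) ∧
      ∀ (X : Over (Spec (CommRingCat.of R₀))) (h : X ⟶ H),
        h ≫ v = (toUnit X ≫ c) * (h ≫ u) * (toUnit X ≫ c)⁻¹ := by
  obtain ⟨F, hF⟩ := exists_charts hH
  choose M hMg hQ using hF
  let Q := fun i => @Classical.ofNonempty _ (hQ i)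
  choose c hc hc0 hconj using fun i => @exists_avg R₀ _ G H _ _ (F.R i) _ (F.ρ i) (M i) (hMg i) u v _ _ J hJ (Q i) hres
  obtain ⟨x, hx⟩ := F.exists_descend c fun i j D _ f gi gj hi hj => by
    let := hMg i
    let := hMg j
    exact IsAvg.unique u v (IsAvg.map u v (hc i) gi f hi) (IsAvg.map u v (hc j) gj f hj)
  have hxt : ∀ (D : Type u) [CommRing D] (f : R₀ →+* D) (i : F.I) (g : (F.R i : Type u) →+* D)
      (hg : g.comp (F.ρ i) = f), toUnit (Tst f) ≫ x = tst g hg ≫ c i := by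
    intro D _ f i g hg
    rw [← hx i, ← Category.assoc, toUnit_unique (tst g hg ≫ toUnit _) (toUnit _)]
  refine ⟨x, fun D _ f hf => F.tst_hom_ext fun i D' _ g l hl => ?_, fun X h => ?_⟩
  · have hg0 : J.map (g.comp (F.ρ i)) = ⊥ := by rw [← hl, ← Ideal.map_map, hf, Ideal.map_bot]
    let l' : (F.R i : Type u) ⧸ J.map (F.ρ i) →+* D' := Ideal.Quotient.lift _ g fun a ha => by
      rw [← Ideal.mem_bot, ← hg0, ← Ideal.map_map]; exact Ideal.mem_map_of_mem g ha
    have hl' : l'.comp ((Ideal.Quotient.mk (J.map (F.ρ i))).comp (F.ρ i)) = g.comp (F.ρ i) :=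
      RingHom.ext fun r => rfl
    have h1 := congrArg (tst l' hl' ≫ ·) (hc0 i)
    simp only [MonObj.comp_one, ← Category.assoc, tst_comp] at h1
    rw [MonObj.comp_one, ← Category.assoc, toUnit_unique (tst l hl ≫ toUnit _) (toUnit _),
      hxt D' _ i g rfl, ← h1]
    rfl
  · refine Over.OverMorphism.ext ?_
    refine Scheme.Cover.hom_ext (X.left.affineCover) _ _ fun k => ?_
    obtain ⟨f, hf⟩ := Spec.map_surjective (X.left.affineCover.f k ≫ X.hom)
    let j : Tst f.hom ⟶ X := Over.homMk (X.left.affineCover.f k) (by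
      change _ = Spec.map (CommRingCat.ofHom f.hom)
      rw [CommRingCat.ofHom_hom, hf])
    suffices hk : j ≫ h ≫ v = j ≫ ((toUnit X ≫ x) * (h ≫ u) * (toUnit X ≫ x)⁻¹) from
      congrArg (fun m => m.left) hk
    simp only [MonObj.comp_mul, GrpObj.comp_inv, ← Category.assoc]
    rw [toUnit_unique (j ≫ toUnit X) (toUnit _)]
    refine F.tst_hom_ext fun i D' _ g l hl => ?_
    simp only [MonObj.comp_mul, GrpObj.comp_inv, ← Category.assoc]
    rw [toUnit_unique (tst l hl ≫ toUnit _) (toUnit _), hxt D' _ i g rfl]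
    let := hMg i
    obtain ⟨χ, hχ⟩ := (Q i).pt_surjective g ((tst l hl ≫ j) ≫ h)
    rw [← hχ]
    exact hconj i D' g χ

end Groth.Agent.H21Diag
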