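import Groth.Agent.H21Diag.HomDS

/-!
Grouplike elements of monoid algebras lift uniquely along nilpotent thickenings.
-/

universe u

namespace Groth.Agent.H21Diag

open MonoidAlgebra

variable {B C : Type u} [CommRing B] [CommRing C] {N N' : Type} [CommMonoid N] [CommMonoid N']

/-- grouplike elements of a monoid algebra -/
def IsGL (w : MonoidAlgebra B N) : Prop :=
  mapDomainRingHom B ((MonoidHom.id N).prod (MonoidHom.id N)) w =
    mapDomainRingHom B (MonoidHom.inl N N) w * mapDomainRingHom B (MonoidHom.inr N N) w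

theorem isGL_one : IsGL (1 : MonoidAlgebra B N) := by simp [IsGL]

theorem IsGL.mul {w w' : MonoidAlgebra B N} (h : IsGL w) (h' : IsGL w') : IsGL (w * w') := by
  unfold IsGL at h h' ⊢
  rw [map_mul, map_mul, map_mul, h, h']
  ring

theorem gl_idem {w : MonoidAlgebra B N} (hw : IsGL w) (a : N) : IsIdempotentElem (w.coeff a) := by
  classical
  simpa [IsIdempotentElem] using grouplike_coeff w hw a a

theorem gl_ext (f : B →+* C) (hker : ∀ x ∈ RingHom.ker f, IsNilpotent x) {w w' : MonoidAlgebra B N}
    (hw : IsGL w) (hw' : IsGL w') (h : mapRingHom N f w = mapRingHom N f w') : w = w' := by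
  refine MonoidAlgebra.ext (Finsupp.ext fun a => ?_)
  refine eq_of_isNilpotent_sub_of_isIdempotentElem (gl_idem hw a) (gl_idem hw' a) (hker _ ?_)
  rw [RingHom.mem_ker, map_sub, sub_eq_zero]
  simpa [coeff_mapRingHom] using congrArg (fun z => z.coeff a) h

theorem exists_gl_lift (f : B →+* C) (hf : Function.Surjective f)
    (hker : ∀ x ∈ RingHom.ker f, IsNilpotent x) {v : MonoidAlgebra C N} (hv : IsGL v) :
    ∃ w : MonoidAlgebra B N, IsGL w ∧ mapRingHom N f w = v := by
  classical
  choose e he using fun a => (existsUnique_isIdempotentElem_eq_of_ker_isNilpotent f hker (v.coeff a)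
    (hf _) (gl_idem hv a)).exists
  have he0 : ∀ a, a ∉ v.coeff.support → e a = 0 := fun a ha => by
    refine eq_of_isNilpotent_sub_of_isIdempotentElem (he a).1 IsIdempotentElem.zero (hker _ ?_)
    rw [RingHom.mem_ker, sub_zero, (he a).2]
    exact Finsupp.notMem_support_iff.mp ha
  have horth : ∀ a b, e a * e b = if a = b then e a else 0 := by
    intro a b
    by_cases hab : a = b
    · subst hab; rw [if_pos rfl]; exact (he a).1
    · rw [if_neg hab]
      refine eq_of_isNilpotent_sub_of_isIdempotentElem ((he a).1.mul (he b).1) IsIdempotentElem.zero (hker _ ?_)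
      rw [RingHom.mem_ker, sub_zero, map_mul, (he a).2, (he b).2, grouplike_coeff v hv a b, if_neg hab]
  refine ⟨∑ a ∈ v.coeff.support, single a (e a), ?_, ?_⟩
  · unfold IsGL
    simp only [map_sum, mapDomainRingHom_apply, mapDomain_single, Finset.sum_mul_sum, single_mul_single,
      MonoidHom.inl_apply, MonoidHom.inr_apply, Prod.mk_mul_mk, _root_.one_mul, _root_.mul_one, horth]
    refine Finset.sum_congr rfl fun a ha => ?_
    rw [Finset.sum_eq_single a (fun b _ hb => by rw [if_neg (Ne.symm hb), single_zero])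
      (fun h => absurd ha h), if_pos rfl]
    rfl
  · rw [map_sum]
    simp only [mapRingHom_single, (he _).2]
    exact MonoidAlgebra.sum_coeff_single v

/-- homomorphisms into the grouplike elements lift -/
theorem exists_gl_hom_lift (f : B →+* C) (hf : Function.Surjective f)
    (hker : ∀ x ∈ RingHom.ker f, IsNilpotent x) (θ₀ : N' →* MonoidAlgebra C N) (h : ∀ m, IsGL (θ₀ m)) :
    ∃ θ : N' →* MonoidAlgebra B N, (∀ m, IsGL (θ m)) ∧ ∀ m, mapRingHom N f (θ m) = θ₀ m := by
  choose θ hθ hθ' using fun m => exists_gl_lift f hf hker (h m)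
  refine ⟨⟨⟨θ, gl_ext f hker (hθ 1) isGL_one (by rw [hθ', map_one, map_one])⟩, fun x y =>
    gl_ext f hker (hθ _) ((hθ x).mul (hθ y)) (by rw [hθ', map_mul, map_mul, hθ', hθ'])⟩, hθ, hθ'⟩

/-- evaluation at characters is multiplicative on grouplike elements -/
theorem IsGL.eval_mul {D : Type u} [CommRing D] {w : MonoidAlgebra B N} (hw : IsGL w) (g : B →+* D)
    (χ χ' : N →* D) :
    liftNCRingHom g (χ * χ') (fun _ _ => Commute.all _ _) w =
      liftNCRingHom g χ (fun _ _ => Commute.all _ _) w * liftNCRingHom g χ' (fun _ _ => Commute.all _ _) w := by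
  let ev : MonoidAlgebra B (N × N) →+* D :=
    liftNCRingHom g (χ.coprod χ') fun _ _ => Commute.all _ _
  have h := congrArg ev hw
  rw [map_mul] at h
  have key : ∀ (F : N →* N × N) (χ₀ : N →* D), (χ.coprod χ').comp F = χ₀ →
      ev (mapDomainRingHom B F w) = liftNCRingHom g χ₀ (fun _ _ => Commute.all _ _) w := by
    intro F χ₀ hF
    rw [← RingHom.comp_apply]
    refine RingHom.congr_fun (MonoidAlgebra.ringHom_ext (fun b => ?_) fun n => ?_) w
    · simp [ev]
    · simp [ev, ← hF]
  rw [key _ (χ * χ') (MonoidHom.ext fun n => by simp), key _ χ (MonoidHom.ext fun n => by simp),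
    key _ χ' (MonoidHom.ext fun n => by simp)] at h
  exact h

end Groth.Agent.H21Diag
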