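import Groth.Agent.H21Diag.Averaging
import Groth.Agent.H21Diag.GroupLike

/-!
The average does not depend on the presentation, and is compatible with change of rings.
-/

open CategoryTheory MonoidalCategory CartesianMonoidalCategory MonObj GrpObj AlgebraicGeometry
open CategoryTheory.Limits

universe u

namespace Groth.Agent.H21Diag

variable {R₀ : Type u} [CommRing R₀] {G H : Over (Spec (CommRingCat.of R₀))} [GrpObj G] [GrpObj H]
  {R : Type u} [CommRing R] {ρ : R₀ →+* R} {M M' : Type} [AddCommGroup M] [AddCommGroup M'] (u v : H ⟶ G)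

theorem Pres.pt_congr (Q : Pres H ρ M) {D : Type u} [CommRing D] {g g' : R →+* D} (h : g = g')
    (χ : Multiplicative M →* D) : (Q.pt g χ).left = (Q.pt g' χ).left := by
  subst h; rfl

omit [GrpObj G] in
theorem Pres.transfer_nat (Q : Pres H ρ M) (Q' : Pres H ρ M') {D D' : Type u} [CommRing D] [CommRing D']
    (f : D →+* D') {g : R →+* D} {g' : R →+* D'} (hg : f.comp g = g') {χ : Multiplicative M →* D}
    {χ' : Multiplicative M' →* D} (h : Q'.pt g χ' = Q.pt g χ) :
    Q'.pt g' (f.toMonoidHom.comp χ') = Q.pt g' (f.toMonoidHom.comp χ) := by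
  subst hg
  rw [← Q.pt_nat f g χ, ← Q'.pt_nat f g χ', h]

theorem transfer_isGL (Q : Pres H ρ M) (Q' : Pres H ρ M')
    (θ : Multiplicative M' →* MonoidAlgebra R (Multiplicative M))
    (hθ : Q'.pt MonoidAlgebra.singleOneRingHom θ =
      Q.pt MonoidAlgebra.singleOneRingHom (MonoidAlgebra.of R (Multiplicative M))) (m : Multiplicative M') :
    IsGL (θ m) := by
  let N := Multiplicative M
  let i₁ := MonoidAlgebra.mapDomainRingHom R (MonoidHom.inl N N)
  let i₂ := MonoidAlgebra.mapDomainRingHom R (MonoidHom.inr N N)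
  let d := MonoidAlgebra.mapDomainRingHom R ((MonoidHom.id N).prod (MonoidHom.id N))
  have hs : ∀ (F : N →* N × N), (MonoidAlgebra.mapDomainRingHom R F).comp
      (MonoidAlgebra.singleOneRingHom : R →+* MonoidAlgebra R N) = MonoidAlgebra.singleOneRingHom := fun F =>
    RingHom.ext fun b => by simp
  have key : ∀ (F : N →* N × N), Q'.pt MonoidAlgebra.singleOneRingHom
      ((MonoidAlgebra.mapDomainRingHom R F).toMonoidHom.comp θ) =
      Q.pt MonoidAlgebra.singleOneRingHom ((MonoidAlgebra.mapDomainRingHom R F).toMonoidHom.comp (MonoidAlgebra.of R N)) :=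
    fun F => Q.transfer_nat Q' _ (hs F) hθ
  have hχ : d.toMonoidHom.comp (MonoidAlgebra.of R N) =
      (i₁.toMonoidHom.comp (MonoidAlgebra.of R N)) * (i₂.toMonoidHom.comp (MonoidAlgebra.of R N)) := by
    refine MonoidHom.ext fun n => ?_
    change d (MonoidAlgebra.single n 1) = i₁ (MonoidAlgebra.single n 1) * i₂ (MonoidAlgebra.single n 1)
    simp only [d, i₁, i₂, MonoidAlgebra.mapDomainRingHom_apply, MonoidAlgebra.mapDomain_single,
      MonoidAlgebra.single_mul_single, MonoidHom.prod_apply, MonoidHom.id_apply, MonoidHom.inl_apply,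
      MonoidHom.inr_apply, Prod.mk_mul_mk, _root_.one_mul, _root_.mul_one]
  refine DFunLike.congr_fun (Q'.pt_injective (MonoidAlgebra.singleOneRingHom : R →+* MonoidAlgebra R (N × N))
    (a₁ := d.toMonoidHom.comp θ) (a₂ := (i₁.toMonoidHom.comp θ) * (i₂.toMonoidHom.comp θ)) ?_) m
  rw [Q'.pt_mul, key, key, key, ← Q.pt_mul, hχ]

open MonoidAlgebra in
/-- the constant term of a transition map vanishes off the unit -/
theorem transfer_coeff_one (Q : Pres H ρ M) (Q' : Pres H ρ M')
    (θ : Multiplicative M' →* MonoidAlgebra R (Multiplicative M))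
    (hθ : Q'.pt singleOneRingHom θ = Q.pt singleOneRingHom (of R (Multiplicative M)))
    {n : Multiplicative M'} (hn : n ≠ 1) : (θ n).coeff 1 = 0 := by
  classical
  let x' := Q'.pt (singleOneRingHom : R →+* MonoidAlgebra R (Multiplicative M'))
    (MonoidAlgebra.of R (Multiplicative M'))
  have hex := Q.pt_surjective (singleOneRingHom : R →+* MonoidAlgebra R (Multiplicative M')) x'
  obtain ⟨θ', hθ'⟩ := hex
  let Φ' : MonoidAlgebra R (Multiplicative M) →+* MonoidAlgebra R (Multiplicative M') :=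
    liftNCRingHom singleOneRingHom θ' fun _ _ => Commute.all _ _
  have hΦs : Φ'.comp singleOneRingHom = singleOneRingHom := RingHom.ext fun b => by simp [Φ']
  have hΦu : Φ'.toMonoidHom.comp (of R (Multiplicative M)) = θ' := MonoidHom.ext fun m => by simp [Φ', ← MonoidAlgebra.one_def]
  have hinv : Φ'.toMonoidHom.comp θ = of R (Multiplicative M') := by
    refine Q'.pt_injective (singleOneRingHom : R →+* MonoidAlgebra R (Multiplicative M')) ?_
    rw [Q.transfer_nat Q' Φ' hΦs hθ, hΦu, hθ']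
  set e := (θ n).coeff 1 with he
  have hgl := transfer_isGL Q Q' θ hθ n
  let I : Ideal R := Ideal.span {1 - e}
  let f := Ideal.Quotient.mk I
  have hfe : f e = 1 := by
    rw [← map_one f]; refine (Ideal.Quotient.eq.mpr ?_).symm
    exact Ideal.mem_span_singleton_self _
  have h1 : mapRingHom (Multiplicative M) f (θ n) = 1 := by
    refine MonoidAlgebra.ext (Finsupp.ext fun a => ?_)
    rw [coeff_mapRingHom, MonoidAlgebra.one_def, coeff_single]
    have h2 := congrArg f (grouplike_coeff (θ n) hgl 1 a)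
    rw [map_mul, ← he, hfe, _root_.one_mul] at h2
    by_cases ha : a = 1
    · subst ha; rw [Finsupp.single_eq_same]; exact hfe
    · rw [if_neg (Ne.symm ha), map_zero] at h2
      rw [Finsupp.single_eq_of_ne ha, h2]
  let G' : MonoidAlgebra (R ⧸ I) (Multiplicative M) →+* MonoidAlgebra (R ⧸ I) (Multiplicative M') :=
    liftNCRingHom singleOneRingHom ((mapRingHom (Multiplicative M') f).toMonoidHom.comp θ') fun _ _ => Commute.all _ _
  have hcomm : (mapRingHom (Multiplicative M') f).comp Φ' = G'.comp (mapRingHom (Multiplicative M) f) :=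
    MonoidAlgebra.ringHom_ext (fun b => by simp [Φ', G']) fun m => by simp [Φ', G']
  have h3 : (single n 1 : MonoidAlgebra (R ⧸ I) (Multiplicative M')) = 1 := by
    have h4 := RingHom.congr_fun hcomm (θ n)
    rw [RingHom.comp_apply, RingHom.comp_apply, h1, map_one,
      show Φ' (θ n) = single n 1 from DFunLike.congr_fun hinv n, mapRingHom_single, map_one] at h4
    exact h4
  have h5 : (1 : R ⧸ I) = 0 := by
    have h6 := congrArg (fun w => w.coeff n) h3
    simpa [MonoidAlgebra.one_def, coeff_single, Finsupp.single_eq_of_ne hn, eq_comm] using h6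
  obtain ⟨x, hx⟩ := Ideal.mem_span_singleton'.mp (Ideal.Quotient.eq_zero_iff_mem.mp h5 : (1 : R) ∈ I)
  have h7 : e * e = e := by simpa using grouplike_coeff (θ n) hgl 1 1
  linear_combination (-e) * hx - x * h7

theorem avg_eq_step (Q : Pres H ρ M) (Q' : Pres H ρ M')
    {A A' P P' : Type u} [CommRing A] [CommRing A'] [CommRing P] [CommRing P']
    (s : R →+* A) (s' : R →+* A') (cP : R →+* P) (cP' : R →+* P') (ιP : P →+* A) (ιP' : P' →+* A')
    (hι : Function.Injective ιP) (I : Ideal P) (I' : Ideal P') (hI : IsNilpotent I)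
    (π : P →+* R) (π' : P' →+* R) (Φ : A' →+* A) (φ : P' →+* P)
    (hcP : ιP.comp cP = s) (hcP' : ιP'.comp cP' = s') (hπ : π.comp cP = RingHom.id R)
    (hπ' : π'.comp cP' = RingHom.id R) (hΦ : Φ.comp s' = s) (hφ : ιP.comp φ = Φ.comp ιP')
    (hφc : φ.comp cP' = cP) (hπφ : π.comp φ = π') (hφI : ∀ w ∈ I', φ w ∈ I)
    (χ : Multiplicative M →* A) (χ' : Multiplicative M' →* A')
    (hχ : Q'.pt s (Φ.toMonoidHom.comp χ') = Q.pt s χ)
    (d : Tst (cP.comp ρ) ⟶ G) (d' : Tst (cP'.comp ρ) ⟶ G)
    (hd₁ : tst ιP (by rw [← RingHom.comp_assoc, hcP]) ≫ d = Q.quot u v s χ)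
    (hd₁' : tst ιP' (by rw [← RingHom.comp_assoc, hcP']) ≫ d' = Q'.quot u v s' χ')
    (hd₂ : tst (Ideal.Quotient.mk I) rfl ≫ d = 1) (hd₂' : tst (Ideal.Quotient.mk I') rfl ≫ d' = 1) :
    tst π (g' := ρ) (by rw [← RingHom.comp_assoc, hπ, RingHom.id_comp]) ≫ d =
      tst π' (g' := ρ) (by rw [← RingHom.comp_assoc, hπ', RingHom.id_comp]) ≫ d' := by
  subst hΦ
  have hg : φ.comp (cP'.comp ρ) = cP.comp ρ := by rw [← RingHom.comp_assoc, hφc]
  have key : tst φ hg ≫ d' = d := by
    refine tst_ext ιP I hι hI ?_ ?_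
    · refine Over.OverMorphism.ext ?_
      have h1 : tst (g' := (Φ.comp s').comp ρ) Φ rfl ≫ Q'.quot u v s' χ' =
          Q'.quot u v (Φ.comp s') (Φ.toMonoidHom.comp χ') := Q'.quot_nat u v Φ s' χ'
      have h2 : Q'.quot u v (Φ.comp s') (Φ.toMonoidHom.comp χ') = Q.quot u v (Φ.comp s') χ := by
        simp only [Pres.quot, hχ]
      have h3 := congrArg (fun m => m.left) ((h1.trans h2).trans hd₁.symm)
      have h4 := congrArg (fun m => m.left) hd₁'
      simp only [Over.comp_left] at h3 h4 ⊢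
      rw [← h4] at h3
      refine Eq.trans ?_ h3
      change Spec.map _ ≫ Spec.map _ ≫ _ = Spec.map _ ≫ Spec.map _ ≫ _
      rw [specMap_comp_assoc, specMap_comp_assoc, hφ]
    · let l : P' ⧸ I' →+* P ⧸ I := Ideal.Quotient.lift _ ((Ideal.Quotient.mk I).comp φ) fun w hw =>
        Ideal.Quotient.eq_zero_iff_mem.mpr (hφI w hw)
      have hl : l.comp ((Ideal.Quotient.mk I').comp (cP'.comp ρ)) = (Ideal.Quotient.mk I).comp (cP.comp ρ) := by
        rw [← RingHom.comp_assoc, show l.comp (Ideal.Quotient.mk I') = (Ideal.Quotient.mk I).comp φ from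
          RingHom.ext fun w => rfl, RingHom.comp_assoc, hg]
      have := congrArg (tst l hl ≫ ·) hd₂'
      simp only [MonObj.comp_one, ← Category.assoc, tst_comp] at this
      rw [hd₂, ← this, ← Category.assoc, tst_comp]
      rfl
  rw [← key, ← Category.assoc, tst_comp]
  exact congrArg (· ≫ d') (tst_congr hπφ _ _)

variable [IsMonHom u] [IsMonHom v]

omit [IsMonHom u] [IsMonHom v] in
open MonoidAlgebra in
/-- the average does not depend on the presentation -/
theorem IsAvg.unique {J : Ideal R₀} {hJ : J ^ 2 = ⊥} {Q : Pres H ρ M} {Q' : Pres H ρ M'} {c c' : Tst ρ ⟶ G}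
    (hc : IsAvg u v J hJ Q c) (hc' : IsAvg u v J hJ Q' c') : c = c' := by
  classical
  obtain ⟨d, hd₁, hd₂, rfl⟩ := hc
  obtain ⟨d', hd₁', hd₂', rfl⟩ := hc'
  let x₀ := Q.pt (singleOneRingHom : R →+* MonoidAlgebra R (Multiplicative M))
    (MonoidAlgebra.of R (Multiplicative M))
  have hex := Q'.pt_surjective (singleOneRingHom : R →+* MonoidAlgebra R (Multiplicative M)) x₀
  obtain ⟨θ, hθ⟩ := hex
  let Φ : MonoidAlgebra R (Multiplicative M') →+* MonoidAlgebra R (Multiplicative M) :=
    liftNCRingHom singleOneRingHom θ fun _ _ => Commute.all _ _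
  have hΦs : Φ.comp singleOneRingHom = singleOneRingHom := RingHom.ext fun b => by simp [Φ]
  have hΦs' : Φ.comp singleOneRingHom =
      (singleOneRingHom : R →+* MonoidAlgebra R (Multiplicative M)).comp (RingHom.id R) := by
    rw [RingHom.comp_id, hΦs]
  have hΦu : Φ.toMonoidHom.comp (of R (Multiplicative M')) = θ := MonoidHom.ext fun m => by simp [Φ, ← MonoidAlgebra.one_def]
  have hco : ∀ w : MonoidAlgebra R (Multiplicative M'), (Φ w).coeff 1 = w.coeff 1 := by
    intro w
    induction w using MonoidAlgebra.induction_linear with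
    | zero => simp
    | add a b ha hb => simp [ha, hb]
    | single n r =>
      rw [show Φ (single n r) = single 1 r * θ n from liftNC_single _ _ _ _, coeff_single_one_mul]
      by_cases hn : n = 1
      · subst hn; simp [MonoidAlgebra.one_def]
      · rw [transfer_coeff_one Q Q' θ hθ hn, mul_zero, coeff_single, Finsupp.single_eq_of_ne (Ne.symm hn)]
  have hJr : J.map ρ * J.map ρ = ⊥ := by rw [← Ideal.map_mul, ← pow_two, hJ, Ideal.map_bot]
  have hφc : (offMap (J' := J.map ρ) Φ (RingHom.id R) hΦs' (Ideal.map_id _).le).comp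
      (offConst (J.map ρ) (Multiplicative M')) = offConst (J.map ρ) (Multiplicative M) :=
    RingHom.ext fun r => Subtype.ext (RingHom.congr_fun hΦs r)
  have hχ : Q'.pt (singleOneRingHom : R →+* MonoidAlgebra R (Multiplicative M))
      (Φ.toMonoidHom.comp (MonoidAlgebra.of R (Multiplicative M'))) =
      Q.pt (singleOneRingHom : R →+* MonoidAlgebra R (Multiplicative M))
        (MonoidAlgebra.of R (Multiplicative M)) := by rw [hΦu]; exact hθ
  have hπφ : (offProj (J.map ρ) (Multiplicative M) hJr).comp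
      (offMap (J' := J.map ρ) Φ (RingHom.id R) hΦs' (Ideal.map_id _).le) =
      offProj (J.map ρ) (Multiplicative M') hJr := RingHom.ext fun w => hco _
  have key := avg_eq_step u v Q Q' (singleOneRingHom : R →+* MonoidAlgebra R (Multiplicative M))
    (singleOneRingHom : R →+* MonoidAlgebra R (Multiplicative M')) (offConst (J.map ρ) (Multiplicative M))
    (offConst (J.map ρ) (Multiplicative M')) (offSub (J.map ρ) (Multiplicative M)).subtype
    (offSub (J.map ρ) (Multiplicative M')).subtype Subtype.val_injective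
    (offI (J.map ρ) (Multiplicative M)) (offI (J.map ρ) (Multiplicative M'))
    (offI_nilpotent _ _ hJr) (offProj (J.map ρ) (Multiplicative M) hJr) (offProj (J.map ρ) (Multiplicative M') hJr) Φ
    (offMap (J' := J.map ρ) Φ (RingHom.id R) hΦs' (Ideal.map_id _).le)
    (RingHom.ext fun r => rfl) (RingHom.ext fun r => rfl) (offProj_const _ _ hJr) (offProj_const _ _ hJr) hΦs
    (RingHom.ext fun r => rfl) hφc hπφ
    (fun w hw => offMap_mem Φ (RingHom.id R) hΦs' (Ideal.map_id _).le hw)
    (MonoidAlgebra.of R (Multiplicative M)) (MonoidAlgebra.of R (Multiplicative M')) hχ d d' hd₁ hd₁' hd₂ hd₂'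
  exact key

omit [IsMonHom u] [IsMonHom v] in
theorem avg_map_step (Q : Pres H ρ M) {R' : Type u} [CommRing R'] (κ : R →+* R') (ρ' : R₀ →+* R')
    (hκ : κ.comp ρ = ρ') {A A' P P' : Type u} [CommRing A] [CommRing A'] [CommRing P] [CommRing P']
    (s : R →+* A) (s' : R' →+* A') (cP : R →+* P) (cP' : R' →+* P') (ιP : P →+* A) (ιP' : P' →+* A')
    (I : Ideal P) (I' : Ideal P') (π : P →+* R) (π' : P' →+* R') (Φ : A →+* A') (φ : P →+* P')
    (hcP : ιP.comp cP = s) (hcP' : ιP'.comp cP' = s') (hπ : π.comp cP = RingHom.id R)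
    (hπ' : π'.comp cP' = RingHom.id R') (hΦ : Φ.comp s = s'.comp κ) (hφ : ιP'.comp φ = Φ.comp ιP)
    (hφc : φ.comp cP = cP'.comp κ) (hπφ : π'.comp φ = κ.comp π) (hφI : ∀ w ∈ I, φ w ∈ I')
    (χ : Multiplicative M →* A) (χ' : Multiplicative M →* A') (hχ : Φ.toMonoidHom.comp χ = χ')
    (d : Tst (cP.comp ρ) ⟶ G) (hd₁ : tst ιP (by rw [← RingHom.comp_assoc, hcP]) ≫ d = Q.quot u v s χ)
    (hd₂ : tst (Ideal.Quotient.mk I) rfl ≫ d = 1) :
    ∃ d' : Tst (cP'.comp ρ') ⟶ G,
      tst ιP' (by rw [← RingHom.comp_assoc, hcP']) ≫ d' = (Q.map κ ρ' hκ).quot u v s' χ' ∧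
      tst (Ideal.Quotient.mk I') rfl ≫ d' = 1 ∧
      tst (g' := ρ') κ hκ ≫ tst π (g' := ρ) (by rw [← RingHom.comp_assoc, hπ, RingHom.id_comp]) ≫ d =
        tst π' (g' := ρ') (by rw [← RingHom.comp_assoc, hπ', RingHom.id_comp]) ≫ d' := by
  subst hκ hχ
  have hg : φ.comp (cP.comp ρ) = cP'.comp (κ.comp ρ) := by
    rw [← RingHom.comp_assoc, hφc, RingHom.comp_assoc]
  refine ⟨tst φ hg ≫ d, ?_, ?_, ?_⟩
  · refine Over.OverMorphism.ext ?_
    have hl : ((Q.map κ (κ.comp ρ) rfl).quot u v s' (Φ.toMonoidHom.comp χ)).left =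
        (Q.quot u v (s'.comp κ) (Φ.toMonoidHom.comp χ)).left := by
      have e : (Q.map κ (κ.comp ρ) rfl).quot u v s' (Φ.toMonoidHom.comp χ) =
          tst (g := (s'.comp κ).comp ρ) (g' := s'.comp (κ.comp ρ)) (RingHom.id _)
            (by rw [RingHom.id_comp, RingHom.comp_assoc]) ≫ Q.quot u v (s'.comp κ) (Φ.toMonoidHom.comp χ) := by
        simp only [Pres.quot, Pres.map, MonObj.comp_mul, GrpObj.comp_inv, Category.assoc]
      rw [e]
      exact (congrArg (fun z => Spec.map (CommRingCat.ofHom z) ≫ _) rfl).trans (by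
        change Spec.map _ ≫ _ = _
        rw [CommRingCat.ofHom_id, Spec.map_id]; exact Category.id_comp _)
    have hgen : ∀ (g' : R →+* A') (e : g' = s'.comp κ),
        (Q.quot u v g' (Φ.toMonoidHom.comp χ)).left = (Q.quot u v (s'.comp κ) (Φ.toMonoidHom.comp χ)).left := by
      rintro _ rfl; rfl
    rw [hl, ← hgen _ hΦ]
    have h3 := congrArg (fun m => m.left) (Q.quot_nat u v Φ s χ)
    have h4 := congrArg (fun m => m.left) hd₁
    simp only [Over.comp_left] at h3 h4 ⊢
    rw [← h3, ← h4]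
    change Spec.map _ ≫ Spec.map _ ≫ _ = Spec.map _ ≫ Spec.map _ ≫ _
    rw [specMap_comp_assoc, specMap_comp_assoc, hφ]
  · let l : P ⧸ I →+* P' ⧸ I' := Ideal.Quotient.lift _ ((Ideal.Quotient.mk I').comp φ) fun w hw =>
      Ideal.Quotient.eq_zero_iff_mem.mpr (hφI w hw)
    have hl : l.comp ((Ideal.Quotient.mk I).comp (cP.comp ρ)) =
        (Ideal.Quotient.mk I').comp (cP'.comp (κ.comp ρ)) := by
      rw [← RingHom.comp_assoc, show l.comp (Ideal.Quotient.mk I) = (Ideal.Quotient.mk I').comp φ from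
        RingHom.ext fun w => rfl, RingHom.comp_assoc, hg]
    have := congrArg (tst l hl ≫ ·) hd₂
    simp only [MonObj.comp_one, ← Category.assoc, tst_comp] at this
    rw [← this, ← Category.assoc, tst_comp]
    rfl
  · rw [← Category.assoc, ← Category.assoc, tst_comp, tst_comp]
    exact congrArg (· ≫ d) (tst_congr hπφ.symm _ _)

open MonoidAlgebra in
omit [IsMonHom u] [IsMonHom v] in
/-- averages are compatible with change of rings -/
theorem IsAvg.map {J : Ideal R₀} {hJ : J ^ 2 = ⊥} {Q : Pres H ρ M} {c : Tst ρ ⟶ G} (hc : IsAvg u v J hJ Q c)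
    {R' : Type u} [CommRing R'] (κ : R →+* R') (ρ' : R₀ →+* R') (hκ : κ.comp ρ = ρ') :
    IsAvg u v J hJ (Q.map κ ρ' hκ) (tst κ hκ ≫ c) := by
  obtain ⟨d, hd₁, hd₂, rfl⟩ := hc
  let Φ : MonoidAlgebra R (Multiplicative M) →+* MonoidAlgebra R' (Multiplicative M) :=
    mapRingHom (Multiplicative M) κ
  have hΦs : Φ.comp singleOneRingHom =
      (singleOneRingHom : R' →+* MonoidAlgebra R' (Multiplicative M)).comp κ := RingHom.ext fun b => by simp [Φ]
  have hle : (J.map ρ).map κ ≤ J.map ρ' := by rw [Ideal.map_map, hκ]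
  have hJr : J.map ρ * J.map ρ = ⊥ := by rw [← Ideal.map_mul, ← pow_two, hJ, Ideal.map_bot]
  have hJr' : J.map ρ' * J.map ρ' = ⊥ := by rw [← Ideal.map_mul, ← pow_two, hJ, Ideal.map_bot]
  have hφc : (offMap (J' := J.map ρ') Φ κ hΦs hle).comp (offConst (J.map ρ) (Multiplicative M)) =
      (offConst (J.map ρ') (Multiplicative M)).comp κ :=
    RingHom.ext fun r => Subtype.ext (RingHom.congr_fun hΦs r)
  have hπφ : (offProj (J.map ρ') (Multiplicative M) hJr').comp (offMap (J' := J.map ρ') Φ κ hΦs hle) =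
      κ.comp (offProj (J.map ρ) (Multiplicative M) hJr) := RingHom.ext fun w => coeff_mapRingHom _ _ _
  have hχ : Φ.toMonoidHom.comp (MonoidAlgebra.of R (Multiplicative M)) = MonoidAlgebra.of R' (Multiplicative M) :=
    MonoidHom.ext fun m => by simp [Φ]
  have key := avg_map_step u v Q κ ρ' hκ (singleOneRingHom : R →+* MonoidAlgebra R (Multiplicative M))
    (singleOneRingHom : R' →+* MonoidAlgebra R' (Multiplicative M)) (offConst (J.map ρ) (Multiplicative M))
    (offConst (J.map ρ') (Multiplicative M)) (offSub (J.map ρ) (Multiplicative M)).subtype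
    (offSub (J.map ρ') (Multiplicative M)).subtype (offI (J.map ρ) (Multiplicative M))
    (offI (J.map ρ') (Multiplicative M)) (offProj (J.map ρ) (Multiplicative M) hJr)
    (offProj (J.map ρ') (Multiplicative M) hJr') Φ (offMap (J' := J.map ρ') Φ κ hΦs hle)
    (RingHom.ext fun r => rfl) (RingHom.ext fun r => rfl) (offProj_const _ _ hJr) (offProj_const _ _ hJr') hΦs
    (RingHom.ext fun r => rfl) hφc hπφ (fun w hw => offMap_mem Φ κ hΦs hle hw)
    (MonoidAlgebra.of R (Multiplicative M)) (MonoidAlgebra.of R' (Multiplicative M)) hχ d hd₁ hd₂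
  obtain ⟨d', h1, h2, h3⟩ := key
  exact ⟨d', h1, h2, h3⟩

end Groth.Agent.H21Diag
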