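import Groth.Agent.H21Diag.IntegrateHom

/-!
A homomorphism of base changes as a map on points modulo an ideal.
-/

open CategoryTheory MonoidalCategory CartesianMonoidalCategory MonObj GrpObj AlgebraicGeometry
open CategoryTheory.Limits

universe u

namespace Groth.Agent.H21Diag

variable {R₀ : Type u} [CommRing R₀] {G H : Over (Spec (CommRingCat.of R₀))} [GrpObj G] [GrpObj H] {J : Ideal R₀}

/-- the closed immersion of the quotient -/
noncomputable abbrev modSpec (J : Ideal R₀) : Spec (CommRingCat.of (R₀ ⧸ J)) ⟶ Spec (CommRingCat.of R₀) :=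
  Spec.map (CommRingCat.ofHom (Ideal.Quotient.mk J))

/-- a homomorphism modulo `J` on a point -/
noncomputable def modApp (f₀ : Red.bc (modSpec J) H ⟶ Red.bc (modSpec J) G)
    {X : Over (Spec (CommRingCat.of R₀))} (p : X ⟶ Tst (Ideal.Quotient.mk J)) (a : X ⟶ H) : X ⟶ G :=
  (Over.homMk (𝟙 _) ((Category.id_comp _).trans (Over.w p)) : X ⟶ (Over.map (modSpec J)).obj (Over.mk p.left)) ≫
    bcHom (modSpec J) G (Over.mk p.left) (bcEquiv (modSpec J) H (Over.mk p.left)
      ((Over.homMk (𝟙 _) ((Category.id_comp _).trans (Over.w p).symm) :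
        (Over.map (modSpec J)).obj (Over.mk p.left) ⟶ X) ≫ a) ≫ f₀)

theorem modApp_comp (f₀ : Red.bc (modSpec J) H ⟶ Red.bc (modSpec J) G)
    {X Y : Over (Spec (CommRingCat.of R₀))} (s : Y ⟶ X) (p : X ⟶ Tst (Ideal.Quotient.mk J)) (a : X ⟶ H) :
    s ≫ modApp f₀ p a = modApp f₀ (s ≫ p) (s ≫ a) := by
  let t : Over.mk (s ≫ p).left ⟶ Over.mk p.left := Over.homMk s.left rfl
  let e₁ : X ⟶ (Over.map (modSpec J)).obj (Over.mk p.left) := Over.homMk (𝟙 _) ((Category.id_comp _).trans (Over.w p))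
  let e₂ : Y ⟶ (Over.map (modSpec J)).obj (Over.mk (s ≫ p).left) :=
    Over.homMk (𝟙 _) ((Category.id_comp _).trans (Over.w (s ≫ p)))
  let e₁' : (Over.map (modSpec J)).obj (Over.mk p.left) ⟶ X :=
    Over.homMk (𝟙 _) ((Category.id_comp _).trans (Over.w p).symm)
  let e₂' : (Over.map (modSpec J)).obj (Over.mk (s ≫ p).left) ⟶ Y :=
    Over.homMk (𝟙 _) ((Category.id_comp _).trans (Over.w (s ≫ p)).symm)
  have h1 : s ≫ e₁ = e₂ ≫ (Over.map (modSpec J)).map t :=
    Over.OverMorphism.ext ((Category.comp_id _).trans (Category.id_comp _).symm)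
  have h2 : (Over.map (modSpec J)).map t ≫ e₁' = e₂' ≫ s :=
    Over.OverMorphism.ext ((Category.comp_id _).trans (Category.id_comp _).symm)
  have h3 : t ≫ bcEquiv (modSpec J) H _ (e₁' ≫ a) = bcEquiv (modSpec J) H _ (e₂' ≫ s ≫ a) :=
    ((Over.mapPullbackAdj (modSpec J)).homEquiv_naturality_left t (e₁' ≫ a)).symm.trans
      (congrArg _ (by rw [← Category.assoc, h2, Category.assoc]))
  change s ≫ e₁ ≫ bcHom _ G _ (bcEquiv _ H _ (e₁' ≫ a) ≫ f₀) = e₂ ≫ bcHom _ G _ (bcEquiv _ H _ (e₂' ≫ s ≫ a) ≫ f₀)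
  rw [← Category.assoc, h1, Category.assoc, ← bcHom_precomp, ← Category.assoc t, h3]

theorem modApp_mul (f₀ : Red.bc (modSpec J) H ⟶ Red.bc (modSpec J) G) [IsMonHom f₀]
    {X : Over (Spec (CommRingCat.of R₀))} (p : X ⟶ Tst (Ideal.Quotient.mk J)) (a b : X ⟶ H) :
    modApp f₀ p (a * b) = modApp f₀ p a * modApp f₀ p b := by
  simp only [modApp, MonObj.comp_mul, bcEquiv_mul, MonObj.mul_comp, map_mul]

/-- a homomorphism modulo `J` as a morphism -/
noncomputable def modHom (f₀ : Red.bc (modSpec J) H ⟶ Red.bc (modSpec J) G) :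
    Tst (Ideal.Quotient.mk J) ⊗ H ⟶ G :=
  modApp f₀ (fst _ _) (snd _ _)

theorem lift_modHom (f₀ : Red.bc (modSpec J) H ⟶ Red.bc (modSpec J) G)
    {X : Over (Spec (CommRingCat.of R₀))} (p : X ⟶ Tst (Ideal.Quotient.mk J)) (a : X ⟶ H) :
    lift p a ≫ modHom f₀ = modApp f₀ p a := by
  rw [modHom, modApp_comp, lift_fst, lift_snd]

/-- a morphism restricting to `f₀` on points restricts to it -/
theorem map_eq_of_points [IsAffine H.left] (f₀ : Red.bc (modSpec J) H ⟶ Red.bc (modSpec J) G) (f : H ⟶ G)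
    (hf : ∀ (D : Type u) [CommRing D] (k : R₀ →+* D) (p : Tst k ⟶ Tst (Ideal.Quotient.mk J)) (a : Tst k ⟶ H),
      a ≫ f = modApp f₀ p a) :
    (Over.pullback (modSpec J)).map f = f₀ := by
  let T := Red.bc (modSpec J) H
  let X := (Over.map (modSpec J)).obj T
  let p : X ⟶ Tst (Ideal.Quotient.mk J) := Over.homMk T.hom rfl
  let a : X ⟶ H := bcHom (modSpec J) H T (𝟙 T)
  have : IsAffineHom (modSpec J) := inferInstance
  have : IsAffine X.left := by
    change IsAffine (pullback H.hom (modSpec J))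
    infer_instance
  obtain ⟨B, _, β, x, y, hyx, -⟩ := exists_affine_coord (X := X)
  have hall : a ≫ f = modApp f₀ p a := by
    have h1 := hf B β (x ≫ p) (x ≫ a)
    rw [← modApp_comp, Category.assoc] at h1
    have h2 := congrArg (y ≫ ·) h1
    simpa only [← Category.assoc, hyx, Category.id_comp] using h2
  refine (bcEquiv (modSpec J) G T).symm.injective ?_
  have e1 : bcHom (modSpec J) G T ((Over.pullback (modSpec J)).map f) = a ≫ f := by
    rw [← bcHom_comp, Category.id_comp]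
  refine e1.trans (hall.trans ?_)
  have e2 : ∀ z : (Over.map (modSpec J)).obj T ⟶ H,
      (Over.homMk (𝟙 _) ((Category.id_comp _).trans (Over.w p).symm) :
        (Over.map (modSpec J)).obj (Over.mk p.left) ⟶ X) ≫ z = z := fun z => Over.OverMorphism.ext (Category.id_comp _)
  refine Over.OverMorphism.ext ?_
  change 𝟙 _ ≫ _ = _
  rw [Category.id_comp, e2]
  change (bcHom (modSpec J) G T (bcEquiv (modSpec J) H T (bcHom (modSpec J) H T (𝟙 T)) ≫ f₀)).left = _
  rw [show bcEquiv (modSpec J) H T (bcHom (modSpec J) H T (𝟙 T)) = 𝟙 T from Equiv.apply_symm_apply _ _,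
    Category.id_comp]
  rfl

end Groth.Agent.H21Diag
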