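import Groth.Agent.H21Diag.CentralLift
import Groth.Agent.H21Diag.LocallyDiag
import Groth.Agent.H21Diag.Iso

/-!
Commuting subgroups of multiplicative type: inclusion modulo a nilpotent ideal gives inclusion.
-/

open CategoryTheory MonoidalCategory CartesianMonoidalCategory MonObj GrpObj AlgebraicGeometry
open CategoryTheory.Limits

universe u

namespace Groth.Agent.H21Diag

theorem exists_factor_of_mod {R : Type u} [CommRing R] (J : Ideal R) (hJ : IsNilpotent J)
    {G H H' : Over (Spec (CommRingCat.of R))} [GrpObj G] [GrpObj H] [GrpObj H']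
    (hH : IsDiagLoc H) (hH' : IsDiagLoc H') (i : H ⟶ G) [IsMonHom i] (i' : H' ⟶ G) [IsMonHom i'] [Mono i']
    [Mono i'.left]
    (hcomm : ∀ (X : Over (Spec (CommRingCat.of R))) (h : X ⟶ H) (h' : X ⟶ H'),
      (h ≫ i) * (h' ≫ i') = (h' ≫ i') * (h ≫ i))
    (hfac : ∀ (T : Over (Spec (CommRingCat.of R))) (p : T.left ⟶ Spec (CommRingCat.of (R ⧸ J))),
      p ≫ Spec.map (CommRingCat.ofHom (Ideal.Quotient.mk J)) = T.hom →
        ∀ h : T ⟶ H, ∃ h' : T ⟶ H', h' ≫ i' = h ≫ i) :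
    ∃ φ : H ⟶ H', φ ≫ i' = i := by
  obtain ⟨T, g, hg, hs, hqc, hloc⟩ := exists_common_cover_diag hH hH'
  have := isAffineHom_of_diagLoc hH
  let p := pullback.fst i.left i'.left
  suffices hp : IsIso p by
    refine ⟨Over.homMk (inv p ≫ pullback.snd i.left i'.left) ?_, Over.OverMorphism.ext ?_⟩
    · have hc : (inv p ≫ pullback.snd i.left i'.left) ≫ i'.left = i.left := by
        rw [Category.assoc, ← pullback.condition, IsIso.inv_hom_id_assoc]
      rw [← Over.w i', ← Category.assoc, hc]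
      exact Over.w i
    · change (inv p ≫ pullback.snd i.left i'.left) ≫ i'.left = i.left
      rw [Category.assoc, ← pullback.condition, IsIso.inv_hom_id_assoc]
  refine of_fpqc_cover (MorphismProperty.isomorphisms Scheme.{u}) g hqc p H.hom fun t => ?_
  obtain ⟨U, htU, ⟨M, _, ⟨e⟩⟩, M', _, ⟨e'⟩⟩ := hloc t
  obtain ⟨V, hV, htV, hVU⟩ := exists_isAffineOpen_mem_and_subset (U := U) (x := t) htU
  have hr : Set.range hV.fromSpec.base ⊆ Set.range U.ι.base := by
    rw [hV.range_fromSpec, Scheme.Opens.range_ι]; exact hVU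
  refine ⟨_, hV.fromSpec, inferInstance, by rw [hV.range_fromSpec]; exact htV, ?_⟩
  let y : Spec (CommRingCat.of Γ(T, V)) ⟶ (U : Scheme.{u}) := IsOpenImmersion.lift U.ι hV.fromSpec hr
  have hy : y ≫ U.ι ≫ g = hV.fromSpec ≫ g := by rw [← Category.assoc, IsOpenImmersion.lift_fac]
  obtain ⟨ρ, hρ⟩ := Spec.map_surjective (y ≫ U.ι ≫ g)
  have hchart := lift_char e e' i i' hcomm y (J.map ρ.hom) (hJ.map (Ideal.mapHom ρ.hom)) (by
    intro D _ c hc χ
    let pJ : Spec (CommRingCat.of D) ⟶ Spec (CommRingCat.of (R ⧸ J)) :=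
      Spec.map (CommRingCat.ofHom (Ideal.Quotient.lift J (c.comp ρ.hom) fun a ha => by
        rw [← Ideal.mem_bot, ← hc]; exact Ideal.mem_map_of_mem c (Ideal.mem_map_of_mem _ ha)))
    obtain ⟨h', hh'⟩ := hfac (Over.mk ((Spec.map (CommRingCat.ofHom c) ≫ y) ≫ U.ι ≫ g)) pJ (by
      change pJ ≫ _ = (Spec.map (CommRingCat.ofHom c) ≫ y) ≫ U.ι ≫ g
      rw [Category.assoc, ← hρ, ← CommRingCat.ofHom_hom ρ, ← specMap_comp, ← specMap_comp]
      exact congrArg (fun w => Spec.map (CommRingCat.ofHom w))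
        (RingHom.ext fun a => rfl))
      (gpt e (Spec.map (CommRingCat.ofHom c) ≫ y) χ)
    obtain ⟨χ', hχ'⟩ := gpt_surjective e' (Spec.map (CommRingCat.ofHom c) ≫ y) h'
    exact ⟨χ', by rw [hχ', hh']⟩)
  -- a section of the pullback
  obtain ⟨θ, hθ, hθf, hθs⟩ := exists_chart_iso e y
  obtain ⟨χ', hχ'⟩ := hchart _ (MonoidAlgebra.singleOneRingHom : Γ(T, V) →+* MonoidAlgebra Γ(T, V) (Multiplicative M))
    (MonoidAlgebra.of Γ(T, V) (Multiplicative M))
  rw [← hy]
  let c : pullback H.hom (y ≫ U.ι ≫ g) ⟶ pullback i.left i'.left :=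
    pullback.lift (pullback.fst _ _) (inv θ ≫ (gpt e' _ χ').left) (by
      rw [Category.assoc, IsIso.eq_inv_comp, ← Category.assoc, hθf]
      exact congrArg (fun z => z.left) hχ')
  let q := pullback.snd p (pullback.fst H.hom (y ≫ U.ι ≫ g))
  let c' : pullback H.hom (y ≫ U.ι ≫ g) ⟶ pullback p (pullback.fst H.hom (y ≫ U.ι ≫ g)) :=
    pullback.lift c (𝟙 _) (by rw [Category.id_comp]; exact pullback.lift_fst _ _ _)
  have hcq : c' ≫ q = 𝟙 _ := pullback.lift_snd _ _ _
  have : Mono p := inferInstance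
  have : Mono q := inferInstance
  refine ⟨⟨c', ?_, hcq⟩⟩
  rw [← cancel_mono q, Category.assoc, hcq, Category.comp_id, Category.id_comp]

end Groth.Agent.H21Diag
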