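import Groth.Agent.H21Diag.RigidFam
import Groth.Agent.H21Diag.GroupLike

/-!
Points of commuting diagonalisable subgroups: equality modulo a nilpotent ideal gives equality.
-/

open CategoryTheory MonoidalCategory CartesianMonoidalCategory MonObj GrpObj AlgebraicGeometry
open CategoryTheory.Limits

universe u

namespace Groth.Agent.H21Diag

variable {S U : Scheme.{u}} {u₀ : U ⟶ S} {G H H' : Over S} [GrpObj G] [GrpObj H] [GrpObj H']
  {M M' : Type} [AddCommGroup M] [AddCommGroup M']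
  (e : Grp.mk (Red.bc u₀ H) ≅ Grp.mk (Red.DS U M)) (e' : Grp.mk (Red.bc u₀ H') ≅ Grp.mk (Red.DS U M'))
  (i : H ⟶ G) [IsMonHom i] (i' : H' ⟶ G) [IsMonHom i'] [Mono i']

omit [IsMonHom i'] in
theorem lift_char (hcomm : ∀ (X : Over S) (h : X ⟶ H) (h' : X ⟶ H'),
      (h ≫ i) * (h' ≫ i') = (h' ≫ i') * (h ≫ i)) [IsMonHom i']
    {R : Type u} [CommRing R] (y : Spec (CommRingCat.of R) ⟶ U) (J : Ideal R) (hJ : IsNilpotent J)
    (hfac : ∀ (D : Type u) [CommRing D] (g : R →+* D), J.map g = ⊥ → ∀ χ : Multiplicative M →* D,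
      ∃ χ' : Multiplicative M' →* D, gpt e (Spec.map (CommRingCat.ofHom g) ≫ y) χ ≫ i =
        gpt e' (Spec.map (CommRingCat.ofHom g) ≫ y) χ' ≫ i') :
    ∀ (D : Type u) [CommRing D] (g : R →+* D) (χ : Multiplicative M →* D),
      ∃ χ' : Multiplicative M' →* D, gpt e (Spec.map (CommRingCat.ofHom g) ≫ y) χ ≫ i =
        gpt e' (Spec.map (CommRingCat.ofHom g) ≫ y) χ' ≫ i' := by
  classical
  let P := fun (D : Type u) (_ : CommRing D) (g : R →+* D) (χ : Multiplicative M →* D) =>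
    gpt e (Spec.map (CommRingCat.ofHom g) ≫ y) χ ≫ i
  let P' := fun (D : Type u) (_ : CommRing D) (g : R →+* D) (χ' : Multiplicative M' →* D) =>
    gpt e' (Spec.map (CommRingCat.ofHom g) ≫ y) χ' ≫ i'
  have hnat : ∀ {D D' : Type u} [CommRing D] [CommRing D'] (f : D →+* D') (g : R →+* D)
      (χ : Multiplicative M →* D), (P D' _ (f.comp g) (f.toMonoidHom.comp χ)).left =
        Spec.map (CommRingCat.ofHom f) ≫ (P D _ g χ).left := by
    intro D D' _ _ f g χ
    simp only [P]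
    rw [Over.comp_left, Over.comp_left, ← specMap_comp_assoc g f y, gpt_comp]
    exact Category.assoc _ _ _
  have hnat' : ∀ {D D' : Type u} [CommRing D] [CommRing D'] (f : D →+* D') (g : R →+* D)
      (χ : Multiplicative M' →* D), (P' D' _ (f.comp g) (f.toMonoidHom.comp χ)).left =
        Spec.map (CommRingCat.ofHom f) ≫ (P' D _ g χ).left := by
    intro D D' _ _ f g χ
    simp only [P']
    rw [Over.comp_left, Over.comp_left, ← specMap_comp_assoc g f y, gpt_comp]
    exact Category.assoc _ _ _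
  have hmul : ∀ (D : Type u) [CommRing D] (g : R →+* D) (χ₁ χ₂ : Multiplicative M →* D),
      P D _ g (χ₁ * χ₂) = P D _ g χ₁ * P D _ g χ₂ := fun D _ g χ₁ χ₂ => by
    simp only [P, gpt_mul, MonObj.mul_comp]
  have hmul' : ∀ (D : Type u) [CommRing D] (g : R →+* D) (χ₁ χ₂ : Multiplicative M' →* D),
      P' D _ g (χ₁ * χ₂) = P' D _ g χ₁ * P' D _ g χ₂ := fun D _ g χ₁ χ₂ => by
    simp only [P', gpt_mul, MonObj.mul_comp]
  have huniq : ∀ (D : Type u) [CommRing D] (g : R →+* D) (χ₁ χ₂ : Multiplicative M' →* D),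
      P' D _ g χ₁ = P' D _ g χ₂ → χ₁ = χ₂ := fun D _ g χ₁ χ₂ h =>
    gpt_injective e' _ ((cancel_mono i').mp h)
  -- the character map modulo `J`
  let N := Multiplicative M
  let C := R ⧸ J
  let mk : R →+* C := Ideal.Quotient.mk J
  let s₀ : R →+* MonoidAlgebra C N := (MonoidAlgebra.singleOneRingHom : C →+* MonoidAlgebra C N).comp mk
  have hJmk : J.map mk = ⊥ := Ideal.map_quotient_self J
  obtain ⟨θ₀, hθ₀⟩ := hfac _ s₀ (by rw [← Ideal.map_map, hJmk, Ideal.map_bot]) (MonoidAlgebra.of C N)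
  have hgl : ∀ m, IsGL (θ₀ m) := by
    intro m
    let i₁ := MonoidAlgebra.mapDomainRingHom C (MonoidHom.inl N N)
    let i₂ := MonoidAlgebra.mapDomainRingHom C (MonoidHom.inr N N)
    let d := MonoidAlgebra.mapDomainRingHom C ((MonoidHom.id N).prod (MonoidHom.id N))
    have hs : ∀ (F : N →* N × N), (MonoidAlgebra.mapDomainRingHom C F).comp s₀ =
        (MonoidAlgebra.singleOneRingHom : C →+* MonoidAlgebra C (N × N)).comp mk := fun F =>
      RingHom.ext fun b => by simp [s₀]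
    have hχ : d.toMonoidHom.comp (MonoidAlgebra.of C N) =
        (i₁.toMonoidHom.comp (MonoidAlgebra.of C N)) * (i₂.toMonoidHom.comp (MonoidAlgebra.of C N)) := by
      refine MonoidHom.ext fun n => ?_
      change d (MonoidAlgebra.single n 1) = i₁ (MonoidAlgebra.single n 1) * i₂ (MonoidAlgebra.single n 1)
      simp only [d, i₁, i₂, MonoidAlgebra.mapDomainRingHom_apply, MonoidAlgebra.mapDomain_single,
        MonoidAlgebra.single_mul_single, MonoidHom.prod_apply, MonoidHom.id_apply, MonoidHom.inl_apply,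
        MonoidHom.inr_apply, Prod.mk_mul_mk, _root_.one_mul, _root_.mul_one]
    have key : ∀ (F : N →* N × N), P _ _ ((MonoidAlgebra.singleOneRingHom : C →+* MonoidAlgebra C (N × N)).comp mk)
        ((MonoidAlgebra.mapDomainRingHom C F).toMonoidHom.comp (MonoidAlgebra.of C N)) =
        P' _ _ ((MonoidAlgebra.singleOneRingHom : C →+* MonoidAlgebra C (N × N)).comp mk)
        ((MonoidAlgebra.mapDomainRingHom C F).toMonoidHom.comp θ₀) := by
      intro F
      rw [← hs F]
      refine Over.OverMorphism.ext ?_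
      rw [hnat, hnat']
      exact congrArg (fun z => Spec.map (CommRingCat.ofHom (MonoidAlgebra.mapDomainRingHom C F)) ≫ z)
        (congrArg (fun z => z.left) hθ₀)
    refine DFunLike.congr_fun (huniq _ ((MonoidAlgebra.singleOneRingHom : C →+* MonoidAlgebra C (N × N)).comp mk)
      (d.toMonoidHom.comp θ₀) ((i₁.toMonoidHom.comp θ₀) * (i₂.toMonoidHom.comp θ₀)) ?_) m
    rw [hmul', ← key, ← key, ← key, ← hmul, hχ]
  have hker : ∀ x ∈ RingHom.ker mk, IsNilpotent x := fun x hx => by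
    obtain ⟨n, hn⟩ := hJ
    exact ⟨n, by
      rw [← Ideal.mem_bot, ← Ideal.zero_eq_bot, ← hn]
      exact Ideal.pow_mem_pow (Ideal.Quotient.eq_zero_iff_mem.mp hx) n⟩
  obtain ⟨θ, hθgl, hθ⟩ := exists_gl_hom_lift mk Ideal.Quotient.mk_surjective hker θ₀ hgl
  -- the lifted character map
  let Θ : ∀ {D : Type u} [CommRing D], (R →+* D) → (Multiplicative M →* D) → (Multiplicative M' →* D) :=
    fun {D} _ g χ => (MonoidAlgebra.liftNCRingHom g χ fun _ _ => Commute.all _ _).toMonoidHom.comp θ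
  have hΘmul : ∀ {D : Type u} [CommRing D] (g : R →+* D) (χ₁ χ₂ : Multiplicative M →* D),
      Θ g (χ₁ * χ₂) = Θ g χ₁ * Θ g χ₂ :=
    fun g χ₁ χ₂ => MonoidHom.ext fun m => (hθgl m).eval_mul g χ₁ χ₂
  have hΘnat : ∀ {D D' : Type u} [CommRing D] [CommRing D'] (f : D →+* D') (g : R →+* D)
      (χ : Multiplicative M →* D), Θ (f.comp g) (f.toMonoidHom.comp χ) = f.toMonoidHom.comp (Θ g χ) := by
    intro D D' _ _ f g χ
    refine MonoidHom.ext fun m => ?_
    change (MonoidAlgebra.liftNCRingHom (f.comp g) (f.toMonoidHom.comp χ) fun _ _ => Commute.all _ _) (θ m) =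
      (f.comp (MonoidAlgebra.liftNCRingHom g χ fun _ _ => Commute.all _ _)) (θ m)
    exact RingHom.congr_fun (MonoidAlgebra.ringHom_ext (fun b => by simp) fun n => by simp) (θ m)
  have hΘJ : ∀ (D : Type u) [CommRing D] (g : R →+* D), J.map g = ⊥ → ∀ χ : Multiplicative M →* D,
      P D _ g χ = P' D _ g (Θ g χ) := by
    intro D _ g hg χ
    let gC : C →+* D := Ideal.Quotient.lift J g fun a ha => by
      rw [← Ideal.mem_bot, ← hg]; exact Ideal.mem_map_of_mem g ha
    let ev : MonoidAlgebra C N →+* D := MonoidAlgebra.liftNCRingHom gC χ fun _ _ => Commute.all _ _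
    have h1 : ev.comp s₀ = g := RingHom.ext fun b => by simp [ev, s₀, gC, mk]; exact Ideal.Quotient.lift_mk J g _
    have h2 : ev.toMonoidHom.comp (MonoidAlgebra.of C N) = χ := MonoidHom.ext fun n => by simp [ev]
    have h3 : ev.toMonoidHom.comp θ₀ = Θ g χ := MonoidHom.ext fun m => by
      change ev (θ₀ m) = MonoidAlgebra.liftNCRingHom g χ (fun _ _ => Commute.all _ _) (θ m)
      rw [← hθ, ← RingHom.comp_apply]
      exact RingHom.congr_fun (MonoidAlgebra.ringHom_ext (fun b => by simp [ev, gC, mk]; exact Ideal.Quotient.lift_mk J g _) fun n => by simp [ev]) (θ m)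
    have key : ∀ g' χ₁ χ₂, g' = g → χ₁ = χ → χ₂ = Θ g χ → P D _ g' χ₁ = P' D _ g' χ₂ →
        P D _ g χ = P' D _ g (Θ g χ) := by
      rintro g' χ₁ χ₂ rfl rfl rfl h; exact h
    refine key _ _ _ h1 h2 h3 (Over.OverMorphism.ext ?_)
    rw [hnat, hnat']
    exact congrArg (fun z => Spec.map (CommRingCat.ofHom ev) ≫ z) (congrArg (fun z => z.left) hθ₀)
  -- the difference acts by translations
  let δ := fun (D : Type u) (_ : CommRing D) (g : R →+* D) (χ : Multiplicative M →* D) =>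
    P D _ g χ * (P' D _ g (Θ g χ))⁻¹
  have hδmul : ∀ (D : Type u) [CommRing D] (g : R →+* D) (χ₁ χ₂ : Multiplicative M →* D),
      δ D _ g (χ₁ * χ₂) = δ D _ g χ₁ * δ D _ g χ₂ := by
    intro D _ g χ₁ χ₂
    have hc : Commute (P D _ g χ₂) (P' D _ g (Θ g χ₁)) := hcomm _ _ _
    have hd : Commute (P' D _ g (Θ g χ₁)) (P' D _ g (Θ g χ₂)) := by
      unfold Commute SemiconjBy; rw [← hmul', ← hmul', _root_.mul_comm (Θ g χ₁)]
    simp only [δ, hmul, hΘmul, hmul']
    rw [_root_.mul_inv_rev, ← hd.inv_inv.eq]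
    have h := (hc.inv_right).eq
    simp only [← _root_.mul_assoc]
    rw [_root_.mul_assoc (P D _ g χ₁) (P D _ g χ₂) (P' D _ g (Θ g χ₁))⁻¹, h, ← _root_.mul_assoc]
  have hδnat : ∀ {D D' : Type u} [CommRing D] [CommRing D'] (f : D →+* D') (g : R →+* D)
      (χ : Multiplicative M →* D) (τ : Over.mk ((Spec.map (CommRingCat.ofHom (f.comp g)) ≫ y) ≫ u₀) ⟶
        Over.mk ((Spec.map (CommRingCat.ofHom g) ≫ y) ≫ u₀)), τ.left = Spec.map (CommRingCat.ofHom f) →
      τ ≫ δ D _ g χ = δ D' _ (f.comp g) (f.toMonoidHom.comp χ) := by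
    intro D D' _ _ f g χ τ hτ
    have h1 : τ ≫ P D _ g χ = P D' _ (f.comp g) (f.toMonoidHom.comp χ) := Over.OverMorphism.ext (by
      rw [Over.comp_left, hτ, hnat])
    have h2 : τ ≫ P' D _ g (Θ g χ) = P' D' _ (f.comp g) (Θ (f.comp g) (f.toMonoidHom.comp χ)) :=
      Over.OverMorphism.ext (by rw [Over.comp_left, hτ, hΘnat, hnat'])
    simp only [δ, MonObj.comp_mul, GrpObj.comp_inv, h1, h2]
  -- as a family of translations
  let gg := fun (B : Type u) (_ : CommRing B) (y' : Spec (CommRingCat.of B) ⟶ Spec (CommRingCat.of R)) =>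
    (Spec.preimage y').hom
  have hgg : ∀ (B : Type u) [CommRing B] (y' : Spec (CommRingCat.of B) ⟶ Spec (CommRingCat.of R)),
      Spec.map (CommRingCat.ofHom (gg B _ y')) = y' := fun B _ y' => Spec.map_preimage y'
  let Φ : ActFam (y ≫ u₀) G M :=
    { act := fun {B} _ y' χ x hx =>
        (δ B _ (gg B _ y') χ * (Over.homMk x (by rw [hgg, hx]; exact (Category.assoc _ _ _).symm) :
          Over.mk ((Spec.map (CommRingCat.ofHom (gg B _ y')) ≫ y) ≫ u₀) ⟶ G)).left
      act_over := fun {B} _ y' χ x hx => by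
        refine (Over.w _).trans ?_
        change (Spec.map (CommRingCat.ofHom (gg B _ y')) ≫ y) ≫ u₀ = y' ≫ y ≫ u₀
        rw [hgg, Category.assoc]
      act_comp := fun {B} _ y' χ x hx {B'} _ f => by
        have he : gg B' _ (Spec.map (CommRingCat.ofHom f) ≫ y') = f.comp (gg B _ y') := by
          refine congrArg CommRingCat.Hom.hom (Spec.map_injective ?_ :
            CommRingCat.ofHom (gg B' _ (Spec.map (CommRingCat.ofHom f) ≫ y')) = CommRingCat.ofHom (f.comp (gg B _ y')))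
          rw [hgg, specMap_comp, hgg]
        have key : ∀ (g' : R →+* B') (hg' : g' = f.comp (gg B _ y'))
            (p : (Spec.map (CommRingCat.ofHom f) ≫ x) ≫ G.hom = (Spec.map (CommRingCat.ofHom g') ≫ y) ≫ u₀),
            Spec.map (CommRingCat.ofHom f) ≫ (δ B _ (gg B _ y') χ * (Over.homMk x (by
              rw [hgg, hx]; exact (Category.assoc _ _ _).symm) :
              Over.mk ((Spec.map (CommRingCat.ofHom (gg B _ y')) ≫ y) ≫ u₀) ⟶ G)).left =
            (δ B' _ g' (f.toMonoidHom.comp χ) * (Over.homMk (Spec.map (CommRingCat.ofHom f) ≫ x) p :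
              Over.mk ((Spec.map (CommRingCat.ofHom g') ≫ y) ≫ u₀) ⟶ G)).left := by
          rintro g' rfl p
          let τ : Over.mk ((Spec.map (CommRingCat.ofHom (f.comp (gg B _ y'))) ≫ y) ≫ u₀) ⟶
              Over.mk ((Spec.map (CommRingCat.ofHom (gg B _ y')) ≫ y) ≫ u₀) :=
            Over.homMk (Spec.map (CommRingCat.ofHom f)) (by
              change _ ≫ (Spec.map (CommRingCat.ofHom (gg B _ y')) ≫ y) ≫ u₀ = _
              simp only [Over.mk_hom, Category.assoc, specMap_comp_assoc])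
          rw [← hδnat f (gg B _ y') χ τ rfl]
          exact congrArg (fun z => z.left) (show τ ≫ (δ B _ (gg B _ y') χ * Over.homMk x _) = _ from
            (MonObj.comp_mul _ _ _).trans (congrArg (_ * ·) (Over.OverMorphism.ext rfl)))
        exact key _ he _
      act_mul := fun {B} _ y' χ χ' x hx => by
        rw [hδmul, _root_.mul_assoc]
        rfl }
  have htriv : FamTriv Φ (𝟙 _) J := by
    intro B' _ f hf χ x hx
    have he : gg B' _ (Spec.map (CommRingCat.ofHom f) ≫ 𝟙 _) = f := by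
      refine congrArg CommRingCat.Hom.hom (Spec.map_injective ?_ :
        CommRingCat.ofHom (gg B' _ (Spec.map (CommRingCat.ofHom f) ≫ 𝟙 _)) = CommRingCat.ofHom f)
      rw [hgg, Category.comp_id]
    have h0 : ∀ g', g' = f → δ B' _ g' χ = 1 := by
      rintro g' rfl
      simp only [δ, hΘJ B' _ hf χ, mul_inv_cancel]
    change (δ B' _ _ χ * _).left = x
    rw [h0 _ he, _root_.one_mul]
    rfl
  intro D _ g χ
  refine ⟨Θ g χ, ?_⟩
  have h := fam_act_eq_self (Φ := Φ) (hJ.map (Ideal.mapHom g)) (htriv.map g) χ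
    (1 : Over.mk ((Spec.map (CommRingCat.ofHom g) ≫ y) ≫ u₀) ⟶ G).left
    ((Over.w (1 : Over.mk ((Spec.map (CommRingCat.ofHom g) ≫ y) ≫ u₀) ⟶ G)).trans (by simp))
  have he : gg D _ (Spec.map (CommRingCat.ofHom g) ≫ 𝟙 _) = g := by
    refine congrArg CommRingCat.Hom.hom (Spec.map_injective ?_ :
      CommRingCat.ofHom (gg D _ (Spec.map (CommRingCat.ofHom g) ≫ 𝟙 _)) = CommRingCat.ofHom g)
    rw [hgg, Category.comp_id]
  have key : ∀ (g' : R →+* D) (hg' : g' = g)
      (p : (1 : Over.mk ((Spec.map (CommRingCat.ofHom g) ≫ y) ≫ u₀) ⟶ G).left ≫ G.hom =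
        (Spec.map (CommRingCat.ofHom g') ≫ y) ≫ u₀),
      (δ D _ g' χ * (Over.homMk (1 : Over.mk ((Spec.map (CommRingCat.ofHom g) ≫ y) ≫ u₀) ⟶ G).left p :
        Over.mk ((Spec.map (CommRingCat.ofHom g') ≫ y) ≫ u₀) ⟶ G)).left =
        (1 : Over.mk ((Spec.map (CommRingCat.ofHom g) ≫ y) ≫ u₀) ⟶ G).left → δ D _ g χ = 1 := by
    rintro g' rfl p h'
    have h2 : δ D _ g' χ * 1 = 1 := Over.OverMorphism.ext h'
    rwa [_root_.mul_one] at h2
  exact mul_inv_eq_one.mp (key _ he _ h)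

end Groth.Agent.H21Diag
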