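import Groth.Agent.H21Diag.RedRankLocal
import Groth.Agent.H21Diag.SubgroupEqLocus
import Groth.Agent.H21Diag.MonoClosed

/-!
Maximal tori of commutative groups contain all subtori.
-/

set_option autoImplicit false
set_option linter.style.haveILetI false
set_option linter.unusedSectionVars false
set_option backward.isDefEq.respectTransparency false
set_option synthInstance.maxHeartbeats 400000
set_option maxHeartbeats 1000000

universe u

open CategoryTheory CategoryTheory.Limits MonoidalCategory CartesianMonoidalCategory MonObj AlgebraicGeometry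

noncomputable section

namespace Groth.Agent.H21Diag

/-- compact opens surject onto affine opens along a surjective open map -/
theorem qc_cover_of_openMap {S S' : Scheme.{u}} (f : S' ⟶ S) [Surjective f] (hf : IsOpenMap f.base)
    (V : S.Opens) (hV : IsAffineOpen V) :
    ∃ W : S'.Opens, IsCompact (W : Set S') ∧ f.base '' (W : Set S') = (V : Set S) := by
  have key : ∀ v : (V : Set S), ∃ A : S'.Opens, IsAffineOpen A ∧ A ≤ f ⁻¹ᵁ V ∧ (v : S) ∈ f.base '' (A : Set S') := by
    rintro ⟨v, hv⟩
    obtain ⟨x, rfl⟩ := f.surjective v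
    obtain ⟨A, hA, hxA, hAV⟩ := exists_isAffineOpen_mem_and_subset (U := f ⁻¹ᵁ V) (x := x) hv
    exact ⟨A, hA, hAV, x, hxA, rfl⟩
  choose A hA hAV hv using key
  obtain ⟨F, hF⟩ := hV.isCompact.elim_finite_subcover (fun v => f.base '' (A v : Set S')) (fun v => hf _ (A v).isOpen)
    (fun v hv' => Set.mem_iUnion.mpr ⟨⟨v, hv'⟩, hv ⟨v, hv'⟩⟩)
  refine ⟨⨆ v ∈ F, A v, ?_, ?_⟩
  · simp only [TopologicalSpace.Opens.coe_iSup]
    exact F.isCompact_biUnion fun v _ => (hA v).isCompact
  · simp only [TopologicalSpace.Opens.coe_iSup, Set.image_iUnion]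
    refine subset_antisymm (Set.iUnion₂_subset fun v _ => ?_) hF
    rintro _ ⟨x, hx, rfl⟩
    exact hAV v hx

/-- over an algebraically closed field, a central torus lies in every maximal torus -/
theorem exists_factor_maxTorus_algClosed {K : Type u} [Field K] [IsAlgClosed K]
    {G T R : Over (Spec (CommRingCat.of K))} [GrpObj G] [GrpObj T] [GrpObj R] [Smooth G.hom] [IsAffineHom G.hom]
    {i : T ⟶ G} (hi : Red.IsMaximalTorus i) (j : R ⟶ G) [IsMonHom j] (hR : Red.IsTorus R)
    (hcomm : ∀ (X : Over (Spec (CommRingCat.of K))) (x : X ⟶ R) (g : X ⟶ G), (x ≫ j) * g = g * (x ≫ j)) :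
    ∃ v : R ⟶ T, v ≫ i = j := by
  haveI : IsAffine G.left := isAffine_of_isAffineHom G.hom
  obtain ⟨n, ec, co, hec, -, hprod, hc⟩ := H20Conj.exists_cochars R hR
  haveI := hec
  obtain ⟨g, hg⟩ := H20Conj.exists_conj_factor (H20Conj.isMaxTorus_of_isMaximalTorus hi) (fun k => ec k ≫ j)
    fun a b s t => by
      show _ * _ = _ * _
      rw [← Category.assoc, ← Category.assoc, ← MonObj.mul_comp, ← MonObj.mul_comp, hc]
  choose d hd using hg
  refine ⟨(List.ofFn fun k => co k ≫ d k).prod, ?_⟩
  let ψ : (R ⟶ R) →* (R ⟶ G) :=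
    { toFun := fun a => a ≫ j, map_one' := MonObj.one_comp j, map_mul' := fun a b => MonObj.mul_comp a b j }
  haveI : IsMonHom i := hi.1
  let χ : (R ⟶ T) →* (R ⟶ G) :=
    { toFun := fun a => a ≫ i, map_one' := MonObj.one_comp i, map_mul' := fun a b => MonObj.mul_comp a b i }
  calc (List.ofFn fun k => co k ≫ d k).prod ≫ i = χ (List.ofFn fun k => co k ≫ d k).prod := rfl
    _ = (List.ofFn fun k => χ (co k ≫ d k)).prod := by rw [map_list_prod, List.map_ofFn]; rfl
    _ = (List.ofFn fun k => ψ (co k ≫ ec k)).prod := by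
      congr 1
      refine List.ofFn_inj.mpr (funext fun k => ?_)
      change (co k ≫ d k) ≫ i = (co k ≫ ec k) ≫ j
      rw [Category.assoc, hd, H20Conj.comp_conjBy, AGF.conjBy, ← Category.assoc (co k) (ec k) j, ← hcomm,
        mul_inv_cancel_right]
    _ = ψ (List.ofFn fun k => co k ≫ ec k).prod := by rw [map_list_prod, List.map_ofFn]; rfl
    _ = j := by rw [hprod]; exact Category.id_comp j

/-- In a group where it is central, a torus lies in every maximal torus. -/
theorem exists_le_maxTorus {S : Scheme.{u}} {G T R : Over S} [GrpObj G] [GrpObj T] [GrpObj R] [Smooth G.hom]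
    [IsAffineHom G.hom] {i : T ⟶ G} (hi : Red.IsMaximalTorus i) (j : R ⟶ G) [IsMonHom j] (hR : Red.IsTorus R)
    (hcomm : ∀ (X : Over S) (x : X ⟶ R) (g : X ⟶ G), (x ≫ j) * g = g * (x ≫ j)) :
    ∃ f : R ⟶ T, f ≫ i = j := by
  obtain ⟨hi1, hi2, hT, -⟩ := id hi
  haveI := hi1
  haveI := hi2
  haveI : Mono i.left := (Over.forget S).map_mono i
  have hTm : SGA3x.IsMultTypeFT T := isMultTypeFT_of_isTorus hT
  have hRm : SGA3x.IsMultTypeFT R := isMultTypeFT_of_isTorus hR
  obtain ⟨-, hV⟩ := exists_clopen_le j i hRm hTm (Or.inr inferInstance) fun X h h' => hcomm X h (h' ≫ i)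
  have hall : ∀ s : S, LEOn j i (S.fromSpecResidueField s) := fun s => by
    let d : Spec (CommRingCat.of (AlgebraicClosure (S.residueField s))) ⟶ Spec (S.residueField s) :=
      Spec.map (CommRingCat.ofHom (algebraMap (S.residueField s) (AlgebraicClosure (S.residueField s))))
    haveI : Flat d := Flat.SpecMap_iff.mpr (RingHom.flat_algebraMap_iff.mpr inferInstance)
    haveI : Surjective d := ⟨fun x => ⟨IsLocalRing.closedPoint _, Subsingleton.elim (α := PrimeSpectrum _) _ _⟩⟩
    refine leOn_of_fpqc d _ ?_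
    haveI : Smooth (Red.geomFibre s G).hom := MorphismProperty.pullback_snd (P := @Smooth) _ _ inferInstance
    haveI : IsAffineHom (Red.geomFibre s G).hom := MorphismProperty.pullback_snd (P := @IsAffineHom) _ _ inferInstance
    haveI : IsMonHom ((Over.pullback (Red.geomPt s)).map j) := isMonHom_map _ j
    obtain ⟨ψ, hψ⟩ := exists_factor_maxTorus_algClosed
      (isMaximalTorus_bc inferInstance inferInstance i (Red.geomPt s) hi) ((Over.pullback (Red.geomPt s)).map j)
      (isTorus_bc hR _) fun X x g => by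
        apply (bcEquiv (Red.geomPt s) G X).symm.injective
        rw [bcEquiv_symm_mul, bcEquiv_symm_mul]
        have h : (bcEquiv (Red.geomPt s) G X).symm (x ≫ (Over.pullback (Red.geomPt s)).map j) =
            (bcEquiv (Red.geomPt s) R X).symm x ≫ j :=
          (Over.mapPullbackAdj (Red.geomPt s)).homEquiv_naturality_right_symm x j
        rw [h]
        exact hcomm _ _ _
    exact leOn_of_iso _ ψ hψ
  have hle := hV ⊤ fun s _ => hall s
  obtain ⟨f₀, hf₀⟩ := hle R.left (S.topIso.inv |> fun a => R.hom ≫ a) (Over.homMk (𝟙 R.left) (by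
    change 𝟙 R.left ≫ R.hom = (R.hom ≫ S.topIso.inv) ≫ (⊤ : S.Opens).ι
    rw [Category.id_comp, Category.assoc, ← Scheme.topIso_hom, Iso.inv_hom_id, Category.comp_id]))
  refine ⟨Over.homMk f₀.left ((Over.w f₀).trans ?_), Over.OverMorphism.ext ?_⟩
  · change (R.hom ≫ S.topIso.inv) ≫ (⊤ : S.Opens).ι = R.hom
    rw [Category.assoc, ← Scheme.topIso_hom, Iso.inv_hom_id, Category.comp_id]
  · exact (congrArg (fun m => m.left) hf₀).trans (Category.id_comp j.left)

end Groth.Agent.H21Diag
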