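import Groth.Agent.H21Diag.CentrePiece
import Groth.Agent.H21Diag.SigmaGrp
import Groth.Agent.H21Diag.CommMaxTorus

/-!
Gluing reductive centres given on the pieces of an étale cover.
-/

set_option autoImplicit false
set_option linter.style.haveILetI false
set_option backward.isDefEq.respectTransparency false
set_option synthInstance.maxHeartbeats 400000
set_option maxHeartbeats 1000000

universe u

open CategoryTheory CategoryTheory.Limits MonoidalCategory CartesianMonoidalCategory MonObj AlgebraicGeometry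

noncomputable section

namespace Groth.Agent.H21Diag

variable {S : Scheme.{u}} (G : Over S) [GrpObj G] {I : Type u}
  (U : I → Scheme.{u}) (π : ∀ s, U s ⟶ S)

/-- reductive centres on the pieces glue to one over their disjoint union -/
theorem exists_centre_sigma
    (M : I → Type) (gM : ∀ s, AddCommGroup (M s)) (fM : ∀ s, AddGroup.FG (M s)) (Z : ∀ s, Over (U s))
    (gZ : ∀ s, GrpObj (Z s)) (z : ∀ s, Z s ⟶ Red.bc (π s) G)
    (hiso : ∀ s, Nonempty (Grp.mk (Z s) ≅ Grp.mk (Red.DS (U s) (M s))))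
    (hz : ∀ s, IsPieceCentre (π s) G (z s)) :
    ∃ (Z' : Over (∐ U)) (_ : GrpObj Z') (z' : Z' ⟶ Red.bc (Sigma.desc π) G), (IsMonHom z' ∧ Mono z' ∧ SGA3x.IsMultTypeFT Z' ∧
      (∀ (X : Over (∐ U)) (x : X ⟶ Z') (g : X ⟶ (Red.bc (Sigma.desc π) G)), (x ≫ z') * g = g * (x ≫ z')) ∧
      ∀ (S'' : Scheme.{u}) (f' : S'' ⟶ ∐ U) (H : Over S'') [GrpObj H] (v : H ⟶ Red.bc f' (Red.bc (Sigma.desc π) G)) [IsMonHom v],
        SGA3x.IsMultTypeFT H →
        (∀ (X : Over S'') (x : X ⟶ H) (g : X ⟶ Red.bc f' (Red.bc (Sigma.desc π) G)), (x ≫ v) * g = g * (x ≫ v)) →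
        ∃ w : H ⟶ Red.bc f' Z', w ≫ (Over.pullback f').map z' = v) := by
  let f : (∐ U) ⟶ S := Sigma.desc π
  let θ : ∀ s, Red.bc (Sigma.ι U s) (Red.bc f G) ≅ Red.bc (π s) G := fun s =>
    H21Red0.bcTrans (Sigma.ι U s) f (π s) (Sigma.ι_desc _ _) G
  haveI : ∀ s, IsMonHom (θ s).hom := fun s => H21Red0.isMonHom_bcTrans (Sigma.ι U s) f (π s) (Sigma.ι_desc _ _) G
  haveI : ∀ s, IsMonHom (θ s).inv := fun s => inferInstance
  haveI : ∀ s, IsMonHom (z s ≫ (θ s).inv) := fun s => by haveI := (hz s).1.1; infer_instance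
  haveI : ∀ s, Mono (z s ≫ (θ s).inv) := fun s => by haveI := (hz s).1.2; infer_instance
  obtain ⟨X, gX, x, hx, hxm, hφ⟩ := exists_sigma_sub (Red.bc f G) Z (fun s => z s ≫ (θ s).inv)
  letI := gX
  haveI := hx
  haveI := hxm
  haveI : Mono x.left := (Over.forget _).map_mono x
  choose φ hφm hφx using hφ
  refine ⟨X, gX, x, hx, hxm, ?_, ?_, ?_⟩
  · refine ⟨∐ U, 𝟙 _, inferInstance, inferInstance, fun V hV => ⟨V, hV.isCompact, by simp⟩, fun t => ?_⟩
    obtain ⟨k, p, rfl⟩ := (sigmaOpenCover U).exists_eq t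
    haveI := hφm k
    obtain ⟨e⟩ := hiso k
    exact ⟨(Sigma.ι U k).opensRange, ⟨p, rfl⟩, M k, gM k, fM k,
      isSplit_comp (A := M k) (Sigma.ι U k) (Sigma.ι U k).isoOpensRange.inv
        ((Category.comp_id _).trans (Scheme.Hom.isoOpensRange_inv_comp _).symm) ⟨(Grp.mkIso' (φ k)).symm ≪≫ e⟩⟩
  · intro A a g
    refine Over.OverMorphism.ext (Scheme.Cover.hom_ext (Precoverage.ZeroHypercover.pullback₁ A.hom (sigmaOpenCover U)) _ _ fun k => ?_)
    let B : Over (U k) := Red.bc (Sigma.ι U k) A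
    let c : (Over.map (Sigma.ι U k)).obj B ⟶ A := Over.homMk (pullback.fst A.hom (Sigma.ι U k)) pullback.condition
    suffices h : c ≫ ((a ≫ x) * g) = c ≫ (g * (a ≫ x)) from congrArg (fun m => m.left) h
    let E := bcEquiv (Sigma.ι U k) (Red.bc f G) B
    apply E.injective
    rw [MonObj.comp_mul, MonObj.comp_mul, bcEquiv_mul, bcEquiv_mul, ← Category.assoc c a x,
      show bcEquiv (Sigma.ι U k) (Red.bc f G) B ((c ≫ a) ≫ x) =
        bcEquiv (Sigma.ι U k) X B (c ≫ a) ≫ (Over.pullback (Sigma.ι U k)).map x from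
        (Over.mapPullbackAdj _).homEquiv_naturality_right (c ≫ a) x,
      show (Over.pullback (Sigma.ι U k)).map x = (φ k).inv ≫ z k ≫ (θ k).inv by rw [← hφx k, Iso.inv_hom_id_assoc]]
    apply (cancel_mono (θ k).hom).mp
    simp only [MonObj.mul_comp, Category.assoc, Iso.inv_hom_id, Category.comp_id]
    rw [← Category.assoc]
    exact (hz k).2.1 B _ _
  · intro S'' f' H _ v _ hH hv
    let θ' := H21Red0.bcTrans f' f (f' ≫ f) rfl G
    haveI : IsMonHom θ'.hom := H21Red0.isMonHom_bcTrans f' f _ rfl G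
    let v₂ : H ⟶ Red.bc (f' ≫ f) G := v ≫ θ'.hom
    have hv₂ : ∀ (Y : Over S'') (y : Y ⟶ Red.bc (f' ≫ f) G) (h : Y ⟶ H), y * (h ≫ v₂) = (h ≫ v₂) * y := by
      intro Y y h
      apply (cancel_mono θ'.inv).mp
      simp only [v₂, MonObj.mul_comp, Category.assoc, Iso.hom_inv_id, Category.comp_id]
      exact (hv Y h _).symm
    let A : Over (∐ U) := (Over.map f').obj H
    let a : A ⟶ Red.bc f G := (bcEquiv f' (Red.bc f G) H).symm v
    have ha : a.left ≫ pullback.fst G.hom f = v₂.left ≫ pullback.fst G.hom (f' ≫ f) := by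
      have h0 : a.left = v.left ≫ pullback.fst (pullback.snd G.hom f) f' := by
        rw [← bcEquiv_left_fst f' (Red.bc f G) H a, Equiv.apply_symm_apply]
        rfl
      rw [h0, Category.assoc]
      show _ = (v.left ≫ θ'.hom.left) ≫ _
      rw [Category.assoc, H21Red0.bcTrans_fst]
    let 𝒰 := Precoverage.ZeroHypercover.pullback₁ A.hom (sigmaOpenCover U)
    have key : ∀ k, ∃ m : pullback A.hom (Sigma.ι U k) ⟶ X.left,
        m ≫ X.hom = pullback.fst _ _ ≫ A.hom ∧ m ≫ x.left = pullback.fst _ _ ≫ a.left := by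
      intro k
      let r := pullback.fst f' (Sigma.ι U k)
      let fk := pullback.snd f' (Sigma.ι U k)
      have hq : r ≫ (f' ≫ f) = fk ≫ π k := by
        rw [← Category.assoc, pullback.condition, Category.assoc, Sigma.ι_desc]
      let vk : Red.bc r H ⟶ Red.bc (fk ≫ π k) G := H21Cent.subY v₂ r hq
      haveI : IsMonHom vk := H21Cent.isMonHom_subY v₂ hq
      obtain ⟨w, hw1, hw2⟩ := (hz k).2.2 _ fk (fk ≫ π k) rfl (Red.bc r H) vk (isMultTypeFT_bc hH r)
        fun Y h y => (H21Cent.central_subY v₂ hq hv₂ y h).symm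
      obtain ⟨l, hl1, hl2⟩ : ∃ l : pullback A.hom (Sigma.ι U k) ⟶ (Red.bc r H).left,
          l ≫ pullback.fst H.hom r = pullback.fst A.hom (Sigma.ι U k) ∧
          l ≫ (Red.bc r H).hom ≫ fk = pullback.snd A.hom (Sigma.ι U k) := by
        refine ⟨pullback.lift (pullback.fst A.hom (Sigma.ι U k)) (pullback.lift (pullback.fst _ _ ≫ H.hom)
          (pullback.snd _ _) (by rw [Category.assoc]; exact pullback.condition)) (pullback.lift_fst _ _ _).symm,
          pullback.lift_fst _ _ _, ?_⟩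
        show _ ≫ pullback.snd _ _ ≫ _ = _
        rw [pullback.lift_snd_assoc, pullback.lift_snd]
      have hxk : ((Over.pullback (Sigma.ι U k)).map x).left ≫ pullback.fst (Red.bc f G).hom (Sigma.ι U k) =
          pullback.fst X.hom (Sigma.ι U k) ≫ x.left := pullback.lift_fst _ _ _
      have hsnd : (φ k).hom.left ≫ pullback.snd X.hom (Sigma.ι U k) = (Z k).hom := Over.w (φ k).hom
      have h1 : (l ≫ w ≫ (φ k).hom.left ≫ pullback.fst X.hom (Sigma.ι U k)) ≫ X.hom =
          pullback.fst _ _ ≫ A.hom := by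
        simp only [Category.assoc]
        rw [pullback.condition, reassoc_of% hsnd, reassoc_of% hw1, reassoc_of% hl2]
        exact pullback.condition.symm
      refine ⟨_, h1, pullback.hom_ext ?_ ?_⟩
      · have hjθ : (z k ≫ (θ k).inv).left ≫ pullback.fst (pullback.snd G.hom f) (Sigma.ι U k) ≫ pullback.fst G.hom f =
            (z k).left ≫ pullback.fst G.hom (π k) := by
          rw [← H21Red0.bcTrans_fst (Sigma.ι U k) f (π k) (Sigma.ι_desc _ _), ← Category.assoc, ← Over.comp_left,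
            Category.assoc, Iso.inv_hom_id, Category.comp_id]
        simp only [Category.assoc]
        rw [← reassoc_of% hxk, ← Over.comp_left_assoc, hφx k]
        erw [hjθ, hw2, H21Cent.subY_fst v₂ hq]
        rw [reassoc_of% hl1, ha]
      · refine (Category.assoc _ _ _).trans (Eq.trans ?_ (Category.assoc _ _ _).symm)
        rw [show x.left ≫ pullback.snd G.hom f = X.hom from Over.w x,
          show a.left ≫ pullback.snd G.hom f = A.hom from Over.w a]
        exact h1
    choose m hm1 hm2 using key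
    let b : A.left ⟶ X.left := Scheme.Cover.glueMorphisms 𝒰 m (fun k l => by
      rw [← cancel_mono x.left, Category.assoc, Category.assoc, hm2, hm2, ← Category.assoc, ← Category.assoc]
      exact congrArg (· ≫ a.left) pullback.condition)
    let b' : A ⟶ X := Over.homMk b (Scheme.Cover.hom_ext 𝒰 _ _ fun k => by
      rw [Scheme.Cover.ι_glueMorphisms_assoc]
      exact hm1 k)
    have hb : b' ≫ x = a := Over.OverMorphism.ext (Scheme.Cover.hom_ext 𝒰 _ _ fun k => by
      rw [Over.comp_left, show b'.left = b from rfl, Scheme.Cover.ι_glueMorphisms_assoc]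
      exact hm2 k)
    refine ⟨bcEquiv f' X H b', ?_⟩
    apply (bcEquiv f' (Red.bc f G) H).symm.injective
    rw [bcEquiv_symm_comp_map, Equiv.symm_apply_apply]
    exact hb

end Groth.Agent.H21Diag
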