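import Groth.Agent.H21Diag.CentreWeightsLocal
import Groth.Agent.H21Diag.SelfCentral
import Groth.Agent.H18Torsor.DiagExact
import Groth.Agent.S5247

/-!
Near every point, the intersection of a split torus with the centre is diagonalisable of constant type.
-/

set_option autoImplicit false
set_option linter.unusedSectionVars false
set_option linter.style.haveILetI false
set_option backward.isDefEq.respectTransparency false
set_option synthInstance.maxHeartbeats 400000
set_option maxHeartbeats 1000000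

universe u

open CategoryTheory CategoryTheory.Limits MonoidalCategory CartesianMonoidalCategory MonObj AlgebraicGeometry

noncomputable section

namespace Groth.Agent.H21Diag

/-- a smooth closed subgroup equal to a smooth group with connected fibres on one fibre is so nearby -/
theorem exists_nhd_isIso_closedSubgroup {S : Scheme.{u}} {G C : Over S} [GrpObj G] [GrpObj C] [Smooth G.hom]
    [Smooth C.hom] (hconn : ∀ s : S, _root_.IsConnected (G.hom.base ⁻¹' {s}))
    (j : C ⟶ G) [IsMonHom j] [IsClosedImmersion j.left] {K : Type u} [Field K]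
    (z : Spec (CommRingCat.of K) ⟶ S) [IsIso ((Over.pullback z).map j)] :
    ∃ U : S.Opens, z.base (IsLocalRing.closedPoint K) ∈ U ∧ IsIso ((Over.pullback U.ι).map j) := by
  have hCs : Smooth C.hom := inferInstance
  let s := z.base (IsLocalRing.closedPoint K)
  let ρ := S.fromSpecResidueField s
  let d : Spec (CommRingCat.of K) ⟶ Spec (S.residueField s) :=
    Spec.map (Scheme.descResidueField (Scheme.stalkClosedPointTo z))
  have hd : d ≫ ρ = z := Scheme.descResidueField_stalkClosedPointTo_fromSpecResidueField K S z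
  haveI : Flat d := by
    refine Flat.SpecMap_iff.mpr ?_
    let := (Scheme.descResidueField (Scheme.stalkClosedPointTo z)).hom.toAlgebra
    exact (inferInstance : Module.Flat (S.residueField s) K)
  haveI : Surjective d := ⟨fun x => ⟨IsLocalRing.closedPoint _, Subsingleton.elim (α := PrimeSpectrum _) _ _⟩⟩
  haveI : QuasiCompact d := inferInstance
  haveI : IsIso ((Over.pullback d).map ((Over.pullback ρ).map j)) := by
    have h : IsIso ((Over.pullback (d ≫ ρ)).map j) := by rw [hd]; infer_instance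
    exact (NatIso.isIso_map_iff (Over.pullbackComp d ρ) j).mp h
  haveI : IsIso ((Over.pullback ρ).map j) := isIso_of_isIso_bc d _
  obtain ⟨hopen, heq⟩ := H19Grp.isOpen_etale_and_eq j
  let V : S.Opens := ⟨{t | Etale ((Over.pullback (S.fromSpecResidueField t)).map j).left}, hopen⟩
  refine ⟨V, ?_, ?_⟩
  · show Etale ((Over.pullback ρ).map j).left
    haveI : IsIso ((Over.pullback ρ).map j).left :=
      inferInstanceAs (IsIso ((Over.forget _).map ((Over.pullback ρ).map j)))
    infer_instance
  let g := (Over.pullback V.ι).map j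
  haveI : IsMonHom g := isMonHom_map V.ι j
  haveI : IsClosedImmersion g.left :=
    MorphismProperty.of_isPullback (P := @IsClosedImmersion) (H19Grp.isPullback_map V.ι j) inferInstance
  haveI : Etale g.left := by
    refine H19Grp.of_forall_onNhd @Etale _ fun x => ?_
    refine H19Grp.ptBC_onNhd (P := @Etale) _ _ _ _ (H19Grp.isPullback_map V.ι j) x ?_
    refine (Set.ext_iff.mp heq _).mpr ?_
    have h : C.hom (pullback.fst C.hom V.ι x) = V.ι (pullback.snd C.hom V.ι x) := by
      rw [← Scheme.Hom.comp_apply, pullback.condition, Scheme.Hom.comp_apply]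
    show C.hom (pullback.fst C.hom V.ι x) ∈ V
    rw [h]
    exact (pullback.snd C.hom V.ι x).2
  haveI : IsOpenImmersion g.left := H18Et.TopInv.isOpenImmersion_of_etale_of_universallyInjective g.left
  have hclopen : IsClopen (Set.range g.left.base) :=
    ⟨(Scheme.Hom.isClosedEmbedding g.left).isClosed_range, g.left.isOpenEmbedding.isOpen_range⟩
  haveI : Surjective g.left := ⟨fun y => by
    haveI := geometricallyConnected_of_fibres G hconn
    haveI : GeometricallyConnected (Red.bc V.ι G).hom := inferInstanceAs (GeometricallyConnected (pullback.snd G.hom V.ι))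
    haveI : Smooth (Red.bc V.ι G).hom := MorphismProperty.pullback_snd (P := @Smooth) _ _ ‹Smooth G.hom›
    let t := (Red.bc V.ι G).hom.base y
    refine ((Red.bc V.ι G).hom.isConnected_preimage_singleton t).isPreconnected.subset_isClopen hclopen
      ⟨(η[Red.bc V.ι G]).left.base t, ?_, ⟨(η[Red.bc V.ι C]).left.base t, ?_⟩⟩ rfl
    · show (Red.bc V.ι G).hom.base _ = t
      rw [← Scheme.Hom.comp_apply, Over.w (η[Red.bc V.ι G])]
      rfl
    · rw [← Scheme.Hom.comp_apply, ← Over.comp_left, IsMonHom.one_hom]⟩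
  haveI : IsIso g.left := (isIso_iff_isOpenImmersion_and_epi_base g.left).mpr
    ⟨inferInstance, (TopCat.epi_iff_surjective _).mpr g.left.surjective⟩
  haveI : IsIso ((Over.forget _).map g) := ‹IsIso g.left›
  exact isIso_of_reflects_iso g (Over.forget _)

section

variable {R : Type u} [CommRing R] {G : Over (Spec (CommRingCat.of R))} [GrpObj G]

omit [GrpObj G] in
theorem hom_ext_affine {T : Over (Spec (CommRingCat.of R))} {a b : T ⟶ G}
    (h : ∀ (D : Type u) [CommRing D] (g : R →+* D) (τ : sp g ⟶ T), τ ≫ a = τ ≫ b) : a = b := by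
  refine Over.OverMorphism.ext (Scheme.Cover.hom_ext T.left.affineCover _ _ fun k => ?_)
  obtain ⟨g, hg⟩ := Spec.map_surjective (T.left.affineCover.f k ≫ T.hom)
  let τ : sp g.hom ⟶ T := Over.homMk (T.left.affineCover.f k) hg.symm
  exact congrArg (fun m => m.left) (h _ g.hom τ)

/-- near a prime the central points of a split subtorus are the points of a diagonalisable subgroup -/
theorem exists_nhd_centralType [Smooth G.hom] [IsAffineHom G.hom]
    (hconn : ∀ s, _root_.IsConnected (G.hom.base ⁻¹' {s})) {M : Type} [AddCommGroup M] [AddGroup.FG M]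
    (i : Red.DS (Spec (CommRingCat.of R)) M ⟶ G) [IsMonHom i] (p : PrimeSpectrum R) :
    ∃ (W : (Spec (CommRingCat.of R)).Opens) (Λ : AddSubgroup M), p ∈ W ∧
      (∀ (X : Over (Spec (CommRingCat.of R))), Set.range X.hom.base ⊆ (W : Set _) →
        ∀ (q : X ⟶ Red.DS _ (M ⧸ Λ)) (x : X ⟶ G),
          ((q ≫ Red.DSmap _ (QuotientAddGroup.mk' Λ)) ≫ i) * x =
            x * ((q ≫ Red.DSmap _ (QuotientAddGroup.mk' Λ)) ≫ i)) ∧
      ∀ (X : Over (Spec (CommRingCat.of R))), Set.range X.hom.base ⊆ (W : Set _) →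
        ∀ t : X ⟶ Red.DS _ M, (∀ (X' : Over _) (x : X' ⟶ X) (y : X' ⟶ G),
          ((x ≫ t) ≫ i) * y = y * ((x ≫ t) ≫ i)) →
        ∃ q : X ⟶ Red.DS _ (M ⧸ Λ), q ≫ Red.DSmap _ (QuotientAddGroup.mk' Λ) = t := by
  obtain ⟨Λm, ⟨g₀, hg₀, hKS⟩, hKI⟩ := exists_weights i p
  let Λ : AddSubgroup M := AddSubgroup.toSubgroup.symm Λm
  have hG : Smooth G.hom := inferInstance
  let u : Red.DS (Spec (CommRingCat.of R)) (M ⧸ Λ) ⟶ G := Red.DSmap _ (QuotientAddGroup.mk' Λ) ≫ i
  haveI : AddGroup.FG (M ⧸ Λ) := inferInstance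
  obtain ⟨C, gC, j, ⟨hj, hjm, hC⟩, hjc, hCs⟩ :=
    S5247.result _ G (isMultTypeFT_DS (Spec (CommRingCat.of R)) (M ⧸ Λ)) hG inferInstance u
  letI := gC
  haveI := hj
  haveI := hjm
  haveI := hjc
  haveI := hCs
  let κ := p.asIdeal.ResidueField
  let z : Spec (CommRingCat.of κ) ⟶ Spec (CommRingCat.of R) :=
    Spec.map (CommRingCat.ofHom (algebraMap R κ))
  have hz : z.base (IsLocalRing.closedPoint κ) = p :=
    PrimeSpectrum.ext (comap_closedPoint_residueField p.asIdeal)
  haveI : Mono ((Over.pullback z).map j) :=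
    haveI := (Over.mapPullbackAdj z).isRightAdjoint
    inferInstance
  haveI : IsIso ((Over.pullback z).map j) := by
    let pr : (Over.map z).obj (Red.bc z G) ⟶ G := (bcEquiv z G _).symm (𝟙 _)
    obtain ⟨w, hw⟩ : ∃ w, w ≫ j = pr := by
      refine (hC _ pr).mpr fun X' x h => hom_ext_affine fun D _ g τ => ?_
      rw [MonObj.comp_mul, MonObj.comp_mul]
      obtain ⟨ψ, hψ⟩ := Spec.map_surjective (τ.left ≫ x.left ≫ (Red.bc z G).hom)
      have hgψ : g = ψ.hom.comp (algebraMap R κ) := by
        refine congrArg CommRingCat.Hom.hom (Spec.map_injective (?_ :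
          Spec.map (CommRingCat.ofHom g) = Spec.map (CommRingCat.ofHom (ψ.hom.comp (algebraMap R κ)))))
        rw [specMap_comp, CommRingCat.ofHom_hom, hψ, Category.assoc, Category.assoc]
        exact ((Over.w (τ ≫ x)).symm.trans (Category.assoc _ _ _))
      obtain ⟨χ, hχ⟩ := dpt_surjective (Spec.map (CommRingCat.ofHom g)) (τ ≫ h)
      have h1 : τ ≫ h ≫ u = dpt (Spec.map (CommRingCat.ofHom g))
          (χ.comp (AddMonoidHom.toMultiplicative (QuotientAddGroup.mk' Λ))) ≫ i := by
        rw [← Category.assoc, ← hχ, ← Category.assoc, dpt_comp_DSmap]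
      have h2 := hKI D g ψ.hom hgψ (χ.comp (AddMonoidHom.toMultiplicative (QuotientAddGroup.mk' Λ)))
        (fun l hl => by
          change χ (Multiplicative.ofAdd (QuotientAddGroup.mk' Λ l.toAdd)) = 1
          rw [show QuotientAddGroup.mk' Λ l.toAdd = 0 from (QuotientAddGroup.eq_zero_iff _).mpr hl, ofAdd_zero,
            map_one]) (τ ≫ x ≫ pr)
      rw [h1]
      exact (mul_inv_eq_iff_eq_mul.mp h2).symm
    have h1 : bcEquiv z C _ w ≫ (Over.pullback z).map j = 𝟙 (Red.bc z G) := by
      refine ((Over.mapPullbackAdj z).homEquiv_naturality_right w j).symm.trans ?_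
      rw [hw]
      exact (bcEquiv z G _).apply_symm_apply _
    haveI : IsSplitEpi ((Over.pullback z).map j) := IsSplitEpi.mk' ⟨_, h1⟩
    exact isIso_of_mono_of_isSplitEpi _
  obtain ⟨U, hU, hUiso⟩ := exists_nhd_isIso_closedSubgroup hconn j z
  rw [hz] at hU
  refine ⟨(PrimeSpectrum.basicOpen g₀ : (Spec (CommRingCat.of R)).Opens) ⊓ U, Λ, ⟨hg₀, hU⟩, fun X hX q x => ?_,
    fun X hX t ht => ?_⟩
  · have hr : Set.range X.hom.base ⊆ Set.range U.ι.base := by
      rw [Scheme.Opens.range_ι]
      exact fun a ha => (hX ha).2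
    let XU : Over (U : Scheme.{u}) := Over.mk (IsOpenImmersion.lift U.ι X.hom hr)
    let r : X ⟶ (Over.map U.ι).obj XU :=
      Over.homMk (𝟙 _) ((Category.id_comp _).trans (IsOpenImmersion.lift_fac _ _ _))
    let r' : (Over.map U.ι).obj XU ⟶ X :=
      Over.homMk (𝟙 _) ((Category.id_comp _).trans (IsOpenImmersion.lift_fac U.ι X.hom hr).symm)
    let zU : (Over.map U.ι).obj XU ⟶ C :=
      (bcEquiv U.ι C XU).symm (bcEquiv U.ι G XU (r' ≫ x) ≫ inv ((Over.pullback U.ι).map j))
    have hzU : (r ≫ zU) ≫ j = x := by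
      have h0 : zU ≫ j = (bcEquiv U.ι G XU).symm (bcEquiv U.ι G XU (r' ≫ x)) := by
        refine ((Over.mapPullbackAdj U.ι).homEquiv_naturality_right_symm _ j).symm.trans ?_
        rw [Category.assoc, IsIso.inv_hom_id, Category.comp_id]
        rfl
      rw [Category.assoc, h0, Equiv.symm_apply_apply]
      exact Over.OverMorphism.ext ((Category.id_comp _).trans (Category.id_comp _))
    have h1 := (hC X x).mp ⟨r ≫ zU, hzU⟩ X (𝟙 X) q
    rw [Category.id_comp] at h1
    rw [Category.assoc]
    exact h1.symm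
  · have h1 : t ≫ Red.DSmap _ Λ.subtype = 1 := hom_ext_affine fun D _ g τ => by
      rw [MonObj.comp_one, ← Category.assoc]
      obtain ⟨χ, hχ⟩ := dpt_surjective (Spec.map (CommRingCat.ofHom g)) (τ ≫ t)
      rw [← hχ, dpt_comp_DSmap, ← dpt_one]
      congr 1
      have hu : IsUnit (g g₀) := by
        by_contra hnu
        obtain ⟨m, hm, hgm⟩ := exists_max_ideal_of_mem_nonunits hnu
        have h3 := (hX ⟨τ.left.base ⟨m, hm.isPrime⟩, by
          rw [← Scheme.Hom.comp_apply, Over.w τ]⟩).1
        exact h3 (hgm : g₀ ∈ m.comap g)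
      refine MonoidHom.ext fun l => hKS D g hu χ (fun D' _ φ y => ?_) _ l.toAdd.2
      have h4 := ht _ (spMap φ g ≫ τ) y
      rw [Category.assoc (spMap φ g) τ t, ← hχ, spMap_dpt] at h4
      exact mul_inv_eq_iff_eq_mul.mpr h4
    exact Groth.Agent.H18Torsor.DiagExact.exists_lift_kernel Λ.subtype (QuotientAddGroup.mk' Λ)
      (QuotientAddGroup.mk'_surjective Λ)
      (fun n hn => ⟨⟨n, (QuotientAddGroup.eq_zero_iff n).mp hn⟩, rfl⟩) t h1

end

end Groth.Agent.H21Diag
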