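import Groth.Agent.H21Diag.MonoLocus
import Mathlib.RingTheory.Finiteness.Basic
import Mathlib.RingTheory.Localization.AtPrime.Basic
import Mathlib.LinearAlgebra.TensorProduct.Basic

/-!
Out of a group of multiplicative type and of finite type, a homomorphism with trivial kernel at a point
has trivial kernel nearby.
-/

open CategoryTheory MonoidalCategory CartesianMonoidalCategory MonObj GrpObj AlgebraicGeometry
open CategoryTheory.Limits
open scoped TensorProduct

universe u

set_option backward.isDefEq.respectTransparency false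
set_option maxHeartbeats 800000

namespace Groth.Agent.H21Diag

section algebra

variable {N : Type*} [CommMonoid N] {B D : Type u} [CommRing B] [CommRing D]

/-- evaluation at a character -/
noncomputable def evChar (g : B →+* D) (χ : N →* D) : MonoidAlgebra B N →+* D :=
  MonoidAlgebra.liftNCRingHom g χ fun _ _ => Commute.all _ _

@[simp] theorem evChar_single (g : B →+* D) (χ : N →* D) (m : N) (b : B) :
    evChar g χ (MonoidAlgebra.single m b) = g b * χ m :=
  MonoidAlgebra.liftNC_single _ _ _ _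

theorem evChar_of (g : B →+* D) (χ : N →* D) (m : N) : evChar g χ (MonoidAlgebra.of B N m) = χ m := by
  rw [MonoidAlgebra.of_apply, evChar_single, map_one, _root_.one_mul]

theorem evChar_self (G : MonoidAlgebra B N →+* D) :
    evChar (G.comp MonoidAlgebra.singleOneRingHom) (G.toMonoidHom.comp (MonoidAlgebra.of B N)) = G := by
  refine MonoidAlgebra.ringHom_ext (fun b => ?_) fun m => ?_
  · simp [← map_mul, MonoidAlgebra.single_mul_single]
  · simp [← MonoidAlgebra.one_def]

/-- distinct grouplike units are linearly independent -/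
theorem linearIndepOn_grouplike {K C : Type u} [Field K] [CommRing C] [Algebra K C] [Nontrivial C]
    (Δ : C →ₗ[K] C ⊗[K] C) (T : Set C) (hT : ∀ c ∈ T, Δ c = c ⊗ₜ c ∧ IsUnit c) : LinearIndepOn K id T := by
  classical
  suffices h : ∀ s : Finset C, (s : Set C) ⊆ T → LinearIndepOn K id (s : Set C) from
    linearIndepOn_of_finite T fun t ht htf => by
      have := h htf.toFinset (by simpa using ht)
      simpa using this
  intro s
  induction s using Finset.induction with
  | empty => intro _; simp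
  | insert g s hg ih =>
    intro hsub
    rw [Finset.coe_insert, Set.insert_subset_iff] at hsub
    have hs := ih hsub.2
    rw [Finset.coe_insert]
    refine hs.insert fun hmem => ?_
    rw [Set.image_id, Submodule.mem_span_finset] at hmem
    obtain ⟨b, -, hb⟩ := hmem
    simp only [id_eq] at hb
    let bas := Module.Basis.span hs.linearIndependent
    have hφ : ∀ h : (s : Set C), ∃ φ : C →ₗ[K] K, ∀ l : (s : Set C), φ l = if l = h then 1 else 0 := by
      intro h
      obtain ⟨φ, hφ⟩ := LinearMap.exists_extend (bas.coord h)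
      refine ⟨φ, fun l => ?_⟩
      have h1 := LinearMap.congr_fun hφ (bas l)
      rw [LinearMap.comp_apply, Module.Basis.coord_apply, Module.Basis.repr_self, Finsupp.single_apply] at h1
      rw [← h1]
      exact congrArg φ (congrArg Subtype.val (Module.Basis.span_apply hs.linearIndependent l)).symm
    choose φ hφ using hφ
    have hcoef : ∀ h : (s : Set C), φ h g = b h := by
      intro h
      rw [← hb, map_sum, Finset.sum_eq_single h.1]
      · rw [map_smul, hφ h h, if_pos rfl, smul_eq_mul, _root_.mul_one]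
      · intro l hl hne
        rw [map_smul, hφ h ⟨l, hl⟩, if_neg (fun e => hne (congrArg Subtype.val e)), smul_zero]
      · exact fun hh => absurd h.2 hh
    have hprod : ∀ h l : (s : Set C), b h * b l = if h = l then b h else 0 := by
      intro h l
      let Φ : C ⊗[K] C →ₗ[K] K := (TensorProduct.lid K K).toLinearMap.comp (TensorProduct.map (φ h) (φ l))
      have hΦ : ∀ x y, Φ (x ⊗ₜ y) = φ h x * φ l y := fun x y => by simp [Φ]
      have h1 := hΦ g g
      rw [hcoef, hcoef, ← (hT g hsub.1).1] at h1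
      rw [← h1, ← hb, map_sum, map_sum, Finset.sum_eq_single h.1]
      · rw [map_smul, map_smul, (hT _ (hsub.2 h.2)).1, hΦ, hφ h h, hφ l h, if_pos rfl, smul_eq_mul,
          _root_.one_mul, mul_ite, _root_.mul_one, mul_zero]
      · intro x hx hne
        rw [map_smul, map_smul, (hT _ (hsub.2 hx)).1, hΦ, hφ h ⟨x, hx⟩,
          if_neg (fun e => hne (congrArg Subtype.val e)), zero_mul, smul_zero]
      · exact fun hh => absurd h.2 hh
    obtain ⟨h₀, hh₀, hne⟩ : ∃ h ∈ s, b h ≠ 0 := by
      by_contra hall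
      push_neg at hall
      apply (hT g hsub.1).2.ne_zero
      rw [← hb]
      exact Finset.sum_eq_zero fun x hx => by rw [hall x hx, zero_smul]
    have h1 : b h₀ = 1 := by
      have h2 := hprod ⟨h₀, hh₀⟩ ⟨h₀, hh₀⟩
      rw [if_pos rfl] at h2
      exact (mul_eq_left₀ hne).mp h2
    refine hg ?_
    rw [← hb, Finset.sum_eq_single h₀]
    · rw [h1, one_smul]; exact hh₀
    · intro x hx hxne
      have h2 := hprod ⟨h₀, hh₀⟩ ⟨x, hx⟩
      rw [if_neg (fun e => hxne (congrArg Subtype.val e).symm), h1, _root_.one_mul] at h2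
      rw [h2, zero_smul]
    · exact fun hh => absurd hh₀ hh

/-- a nontrivial finitely generated abelian group has a nontrivial quotient of finite exponent -/
theorem exists_torsion_quotient (Q : Type) [AddCommGroup Q] [Module.Finite ℤ Q] (hQ : ∃ x : Q, x ≠ 0) :
    ∃ (n : ℕ) (P : AddSubgroup Q), 0 < n ∧ P ≠ ⊤ ∧ ∀ x : Q, n • x ∈ P := by
  have hne : (Module.annihilator ℤ Q) ≠ ⊤ := fun h => by
    obtain ⟨x, hx⟩ := hQ
    exact hx ((one_zsmul x).symm.trans (Module.mem_annihilator.mp (h ▸ Submodule.mem_top (x := (1 : ℤ))) x))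
  obtain ⟨q, hq, hle⟩ := Ideal.exists_le_maximal _ hne
  obtain ⟨a, hqa⟩ := (IsPrincipalIdealRing.principal q).principal
  have hqa' : q = Ideal.span {a} := hqa
  have ha : a ≠ 0 := by
    intro h0
    rw [h0, Ideal.span_singleton_eq_bot.mpr rfl] at hqa'
    exact Ring.ne_bot_of_isMaximal_of_not_isField hq Int.not_isField hqa'
  refine ⟨a.natAbs, (q • (⊤ : Submodule ℤ Q)).toAddSubgroup, Int.natAbs_pos.mpr ha, fun htop => ?_, fun x => ?_⟩
  · have hle' : (⊤ : Submodule ℤ Q) ≤ q • ⊤ := fun x _ => by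
      have : x ∈ (q • (⊤ : Submodule ℤ Q)).toAddSubgroup := htop ▸ AddSubgroup.mem_top x
      exact this
    obtain ⟨r, hr, hr'⟩ := Submodule.exists_sub_one_mem_and_smul_eq_zero_of_fg_of_le_smul q ⊤ Module.Finite.fg_top hle'
    have : r ∈ q := hle (Module.mem_annihilator.mpr fun x => hr' x Submodule.mem_top)
    exact hq.ne_top ((Ideal.eq_top_iff_one q).mpr (by simpa using sub_mem this hr))
  · have h1 : ((a.natAbs : ℤ)) ∈ q := by
      rw [hqa', Ideal.mem_span_singleton]
      exact Int.dvd_natAbs.mpr dvd_rfl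
    have h2 := Submodule.smul_mem_smul h1 (Submodule.mem_top (x := x) : x ∈ (⊤ : Submodule ℤ Q))
    rw [natCast_zsmul] at h2
    exact h2

theorem comap_closedPoint_residue {R : Type u} [CommRing R] (P : Ideal R) [P.IsPrime] :
    (IsLocalRing.maximalIdeal (IsLocalRing.ResidueField (Localization.AtPrime P))).comap
      ((IsLocalRing.residue _).comp (algebraMap R (Localization.AtPrime P))) = P := by
  rw [IsLocalRing.maximalIdeal_eq_bot, ← Ideal.comap_comap, ← RingHom.ker_eq_comap_bot, IsLocalRing.ker_residue]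
  exact IsLocalization.AtPrime.comap_maximalIdeal (Localization.AtPrime P) P

theorem comap_closedPoint_residueField {R : Type u} [CommRing R] (P : Ideal R) [P.IsPrime] :
    (IsLocalRing.maximalIdeal P.ResidueField).comap (algebraMap R P.ResidueField) = P := by
  rw [IsLocalRing.maximalIdeal_eq_bot, ← RingHom.ker_eq_comap_bot, Ideal.ker_algebraMap_residueField]

/-- an element vanishing in all algebras inverting the complement of a prime is killed by such an element -/
theorem exists_mul_eq_zero {R C : Type u} [CommRing R] [CommRing C] (p : Ideal R) [p.IsPrime] (ι₀ : R →+* C) (c : C)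
    (h : ∀ (E : Type u) [CommRing E] (ψ : C →+* E), (∀ s ∉ p, IsUnit (ψ (ι₀ s))) → ψ c = 0) :
    ∃ s ∉ p, ι₀ s * c = 0 := by
  let W : Submonoid C := p.primeCompl.map ι₀
  have h1 := h (Localization W) (algebraMap C (Localization W)) fun s hs =>
    IsLocalization.map_units (Localization W) (⟨_, s, hs, rfl⟩ : W)
  obtain ⟨⟨_, s, hs, rfl⟩, hs'⟩ := (IsLocalization.map_eq_zero_iff W (Localization W) c).mp h1
  exact ⟨s, hs, hs'⟩

end algebra

section chart

variable {S U : Scheme.{u}} {u₀ : U ⟶ S} {G X : Over S} [GrpObj G] [GrpObj X] {M : Type} [AddCommGroup M]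
  [AddGroup.FG M] (e : Grp.mk (Red.bc u₀ G) ≅ Grp.mk (Red.DS U M)) (f : G ⟶ X) [IsMonHom f]
  {B : Type u} [CommRing B]

/-- the kernel has trivial points over the chart -/
def KT (y : Spec (CommRingCat.of B) ⟶ U) : Prop :=
  ∀ (D : Type u) [CommRing D] (g : B →+* D) (χ : Multiplicative M →* D),
    gpt e (Spec.map (CommRingCat.ofHom g) ≫ y) χ ≫ f = 1 → χ = 1

omit [IsMonHom f] [AddGroup.FG M] in
theorem KT.comp {y : Spec (CommRingCat.of B) ⟶ U} (h : KT e f y) {C : Type u} [CommRing C] (g : B →+* C) :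
    KT e f (Spec.map (CommRingCat.ofHom g) ≫ y) := by
  intro D _ k χ hχ
  rw [specMap_comp_assoc] at hχ
  exact h D (k.comp g) χ hχ

omit [AddGroup.FG M] in
/-- the kernel is cut out by an ideal -/
theorem exists_kernel_ideal [IsSeparated X.hom] (y : Spec (CommRingCat.of B) ⟶ U) :
    ∃ J : Ideal (MonoidAlgebra B (Multiplicative M)), ∀ (D : Type u) [CommRing D] (g : B →+* D)
      (χ : Multiplicative M →* D),
      gpt e (Spec.map (CommRingCat.ofHom g) ≫ y) χ ≫ f = 1 ↔ J ≤ RingHom.ker (evChar g χ) := by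
  let s₁ : B →+* (MonoidAlgebra B (Multiplicative M)) := MonoidAlgebra.singleOneRingHom
  let y₁ : Spec (CommRingCat.of (MonoidAlgebra B (Multiplicative M))) ⟶ U := Spec.map (CommRingCat.ofHom s₁) ≫ y
  let v : Spec (CommRingCat.of (MonoidAlgebra B (Multiplicative M))) ⟶ X.left :=
    (gpt e y₁ (MonoidAlgebra.of B (Multiplicative M)) ≫ f).left
  have : IsClosedImmersion (η[X]).left := by
    have : IsClosedImmersion ((η[X]).left ≫ X.hom) := by
      rw [one_hom_left]
      exact (inferInstance : IsClosedImmersion (𝟙 S))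
    exact IsClosedImmersion.of_comp _ X.hom
  let j := pullback.fst v (η[X]).left
  have hcl : IsClosedImmersion j := inferInstance
  obtain ⟨J, w, hw⟩ := IsClosedImmersion.Spec_iff.mp hcl
  refine ⟨J, fun D _ g χ => ?_⟩
  let Gh : MonoidAlgebra B (Multiplicative M) →+* D := evChar g χ
  have hg : Gh.comp s₁ = g := RingHom.ext fun b => by simp [Gh, s₁]
  have hχ : Gh.toMonoidHom.comp (MonoidAlgebra.of B _) = χ := MonoidHom.ext fun m => evChar_of g χ m
  have hy' : Spec.map (CommRingCat.ofHom g) ≫ y = Spec.map (CommRingCat.ofHom Gh) ≫ y₁ := by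
    rw [← hg]; exact (specMap_comp_assoc s₁ Gh y).symm
  rw [hy', ← hχ, show evChar g (Gh.toMonoidHom.comp (MonoidAlgebra.of B _)) = Gh from congrArg (evChar g) hχ]
  have h1 : (gpt e (Spec.map (CommRingCat.ofHom Gh) ≫ y₁) (Gh.toMonoidHom.comp (MonoidAlgebra.of B _)) ≫ f).left =
      Spec.map (CommRingCat.ofHom Gh) ≫ v := by
    rw [Over.comp_left, gpt_comp]
    exact Category.assoc _ _ _
  constructor
  · intro h x hx
    let c : Spec (CommRingCat.of D) ⟶ pullback v (η[X]).left :=
      pullback.lift (Spec.map (CommRingCat.ofHom Gh)) ((Spec.map (CommRingCat.ofHom Gh) ≫ y₁) ≫ u₀) (by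
        rw [← h1, h, one_left]; rfl)
    have hc : c ≫ j = Spec.map (CommRingCat.ofHom Gh) := pullback.lift_fst _ _ _
    obtain ⟨ψ, hψ⟩ := Spec.map_surjective (c ≫ w.hom)
    have : Gh = ψ.hom.comp (Ideal.Quotient.mk J) := by
      refine congrArg CommRingCat.Hom.hom (Spec.map_injective (?_ :
        Spec.map (CommRingCat.ofHom Gh) = Spec.map (CommRingCat.ofHom (ψ.hom.comp (Ideal.Quotient.mk J)))))
      rw [specMap_comp, CommRingCat.ofHom_hom, hψ, Category.assoc, ← hw, hc]
    rw [RingHom.mem_ker]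
    change Gh x = 0
    rw [this, RingHom.comp_apply, Ideal.Quotient.eq_zero_iff_mem.mpr hx, map_zero]
  · intro h
    let c : Spec (CommRingCat.of D) ⟶ pullback v (η[X]).left :=
      Spec.map (CommRingCat.ofHom (Ideal.Quotient.lift J Gh h)) ≫ w.inv
    have hc : c ≫ j = Spec.map (CommRingCat.ofHom Gh) := by
      rw [Category.assoc, hw, Iso.inv_hom_id_assoc, ← specMap_comp, Ideal.Quotient.lift_comp_mk]
    refine Over.OverMorphism.ext ?_
    rw [h1, one_left]
    have h2 : Spec.map (CommRingCat.ofHom Gh) ≫ v = (c ≫ pullback.snd _ _) ≫ (η[X]).left := by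
      rw [← hc]
      exact ((Category.assoc c j v).trans (congrArg (c ≫ ·) pullback.condition)).trans (Category.assoc _ _ _).symm
    have h3 : c ≫ pullback.snd _ _ = (Spec.map (CommRingCat.ofHom Gh) ≫ y₁) ≫ u₀ := by
      have h4 := congrArg (· ≫ X.hom) h2
      rw [Category.assoc, Category.assoc, one_hom_left X] at h4
      refine ((Category.comp_id _).symm.trans ((Category.assoc _ _ _).trans h4.symm)).trans ?_
      rw [Over.w]
      exact (Category.assoc _ _ _).symm
    rw [h2, h3]
    rfl

omit [AddGroup.FG M] in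
theorem gpt_one_comp (y : Spec (CommRingCat.of B) ⟶ U) : gpt e y 1 ≫ f = 1 := by
  rw [gpt_one]; exact MonObj.one_comp f

omit [AddGroup.FG M] [IsMonHom f] in
/-- points killing the kernel ideal lie in the kernel -/
theorem kernel_of_le {y : Spec (CommRingCat.of B) ⟶ U} {J : Ideal (MonoidAlgebra B (Multiplicative M))}
    (hJ : ∀ (D : Type u) [CommRing D] (g : B →+* D) (χ : Multiplicative M →* D),
      gpt e (Spec.map (CommRingCat.ofHom g) ≫ y) χ ≫ f = 1 ↔ J ≤ RingHom.ker (evChar g χ))
    {E : Type u} [CommRing E] (φ : MonoidAlgebra B (Multiplicative M) →+* E) (hφ : J ≤ RingHom.ker φ)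
    (g : B →+* E) (hg : φ.comp MonoidAlgebra.singleOneRingHom = g) :
    gpt e (Spec.map (CommRingCat.ofHom g) ≫ y) (φ.toMonoidHom.comp (MonoidAlgebra.of B _)) ≫ f = 1 := by
  subst hg
  refine (hJ _ _ _).mpr ?_
  rw [evChar_self]
  exact hφ

omit [AddGroup.FG M] [IsMonHom f] in
/-- a kernel point read in a residue algebra -/
theorem KT.apply_of_le {y : Spec (CommRingCat.of B) ⟶ U} {J : Ideal (MonoidAlgebra B (Multiplicative M))}
    (hJ : ∀ (D : Type u) [CommRing D] (g : B →+* D) (χ : Multiplicative M →* D),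
      gpt e (Spec.map (CommRingCat.ofHom g) ≫ y) χ ≫ f = 1 ↔ J ≤ RingHom.ker (evChar g χ))
    {κ : Type u} [CommRing κ] (π : B →+* κ) (h : KT e f (Spec.map (CommRingCat.ofHom π) ≫ y))
    {E : Type u} [CommRing E] (φ : MonoidAlgebra B (Multiplicative M) →+* E) (hφ : J ≤ RingHom.ker φ)
    (g' : κ →+* E) (hg : φ.comp MonoidAlgebra.singleOneRingHom = g'.comp π) (m : Multiplicative M) :
    φ (MonoidAlgebra.of B _ m) = 1 := by
  have h1 := kernel_of_le e f hJ φ hφ _ hg
  rw [← specMap_comp_assoc] at h1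
  exact DFunLike.congr_fun (h E g' _ h1) m

omit [AddGroup.FG M] in
/-- products of kernel points -/
theorem kernel_mul {y : Spec (CommRingCat.of B) ⟶ U} {J : Ideal (MonoidAlgebra B (Multiplicative M))}
    (hJ : ∀ (D : Type u) [CommRing D] (g : B →+* D) (χ : Multiplicative M →* D),
      gpt e (Spec.map (CommRingCat.ofHom g) ≫ y) χ ≫ f = 1 ↔ J ≤ RingHom.ker (evChar g χ))
    {E : Type u} [CommRing E] (φ φ' : MonoidAlgebra B (Multiplicative M) →+* E)
    (hφ : J ≤ RingHom.ker φ) (hφ' : J ≤ RingHom.ker φ') (g : B →+* E)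
    (hg : φ.comp MonoidAlgebra.singleOneRingHom = g) (hg' : φ'.comp MonoidAlgebra.singleOneRingHom = g) :
    ∃ ψ : MonoidAlgebra B (Multiplicative M) →+* E, J ≤ RingHom.ker ψ ∧
      ψ.comp MonoidAlgebra.singleOneRingHom = g ∧
      ∀ m, ψ (MonoidAlgebra.of B _ m) = φ (MonoidAlgebra.of B _ m) * φ' (MonoidAlgebra.of B _ m) := by
  refine ⟨evChar g (φ.toMonoidHom.comp (MonoidAlgebra.of B _) * φ'.toMonoidHom.comp (MonoidAlgebra.of B _)),
    (hJ _ _ _).mp ?_, RingHom.ext fun b => by simp [← MonoidAlgebra.one_def], fun m => evChar_of _ _ _⟩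
  rw [gpt_mul, MonObj.mul_comp, kernel_of_le e f hJ φ hφ g hg, kernel_of_le e f hJ φ' hφ' g hg', _root_.mul_one]

/-- torsion points of the kernel over a local ring -/
theorem torsion_trivial [IsSeparated X.hom] [IsLocalRing B] (y : Spec (CommRingCat.of B) ⟶ U)
    (h : KT e f (Spec.map (CommRingCat.ofHom (IsLocalRing.residue B)) ≫ y))
    {D : Type u} [CommRing D] (g : B →+* D) (χ : Multiplicative M →* D)
    (hk : gpt e (Spec.map (CommRingCat.ofHom g) ≫ y) χ ≫ f = 1) (n : ℕ) (hn : 0 < n)
    (hχn : ∀ m, χ m ^ n = 1) : χ = 1 := by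
  classical
  obtain ⟨J, hJ⟩ := exists_kernel_ideal e f y
  let A := MonoidAlgebra B (Multiplicative M)
  let I : Ideal A := J ⊔ Ideal.span (Set.range fun m : Multiplicative M => MonoidAlgebra.of B _ m ^ n - 1)
  have hI : ∀ {E : Type u} [CommRing E] (g' : B →+* E) (χ' : Multiplicative M →* E),
      J ≤ RingHom.ker (evChar g' χ') → (∀ m, χ' m ^ n = 1) → I ≤ RingHom.ker (evChar g' χ') := fun {E} _ g' χ' h1 h2 => by
    refine sup_le h1 (Ideal.span_le.mpr ?_)
    rintro _ ⟨m, rfl⟩
    rw [SetLike.mem_coe, RingHom.mem_ker, map_sub, map_pow, evChar_of, h2, map_one, sub_self]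
  let C := A ⧸ I
  let mk : A →+* C := Ideal.Quotient.mk I
  let x : Multiplicative M →* C := mk.toMonoidHom.comp (MonoidAlgebra.of B _)
  have hxn : ∀ m, x m ^ n = 1 := fun m => by
    change mk _ ^ n = 1
    rw [← map_pow, ← map_one mk]
    exact Ideal.Quotient.eq.mpr (Ideal.mem_sup_right (Ideal.subset_span ⟨m, rfl⟩))
  have hsingle : ∀ (m : Multiplicative M) (b : B), mk (MonoidAlgebra.single m b) = algebraMap B C b * x m := by
    intro m b
    change _ = mk (MonoidAlgebra.single 1 b) * mk (MonoidAlgebra.of B _ m)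
    rw [← map_mul, MonoidAlgebra.of_apply, MonoidAlgebra.single_mul_single, _root_.one_mul, _root_.mul_one]
  have : AddMonoid.FG M := AddGroup.fg_iff_addMonoid_fg.mp inferInstance
  have : Algebra.FiniteType B C := Algebra.FiniteType.of_surjective (Ideal.Quotient.mkₐ B I) Ideal.Quotient.mk_surjective
  have : Algebra.IsIntegral B C := ⟨fun c => by
    obtain ⟨w, rfl⟩ := Ideal.Quotient.mk_surjective c
    induction w using MonoidAlgebra.induction_linear with
    | zero => rw [map_zero]; exact isIntegral_zero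
    | add a b ha hb => rw [map_add]; exact ha.add hb
    | single m b =>
      rw [hsingle]
      exact isIntegral_algebraMap.mul (IsIntegral.of_pow hn (by rw [hxn]; exact isIntegral_one))⟩
  have : Module.Finite B C := Algebra.IsIntegral.finite
  -- the closed fibre
  let mI : Ideal C := (IsLocalRing.maximalIdeal B).map (algebraMap B C)
  have hres : ∀ m, Ideal.Quotient.mk mI (x m) = 1 := by
    intro m
    let q : C →+* C ⧸ mI := Ideal.Quotient.mk mI
    let g' : IsLocalRing.ResidueField B →+* C ⧸ mI :=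
      Ideal.Quotient.lift (IsLocalRing.maximalIdeal B) (q.comp (algebraMap B C)) fun a ha =>
        Ideal.Quotient.eq_zero_iff_mem.mpr (Ideal.mem_map_of_mem _ ha)
    have hg' : g'.comp (IsLocalRing.residue B) = q.comp (algebraMap B C) := RingHom.ext fun a => rfl
    exact KT.apply_of_le (E := C ⧸ mI) e f hJ (IsLocalRing.residue B) h (q.comp mk)
      (fun w hw => by
        rw [RingHom.mem_ker, RingHom.comp_apply, show mk w = 0 from
          Ideal.Quotient.eq_zero_iff_mem.mpr (Ideal.mem_sup_left hw), map_zero])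
      g' (hg'.symm : (q.comp mk).comp MonoidAlgebra.singleOneRingHom = _) m
  have htop : (⊤ : Submodule B C) ≤ LinearMap.range (Algebra.linearMap B C) := by
    refine Submodule.le_of_le_smul_of_le_jacobson_bot Module.Finite.fg_top
      (IsLocalRing.maximalIdeal_le_jacobson ⊥) ?_
    intro c hc
    clear hc
    obtain ⟨w, rfl⟩ := Ideal.Quotient.mk_surjective c
    induction w using MonoidAlgebra.induction_linear with
    | zero => rw [map_zero]; exact zero_mem _
    | add a b ha hb => rw [map_add]; exact add_mem ha hb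
    | single m b =>
      rw [hsingle, show algebraMap B C b * x m = algebraMap B C b + algebraMap B C b * (x m - 1) by ring]
      refine Submodule.add_mem_sup ⟨b, rfl⟩ ?_
      rw [Ideal.smul_top_eq_map, Submodule.restrictScalars_mem]
      exact Ideal.mul_mem_left _ _ (Ideal.Quotient.eq.mp ((hres m).trans (map_one _).symm))
  -- the unit section
  have hone : I ≤ RingHom.ker (evChar (RingHom.id B) (1 : Multiplicative M →* B)) :=
    hI _ _ ((hJ _ _ _).mp (gpt_one_comp e f _)) fun m => by rw [MonoidHom.one_apply, one_pow]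
  let ε : C →+* B := Ideal.Quotient.lift I _ hone
  have hx1 : ∀ m, x m = 1 := fun m => by
    obtain ⟨b, hb⟩ := htop (Submodule.mem_top (x := x m))
    have hb1 : b = 1 := by
      have h1 : ε (algebraMap B C b) = ε (x m) := congrArg ε hb
      change evChar (RingHom.id B) 1 (MonoidAlgebra.single 1 b) = evChar (RingHom.id B) 1 (MonoidAlgebra.of B _ m) at h1
      rw [evChar_single, evChar_of, map_one, _root_.mul_one] at h1
      exact h1
    rw [← hb, hb1]
    exact map_one (algebraMap B C)
  refine MonoidHom.ext fun m => ?_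
  have hle : I ≤ RingHom.ker (evChar g χ) := hI g χ ((hJ _ _ _).mp hk) hχn
  have h1 := congrArg (Ideal.Quotient.lift I _ hle) (hx1 m)
  change evChar g χ (MonoidAlgebra.of B _ m) = _ at h1
  rw [evChar_of, map_one] at h1
  exact h1

omit [AddGroup.FG M] in
/-- the comultiplication of the kernel -/
theorem exists_comul {K : Type u} [Field K] {y : Spec (CommRingCat.of K) ⟶ U}
    {J : Ideal (MonoidAlgebra K (Multiplicative M))}
    (hJ : ∀ (D : Type u) [CommRing D] (g : K →+* D) (χ : Multiplicative M →* D),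
      gpt e (Spec.map (CommRingCat.ofHom g) ≫ y) χ ≫ f = 1 ↔ J ≤ RingHom.ker (evChar g χ))
    {C : Type u} [CommRing C] [Algebra K C] (mk : MonoidAlgebra K (Multiplicative M) →+* C)
    (hmk : J ≤ RingHom.ker mk) (hK : mk.comp MonoidAlgebra.singleOneRingHom = algebraMap K C)
    {E : Type u} [CommRing E] [Algebra K E] (a b : C →ₐ[K] E) :
    ∃ P : MonoidAlgebra K (Multiplicative M) →+* E, J ≤ RingHom.ker P ∧
      P.comp MonoidAlgebra.singleOneRingHom = algebraMap K E ∧
      ∀ m, P (MonoidAlgebra.of K _ m) = a (mk (MonoidAlgebra.of K _ m)) * b (mk (MonoidAlgebra.of K _ m)) := by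
  have h : ∀ c : C →ₐ[K] E, J ≤ RingHom.ker (c.toRingHom.comp mk) ∧
      (c.toRingHom.comp mk).comp MonoidAlgebra.singleOneRingHom = algebraMap K E := fun c =>
    ⟨fun w hw => by
      rw [RingHom.mem_ker, RingHom.comp_apply, RingHom.mem_ker.mp (hmk hw), map_zero],
      by rw [RingHom.comp_assoc, hK]; exact RingHom.ext fun r => c.commutes r⟩
  exact kernel_mul e f hJ (a.toRingHom.comp mk) (b.toRingHom.comp mk) (h a).1 (h b).1 _ (h a).2 (h b).2

omit [AddGroup.FG M] in
/-- the characters on the kernel are independent -/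
theorem linearIndepOn_kernel_char {K : Type u} [Field K] (y : Spec (CommRingCat.of K) ⟶ U)
    (J : Ideal (MonoidAlgebra K (Multiplicative M)))
    (hJ : ∀ (D : Type u) [CommRing D] (g : K →+* D) (χ : Multiplicative M →* D),
      gpt e (Spec.map (CommRingCat.ofHom g) ≫ y) χ ≫ f = 1 ↔ J ≤ RingHom.ker (evChar g χ))
    [Nontrivial (MonoidAlgebra K (Multiplicative M) ⧸ J)] :
    LinearIndepOn K id (Set.range fun m : Multiplicative M => Ideal.Quotient.mk J (MonoidAlgebra.of K _ m)) := by
  obtain ⟨P, hP, hP1, hPm⟩ := exists_comul (C := MonoidAlgebra K (Multiplicative M) ⧸ J)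
    (E := (MonoidAlgebra K (Multiplicative M) ⧸ J) ⊗[K] (MonoidAlgebra K (Multiplicative M) ⧸ J)) e f hJ (Ideal.Quotient.mk J) (Ideal.mk_ker (I := J)).ge rfl
    (Algebra.TensorProduct.includeLeft (R := K) (S := K) (A := MonoidAlgebra K (Multiplicative M) ⧸ J)
      (B := MonoidAlgebra K (Multiplicative M) ⧸ J))
    Algebra.TensorProduct.includeRight
  let Δ₀ := Ideal.Quotient.lift J P hP
  let Δ : (MonoidAlgebra K (Multiplicative M) ⧸ J) →ₗ[K]
      (MonoidAlgebra K (Multiplicative M) ⧸ J) ⊗[K] (MonoidAlgebra K (Multiplicative M) ⧸ J) :=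
    AlgHom.toLinearMap ({ Δ₀ with commutes' := fun r => RingHom.congr_fun hP1 r } :
      (MonoidAlgebra K (Multiplicative M) ⧸ J) →ₐ[K]
        (MonoidAlgebra K (Multiplicative M) ⧸ J) ⊗[K] (MonoidAlgebra K (Multiplicative M) ⧸ J))
  refine linearIndepOn_grouplike Δ _ ?_
  rintro _ ⟨m, rfl⟩
  refine ⟨?_, (Group.isUnit m).map ((Ideal.Quotient.mk J).toMonoidHom.comp (MonoidAlgebra.of K _))⟩
  change P (MonoidAlgebra.of K _ m) = _
  rw [hPm, Algebra.TensorProduct.includeLeft_apply, Algebra.TensorProduct.includeRight_apply,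
    Algebra.TensorProduct.tmul_mul_tmul, _root_.mul_one, _root_.one_mul]

/-- over a field, a nontrivial kernel has nontrivial torsion points -/
theorem exists_torsion_point [IsSeparated X.hom] {K : Type u} [Field K] (y : Spec (CommRingCat.of K) ⟶ U)
    (h : ¬ KT e f y) :
    ∃ (D : Type u) (_ : CommRing D) (g : K →+* D) (χ : Multiplicative M →* D) (n : ℕ),
      gpt e (Spec.map (CommRingCat.ofHom g) ≫ y) χ ≫ f = 1 ∧ 0 < n ∧ (∀ m, χ m ^ n = 1) ∧ χ ≠ 1 := by
  classical
  obtain ⟨J, hJ⟩ := exists_kernel_ideal e f y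
  let A := MonoidAlgebra K (Multiplicative M)
  let C := A ⧸ J
  let mk : A →+* C := Ideal.Quotient.mk J
  let x : Multiplicative M →* C := mk.toMonoidHom.comp (MonoidAlgebra.of K _)
  have hx : gpt e (Spec.map (CommRingCat.ofHom (algebraMap K C)) ≫ y) x ≫ f = 1 := by
    refine (hJ _ _ _).mpr fun w hw => ?_
    have e1 : evChar (algebraMap K C) x = mk := evChar_self mk
    rw [RingHom.mem_ker, e1]
    exact Ideal.Quotient.eq_zero_iff_mem.mpr hw
  have hker : x.ker ≠ ⊤ := by
    intro htop
    refine h fun D _ g χ hχ => MonoidHom.ext fun m => ?_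
    have h1 := congrArg (Ideal.Quotient.lift J _ ((hJ _ _ _).mp hχ)) (MonoidHom.mem_ker.mp (htop ▸ Subgroup.mem_top m : m ∈ x.ker))
    change evChar g χ (MonoidAlgebra.of K _ m) = _ at h1
    rw [evChar_of, map_one] at h1
    exact h1
  have : Nontrivial C := by
    by_contra hC
    rw [not_nontrivial_iff_subsingleton] at hC
    exact hker (eq_top_iff.mpr fun m _ => MonoidHom.mem_ker.mpr (Subsingleton.elim _ _))
  have hli : LinearIndepOn K id (Set.range x) := linearIndepOn_kernel_char e f y J hJ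
  -- a torsion quotient
  have : Module.Finite ℤ M := Module.Finite.iff_addGroup_fg.mpr inferInstance
  let N : AddSubgroup M := AddSubgroup.toSubgroup.symm x.ker
  have hN : ∀ a : M, a ∈ N ↔ x (Multiplicative.ofAdd a) = 1 := fun a => Iff.rfl
  have : Module.Finite ℤ (M ⧸ N) :=
    Module.Finite.of_surjective (QuotientAddGroup.mk' N).toIntLinearMap (QuotientAddGroup.mk'_surjective N)
  obtain ⟨n, P', hn, hP', hnP⟩ := exists_torsion_quotient (M ⧸ N) (by
    by_contra hall
    push_neg at hall
    refine hker (eq_top_iff.mpr fun m _ => ?_)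
    exact (hN m.toAdd).mp ((QuotientAddGroup.eq_zero_iff _).mp (hall _)))
  let π : M →+ (M ⧸ N) ⧸ P' := (QuotientAddGroup.mk' P').comp (QuotientAddGroup.mk' N)
  let L := MonoidAlgebra K (Multiplicative ((M ⧸ N) ⧸ P'))
  let χ : Multiplicative M →* L := (MonoidAlgebra.of K _).comp (AddMonoidHom.toMultiplicative π)
  have hconst : ∀ m m', x m = x m' → χ m = χ m' := by
    intro m m' hmm
    have h1 : m.toAdd - m'.toAdd ∈ N := by
      rw [hN, ofAdd_sub, ofAdd_toAdd, ofAdd_toAdd]
      refine ((Group.isUnit m').map x).mul_right_cancel ?_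
      rw [← map_mul, div_mul_cancel, hmm, _root_.one_mul]
    have h2 : π m.toAdd = π m'.toAdd := by
      rw [← sub_eq_zero, ← map_sub]
      change QuotientAddGroup.mk' P' (QuotientAddGroup.mk' N _) = 0
      rw [show QuotientAddGroup.mk' N (m.toAdd - m'.toAdd) = 0 from (QuotientAddGroup.eq_zero_iff _).mpr h1, map_zero]
    exact congrArg (fun a => MonoidAlgebra.of K _ (Multiplicative.ofAdd a)) h2
  obtain ⟨Λ, hΛ⟩ := LinearMap.exists_extend ((Module.Basis.span hli.linearIndependent).constr K
    fun c : Set.range x => χ c.2.choose)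
  have hΛx : ∀ m, Λ (x m) = χ m := fun m => by
    have h1 := LinearMap.congr_fun hΛ (Module.Basis.span hli.linearIndependent ⟨x m, m, rfl⟩)
    rw [LinearMap.comp_apply, Module.Basis.constr_basis] at h1
    refine ((congrArg Λ (congrArg Subtype.val (Module.Basis.span_apply hli.linearIndependent ⟨x m, m, rfl⟩)).symm).trans h1).trans ?_
    exact hconst _ _ (⟨x m, m, rfl⟩ : Set.range x).2.choose_spec
  refine ⟨L, inferInstance, algebraMap K L, χ, n, ?_, hn, fun m => ?_, ?_⟩
  · refine (hJ _ _ _).mpr fun w hw => ?_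
    have h1 : ∀ v : A, evChar (algebraMap K L) χ v = Λ (mk v) := fun v => by
      induction v using MonoidAlgebra.induction_linear with
      | zero => rw [map_zero, map_zero, map_zero]
      | add a b ha hb => rw [map_add, map_add, map_add, ha, hb]
      | single m r =>
        have h3 : mk (MonoidAlgebra.single m r) = r • x m := by
          refine Eq.trans ?_ (Algebra.smul_def r (x m)).symm
          change _ = mk (MonoidAlgebra.single 1 r) * mk (MonoidAlgebra.of K _ m)
          rw [← map_mul, MonoidAlgebra.of_apply, MonoidAlgebra.single_mul_single, _root_.one_mul, _root_.mul_one]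
        rw [evChar_single, h3, map_smul, hΛx, Algebra.smul_def]
    rw [RingHom.mem_ker, h1, show mk w = 0 from Ideal.Quotient.eq_zero_iff_mem.mpr hw, map_zero]
  · rw [← map_pow, MonoidHom.comp_apply, map_pow, ← map_pow, ← map_one (MonoidAlgebra.of K (Multiplicative ((M ⧸ N) ⧸ P')))]
    congr 1
    change Multiplicative.ofAdd (n • π m.toAdd) = 1
    rw [ofAdd_eq_one]
    change n • QuotientAddGroup.mk' P' (QuotientAddGroup.mk' N m.toAdd) = 0
    rw [← map_nsmul]
    exact (QuotientAddGroup.eq_zero_iff _).mpr (hnP _)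
  · intro h1
    refine hP' (eq_top_iff.mpr fun q _ => ?_)
    obtain ⟨a, rfl⟩ := QuotientAddGroup.mk'_surjective N q
    rw [← QuotientAddGroup.eq_zero_iff]
    have h2 := DFunLike.congr_fun h1 (Multiplicative.ofAdd a)
    have h3 : MonoidAlgebra.of K (Multiplicative ((M ⧸ N) ⧸ P')) (Multiplicative.ofAdd (π a)) =
        MonoidAlgebra.of K _ 1 := by rw [map_one]; exact h2
    exact ofAdd_eq_one.mp (MonoidAlgebra.of_injective h3)

/-- trivial kernel at the closed point of a local ring gives trivial kernel -/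
theorem KT_of_residue [IsSeparated X.hom] [IsLocalRing B] (y : Spec (CommRingCat.of B) ⟶ U)
    (h : KT e f (Spec.map (CommRingCat.ofHom (IsLocalRing.residue B)) ≫ y)) : KT e f y := by
  have hfld : ∀ (K : Type u) [Field K] (ψ : B →+* K), KT e f (Spec.map (CommRingCat.ofHom ψ) ≫ y) := by
    intro K _ ψ
    by_contra hK
    obtain ⟨D, _, g, χ, n, hk, hn, hχn, hne⟩ := exists_torsion_point e f _ hK
    rw [specMap_comp_assoc] at hk
    exact hne (torsion_trivial e f y h (g.comp ψ) χ hk n hn hχn)
  intro D _ g χ hχ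
  refine chart_kernel e f (Spec.map (CommRingCat.ofHom g) ≫ y) (fun K E _ _ ψ φ χ' hχ' => ?_) χ hχ
  rw [specMap_comp_assoc, RingHom.comp_assoc] at hχ'
  exact hfld K (ψ.comp g) E φ χ' (by rw [specMap_comp_assoc]; exact hχ')

/-- trivial kernel spreads out from a prime -/
theorem exists_away_KT [IsSeparated X.hom] (y : Spec (CommRingCat.of B) ⟶ U) (p : Ideal B) [p.IsPrime]
    (h : KT e f (Spec.map (CommRingCat.ofHom (algebraMap B (Localization.AtPrime p))) ≫ y)) :
    ∃ t ∉ p, ∀ (D : Type u) [CommRing D] (g : B →+* D), IsUnit (g t) →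
      KT e f (Spec.map (CommRingCat.ofHom g) ≫ y) := by
  classical
  obtain ⟨J, hJ⟩ := exists_kernel_ideal e f y
  let A := MonoidAlgebra B (Multiplicative M)
  let mk : A →+* A ⧸ J := Ideal.Quotient.mk J
  have hex : ∀ m, ∃ s ∉ p, algebraMap B (A ⧸ J) s * (mk (MonoidAlgebra.of B _ m) - 1) = 0 := by
    intro m
    refine exists_mul_eq_zero p (algebraMap B (A ⧸ J)) _ fun E _ ψ hψ => ?_
    let g₀ : Localization.AtPrime p →+* E :=
      IsLocalization.lift (M := p.primeCompl) (g := ψ.comp (algebraMap B (A ⧸ J))) fun s => hψ s.1 s.2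
    rw [map_sub, map_one, sub_eq_zero]
    exact KT.apply_of_le e f hJ _ h (ψ.comp mk)
      (fun w hw => by
        rw [RingHom.mem_ker, RingHom.comp_apply, show mk w = 0 from Ideal.Quotient.eq_zero_iff_mem.mpr hw, map_zero])
      g₀ (IsLocalization.lift_comp _).symm m
  choose s hs hs' using hex
  obtain ⟨F, hF⟩ := (Monoid.fg_def.mp
    (have : AddMonoid.FG M := AddGroup.fg_iff_addMonoid_fg.mp inferInstance; inferInstance) :
      (⊤ : Submonoid (Multiplicative M)).FG)
  refine ⟨∏ m ∈ F, s m, fun hmem => ?_, fun D _ g hg E _ k χ hχ => ?_⟩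
  · obtain ⟨m, -, hm⟩ := (Ideal.IsPrime.prod_mem_iff (p := p)).mp hmem
    exact hs m hm
  rw [specMap_comp_assoc] at hχ
  have hle := (hJ _ _ _).mp hχ
  have hgen : ∀ m ∈ F, χ m = 1 := by
    intro m hm
    have h1 := congrArg (Ideal.Quotient.lift J _ hle) (hs' m)
    rw [map_mul, map_sub, map_one, map_zero] at h1
    change evChar (k.comp g) χ (MonoidAlgebra.single 1 (s m)) * (evChar (k.comp g) χ (MonoidAlgebra.of B _ m) - 1) = 0 at h1
    rw [evChar_single, evChar_of, map_one, _root_.mul_one] at h1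
    have hu : IsUnit ((k.comp g) (s m)) :=
      isUnit_of_dvd_unit (map_dvd (k.comp g) (Finset.dvd_prod_of_mem s hm)) (hg.map k)
    exact sub_eq_zero.mp ((hu.mul_right_eq_zero).mp h1)
  exact MonoidHom.eq_of_eqOn_denseM hF hgen

end chart

section global

variable {S : Scheme.{u}} {G X : Over S} [GrpObj G] [GrpObj X] (f : G ⟶ X) [IsMonHom f]
  {U : Scheme.{u}} {u₀ : U ⟶ S} {M : Type} [AddCommGroup M] [AddGroup.FG M]
  (e : Grp.mk (Red.bc u₀ G) ≅ Grp.mk (Red.DS U M))

omit [IsMonHom f] [AddGroup.FG M] in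
/-- fibre triviality gives chart triviality -/
theorem KT_of_kerTriv {K : Type u} [Field K] (y : Spec (CommRingCat.of K) ⟶ U)
    (h : KerTriv f ((y ≫ u₀).base (IsLocalRing.closedPoint K))) : KT e f y := by
  intro D _ g χ hχ
  let z : Spec (CommRingCat.of K) ⟶ S := y ≫ u₀
  let s := z.base (IsLocalRing.closedPoint K)
  let d : Spec (CommRingCat.of D) ⟶ Spec (S.residueField s) :=
    Spec.map (CommRingCat.ofHom g) ≫ Spec.map (Scheme.descResidueField (Scheme.stalkClosedPointTo z))
  have hd : d ≫ S.fromSpecResidueField s = (Spec.map (CommRingCat.ofHom g) ≫ y) ≫ u₀ := by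
    rw [Category.assoc, Scheme.descResidueField_stalkClosedPointTo_fromSpecResidueField]
    exact (Category.assoc _ _ _).symm
  let t : (Over.map (S.fromSpecResidueField s)).obj (Over.mk d) ⟶
      Over.mk ((Spec.map (CommRingCat.ofHom g) ≫ y) ≫ u₀) := Over.homMk (𝟙 _) (by
    change 𝟙 _ ≫ (Spec.map (CommRingCat.ofHom g) ≫ y) ≫ u₀ = d ≫ S.fromSpecResidueField s
    rw [Category.id_comp, hd])
  have h2 := h (Over.mk d) (t ≫ gpt e _ χ)
    ((Category.assoc _ _ _).trans ((congrArg (t ≫ ·) hχ).trans (MonObj.comp_one t)))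
  refine gpt_injective e (Spec.map (CommRingCat.ofHom g) ≫ y) (Over.OverMorphism.ext ?_)
  rw [gpt_one]
  have h3 := congrArg (fun m => m.left) (h2.trans (MonObj.comp_one t).symm)
  exact ((Category.id_comp _).symm.trans h3).trans (Category.id_comp _)

omit [IsMonHom f] [AddGroup.FG M] in
/-- chart triviality gives fibre triviality -/
theorem kerTriv_of_KT {K : Type u} [Field K] (y : Spec (CommRingCat.of K) ⟶ U) (h : KT e f y) :
    KerTriv f ((y ≫ u₀).base (IsLocalRing.closedPoint K)) := by
  intro T g hg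
  let z : Spec (CommRingCat.of K) ⟶ S := y ≫ u₀
  let s := z.base (IsLocalRing.closedPoint K)
  let d : Spec (CommRingCat.of K) ⟶ Spec (S.residueField s) :=
    Spec.map (Scheme.descResidueField (Scheme.stalkClosedPointTo z))
  have hd : d ≫ S.fromSpecResidueField s = z :=
    Scheme.descResidueField_stalkClosedPointTo_fromSpecResidueField K S z
  have : Flat d := by
    refine Flat.SpecMap_iff.mpr ?_
    let := (Scheme.descResidueField (Scheme.stalkClosedPointTo z)).hom.toAlgebra
    exact (inferInstance : Module.Flat (S.residueField s) K)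
  have : Surjective d := ⟨fun x => ⟨IsLocalRing.closedPoint K, Subsingleton.elim _ _⟩⟩
  let π := pullback.fst T.hom d
  have : Epi π := Flat.epi_of_flat_of_surjective _
  refine Over.OverMorphism.ext ((cancel_epi π).mp ?_)
  refine Scheme.Cover.hom_ext (pullback T.hom d).affineCover _ _ fun i => ?_
  obtain ⟨α, hα⟩ := Spec.map_surjective ((pullback T.hom d).affineCover.f i ≫ pullback.snd T.hom d)
  let w : Over.mk ((Spec.map (CommRingCat.ofHom α.hom) ≫ y) ≫ u₀) ⟶
      (Over.map (S.fromSpecResidueField s)).obj T :=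
    Over.homMk ((pullback T.hom d).affineCover.f i ≫ π) (by
      change ((pullback T.hom d).affineCover.f i ≫ π) ≫ T.hom ≫ S.fromSpecResidueField s = (Spec.map (CommRingCat.ofHom α.hom) ≫ y) ≫ u₀
      rw [CommRingCat.ofHom_hom, hα, Category.assoc, ← Category.assoc π, pullback.condition]
      simp only [Category.assoc, hd]
      rfl)
  obtain ⟨χ, hχ⟩ := gpt_surjective e _ (w ≫ g)
  have h1 : gpt e (Spec.map (CommRingCat.ofHom α.hom) ≫ y) χ ≫ f = 1 := by
    rw [hχ]
    exact (Category.assoc _ _ _).trans ((congrArg (w ≫ ·) hg).trans (MonObj.comp_one w))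
  rw [h _ α.hom χ h1, gpt_one] at hχ
  have h3 := congrArg (fun m => m.left) (hχ.symm.trans (MonObj.comp_one w).symm)
  exact ((Category.assoc _ _ _).symm.trans h3).trans (Category.assoc _ _ _)

end global

/-- the locus of trivial kernel is open -/
theorem isOpen_kerTriv {S : Scheme.{u}} {G X : Over S} [GrpObj G] [GrpObj X] (hG : SGA3x.IsMultTypeFT G)
    [IsSeparated X.hom] (f : G ⟶ X) [IsMonHom f] : IsOpen {s : S | KerTriv f s} := by
  obtain ⟨S', g, hg, -, hqc, hloc⟩ := hG
  refine isOpen_of_cover g hqc _ (isOpen_iff_forall_mem_open.mpr fun s' hs' => ?_)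
  obtain ⟨U', hU', M, _, _, ⟨e⟩⟩ := hloc s'
  obtain ⟨A, hA, hsA, hAU⟩ := exists_isAffineOpen_mem_and_subset (U := U') (x := s') hU'
  have hr : Set.range hA.fromSpec.base ⊆ Set.range U'.ι.base := by
    rw [hA.range_fromSpec, Scheme.Opens.range_ι]; exact hAU
  let y := IsOpenImmersion.lift U'.ι hA.fromSpec hr
  obtain ⟨p, hp⟩ : s' ∈ Set.range hA.fromSpec.base := by rw [hA.range_fromSpec]; exact hsA
  have hpt : ∀ (K : Type u) [Field K] (ψ : Γ(S', A) →+* K) (r : Spec Γ(S', A)),
      (Spec.map (CommRingCat.ofHom ψ)).base (IsLocalRing.closedPoint K) = r →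
      ((Spec.map (CommRingCat.ofHom ψ) ≫ y) ≫ U'.ι ≫ g).base (IsLocalRing.closedPoint K) =
        g.base (hA.fromSpec.base r) := by
    intro K _ ψ r hr'
    rw [Category.assoc, ← Category.assoc y, IsOpenImmersion.lift_fac, ← hr']
    rfl
  let P := p.asIdeal
  have h1 : KT e f (Spec.map (CommRingCat.ofHom ((IsLocalRing.residue _).comp
      (algebraMap Γ(S', A) (Localization.AtPrime P)))) ≫ y) := by
    refine KT_of_kerTriv f e _ ?_
    rw [hpt _ _ p ?_, hp]
    · exact hs'
    · refine PrimeSpectrum.ext ?_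
      exact comap_closedPoint_residue P
  rw [← specMap_comp_assoc] at h1
  obtain ⟨t, ht, hKT⟩ := exists_away_KT e f y P (KT_of_residue e f _ h1)
  refine ⟨hA.fromSpec.base '' (PrimeSpectrum.basicOpen t : Set (PrimeSpectrum Γ(S', A))), ?_,
    hA.fromSpec.isOpenEmbedding.isOpenMap _ (PrimeSpectrum.basicOpen t).isOpen, ⟨p, ht, hp⟩⟩
  rintro _ ⟨r, hrt, rfl⟩
  have h2 := kerTriv_of_KT f e _ (hKT r.asIdeal.ResidueField (algebraMap _ _)
    (isUnit_iff_ne_zero.mpr fun h0 => hrt (by
      rw [← RingHom.mem_ker, Ideal.ker_algebraMap_residueField] at h0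
      exact h0)))
  rw [hpt r.asIdeal.ResidueField (algebraMap _ _) r ?_] at h2
  · exact h2
  · refine PrimeSpectrum.ext ?_
    exact comap_closedPoint_residueField r.asIdeal

/-- trivial kernel at a point gives a monomorphism nearby -/
theorem exists_mono_nhd {S : Scheme.{u}} {G X : Over S} [GrpObj G] [GrpObj X] (hG : SGA3x.IsMultTypeFT G)
    [IsSeparated X.hom] (f : G ⟶ X) [IsMonHom f] (s : S)
    (hs : Mono ((Over.pullback (S.fromSpecResidueField s)).map f).left) :
    ∃ V : S.Opens, s ∈ V ∧ Mono ((Over.pullback V.ι).map f).left :=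
  ⟨⟨{t | KerTriv f t}, isOpen_kerTriv hG f⟩, (kerTriv_iff_mono f s).mpr hs,
    mono_of_kerTriv f hG _ fun _ ht => ht⟩

end Groth.Agent.H21Diag
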