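import Groth.Agent.H21Diag.SubgroupSplit
import Groth.Agent.H21Diag.KernelOpen
import Groth.Agent.H27PGrp.Basic

/-!
Weights of a diagonalisable group acting on a smooth affine group by conjugation: near a point the kernel of
the action is cut out by the weights occurring on the fibre at that point.
-/

set_option autoImplicit false
set_option linter.unusedSectionVars false
set_option linter.style.haveILetI false
set_option backward.isDefEq.respectTransparency false
set_option maxHeartbeats 800000

universe u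

open CategoryTheory CategoryTheory.Limits MonoidalCategory CartesianMonoidalCategory MonObj AlgebraicGeometry
open scoped TensorProduct

noncomputable section

namespace Groth.Agent.H21Diag

section algebra

variable {N : Type} [CommMonoid N] {B D : Type u} [CommRing B] [CommRing D]

theorem evChar_eq_sum (ga : B →+* D) (χ : N →* D) (w : MonoidAlgebra B N) :
    evChar ga χ w = w.coeff.sum fun n c => ga c * χ n := by
  induction w using MonoidAlgebra.induction_linear with
  | zero => simp
  | add a b ha hb =>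
    rw [map_add, ha, hb, MonoidAlgebra.coeff_add,
      Finsupp.sum_add_index' (fun n => by simp) (fun n c d => by rw [map_add, _root_.add_mul])]
  | single n c => rw [evChar_single, MonoidAlgebra.coeff_single, Finsupp.sum_single_index (by simp)]

theorem evChar_congr_weights (ga : B →+* D) (χ χ' : N →* D) (w : MonoidAlgebra B N)
    (h : ∀ n, χ n ≠ χ' n → ga (w.coeff n) = 0) : evChar ga χ w = evChar ga χ' w := by
  rw [evChar_eq_sum, evChar_eq_sum]
  refine Finsupp.sum_congr fun n _ => ?_
  by_cases hn : χ n = χ' n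
  · rw [hn]
  · rw [h n hn, zero_mul, zero_mul]

theorem coeff_evChar_twist (j : B →+* D) (χ : N →* D) (ψ : N →* MonoidAlgebra D N)
    (hψ : ∀ n, ψ n = MonoidAlgebra.single n (χ n)) (w : MonoidAlgebra B N) (n : N) :
    (evChar ((MonoidAlgebra.singleOneRingHom : D →+* MonoidAlgebra D N).comp j) ψ w).coeff n =
      j (w.coeff n) * χ n := by
  classical
  induction w using MonoidAlgebra.induction_linear with
  | zero => simp
  | add a b ha hb =>
    rw [map_add, MonoidAlgebra.coeff_add, Finsupp.add_apply, ha, hb, MonoidAlgebra.coeff_add,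
      Finsupp.add_apply, map_add, _root_.add_mul]
  | single m c =>
    rw [evChar_single, hψ, RingHom.comp_apply, show (MonoidAlgebra.singleOneRingHom : D →+* MonoidAlgebra D N) (j c) = MonoidAlgebra.single 1 (j c) from rfl,
      MonoidAlgebra.single_mul_single, _root_.one_mul]
    by_cases hm : n = m
    · subst hm; simp [MonoidAlgebra.coeff_single]
    · simp [MonoidAlgebra.coeff_single, Finsupp.single_eq_of_ne hm]

/-- a scalar killing, over a flat algebra, an element which vanishes on no fibre is zero -/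
theorem eq_zero_of_tmul_eq_zero {R A D : Type u} [CommRing R] [CommRing A] [CommRing D] [Algebra R A]
    [Algebra R D] [Module.Flat R A] (h : A)
    (hh : ∀ m : Ideal D, m.IsMaximal → ∃ q : Ideal A, q.IsPrime ∧
      q.comap (algebraMap R A) = m.comap (algebraMap R D) ∧ h ∉ q)
    (d : D) (hd : d ⊗ₜ[R] h = 0) : d = 0 := by
  by_contra hne
  have hann : Submodule.annihilator (Ideal.span {d}) ≠ ⊤ := fun h0 => hne (by
    have h1 := Submodule.mem_annihilator.mp (h0 ▸ Submodule.mem_top (x := (1 : D))) d (Ideal.subset_span (Set.mem_singleton d))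
    rwa [smul_eq_mul, _root_.one_mul] at h1)
  obtain ⟨m, hm, hle⟩ := Ideal.exists_le_maximal _ hann
  obtain ⟨q, hq, hqm, hhq⟩ := hh m hm
  have hx : ∑ _ : Fin 1, d • ((1 : D) ⊗ₜ[R] h) = 0 := by
    rw [Fin.sum_univ_one, TensorProduct.smul_tmul', smul_eq_mul, _root_.mul_one]; exact hd
  obtain ⟨k, a, y, hxy, hay⟩ := Module.Flat.isTrivialRelation_of_sum_smul_eq_zero (R := D)
    (M := D ⊗[R] A) (f := fun _ : Fin 1 => d) (x := fun _ => (1 : D) ⊗ₜ[R] h) hx
  let p' : Ideal R := m.comap (algebraMap R D)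
  have : q.IsPrime := hq
  have : m.IsMaximal := hm
  let Kq := FractionRing (A ⧸ q)
  let f₁ : R ⧸ p' →+* Kq := Ideal.Quotient.lift p' ((algebraMap (A ⧸ q) Kq).comp
    ((Ideal.Quotient.mk q).comp (algebraMap R A))) fun r hr => by
      have : algebraMap R A r ∈ q := (hqm.symm ▸ hr : r ∈ q.comap (algebraMap R A))
      rw [RingHom.comp_apply, RingHom.comp_apply, Ideal.Quotient.eq_zero_iff_mem.mpr this, map_zero]
  let f₂ : R ⧸ p' →+* D ⧸ m := Ideal.Quotient.lift p' ((Ideal.Quotient.mk m).comp (algebraMap R D))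
    fun r hr => Ideal.Quotient.eq_zero_iff_mem.mpr hr
  have hf₁ : Function.Injective f₁ := by
    refine RingHom.lift_injective_of_ker_le_ideal _ _ fun r hr => ?_
    rw [RingHom.mem_ker, RingHom.comp_apply, RingHom.comp_apply,
      map_eq_zero_iff _ (IsFractionRing.injective (A ⧸ q) Kq), Ideal.Quotient.eq_zero_iff_mem] at hr
    change r ∈ m.comap (algebraMap R D)
    rw [← hqm]
    exact hr
  have hf₂ : Function.Injective f₂ := by
    refine RingHom.lift_injective_of_ker_le_ideal _ _ fun r hr => ?_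
    rw [RingHom.mem_ker, RingHom.comp_apply, Ideal.Quotient.eq_zero_iff_mem] at hr
    exact hr
  letI := f₁.toAlgebra
  letI := f₂.toAlgebra
  letI : Field (D ⧸ m) := Ideal.Quotient.field m
  let T := (D ⧸ m) ⊗[R ⧸ p'] Kq
  haveI : Nontrivial T := Algebra.TensorProduct.nontrivial_of_algebraMap_injective_of_isDomain _ _ _ hf₂ hf₁
  let ψD : D →+* T := Algebra.TensorProduct.includeLeftRingHom.comp (Ideal.Quotient.mk m)
  let ψA : A →+* T := (Algebra.TensorProduct.includeRight (R := R ⧸ p') (A := D ⧸ m) (B := Kq)).toRingHom.comp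
    ((algebraMap (A ⧸ q) Kq).comp (Ideal.Quotient.mk q))
  letI : Algebra R T := (ψD.comp (algebraMap R D)).toAlgebra
  let ψD' : D →ₐ[R] T := AlgHom.mk ψD fun _ => rfl
  let ψA' : A →ₐ[R] T := AlgHom.mk ψA fun r => by
    change (Algebra.TensorProduct.includeRight (R := R ⧸ p') (A := D ⧸ m) (B := Kq))
      (f₁ (Ideal.Quotient.mk p' r)) = ψD (algebraMap R D r)
    exact ((Algebra.TensorProduct.includeRight (R := R ⧸ p') (A := D ⧸ m) (B := Kq)).commutes
      (Ideal.Quotient.mk p' r)).trans rfl
  let Ψ : D ⊗[R] A →ₐ[R] T := Algebra.TensorProduct.lift ψD' ψA' fun _ _ => Commute.all _ _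
  have hu : IsUnit (Ψ ((1 : D) ⊗ₜ[R] h)) := by
    rw [Algebra.TensorProduct.lift_tmul, map_one, _root_.one_mul]
    refine IsUnit.map ((Algebra.TensorProduct.includeRight (R := R ⧸ p') (A := D ⧸ m) (B := Kq)).toRingHom)
      (isUnit_iff_ne_zero.mpr fun h0 => hhq ?_)
    exact Ideal.Quotient.eq_zero_iff_mem.mp ((map_eq_zero_iff _ (IsFractionRing.injective (A ⧸ q) Kq)).mp h0)
  refine hu.ne_zero ?_
  rw [show ((1 : D) ⊗ₜ[R] h) = _ from hxy 0, map_sum]
  refine Finset.sum_eq_zero fun j _ => ?_
  have ha : a 0 j ∈ m := hle (Submodule.mem_annihilator_span_singleton _ _ |>.mpr (by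
    have := hay j
    rw [Fin.sum_univ_one] at this
    rw [smul_eq_mul, _root_.mul_comm]; exact this))
  rw [Algebra.smul_def, map_mul, show Ψ (algebraMap D (D ⊗[R] A) (a 0 j)) = 0 from ?_, zero_mul]
  rw [show algebraMap D (D ⊗[R] A) (a 0 j) = a 0 j ⊗ₜ[R] (1 : A) from rfl, Algebra.TensorProduct.lift_tmul,
    map_one, _root_.mul_one]
  change Algebra.TensorProduct.includeLeftRingHom (Ideal.Quotient.mk m (a 0 j)) = 0
  rw [Ideal.Quotient.eq_zero_iff_mem.mpr ha, map_zero]

end algebra

section points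

variable {R A : Type u} [CommRing R] [CommRing A] {σ : R →+* A} {G : Over (Spec (CommRingCat.of R))} [GrpObj G]
  (eG : G.left ≅ Spec (CommRingCat.of A)) (he : eG.hom ≫ Spec.map (CommRingCat.ofHom σ) = G.hom)
  {M : Type} [AddCommGroup M] (i : Red.DS (Spec (CommRingCat.of R)) M ⟶ G) [IsMonHom i]

/-- the test scheme of a ring over the base -/
abbrev sp {D : Type u} [CommRing D] (g : R →+* D) : Over (Spec (CommRingCat.of R)) :=
  Over.mk (Spec.map (CommRingCat.ofHom g))

/-- the map of test schemes of a ring map -/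
def spMap {D D' : Type u} [CommRing D] [CommRing D'] (φ : D →+* D') (g : R →+* D) : sp (φ.comp g) ⟶ sp g :=
  Over.homMk (Spec.map (CommRingCat.ofHom φ)) (specMap_comp g φ).symm

theorem spMap_dpt {D D' : Type u} [CommRing D] [CommRing D'] (φ : D →+* D') (g : R →+* D)
    (χ : Multiplicative M →* D) :
    spMap φ g ≫ dpt (Spec.map (CommRingCat.ofHom g)) χ =
      dpt (Spec.map (CommRingCat.ofHom (φ.comp g))) (φ.toMonoidHom.comp χ) := by
  refine bc_ext ?_
  refine (Category.assoc _ _ _).trans (Eq.trans ?_ (dpt_fst _ _).symm)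
  rw [dpt_fst]
  change Spec.map _ ≫ Spec.map _ = _
  rw [← specMap_comp]
  congr 2
  exact charRingHom_ext fun m => by simp

/-- the point of `G` of a point of its ring -/
def ringPt {D : Type u} [CommRing D] (g : R →+* D) (ga : A →+* D) (h : ga.comp σ = g) : sp g ⟶ G :=
  Over.homMk (Spec.map (CommRingCat.ofHom ga) ≫ eG.inv) (by
    rw [Category.assoc, ← he, Iso.inv_hom_id_assoc, ← specMap_comp, h]
    rfl)

theorem spMap_ringPt {D D' : Type u} [CommRing D] [CommRing D'] (φ : D →+* D') (g : R →+* D) (ga : A →+* D)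
    (h : ga.comp σ = g) :
    spMap φ g ≫ ringPt eG he g ga h =
      ringPt eG he (φ.comp g) (φ.comp ga) (by rw [RingHom.comp_assoc, h]) :=
  Over.OverMorphism.ext (specMap_comp_assoc ga φ eG.inv)

theorem ringPt_surjective {D : Type u} [CommRing D] (g : R →+* D) (x : sp g ⟶ G) :
    ∃ (ga : A →+* D) (h : ga.comp σ = g), ringPt eG he g ga h = x := by
  obtain ⟨ga, hga⟩ := Spec.map_surjective (x.left ≫ eG.hom)
  have h : ga.hom.comp σ = g := by
    refine congrArg CommRingCat.Hom.hom (Spec.map_injective (?_ :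
      Spec.map (CommRingCat.ofHom (ga.hom.comp σ)) = Spec.map (CommRingCat.ofHom g)))
    rw [specMap_comp, CommRingCat.ofHom_hom, hga, Category.assoc, he]
    exact Over.w x
  exact ⟨ga.hom, h, Over.OverMorphism.ext (by
    change Spec.map (CommRingCat.ofHom ga.hom) ≫ eG.inv = x.left
    rw [CommRingCat.ofHom_hom, hga, Category.assoc, Iso.hom_inv_id, Category.comp_id])⟩

theorem ringPt_injective {D : Type u} [CommRing D] (g : R →+* D) {ga ga' : A →+* D} {h : ga.comp σ = g}
    {h' : ga'.comp σ = g} (e : ringPt eG he g ga h = ringPt eG he g ga' h') : ga = ga' := by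
  have h1 : Spec.map (CommRingCat.ofHom ga) ≫ eG.inv = Spec.map (CommRingCat.ofHom ga') ≫ eG.inv :=
    congrArg (fun m => m.left) e
  exact congrArg CommRingCat.Hom.hom (Spec.map_injective ((cancel_mono eG.inv).mp h1))

/-- conjugation by the point given by a character -/
def cjPt {D : Type u} [CommRing D] (g : R →+* D) (χ : Multiplicative M →* D) (x : sp g ⟶ G) : sp g ⟶ G :=
  (dpt (Spec.map (CommRingCat.ofHom g)) χ ≫ i) * x * (dpt (Spec.map (CommRingCat.ofHom g)) χ ≫ i)⁻¹

theorem spMap_cjPt {D D' : Type u} [CommRing D] [CommRing D'] (φ : D →+* D') (g : R →+* D)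
    (χ : Multiplicative M →* D) (x : sp g ⟶ G) :
    spMap φ g ≫ cjPt i g χ x = cjPt i (φ.comp g) (φ.toMonoidHom.comp χ) (spMap φ g ≫ x) := by
  rw [cjPt, cjPt, MonObj.comp_mul, MonObj.comp_mul, GrpObj.comp_inv, ← Category.assoc, spMap_dpt]

theorem cjPt_mul {D : Type u} [CommRing D] (g : R →+* D) (χ χ' : Multiplicative M →* D) (x : sp g ⟶ G) :
    cjPt i g (χ * χ') x = cjPt i g χ (cjPt i g χ' x) := by
  simp only [cjPt, dpt_mul, MonObj.mul_comp]
  group

theorem cjPt_one {D : Type u} [CommRing D] (g : R →+* D) (x : sp g ⟶ G) : cjPt i g 1 x = x := by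
  simp [cjPt, dpt_one, MonObj.one_comp]

/-- characters whose point commutes with every point of `G` -/
def CentralChar {D : Type u} [CommRing D] (g : R →+* D) (χ : Multiplicative M →* D) : Prop :=
  ∀ (D' : Type u) [CommRing D'] (φ : D →+* D') (x : sp (φ.comp g) ⟶ G),
    cjPt i (φ.comp g) (φ.toMonoidHom.comp χ) x = x

theorem exists_coactionHom : ∃ β : A →+* MonoidAlgebra A (Multiplicative M),
    ∀ {D : Type u} [CommRing D] (g : R →+* D) (χ : Multiplicative M →* D) (ga : A →+* D) (h : ga.comp σ = g),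
      ∃ h', cjPt i g χ (ringPt eG he g ga h) = ringPt eG he g ((evChar ga χ).comp β) h' := by
  let s₁ : R →+* MonoidAlgebra A (Multiplicative M) := MonoidAlgebra.singleOneRingHom.comp σ
  obtain ⟨β, hβ, hβe⟩ := ringPt_surjective eG he s₁
    (cjPt i s₁ (MonoidAlgebra.of A _) (ringPt eG he s₁ MonoidAlgebra.singleOneRingHom rfl))
  refine ⟨β, fun {D} _ g χ ga h => ?_⟩
  have h1 : (evChar ga χ).comp MonoidAlgebra.singleOneRingHom = ga :=
    RingHom.ext fun a => by simp
  have h2 : (evChar ga χ).toMonoidHom.comp (MonoidAlgebra.of A _) = χ :=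
    MonoidHom.ext fun m => evChar_of ga χ m
  have hg : (evChar ga χ).comp s₁ = g := by rw [← RingHom.comp_assoc, h1, h]
  subst hg
  refine ⟨by rw [RingHom.comp_assoc, hβ], ?_⟩
  have h3 := congrArg (spMap (evChar ga χ) s₁ ≫ ·) hβe
  rw [spMap_ringPt, spMap_cjPt, h2, spMap_ringPt] at h3
  rw [h3]
  congr 2
  exact h1.symm

variable {β : A →+* MonoidAlgebra A (Multiplicative M)}
  (hβ : ∀ {D : Type u} [CommRing D] (g : R →+* D) (χ : Multiplicative M →* D) (ga : A →+* D)
    (h : ga.comp σ = g), ∃ h', cjPt i g χ (ringPt eG he g ga h) = ringPt eG he g ((evChar ga χ).comp β) h')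

include hβ in
/-- the point of a character trivial on all weights seen at `ga` fixes `ga` -/
theorem cjPt_eq_self_of_weights {D : Type u} [CommRing D] (g : R →+* D) (χ : Multiplicative M →* D)
    (ga : A →+* D) (h : ga.comp σ = g) (hχ : ∀ a n, χ n ≠ 1 → ga ((β a).coeff n) = 0) :
    cjPt i g χ (ringPt eG he g ga h) = ringPt eG he g ga h := by
  obtain ⟨h1, e1⟩ := hβ g χ ga h
  obtain ⟨h0, e0⟩ := hβ g 1 ga h
  rw [cjPt_one] at e0
  have e : (evChar ga χ).comp β = ga := by
    refine (RingHom.ext fun a => ?_).trans (ringPt_injective eG he g e0).symm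
    exact evChar_congr_weights ga χ 1 (β a) (hχ a)
  rw [e1]
  congr 1

include hβ in
/-- central characters are trivial on weights not vanishing on the fibres -/
theorem eq_one_of_centralChar [Algebra R A] (hσ : algebraMap R A = σ) [Module.Flat R A]
    {D : Type u} [CommRing D] (g : R →+* D) (χ : Multiplicative M →* D) (hχ : CentralChar i g χ) (a : A)
    (n : Multiplicative M)
    (hh : ∀ m : Ideal D, m.IsMaximal → ∃ q : Ideal A, q.IsPrime ∧
      q.comap σ = m.comap g ∧ (β a).coeff n ∉ q) : χ n = 1 := by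
  letI := g.toAlgebra
  let C := D ⊗[R] A
  let jD : D →+* C := Algebra.TensorProduct.includeLeftRingHom
  let jA : A →+* C := (Algebra.TensorProduct.includeRight (R := R) (A := D) (B := A)).toRingHom
  let φ : D →+* MonoidAlgebra C (Multiplicative M) := MonoidAlgebra.singleOneRingHom.comp jD
  let ga : A →+* MonoidAlgebra C (Multiplicative M) := MonoidAlgebra.singleOneRingHom.comp jA
  have hga : ga.comp σ = φ.comp g := by
    refine RingHom.ext fun r => congrArg MonoidAlgebra.singleOneRingHom ?_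
    rw [← hσ]
    exact ((Algebra.TensorProduct.includeRight (R := R) (A := D) (B := A)).commutes r).trans rfl
  let ψ := MonoidAlgebra.of C (Multiplicative M)
  obtain ⟨h1, e1⟩ := hβ (φ.comp g) ψ ga hga
  obtain ⟨h2, e2⟩ := hβ (φ.comp g) (φ.toMonoidHom.comp χ * ψ) ga hga
  have h3 := hχ _ φ (cjPt i (φ.comp g) ψ (ringPt eG he (φ.comp g) ga hga))
  rw [← cjPt_mul, e1, e2] at h3
  have h4 := congrArg (fun w => w.coeff n) (RingHom.congr_fun (ringPt_injective eG he _ h3) a)
  simp only [RingHom.comp_apply] at h4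
  rw [coeff_evChar_twist jA (jD.toMonoidHom.comp χ) _ (fun m => ?_),
    coeff_evChar_twist jA 1 ψ (fun m => rfl)] at h4
  · refine sub_eq_zero.mp (eq_zero_of_tmul_eq_zero (R := R) (A := A) ((β a).coeff n)
      (fun m hm => hσ.symm ▸ hh m hm) _ ?_)
    rw [TensorProduct.sub_tmul, sub_eq_zero]
    have e : ∀ x : D, x ⊗ₜ[R] (β a).coeff n = jA ((β a).coeff n) * jD x := fun x => by
      change x ⊗ₜ[R] (β a).coeff n = ((1 : D) ⊗ₜ[R] (β a).coeff n) * (x ⊗ₜ[R] (1 : A))
      rw [Algebra.TensorProduct.tmul_mul_tmul, _root_.one_mul, _root_.mul_one]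
    rw [e, e, map_one, _root_.mul_one]
    simpa using h4
  · change φ (χ m) * MonoidAlgebra.single m 1 = MonoidAlgebra.single m (jD (χ m))
    simp [φ, MonoidAlgebra.single_mul_single]

end points

end Groth.Agent.H21Diag
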