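import Groth.Agent.H21Diag.ActTrivial

/-!
Rigidity of families of translations by characters: trivial modulo a nilpotent ideal implies trivial.
-/

open CategoryTheory MonoidalCategory CartesianMonoidalCategory MonObj GrpObj AlgebraicGeometry
open CategoryTheory.Limits

universe u

namespace Groth.Agent.H21Diag

variable {S U : Scheme.{u}}

/-- translations of points of `X` over `U` by characters of `M`, natural in the test ring -/
structure ActFam (u₀ : U ⟶ S) (X : Over S) (M : Type) [AddCommGroup M] where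
  act : ∀ {B : Type u} [CommRing B] (y : Spec (CommRingCat.of B) ⟶ U) (χ : Multiplicative M →* B)
    (x : Spec (CommRingCat.of B) ⟶ X.left), x ≫ X.hom = y ≫ u₀ → (Spec (CommRingCat.of B) ⟶ X.left)
  act_over : ∀ {B : Type u} [CommRing B] (y : Spec (CommRingCat.of B) ⟶ U) (χ : Multiplicative M →* B)
    (x : Spec (CommRingCat.of B) ⟶ X.left) (hx : x ≫ X.hom = y ≫ u₀), act y χ x hx ≫ X.hom = y ≫ u₀
  act_comp : ∀ {B : Type u} [CommRing B] (y : Spec (CommRingCat.of B) ⟶ U) (χ : Multiplicative M →* B)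
    (x : Spec (CommRingCat.of B) ⟶ X.left) (hx : x ≫ X.hom = y ≫ u₀) {B' : Type u} [CommRing B'] (φ : B →+* B'),
    Spec.map (CommRingCat.ofHom φ) ≫ act y χ x hx =
      act (Spec.map (CommRingCat.ofHom φ) ≫ y) (φ.toMonoidHom.comp χ) (Spec.map (CommRingCat.ofHom φ) ≫ x)
        (by rw [Category.assoc, hx, Category.assoc])
  act_mul : ∀ {B : Type u} [CommRing B] (y : Spec (CommRingCat.of B) ⟶ U) (χ χ' : Multiplicative M →* B)
    (x : Spec (CommRingCat.of B) ⟶ X.left) (hx : x ≫ X.hom = y ≫ u₀),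
    act y (χ * χ') x hx = act y χ (act y χ' x hx) (act_over y χ' x hx)

variable {u₀ : U ⟶ S} {X : Over S} {M : Type} [AddCommGroup M] {Φ : ActFam u₀ X M}

theorem ActFam.act_congr (Φ : ActFam u₀ X M) {B : Type u} [CommRing B] {y y' : Spec (CommRingCat.of B) ⟶ U}
    {χ χ' : Multiplicative M →* B} {x x' : Spec (CommRingCat.of B) ⟶ X.left} (hy : y = y') (hχ : χ = χ')
    (h : x = x') {hx : x ≫ X.hom = y ≫ u₀} {hx' : x' ≫ X.hom = y' ≫ u₀} :
    Φ.act y χ x hx = Φ.act y' χ' x' hx' := by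
  subst hy hχ h
  rfl

/-- trivial on points over rings in which `J` vanishes -/
def FamTriv (Φ : ActFam u₀ X M) {B : Type u} [CommRing B] (y : Spec (CommRingCat.of B) ⟶ U) (J : Ideal B) : Prop :=
  ∀ (B' : Type u) [CommRing B'] (φ : B →+* B'), J.map φ = ⊥ →
    ∀ (χ : Multiplicative M →* B') (x : Spec (CommRingCat.of B') ⟶ X.left)
      (hx : x ≫ X.hom = (Spec.map (CommRingCat.ofHom φ) ≫ y) ≫ u₀),
      Φ.act (Spec.map (CommRingCat.ofHom φ) ≫ y) χ x hx = x

section
variable {B : Type u} [CommRing B]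

theorem FamTriv.map {y : Spec (CommRingCat.of B) ⟶ U} {J : Ideal B} (h : FamTriv Φ y J) {B' : Type u}
    [CommRing B'] (φ : B →+* B') : FamTriv Φ (Spec.map (CommRingCat.ofHom φ) ≫ y) (J.map φ) := by
  intro B'' _ ψ hψ χ x hx
  have e1 : Spec.map (CommRingCat.ofHom ψ) ≫ Spec.map (CommRingCat.ofHom φ) ≫ y =
      Spec.map (CommRingCat.ofHom (ψ.comp φ)) ≫ y := by rw [specMap_comp, Category.assoc]
  exact (Φ.act_congr e1 rfl rfl).trans
    (h B'' (ψ.comp φ) (by rw [← Ideal.map_map, hψ]) χ x (by rw [← e1]; exact hx))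

/-- the key step over abstract test rings, for a point of an affine open over an affine open -/
theorem fam_step_core {y : Spec (CommRingCat.of B) ⟶ U} {J : Ideal B} (hJ : J * J = ⊥)
    (htriv : FamTriv Φ y J) {A R : Type u} [CommRing A] [CommRing R]
    (j : Spec (CommRingCat.of A) ⟶ X.left) [IsOpenImmersion j]
    (k : Spec (CommRingCat.of R) ⟶ S) [Mono k] (σ : R →+* A)
    (hk : j ≫ X.hom = Spec.map (CommRingCat.ofHom σ) ≫ k)
    (α : A →+* B) (χ : Multiplicative M →* B)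
    {B₁ B₂ : Type u} [CommRing B₁] [CommRing B₂] (s₁ : B →+* B₁) (s₂ : B →+* B₂)
    (f₁ f₂ fd : B₁ →+* B₂) (hf₁ : f₁.comp s₁ = s₂) (hf₂ : f₂.comp s₁ = s₂) (hfd : fd.comp s₁ = s₂)
    (χ₁ : Multiplicative M →* B₁)
    (hd : fd.toMonoidHom.comp χ₁ = f₁.toMonoidHom.comp χ₁ * f₂.toMonoidHom.comp χ₁)
    (ev : B₁ →+* B) (hev : ev.comp s₁ = RingHom.id B) (hevχ : ev.toMonoidHom.comp χ₁ = χ)
    (hprim : ∀ v : B₁, fd v = f₁ v + f₂ v → v = 0)
    (hx : (Spec.map (CommRingCat.ofHom α) ≫ j) ≫ X.hom = y ≫ u₀) :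
    Φ.act y χ (Spec.map (CommRingCat.ofHom α) ≫ j) hx = Spec.map (CommRingCat.ofHom α) ≫ j := by
  -- points of the affine open over the base
  have hbase : ∀ {C' : Type u} [CommRing C'] (g : B →+* C'),
      (Spec.map (CommRingCat.ofHom g) ≫ y) ≫ u₀ =
        Spec.map (CommRingCat.ofHom ((g.comp α).comp σ)) ≫ k := by
    intro C' _ g
    rw [Category.assoc, ← hx, Category.assoc, hk, ← Category.assoc, ← specMap_comp, ← Category.assoc,
      ← specMap_comp]
  have hover : ∀ {C' : Type u} [CommRing C'] (g : B →+* C') (γ : A →+* C'),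
      γ.comp σ = (g.comp α).comp σ →
      (Spec.map (CommRingCat.ofHom γ) ≫ j) ≫ X.hom = (Spec.map (CommRingCat.ofHom g) ≫ y) ≫ u₀ := by
    intro C' _ g γ h
    rw [hbase, Category.assoc, hk, ← Category.assoc, ← specMap_comp, h]
  -- the universal point
  let y₁ := Spec.map (CommRingCat.ofHom s₁) ≫ y
  have hx₁ := hover s₁ (s₁.comp α) rfl
  have hK₁ : IsNilpotent (J.map s₁) := ⟨2, by rw [pow_two, ← Ideal.map_mul, hJ, Ideal.map_bot]; rfl⟩
  obtain ⟨β, hβ, hβα⟩ := exists_factor j (s₁.comp α) (J.map s₁) hK₁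
    (Φ.act y₁ χ₁ (Spec.map (CommRingCat.ofHom (s₁.comp α)) ≫ j) hx₁) (by
      rw [Φ.act_comp]
      refine ((htriv.map s₁) _ (Ideal.Quotient.mk (J.map s₁)) (Ideal.map_quotient_self _) _ _ _).trans ?_
      rw [← Category.assoc, ← specMap_comp])
  have hβσ : β.comp σ = (s₁.comp α).comp σ := by
    have h := Φ.act_over y₁ χ₁ (Spec.map (CommRingCat.ofHom (s₁.comp α)) ≫ j) hx₁
    rw [hβ, Category.assoc, hk, ← Category.assoc, ← specMap_comp, hbase, cancel_mono] at h
    exact congrArg CommRingCat.Hom.hom (Spec.map_injective h)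
  have hgoal : Φ.act y χ (Spec.map (CommRingCat.ofHom α) ≫ j) hx =
      Spec.map (CommRingCat.ofHom (ev.comp β)) ≫ j := by
    rw [specMap_comp, Category.assoc, ← hβ, Φ.act_comp]
    refine Φ.act_congr ?_ ?_ ?_
    · exact (specMap_eq_self s₁ ev hev y).symm
    · exact hevχ.symm
    · have e₀ : ev.comp (s₁.comp α) = α := by rw [← RingHom.comp_assoc, hev, RingHom.id_comp]
      exact ((specMap_comp_assoc (s₁.comp α) ev j).trans
        (congrArg (fun w : A →+* B => Spec.map (CommRingCat.ofHom w) ≫ j) e₀)).symm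
  suffices hzero : β = s₁.comp α by
    rw [hgoal, hzero, ← RingHom.comp_assoc, hev, RingHom.id_comp]
  -- the ring of congruent pairs
  let J₂ := J.map s₂
  let C := pairRing J₂
  let p : C →+* B₂ := pfst J₂
  let q : C →+* B₂ := psnd J₂
  have hmapβ : ∀ b, f₂ (β b) - s₂ (α b) ∈ J₂ := fun b => by
    have h := Ideal.mem_map_of_mem f₂ (hβα b)
    rwa [Ideal.map_map, hf₂, map_sub, RingHom.comp_apply, ← RingHom.comp_apply f₂ s₁, hf₂] at h
  let γ : A →+* C := pairHom J₂ (s₂.comp α) (f₂.comp β) fun b => by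
    rw [RingHom.comp_apply, RingHom.comp_apply, ← neg_sub]
    exact J₂.neg_mem (hmapβ b)
  let sC : B →+* C := (pdiag J₂).comp s₂
  have hpsC : p.comp sC = s₂ := by
    rw [← RingHom.comp_assoc, pfst_pdiag, RingHom.id_comp]
  have hqsC : q.comp sC = s₂ := by
    rw [← RingHom.comp_assoc, psnd_pdiag, RingHom.id_comp]
  have hpγ : p.comp γ = s₂.comp α := pfst_pairHom _ _ _ _
  have hqγ : q.comp γ = f₂.comp β := psnd_pairHom _ _ _ _
  let yC := Spec.map (CommRingCat.ofHom sC) ≫ y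
  let χC : Multiplicative M →* C := ((pdiag J₂).comp f₁).toMonoidHom.comp χ₁
  have hpχ : p.toMonoidHom.comp χC = f₁.toMonoidHom.comp χ₁ := by
    refine MonoidHom.ext fun m => ?_
    exact RingHom.congr_fun (pfst_pdiag J₂) (f₁ (χ₁ m))
  have hqχ : q.toMonoidHom.comp χC = f₁.toMonoidHom.comp χ₁ := by
    refine MonoidHom.ext fun m => ?_
    exact RingHom.congr_fun (psnd_pdiag J₂) (f₁ (χ₁ m))
  have hγσ : γ.comp σ = (sC.comp α).comp σ := by
    refine pair_ext J₂ _ _ ?_ ?_
    · rw [← RingHom.comp_assoc, hpγ, ← RingHom.comp_assoc, ← RingHom.comp_assoc, hpsC]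
    · rw [← RingHom.comp_assoc, hqγ, ← RingHom.comp_assoc, ← RingHom.comp_assoc, hqsC,
        RingHom.comp_assoc, hβσ, ← RingHom.comp_assoc, ← RingHom.comp_assoc, hf₂]
  have hzC := hover sC γ hγσ
  let K : Ideal C := J.map sC
  have hK : IsNilpotent K := ⟨2, by rw [pow_two, ← Ideal.map_mul, hJ, Ideal.map_bot]; rfl⟩
  obtain ⟨γ', hγ', hγγ⟩ := exists_factor j γ K hK
    (Φ.act yC χC (Spec.map (CommRingCat.ofHom γ) ≫ j) hzC) (by
      rw [Φ.act_comp]
      refine ((htriv.map sC) _ (Ideal.Quotient.mk K) (Ideal.map_quotient_self _) _ _ _).trans ?_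
      rw [← Category.assoc, ← specMap_comp])
  have hJ₂ : J₂ * J₂ = ⊥ := by rw [← Ideal.map_mul, hJ, Ideal.map_bot]
  have hKpq : ∀ z ∈ K, p z = q z := fun z hz => components_eq_of_mem J₂ J s₂ hJ₂ le_rfl hz
  have hp : p.comp γ' = f₁.comp β := by
    refine congrArg CommRingCat.Hom.hom (Spec.map_injective ((cancel_mono j).mp ?_) :
      CommRingCat.ofHom (p.comp γ') = CommRingCat.ofHom (f₁.comp β))
    rw [specMap_comp γ' p, specMap_comp β f₁, Category.assoc, Category.assoc, ← hγ', ← hβ, Φ.act_comp,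
      Φ.act_comp]
    refine Φ.act_congr ?_ ?_ ?_
    · simp only [yC, y₁, ← Category.assoc, ← specMap_comp, hf₁, hpsC]
    · exact hpχ
    · simp only [← Category.assoc, ← specMap_comp]
      rw [hpγ, ← RingHom.comp_assoc, hf₁]
  have hq : q.comp γ' = fd.comp β := by
    refine congrArg CommRingCat.Hom.hom (Spec.map_injective ((cancel_mono j).mp ?_) :
      CommRingCat.ofHom (q.comp γ') = CommRingCat.ofHom (fd.comp β))
    rw [specMap_comp γ' q, specMap_comp β fd, Category.assoc, Category.assoc, ← hγ', ← hβ, Φ.act_comp,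
      Φ.act_comp]
    refine Eq.trans ?_ ((Φ.act_mul _ (f₁.toMonoidHom.comp χ₁) (f₂.toMonoidHom.comp χ₁)
      (Spec.map (CommRingCat.ofHom fd) ≫ Spec.map (CommRingCat.ofHom (s₁.comp α)) ≫ j)
      (by rw [Category.assoc, hx₁]; simp only [Category.assoc, y₁])).symm.trans (Φ.act_congr rfl hd.symm rfl))
    have hy' : Spec.map (CommRingCat.ofHom q) ≫ yC = Spec.map (CommRingCat.ofHom fd) ≫ y₁ := by
      simp only [yC, y₁, ← Category.assoc, ← specMap_comp, hfd, hqsC]
    refine Φ.act_congr hy' hqχ ?_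
    change Spec.map (CommRingCat.ofHom q) ≫ Spec.map (CommRingCat.ofHom γ) ≫ j = _
    rw [← Category.assoc, ← specMap_comp, hqγ, specMap_comp,
      Category.assoc, ← hβ, Φ.act_comp]
    refine Φ.act_congr ?_ rfl ?_
    · simp only [y₁, ← Category.assoc, ← specMap_comp, hfd, hf₂]
    · simp only [← Category.assoc, ← specMap_comp]
      rw [← RingHom.comp_assoc, ← RingHom.comp_assoc, hf₂, hfd]
  refine RingHom.ext fun b => sub_eq_zero.mp (hprim _ ?_)
  rw [RingHom.comp_apply]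
  have hd' := hKpq _ (hγγ b)
  rw [map_sub, map_sub, ← RingHom.comp_apply p γ', ← RingHom.comp_apply q γ', hp, hq] at hd'
  have e₄ : p (γ b) = s₂ (α b) := RingHom.congr_fun hpγ b
  have e₅ : q (γ b) = f₂ (β b) := RingHom.congr_fun hqγ b
  rw [e₄, e₅, RingHom.comp_apply, RingHom.comp_apply] at hd'
  have e₁ : f₁ (s₁ (α b)) = s₂ (α b) := RingHom.congr_fun hf₁ _
  have e₂ : f₂ (s₁ (α b)) = s₂ (α b) := RingHom.congr_fun hf₂ _
  have e₃ : fd (s₁ (α b)) = s₂ (α b) := RingHom.congr_fun hfd _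
  rw [map_sub, map_sub, map_sub, e₁, e₂, e₃]
  rw [sub_eq_sub_iff_add_eq_add] at hd'
  linear_combination -hd'


/-- the key step, for a point of an affine open over an affine open -/
theorem fam_step_affine {y : Spec (CommRingCat.of B) ⟶ U} {J : Ideal B} (hJ : J * J = ⊥)
    (htriv : FamTriv Φ y J) {A R : Type u} [CommRing A] [CommRing R]
    (j : Spec (CommRingCat.of A) ⟶ X.left) [IsOpenImmersion j]
    (k : Spec (CommRingCat.of R) ⟶ S) [Mono k] (σ : R →+* A)
    (hk : j ≫ X.hom = Spec.map (CommRingCat.ofHom σ) ≫ k)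
    (α : A →+* B) (χ : Multiplicative M →* B)
    (hx : (Spec.map (CommRingCat.ofHom α) ≫ j) ≫ X.hom = y ≫ u₀) :
    Φ.act y χ (Spec.map (CommRingCat.ofHom α) ≫ j) hx = Spec.map (CommRingCat.ofHom α) ≫ j := by
  refine fam_step_core hJ htriv j k σ hk α χ MonoidAlgebra.singleOneRingHom
    (MonoidAlgebra.singleOneRingHom (R := B) (M := Multiplicative (M × M)))
    (MonoidAlgebra.mapDomainRingHom B (AddMonoidHom.toMultiplicative (AddMonoidHom.inl M M)))
    (MonoidAlgebra.mapDomainRingHom B (AddMonoidHom.toMultiplicative (AddMonoidHom.inr M M)))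
    (MonoidAlgebra.mapDomainRingHom B (diagM M))
    (RingHom.ext fun b => by simp; rfl) (RingHom.ext fun b => by simp; rfl) (RingHom.ext fun b => by simp)
    (MonoidAlgebra.of B (Multiplicative M)) (MonoidHom.ext fun m => ?_)
    (MonoidAlgebra.liftNCRingHom (RingHom.id B) χ fun _ _ => Commute.all _ _)
    (RingHom.ext fun b => by simp) (MonoidHom.ext fun m => by simp) primitive_eq_zero hx
  simp only [MonoidHom.mul_apply, MonoidHom.coe_comp, RingHom.toMonoidHom_eq_coe,
    MonoidHom.coe_coe, Function.comp_apply, MonoidAlgebra.of_apply, MonoidAlgebra.mapDomainRingHom_apply,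
    MonoidAlgebra.mapDomain_single, MonoidAlgebra.single_mul_single]
  congr 1
  · exact Prod.ext (add_zero _).symm (zero_add _).symm
  · exact (_root_.mul_one _).symm


end

theorem fam_step {B : Type u} [CommRing B] {y : Spec (CommRingCat.of B) ⟶ U} {J : Ideal B}
    (hJ : J * J = ⊥) (htriv : FamTriv Φ y J) (χ : Multiplicative M →* B)
    (x : Spec (CommRingCat.of B) ⟶ X.left) (hx : x ≫ X.hom = y ≫ u₀) :
    Φ.act y χ x hx = x := by
  refine spec_hom_ext _ _ fun z => ?_
  obtain ⟨V, hV, hzV, -⟩ := exists_isAffineOpen_mem_and_subset (U := ⊤) (x := X.hom.base (x.base z))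
    (Set.mem_univ _)
  obtain ⟨W, hW, hzW, hWV⟩ := exists_isAffineOpen_mem_and_subset (U := X.hom ⁻¹ᵁ V) (x := x.base z) hzV
  obtain ⟨_, ⟨_, ⟨b, rfl⟩, rfl⟩, hzb, hbW⟩ :=
    PrimeSpectrum.isBasis_basic_opens.exists_subset_of_mem_open (show z ∈ x.base ⁻¹' W from hzW)
      (W.isOpen.preimage x.base.hom.continuous)
  refine ⟨b, hzb, ?_⟩
  set φ := algebraMap B (Localization.Away b)
  -- the affine pieces
  have hr : Set.range (Spec.map (CommRingCat.ofHom φ) ≫ x).base ⊆ Set.range hW.fromSpec.base := by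
    rintro _ ⟨w, rfl⟩
    rw [hW.range_fromSpec]
    have hw : (Spec.map (CommRingCat.ofHom φ)).base w ∈ (PrimeSpectrum.basicOpen b : Set (PrimeSpectrum B)) := by
      rw [← PrimeSpectrum.localization_away_comap_range (Localization.Away b) b]
      exact ⟨w, rfl⟩
    exact hbW hw
  obtain ⟨α, hα⟩ := Spec.map_surjective (IsOpenImmersion.lift hW.fromSpec _ hr)
  have hα' : Spec.map (CommRingCat.ofHom α.hom) ≫ hW.fromSpec = Spec.map (CommRingCat.ofHom φ) ≫ x := by
    rw [CommRingCat.ofHom_hom, hα, IsOpenImmersion.lift_fac]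
  have hk : hW.fromSpec ≫ X.hom =
      Spec.map (CommRingCat.ofHom (X.hom.appLE V W hWV).hom) ≫ hV.fromSpec := by
    rw [CommRingCat.ofHom_hom]
    exact (hV.SpecMap_appLE_fromSpec X.hom hW hWV).symm
  have hxb : (Spec.map (CommRingCat.ofHom α.hom) ≫ hW.fromSpec) ≫ X.hom =
      (Spec.map (CommRingCat.ofHom φ) ≫ y) ≫ u₀ := by
    rw [hα', Category.assoc, hx, Category.assoc]
  have h := fam_step_affine (Φ := Φ) (J := J.map φ) (by rw [← Ideal.map_mul, hJ, Ideal.map_bot])
    (htriv.map φ) hW.fromSpec hV.fromSpec _ hk α.hom (φ.toMonoidHom.comp χ) hxb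
  rw [Φ.act_comp]
  exact ((Φ.act_congr rfl rfl hα'.symm).trans h).trans hα'

theorem famTriv_bot_of_pow : ∀ (n : ℕ) {B : Type u} [CommRing B] (y : Spec (CommRingCat.of B) ⟶ U)
    (J : Ideal B), J ^ 2 ^ n = ⊥ → FamTriv Φ y J → FamTriv Φ y ⊥ := by
  intro n
  induction n with
  | zero =>
    intro B _ y J hJ h
    rw [pow_zero, pow_one] at hJ
    rwa [hJ] at h
  | succ n ih =>
    intro B _ y J hJ h
    have hI : FamTriv Φ y (J ^ 2 ^ n) := by
      intro B' _ φ hφ χ x hx
      have h' := ih (Spec.map (CommRingCat.ofHom φ) ≫ y) (J.map φ) (by rw [← Ideal.map_pow, hφ]) (h.map φ)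
      have e1 : Spec.map (CommRingCat.ofHom (RingHom.id B')) ≫ Spec.map (CommRingCat.ofHom φ) ≫ y =
          Spec.map (CommRingCat.ofHom φ) ≫ y := by
        rw [CommRingCat.ofHom_id, Spec.map_id, Category.id_comp]
      exact (Φ.act_congr e1.symm rfl rfl).trans
        (h' B' (RingHom.id B') Ideal.map_bot χ x (by rw [e1]; exact hx))
    intro B' _ φ _ χ x hx
    refine fam_step ?_ (hI.map φ) χ x hx
    rw [← Ideal.map_mul, ← pow_add, ← two_mul, ← pow_succ', hJ, Ideal.map_bot]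

/-- an action trivial modulo a nilpotent ideal is trivial on points over `U` -/
theorem fam_act_eq_self {B : Type u} [CommRing B] {y : Spec (CommRingCat.of B) ⟶ U} {J : Ideal B}
    (hJ : IsNilpotent J) (htriv : FamTriv Φ y J) (χ : Multiplicative M →* B)
    (x : Spec (CommRingCat.of B) ⟶ X.left) (hx : x ≫ X.hom = y ≫ u₀) :
    Φ.act y χ x hx = x := by
  obtain ⟨n, hn⟩ := hJ
  have h := famTriv_bot_of_pow n y J (bot_unique ((Ideal.pow_le_pow_right Nat.lt_two_pow_self.le).trans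
    hn.le)) htriv
  have e1 : Spec.map (CommRingCat.ofHom (RingHom.id B)) ≫ y = y := by
    rw [CommRingCat.ofHom_id, Spec.map_id, Category.id_comp]
  exact (Φ.act_congr e1.symm rfl rfl).trans (h B (RingHom.id B) Ideal.map_bot χ x (by rw [e1]; exact hx))


end Groth.Agent.H21Diag
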