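import Groth.Agent.H21Diag.KernelOpen
import Groth.Agent.H21Diag.RigidFam

/-!
Kernels of families of points indexed by characters: near each point the kernel is a diagonalisable group
of constant type.
-/

open CategoryTheory MonoidalCategory CartesianMonoidalCategory MonObj GrpObj AlgebraicGeometry
open CategoryTheory.Limits
open scoped TensorProduct

universe u

set_option backward.isDefEq.respectTransparency false
set_option maxHeartbeats 800000

namespace Groth.Agent.H21Diag

section algebra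

variable {B C : Type u} [CommRing B] [CommRing C]

/-- a split ideal vanishing in all algebras through fields is zero -/
theorem ideal_eq_bot_of_split (ι₀ : B →+* C) (c : Ideal C) (hfg : c.FG) (R : C →+ C)
    (hR : ∀ b d, R (ι₀ b * d) = ι₀ b * R d) (hRc : ∀ d, R d ∈ c) (hRid : ∀ t ∈ c, R t = t)
    (h : ∀ t ∈ c, ∀ (Q : Type u) [CommRing Q] (K : Type u) [Field K] (ψ : B →+* K) (φ : K →+* Q) (g : C →+* Q),
      g.comp ι₀ = φ.comp ψ → g t = 0) : c = ⊥ := by
  have hpc : ∀ (p : Ideal B) (x : C), x ∈ p.map ι₀ → R x ∈ p.map ι₀ * c := by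
    intro p x hx
    suffices h : ∀ d : C, R (d * x) ∈ p.map ι₀ * c by simpa using h 1
    induction hx using Submodule.span_induction with
    | mem w hw =>
      obtain ⟨b, hb, rfl⟩ := hw
      intro d
      rw [_root_.mul_comm d, hR]
      exact Ideal.mul_mem_mul (Ideal.mem_map_of_mem _ hb) (hRc d)
    | zero => intro d; simp
    | add y z _ _ hy hz => intro d; rw [mul_add, map_add]; exact add_mem (hy d) (hz d)
    | smul e y _ hy => intro d; rw [smul_eq_mul, ← _root_.mul_assoc]; exact hy _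
  have hq : ∀ q : Ideal C, q.IsMaximal → c ≤ q * c := by
    intro q hmax
    let p := q.comap ι₀
    have : p.IsPrime := Ideal.IsPrime.comap _
    intro t ht
    obtain ⟨s, hsp, hs⟩ := exists_mul_mem_map ι₀ t (fun Q _ K _ ψ φ g hg => h t ht Q K ψ φ g hg) p
    have h1 := hpc p _ hs
    rw [hR, hRid t ht] at h1
    have h1' : ι₀ s * t ∈ q * c := Ideal.mul_mono_left Ideal.map_comap_le h1
    obtain ⟨e, j, hj, hej⟩ := hmax.exists_inv (x := ι₀ s) hsp
    have h2 : t = e * (ι₀ s * t) + j * t := by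
      rw [← _root_.mul_assoc, ← _root_.add_mul, hej, _root_.one_mul]
    rw [h2]
    exact Ideal.add_mem _ (Ideal.mul_mem_left _ _ h1') (Ideal.mul_mem_mul hj ht)
  refine eq_bot_iff.mpr fun t ht => Ideal.mem_bot.mpr ?_
  by_contra hne
  have hann : Submodule.annihilator c ≠ ⊤ := fun h => hne (by
    have h1 := Submodule.mem_annihilator.mp (h ▸ Submodule.mem_top (x := (1 : C))) t ht
    rwa [smul_eq_mul, _root_.one_mul] at h1)
  obtain ⟨q, hmax, hle⟩ := Ideal.exists_le_maximal _ hann
  obtain ⟨r, hr, hr'⟩ := Submodule.exists_sub_one_mem_and_smul_eq_zero_of_fg_of_le_smul q c hfg (hq q hmax)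
  have : r ∈ q := hle (Submodule.mem_annihilator.mpr hr')
  exact hmax.ne_top ((Ideal.eq_top_iff_one q).mpr (by simpa using sub_mem this hr))

/-- subgroups of finitely generated abelian groups are finitely generated -/
theorem exists_generators {M : Type} [AddCommGroup M] [AddGroup.FG M] (Λ : Subgroup (Multiplicative M)) :
    ∃ F : Finset (Multiplicative M), Subgroup.closure (F : Set (Multiplicative M)) = Λ := by
  classical
  have : Module.Finite ℤ M := Module.Finite.iff_addGroup_fg.mpr inferInstance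
  obtain ⟨F, hF⟩ := IsNoetherian.noetherian (R := ℤ) (AddSubgroup.toIntSubmodule (AddSubgroup.toSubgroup.symm Λ))
  refine ⟨F.image Multiplicative.ofAdd, le_antisymm ?_ ?_⟩
  · rw [Subgroup.closure_le]
    intro x hx
    obtain ⟨a, ha, rfl⟩ := Finset.mem_image.mp hx
    have h1 : a ∈ AddSubgroup.toIntSubmodule (AddSubgroup.toSubgroup.symm Λ) := hF ▸ Submodule.subset_span ha
    exact h1
  · intro x hx
    have h1 : x.toAdd ∈ Submodule.span ℤ (F : Set M) := by rw [hF]; exact hx
    have h2 : x.toAdd ∈ AddSubgroup.closure (F : Set M) := by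
      rw [← Submodule.span_int_eq_addSubgroupClosure]; exact h1
    have h3 : AddSubgroup.closure (F : Set M) ≤
        AddSubgroup.toSubgroup.symm (Subgroup.closure ((F.image Multiplicative.ofAdd : Finset _) : Set (Multiplicative M))) :=
      (AddSubgroup.closure_le _).mpr fun a ha =>
        (show Multiplicative.ofAdd a ∈ Subgroup.closure ((F.image Multiplicative.ofAdd : Finset _) : Set (Multiplicative M))
          from Subgroup.subset_closure (Finset.mem_coe.mpr (Finset.mem_image_of_mem _ ha)))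
    exact h3 h2

/-- finitely generated abelian groups are residually finite -/
theorem exists_finite_quotient (Q : Type) [AddCommGroup Q] [Module.Finite ℤ Q] (l : Q) (hl : l ≠ 0) :
    ∃ P : Submodule ℤ Q, l ∉ P ∧ Finite (Q ⧸ P) := by
  obtain ⟨P, hP, hmax⟩ := set_has_maximal_iff_noetherian.mpr (inferInstanceAs (IsNoetherian ℤ Q))
    {P : Submodule ℤ Q | l ∉ P} ⟨⊥, by simpa using hl⟩
  refine ⟨P, hP, ?_⟩
  have hmem : ∀ z : Q, z ∉ P → ∃ k : ℤ, l - k • z ∈ P := by
    intro z hz
    have h1 : l ∈ P ⊔ Submodule.span ℤ {z} := by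
      by_contra h
      exact hmax _ h (lt_of_le_of_ne le_sup_left fun e =>
        hz (e ▸ Submodule.mem_sup_right (Submodule.mem_span_singleton_self z)))
    obtain ⟨a, ha, b, hb, hab⟩ := Submodule.mem_sup.mp h1
    obtain ⟨k, rfl⟩ := Submodule.mem_span_singleton.mp hb
    exact ⟨k, by rw [← hab, add_sub_cancel_right]; exact ha⟩
  have hltors : ∃ n : ℤ, n ≠ 0 ∧ n • l ∈ P := by
    by_contra h
    push_neg at h
    obtain ⟨k, hk⟩ := hmem ((2 : ℤ) • l) (h 2 (by norm_num))
    refine h (1 - 2 * k) (by omega) ?_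
    convert hk using 1
    rw [sub_smul, one_smul, smul_smul, _root_.mul_comm]
  obtain ⟨n, hn, hnl⟩ := hltors
  have htors : AddMonoid.IsTorsion (Q ⧸ P) := by
    intro q
    obtain ⟨z, rfl⟩ := Submodule.Quotient.mk_surjective P q
    rw [isOfFinAddOrder_iff_zsmul_eq_zero]
    by_cases hz : z ∈ P
    · exact ⟨1, one_ne_zero, by rw [one_zsmul]; exact (Submodule.Quotient.mk_eq_zero P).mpr hz⟩
    obtain ⟨k, hk⟩ := hmem z hz
    have hk0 : k ≠ 0 := by
      rintro rfl
      exact hP (by simpa using hk)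
    refine ⟨n * k, mul_ne_zero hn hk0, ?_⟩
    rw [← Submodule.Quotient.mk_smul, Submodule.Quotient.mk_eq_zero]
    have h1 : n • l - n • (l - k • z) ∈ P := sub_mem hnl (P.smul_mem n hk)
    rwa [smul_sub, sub_sub_cancel, smul_smul] at h1
  have : AddGroup.FG (Q ⧸ P) := Module.Finite.iff_addGroup_fg.mp inferInstance
  exact AddCommGroup.finite_of_fg_torsion _ htors

/-- the linear map out of a monoid algebra given on a set of representatives -/
theorem exists_lin {G' : Type} [Monoid G'] [Algebra B C] (f : G' → C) :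
    ∃ σ : MonoidAlgebra B G' →ₗ[B] C, ∀ a b, σ (MonoidAlgebra.single a b) = algebraMap B C b * f a := by
  refine ⟨(Finsupp.linearCombination B f).comp (MonoidAlgebra.coeffLinearEquiv B).toLinearMap, fun a b => ?_⟩
  rw [← Algebra.smul_def, LinearMap.comp_apply]
  exact Finsupp.linearCombination_single B b a

/-- a section of a map onto a monoid algebra -/
theorem section_apply {G' : Type} [Monoid G'] [Algebra B C] (ε : C →+* MonoidAlgebra B G')
    (hε : ∀ b, ε (algebraMap B C b) = MonoidAlgebra.single 1 b) (f : G' → C)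
    (hf : ∀ a, ε (f a) = MonoidAlgebra.single a 1) (σ : MonoidAlgebra B G' →ₗ[B] C)
    (hσ : ∀ a b, σ (MonoidAlgebra.single a b) = algebraMap B C b * f a) (w : MonoidAlgebra B G') :
    ε (σ w) = w := by
  induction w using MonoidAlgebra.induction_linear with
  | zero => rw [map_zero, map_zero]
  | add a b ha hb => rw [map_add, map_add, ha, hb]
  | single a b => rw [hσ, map_mul, hε, hf, MonoidAlgebra.single_mul_single, _root_.one_mul, _root_.mul_one]

/-- multiplying by scalars commutes with the projection -/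
theorem sub_section_mul {G' : Type} [Monoid G'] [Algebra B C] (ε : C →+* MonoidAlgebra B G')
    (hε : ∀ b, ε (algebraMap B C b) = MonoidAlgebra.single 1 b) (σ : MonoidAlgebra B G' →ₗ[B] C) (b : B) (d : C) :
    algebraMap B C b * d - σ (ε (algebraMap B C b * d)) = algebraMap B C b * (d - σ (ε d)) := by
  have h1 : MonoidAlgebra.single (1 : G') b * ε d = b • ε d := by
    rw [Algebra.smul_def]; rfl
  rw [map_mul, hε, h1, map_smul, Algebra.smul_def, mul_sub]

end algebra

/-- points of `X` indexed by characters -/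
structure CharFam {S U : Scheme.{u}} (u₀ : U ⟶ S) (X : Over S) [GrpObj X] (M : Type) [AddCommGroup M] where
  pt : ∀ {B : Type u} [CommRing B] (y : Spec (CommRingCat.of B) ⟶ U) (_ : Multiplicative M →* B),
    Over.mk (y ≫ u₀) ⟶ X
  pt_comp : ∀ {B : Type u} [CommRing B] (y : Spec (CommRingCat.of B) ⟶ U) (χ : Multiplicative M →* B) {B' : Type u}
    [CommRing B'] (φ : B →+* B'),
    (pt (Spec.map (CommRingCat.ofHom φ) ≫ y) (φ.toMonoidHom.comp χ)).left =
      Spec.map (CommRingCat.ofHom φ) ≫ (pt y χ).left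
  pt_mul : ∀ {B : Type u} [CommRing B] (y : Spec (CommRingCat.of B) ⟶ U) (χ χ' : Multiplicative M →* B),
    pt y (χ * χ') = pt y χ * pt y χ'

namespace CharFam

variable {S U : Scheme.{u}} {u₀ : U ⟶ S} {X : Over S} [GrpObj X] {M : Type} [AddCommGroup M]
  (Φ : CharFam u₀ X M) {B : Type u} [CommRing B]

theorem pt_one (y : Spec (CommRingCat.of B) ⟶ U) : Φ.pt y 1 = 1 := by
  have h := Φ.pt_mul y 1 1
  rw [_root_.mul_one] at h
  exact left_eq_mul.mp h

/-- the universal value -/
noncomputable def univPt (y : Spec (CommRingCat.of B) ⟶ U) :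
    Spec (CommRingCat.of (MonoidAlgebra B (Multiplicative M))) ⟶ X.left :=
  (Φ.pt (Spec.map (CommRingCat.ofHom (MonoidAlgebra.singleOneRingHom :
    B →+* MonoidAlgebra B (Multiplicative M))) ≫ y) (MonoidAlgebra.of B (Multiplicative M))).left

/-- the kernel is of finite presentation -/
def FinKer : Prop :=
  ∀ (B : Type u) [CommRing B] (y : Spec (CommRingCat.of B) ⟶ U),
    LocallyOfFinitePresentation (pullback.fst (Φ.univPt y) (η[X]).left)

theorem finKer_of_lft [LocallyOfFiniteType X.hom] : Φ.FinKer := by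
  intro B _ y
  have : LocallyOfFinitePresentation ((η[X]).left ≫ X.hom) := by
    rw [one_hom_left]
    exact (inferInstance : LocallyOfFinitePresentation (𝟙 S))
  have := H12AlgSp.lfp_of_comp (η[X]).left X.hom
  infer_instance

/-- on points, the kernel is trivial on `Λ` -/
def KS (Λ : Subgroup (Multiplicative M)) (y : Spec (CommRingCat.of B) ⟶ U) : Prop :=
  ∀ (D : Type u) [CommRing D] (g : B →+* D) (χ : Multiplicative M →* D),
    Φ.pt (Spec.map (CommRingCat.ofHom g) ≫ y) χ = 1 → ∀ l ∈ Λ, χ l = 1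

/-- characters trivial on `Λ` are in the kernel -/
def KI (Λ : Subgroup (Multiplicative M)) (y : Spec (CommRingCat.of B) ⟶ U) : Prop :=
  ∀ (D : Type u) [CommRing D] (g : B →+* D) (χ : Multiplicative M →* D),
    (∀ l ∈ Λ, χ l = 1) → Φ.pt (Spec.map (CommRingCat.ofHom g) ≫ y) χ = 1

variable {Φ} in
theorem KS.comp {Λ : Subgroup (Multiplicative M)} {y : Spec (CommRingCat.of B) ⟶ U} (h : Φ.KS Λ y)
    {C : Type u} [CommRing C] (g : B →+* C) : Φ.KS Λ (Spec.map (CommRingCat.ofHom g) ≫ y) := by
  intro D _ k χ hχ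
  rw [specMap_comp_assoc] at hχ
  exact h D (k.comp g) χ hχ

variable {Φ} in
theorem KI.comp {Λ : Subgroup (Multiplicative M)} {y : Spec (CommRingCat.of B) ⟶ U} (h : Φ.KI Λ y)
    {C : Type u} [CommRing C] (g : B →+* C) : Φ.KI Λ (Spec.map (CommRingCat.ofHom g) ≫ y) := by
  intro D _ k χ hχ
  rw [specMap_comp_assoc]
  exact h D (k.comp g) χ hχ

/-- the kernel is cut out by a finitely generated ideal -/
theorem exists_ideal [IsSeparated X.hom] (hΦ : Φ.FinKer) (y : Spec (CommRingCat.of B) ⟶ U) :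
    ∃ J : Ideal (MonoidAlgebra B (Multiplicative M)), J.FG ∧ ∀ (D : Type u) [CommRing D] (g : B →+* D)
      (χ : Multiplicative M →* D),
      Φ.pt (Spec.map (CommRingCat.ofHom g) ≫ y) χ = 1 ↔ J ≤ RingHom.ker (evChar g χ) := by
  let s₁ : B →+* (MonoidAlgebra B (Multiplicative M)) := MonoidAlgebra.singleOneRingHom
  let y₁ : Spec (CommRingCat.of (MonoidAlgebra B (Multiplicative M))) ⟶ U := Spec.map (CommRingCat.ofHom s₁) ≫ y
  let v : Spec (CommRingCat.of (MonoidAlgebra B (Multiplicative M))) ⟶ X.left := Φ.univPt y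
  have : IsClosedImmersion (η[X]).left := by
    have : IsClosedImmersion ((η[X]).left ≫ X.hom) := by
      rw [one_hom_left]
      exact (inferInstance : IsClosedImmersion (𝟙 S))
    exact IsClosedImmersion.of_comp _ X.hom
  let j := pullback.fst v (η[X]).left
  have hjfp : LocallyOfFinitePresentation j := hΦ B y
  have hcl : IsClosedImmersion j := inferInstance
  obtain ⟨J, w, hw⟩ := IsClosedImmersion.Spec_iff.mp hcl
  have hJ : (Ideal.Quotient.mk J).FinitePresentation := by
    have h1 : LocallyOfFinitePresentation (Spec.map (CommRingCat.ofHom (Ideal.Quotient.mk J))) := by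
      rw [show Spec.map (CommRingCat.ofHom (Ideal.Quotient.mk J)) = w.inv ≫ j by rw [hw, Iso.inv_hom_id_assoc]]
      infer_instance
    exact (LocallyOfFinitePresentation.SpecMap_iff _).mp h1
  refine ⟨J, ?_, fun D _ g χ => ?_⟩
  · let := (Ideal.Quotient.mk J).toAlgebra
    have : Algebra.FinitePresentation (MonoidAlgebra B (Multiplicative M))
      (MonoidAlgebra B (Multiplicative M) ⧸ J) := hJ
    have h2 := Algebra.FinitePresentation.ker_fG_of_surjective
      (Algebra.ofId (MonoidAlgebra B (Multiplicative M)) (MonoidAlgebra B (Multiplicative M) ⧸ J))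
      Ideal.Quotient.mk_surjective
    exact (show RingHom.ker (Algebra.ofId (MonoidAlgebra B (Multiplicative M))
      (MonoidAlgebra B (Multiplicative M) ⧸ J)).toRingHom = J from Ideal.mk_ker (I := J)) ▸ h2
  let Gh : MonoidAlgebra B (Multiplicative M) →+* D := evChar g χ
  have hg : Gh.comp s₁ = g := RingHom.ext fun b => by simp [Gh, s₁]
  have hχ : Gh.toMonoidHom.comp (MonoidAlgebra.of B _) = χ := MonoidHom.ext fun m => evChar_of g χ m
  have hy' : Spec.map (CommRingCat.ofHom g) ≫ y = Spec.map (CommRingCat.ofHom Gh) ≫ y₁ := by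
    rw [← hg]; exact (specMap_comp_assoc s₁ Gh y).symm
  rw [hy', ← hχ, show evChar g (Gh.toMonoidHom.comp (MonoidAlgebra.of B _)) = Gh from congrArg (evChar g) hχ]
  have h1 : (Φ.pt (Spec.map (CommRingCat.ofHom Gh) ≫ y₁) (Gh.toMonoidHom.comp (MonoidAlgebra.of B _))).left =
      Spec.map (CommRingCat.ofHom Gh) ≫ v := Φ.pt_comp y₁ _ Gh
  constructor
  · intro h x hx
    let c : Spec (CommRingCat.of D) ⟶ pullback v (η[X]).left :=
      pullback.lift (Spec.map (CommRingCat.ofHom Gh)) ((Spec.map (CommRingCat.ofHom Gh) ≫ y₁) ≫ u₀) (by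
        rw [← h1, h, one_left]; rfl)
    have hc : c ≫ j = Spec.map (CommRingCat.ofHom Gh) := pullback.lift_fst _ _ _
    obtain ⟨ψ, hψ⟩ := Spec.map_surjective (c ≫ w.hom)
    have : Gh = ψ.hom.comp (Ideal.Quotient.mk J) := by
      refine congrArg CommRingCat.Hom.hom (Spec.map_injective (?_ :
        Spec.map (CommRingCat.ofHom Gh) = Spec.map (CommRingCat.ofHom (ψ.hom.comp (Ideal.Quotient.mk J)))))
      rw [specMap_comp, CommRingCat.ofHom_hom, hψ, Category.assoc, ← hw, hc]
    rw [RingHom.mem_ker]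
    change Gh x = 0
    rw [this, RingHom.comp_apply, Ideal.Quotient.eq_zero_iff_mem.mpr hx, map_zero]
  · intro h
    let c : Spec (CommRingCat.of D) ⟶ pullback v (η[X]).left :=
      Spec.map (CommRingCat.ofHom (Ideal.Quotient.lift J Gh h)) ≫ w.inv
    have hc : c ≫ j = Spec.map (CommRingCat.ofHom Gh) := by
      rw [Category.assoc, hw, Iso.inv_hom_id_assoc, ← specMap_comp, Ideal.Quotient.lift_comp_mk]
    refine Over.OverMorphism.ext ?_
    rw [h1, one_left]
    have h2 : Spec.map (CommRingCat.ofHom Gh) ≫ v = (c ≫ pullback.snd _ _) ≫ (η[X]).left := by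
      rw [← hc]
      exact ((Category.assoc c j v).trans (congrArg (c ≫ ·) pullback.condition)).trans (Category.assoc _ _ _).symm
    have h3 : c ≫ pullback.snd _ _ = (Spec.map (CommRingCat.ofHom Gh) ≫ y₁) ≫ u₀ := by
      have h4 := congrArg (· ≫ X.hom) h2
      rw [Category.assoc, Category.assoc, one_hom_left X] at h4
      refine ((Category.comp_id _).symm.trans ((Category.assoc _ _ _).trans h4.symm)).trans ?_
      change _ ≫ (Φ.pt _ _).left ≫ X.hom = _
      rw [Over.w]
      exact (Category.assoc _ _ _).symm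
    rw [h2, h3]
    rfl

/-- points killing the kernel ideal lie in the kernel -/
theorem kernel_of_le {y : Spec (CommRingCat.of B) ⟶ U} {J : Ideal (MonoidAlgebra B (Multiplicative M))}
    (hJ : ∀ (D : Type u) [CommRing D] (g : B →+* D) (χ : Multiplicative M →* D),
      Φ.pt (Spec.map (CommRingCat.ofHom g) ≫ y) χ = 1 ↔ J ≤ RingHom.ker (evChar g χ))
    {E : Type u} [CommRing E] (φ : MonoidAlgebra B (Multiplicative M) →+* E) (hφ : J ≤ RingHom.ker φ)
    (g : B →+* E) (hg : φ.comp MonoidAlgebra.singleOneRingHom = g) :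
    Φ.pt (Spec.map (CommRingCat.ofHom g) ≫ y) (φ.toMonoidHom.comp (MonoidAlgebra.of B _)) = 1 := by
  subst hg
  refine (hJ _ _ _).mpr ?_
  rw [evChar_self]
  exact hφ

variable {Φ} in
/-- a kernel point read in a residue algebra -/
theorem KS.apply_of_le {Λ : Subgroup (Multiplicative M)} {y : Spec (CommRingCat.of B) ⟶ U}
    {J : Ideal (MonoidAlgebra B (Multiplicative M))}
    (hJ : ∀ (D : Type u) [CommRing D] (g : B →+* D) (χ : Multiplicative M →* D),
      Φ.pt (Spec.map (CommRingCat.ofHom g) ≫ y) χ = 1 ↔ J ≤ RingHom.ker (evChar g χ))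
    {κ : Type u} [CommRing κ] (π : B →+* κ) (h : Φ.KS Λ (Spec.map (CommRingCat.ofHom π) ≫ y))
    {E : Type u} [CommRing E] (φ : MonoidAlgebra B (Multiplicative M) →+* E) (hφ : J ≤ RingHom.ker φ)
    (g' : κ →+* E) (hg : φ.comp MonoidAlgebra.singleOneRingHom = g'.comp π) (l : Multiplicative M) (hl : l ∈ Λ) :
    φ (MonoidAlgebra.of B _ l) = 1 := by
  have h1 := Φ.kernel_of_le hJ φ hφ _ hg
  rw [← specMap_comp_assoc] at h1
  exact h E g' _ h1 l hl

/-- the comultiplication of the kernel -/
theorem exists_comul {K : Type u} [Field K] {y : Spec (CommRingCat.of K) ⟶ U}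
    {J : Ideal (MonoidAlgebra K (Multiplicative M))}
    (hJ : ∀ (D : Type u) [CommRing D] (g : K →+* D) (χ : Multiplicative M →* D),
      Φ.pt (Spec.map (CommRingCat.ofHom g) ≫ y) χ = 1 ↔ J ≤ RingHom.ker (evChar g χ))
    {C : Type u} [CommRing C] [Algebra K C] (mk : MonoidAlgebra K (Multiplicative M) →+* C)
    (hmk : J ≤ RingHom.ker mk) (hK : mk.comp MonoidAlgebra.singleOneRingHom = algebraMap K C)
    {E : Type u} [CommRing E] [Algebra K E] (a b : C →ₐ[K] E) :
    ∃ P : MonoidAlgebra K (Multiplicative M) →+* E, J ≤ RingHom.ker P ∧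
      P.comp MonoidAlgebra.singleOneRingHom = algebraMap K E ∧
      ∀ m, P (MonoidAlgebra.of K _ m) = a (mk (MonoidAlgebra.of K _ m)) * b (mk (MonoidAlgebra.of K _ m)) := by
  have h : ∀ c : C →ₐ[K] E, J ≤ RingHom.ker (c.toRingHom.comp mk) ∧
      (c.toRingHom.comp mk).comp MonoidAlgebra.singleOneRingHom = algebraMap K E := fun c =>
    ⟨fun w hw => by
      rw [RingHom.mem_ker, RingHom.comp_apply, RingHom.mem_ker.mp (hmk hw), map_zero],
      by rw [RingHom.comp_assoc, hK]; exact RingHom.ext fun r => c.commutes r⟩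
  refine ⟨evChar (algebraMap K E) ((a.toRingHom.comp mk).toMonoidHom.comp (MonoidAlgebra.of K _) *
      (b.toRingHom.comp mk).toMonoidHom.comp (MonoidAlgebra.of K _)),
    (hJ _ _ _).mp ?_, RingHom.ext fun r => by simp [← MonoidAlgebra.one_def], fun m => evChar_of _ _ _⟩
  rw [Φ.pt_mul, Φ.kernel_of_le hJ _ (h a).1 _ (h a).2, Φ.kernel_of_le hJ _ (h b).1 _ (h b).2, _root_.mul_one]

/-- the characters on the kernel over a field are independent -/
theorem linearIndepOn_char {K : Type u} [Field K] (y : Spec (CommRingCat.of K) ⟶ U)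
    (J : Ideal (MonoidAlgebra K (Multiplicative M)))
    (hJ : ∀ (D : Type u) [CommRing D] (g : K →+* D) (χ : Multiplicative M →* D),
      Φ.pt (Spec.map (CommRingCat.ofHom g) ≫ y) χ = 1 ↔ J ≤ RingHom.ker (evChar g χ))
    [Nontrivial (MonoidAlgebra K (Multiplicative M) ⧸ J)] :
    LinearIndepOn K id (Set.range fun m : Multiplicative M => Ideal.Quotient.mk J (MonoidAlgebra.of K _ m)) := by
  obtain ⟨P, hP, hP1, hPm⟩ := exists_comul Φ (C := MonoidAlgebra K (Multiplicative M) ⧸ J)
    (E := (MonoidAlgebra K (Multiplicative M) ⧸ J) ⊗[K] (MonoidAlgebra K (Multiplicative M) ⧸ J)) hJ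
    (Ideal.Quotient.mk J) (Ideal.mk_ker (I := J)).ge rfl
    (Algebra.TensorProduct.includeLeft (R := K) (S := K) (A := MonoidAlgebra K (Multiplicative M) ⧸ J)
      (B := MonoidAlgebra K (Multiplicative M) ⧸ J))
    Algebra.TensorProduct.includeRight
  let Δ₀ := Ideal.Quotient.lift J P hP
  let Δ : (MonoidAlgebra K (Multiplicative M) ⧸ J) →ₗ[K]
      (MonoidAlgebra K (Multiplicative M) ⧸ J) ⊗[K] (MonoidAlgebra K (Multiplicative M) ⧸ J) :=
    AlgHom.toLinearMap ({ Δ₀ with commutes' := fun r => RingHom.congr_fun hP1 r } :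
      (MonoidAlgebra K (Multiplicative M) ⧸ J) →ₐ[K]
        (MonoidAlgebra K (Multiplicative M) ⧸ J) ⊗[K] (MonoidAlgebra K (Multiplicative M) ⧸ J))
  refine linearIndepOn_grouplike Δ _ ?_
  rintro _ ⟨m, rfl⟩
  refine ⟨?_, (Group.isUnit m).map ((Ideal.Quotient.mk J).toMonoidHom.comp (MonoidAlgebra.of K _))⟩
  change P (MonoidAlgebra.of K _ m) = _
  rw [hPm, Algebra.TensorProduct.includeLeft_apply, Algebra.TensorProduct.includeRight_apply,
    Algebra.TensorProduct.tmul_mul_tmul, _root_.mul_one, _root_.one_mul]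

/-- over a field the kernel is diagonalisable -/
theorem exists_type_field [IsSeparated X.hom] (hΦ : Φ.FinKer) {K : Type u} [Field K]
    (y : Spec (CommRingCat.of K) ⟶ U) : ∃ Λ : Subgroup (Multiplicative M), Φ.KS Λ y ∧ Φ.KI Λ y := by
  classical
  obtain ⟨J, -, hJ⟩ := Φ.exists_ideal hΦ y
  let A := MonoidAlgebra K (Multiplicative M)
  let C := A ⧸ J
  let mk : A →+* C := Ideal.Quotient.mk J
  let x : Multiplicative M →* C := mk.toMonoidHom.comp (MonoidAlgebra.of K _)
  have hsplit : ∀ {D : Type u} [CommRing D] (g : K →+* D) (χ : Multiplicative M →* D)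
      (h : J ≤ RingHom.ker (evChar g χ)) (m : Multiplicative M), Ideal.Quotient.lift J (evChar g χ) h (x m) = χ m :=
    fun g χ h m => evChar_of g χ m
  refine ⟨x.ker, fun D _ g χ hχ l hl => ?_, fun D _ g χ hχ => (hJ _ _ _).mpr ?_⟩
  · rw [← hsplit g χ ((hJ _ _ _).mp hχ) l, MonoidHom.mem_ker.mp hl, map_one]
  have : Nontrivial C := Ideal.Quotient.nontrivial_iff.mpr fun htop => by
    have h1 := (hJ K (RingHom.id K) 1).mp (Φ.pt_one _)
    have h2 : (1 : A) ∈ RingHom.ker (evChar (RingHom.id K) (1 : Multiplicative M →* K)) :=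
      h1 (htop ▸ Submodule.mem_top)
    rw [RingHom.mem_ker, map_one] at h2
    exact one_ne_zero h2
  have hli : LinearIndepOn K id (Set.range x) := Φ.linearIndepOn_char y J hJ
  let : Algebra K D := g.toAlgebra
  have hconst : ∀ m m', x m = x m' → χ m = χ m' := by
    intro m m' hmm
    have h1 : m / m' ∈ x.ker := by
      rw [MonoidHom.mem_ker]
      refine ((Group.isUnit m').map x).mul_right_cancel ?_
      rw [← map_mul, div_mul_cancel, hmm, _root_.one_mul]
    calc χ m = χ (m / m') * χ m' := by rw [← map_mul, div_mul_cancel]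
      _ = χ m' := by rw [hχ _ h1, _root_.one_mul]
  obtain ⟨L, hL⟩ := LinearMap.exists_extend ((Module.Basis.span hli.linearIndependent).constr K
    fun c : Set.range x => χ c.2.choose)
  have hLx : ∀ m, L (x m) = χ m := fun m => by
    have h1 := LinearMap.congr_fun hL (Module.Basis.span hli.linearIndependent ⟨x m, m, rfl⟩)
    rw [LinearMap.comp_apply, Module.Basis.constr_basis] at h1
    refine ((congrArg L (congrArg Subtype.val
      (Module.Basis.span_apply hli.linearIndependent ⟨x m, m, rfl⟩)).symm).trans h1).trans ?_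
    exact hconst _ _ (⟨x m, m, rfl⟩ : Set.range x).2.choose_spec
  intro w hw
  have h1 : ∀ v : A, evChar g χ v = L (mk v) := fun v => by
    induction v using MonoidAlgebra.induction_linear with
    | zero => rw [map_zero, map_zero, map_zero]
    | add a b ha hb => rw [map_add, map_add, map_add, ha, hb]
    | single m r =>
      have h3 : mk (MonoidAlgebra.single m r) = r • x m := by
        refine Eq.trans ?_ (Algebra.smul_def r (x m)).symm
        change _ = mk (MonoidAlgebra.single 1 r) * mk (MonoidAlgebra.of K _ m)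
        rw [← map_mul, MonoidAlgebra.of_apply, MonoidAlgebra.single_mul_single, _root_.one_mul, _root_.mul_one]
      rw [evChar_single, h3, map_smul, hLx, Algebra.smul_def]
      rfl
  rw [RingHom.mem_ker, h1, show mk w = 0 from Ideal.Quotient.eq_zero_iff_mem.mpr hw, map_zero]

/-- the type over a field contains any subgroup whose orthogonal lies in the kernel -/
theorem le_of_KI {K : Type u} [Field K] {y : Spec (CommRingCat.of K) ⟶ U} {Λ Λ' : Subgroup (Multiplicative M)}
    (hI : Φ.KI Λ y) (hS : Φ.KS Λ' y) : Λ' ≤ Λ := by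
  intro l hl
  let χ : Multiplicative M →* MonoidAlgebra K (Multiplicative M ⧸ Λ) :=
    (MonoidAlgebra.of K _).comp (QuotientGroup.mk' Λ)
  have h1 : χ l = 1 := hS _ MonoidAlgebra.singleOneRingHom χ (hI _ _ χ fun l' hl' => by
    change MonoidAlgebra.of K _ (QuotientGroup.mk' Λ l') = 1
    rw [show QuotientGroup.mk' Λ l' = 1 from (QuotientGroup.eq_one_iff _).mpr hl', map_one]) l hl
  have h2 : MonoidAlgebra.of K (Multiplicative M ⧸ Λ) (QuotientGroup.mk' Λ l) = MonoidAlgebra.of K _ 1 := by
    rw [map_one]; exact h1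
  exact (QuotientGroup.eq_one_iff _).mp (MonoidAlgebra.of_injective h2)

/-- the orthogonal stays in the kernel near a prime -/
theorem exists_away_KI [AddGroup.FG M] [IsSeparated X.hom] (hΦ : Φ.FinKer) (y : Spec (CommRingCat.of B) ⟶ U)
    (Λ : Subgroup (Multiplicative M)) (p : Ideal B) [p.IsPrime]
    (h : Φ.KI Λ (Spec.map (CommRingCat.ofHom (algebraMap B p.ResidueField)) ≫ y)) :
    ∃ t ∉ p, ∀ (D : Type u) [CommRing D] (g : B →+* D), IsUnit (g t) →
      Φ.KI Λ (Spec.map (CommRingCat.ofHom g) ≫ y) := by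
  classical
  obtain ⟨J, ⟨F, hF⟩, hJ⟩ := Φ.exists_ideal hΦ y
  let q : Multiplicative M →* Multiplicative M ⧸ Λ := QuotientGroup.mk' Λ
  let E : MonoidAlgebra B (Multiplicative M) →+* MonoidAlgebra B (Multiplicative M ⧸ Λ) :=
    MonoidAlgebra.mapDomainRingHom B q
  let c : Ideal B := Ideal.span (F.biUnion fun w => (E w).coeff.support.image (E w).coeff : Finset B)
  have hc : ∀ (D : Type u) [CommRing D] (φ : B →+* D),
      Φ.KI Λ (Spec.map (CommRingCat.ofHom φ) ≫ y) ↔ c ≤ RingHom.ker φ := by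
    intro D _ φ
    let R : MonoidAlgebra B (Multiplicative M ⧸ Λ) →+* MonoidAlgebra D (Multiplicative M ⧸ Λ) :=
      MonoidAlgebra.mapRingHom (Multiplicative M ⧸ Λ) φ
    have hker : J ≤ RingHom.ker (R.comp E) ↔ c ≤ RingHom.ker φ := by
      rw [← hF, Submodule.span_le, Ideal.span_le]
      constructor
      · intro h x hx
        obtain ⟨w, hw, hx⟩ := Finset.mem_biUnion.mp hx
        obtain ⟨m, -, rfl⟩ := Finset.mem_image.mp hx
        exact congrArg (fun z => z.coeff m) (RingHom.mem_ker.mp (h hw))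
      · intro h w hw
        refine MonoidAlgebra.ext (Finsupp.ext fun m => ?_)
        change φ ((E w).coeff m) = 0
        by_cases hm : (E w).coeff m = 0
        · rw [hm, map_zero]
        · exact h (Finset.mem_biUnion.mpr ⟨w, hw, Finset.mem_image_of_mem _ (Finsupp.mem_support_iff.mpr hm)⟩)
    rw [← hker]
    constructor
    · intro hI
      let s : D →+* MonoidAlgebra D (Multiplicative M ⧸ Λ) := MonoidAlgebra.singleOneRingHom
      let χ : Multiplicative M →* MonoidAlgebra D (Multiplicative M ⧸ Λ) := (MonoidAlgebra.of D _).comp q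
      have h1 := hI _ s χ fun l hl => by
        change MonoidAlgebra.of D _ (q l) = 1
        rw [show q l = 1 from (QuotientGroup.eq_one_iff _).mpr hl, map_one]
      rw [specMap_comp_assoc, hJ] at h1
      rwa [show evChar (s.comp φ) χ = R.comp E from
        MonoidAlgebra.ringHom_ext (fun b => by simp [s, χ, R, E, ← MonoidAlgebra.one_def]) (fun m => by
          simp [s, χ, R, E, ← MonoidAlgebra.one_def])] at h1
    · intro hle D' _ g χ hχ
      let χ' : Multiplicative M ⧸ Λ →* D' := QuotientGroup.lift Λ χ fun l hl => MonoidHom.mem_ker.mpr (hχ l hl)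
      rw [specMap_comp_assoc, hJ,
        show evChar (g.comp φ) χ = ((evChar g χ').comp R).comp E from
          MonoidAlgebra.ringHom_ext (fun b => by simp [χ', R, E]) (fun m => by simp [χ', R, E, q])]
      intro w hw
      rw [RingHom.mem_ker, RingHom.comp_apply, RingHom.comp_apply,
        show R (E w) = 0 from RingHom.mem_ker.mp (hle hw), map_zero]
  -- rigidity
  have hcp : c ≤ p := by
    have h1 := (hc _ (algebraMap B p.ResidueField)).mp h
    rwa [Ideal.ker_algebraMap_residueField] at h1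
  let P : Ideal B := p * c
  let mk := Ideal.Quotient.mk P
  let J' : Ideal (B ⧸ P) := c.map mk
  have hJ' : IsNilpotent J' := by
    refine ⟨2, ?_⟩
    rw [pow_two, ← Ideal.map_mul, Ideal.zero_eq_bot, eq_bot_iff, Ideal.map_le_iff_le_comap]
    intro x hx
    exact Ideal.Quotient.eq_zero_iff_mem.mpr (Ideal.mul_mono_left hcp hx)
  let q' : Multiplicative M →* Multiplicative (Additive (Multiplicative M ⧸ Λ)) := q
  let A : ActFam u₀ X (Additive (Multiplicative M ⧸ Λ)) :=
    { act := fun y χ x hx => (Φ.pt y (χ.comp q') * Over.homMk x hx).left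
      act_over := fun y χ x hx => Over.w _
      act_comp := fun {B₁} _ y χ x hx {B'} _ φ => by
        let τ : Over.mk ((Spec.map (CommRingCat.ofHom φ) ≫ y) ≫ u₀) ⟶ Over.mk (y ≫ u₀) :=
          Over.homMk (Spec.map (CommRingCat.ofHom φ)) (Category.assoc _ _ _).symm
        have h1 : τ ≫ Φ.pt y (χ.comp q') =
            Φ.pt (Spec.map (CommRingCat.ofHom φ) ≫ y) ((φ.toMonoidHom.comp χ).comp q') :=
          Over.OverMorphism.ext (Φ.pt_comp y (χ.comp q') φ).symm
        change (τ ≫ (Φ.pt y (χ.comp q') * Over.homMk x hx)).left = _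
        rw [MonObj.comp_mul, h1]
        rfl
      act_mul := fun y χ χ' x hx => by
        change _ = (Φ.pt y (χ.comp q') * (Φ.pt y (χ'.comp q') * Over.homMk x hx)).left
        rw [← _root_.mul_assoc, ← Φ.pt_mul, ← MonoidHom.mul_comp] }
  have htriv : FamTriv A (Spec.map (CommRingCat.ofHom mk) ≫ y) J' := by
    intro D _ φ hφ χ x hx
    have hk : c ≤ RingHom.ker (φ.comp mk) := fun t ht => by
      rw [RingHom.mem_ker, RingHom.comp_apply, ← Ideal.mem_bot, ← hφ]
      exact Ideal.mem_map_of_mem _ (Ideal.mem_map_of_mem _ ht)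
    have h1 := (hc D (φ.comp mk)).mpr hk D (RingHom.id D) (χ.comp q') fun l hl => by
      rw [MonoidHom.comp_apply, show q' l = 1 from (QuotientGroup.eq_one_iff _).mpr hl, map_one]
    rw [CommRingCat.ofHom_id, Spec.map_id, Category.id_comp, ← specMap_comp_assoc] at h1
    change (Φ.pt _ (χ.comp q') * Over.homMk x hx).left = x
    rw [h1, _root_.one_mul]
    rfl
  have hle : c ≤ RingHom.ker mk := by
    refine (hc _ mk).mp fun D _ φ χ hχ => ?_
    let y' := Spec.map (CommRingCat.ofHom φ) ≫ Spec.map (CommRingCat.ofHom mk) ≫ y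
    let one' : Over.mk (y' ≫ u₀) ⟶ X := 1
    let χ' : Multiplicative (Additive (Multiplicative M ⧸ Λ)) →* D :=
      QuotientGroup.lift Λ χ fun l hl => MonoidHom.mem_ker.mpr (hχ l hl)
    have h2 := fam_act_eq_self (Φ := A) (hJ'.map (Ideal.mapHom φ)) (htriv.map φ) χ' one'.left (Over.w one')
    have h3 : Φ.pt y' (χ'.comp q') * one' = one' := Over.OverMorphism.ext h2
    rw [show χ'.comp q' = χ from MonoidHom.ext fun m => rfl] at h3
    exact mul_eq_right.mp h3
  rw [Ideal.mk_ker] at hle
  obtain ⟨r, hr, hr'⟩ :=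
    Submodule.exists_sub_one_mem_and_smul_eq_zero_of_fg_of_le_smul p c ⟨_, rfl⟩ hle
  refine ⟨r, fun hrp => ‹p.IsPrime›.ne_top ((Ideal.eq_top_iff_one p).mpr (by simpa using sub_mem hrp hr)),
    fun D _ g hg => (hc D g).mpr fun t ht => ?_⟩
  rw [RingHom.mem_ker]
  refine hg.mul_right_eq_zero.mp ?_
  rw [← map_mul, show r * t = 0 from hr' t ht, map_zero]

/-- torsion points of the kernel over a local ring -/
theorem torsion_KS [AddGroup.FG M] [IsSeparated X.hom] (hΦ : Φ.FinKer) [IsLocalRing B]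
    (y : Spec (CommRingCat.of B) ⟶ U) (Λ : Subgroup (Multiplicative M)) (hI : Φ.KI Λ y)
    (h : Φ.KS Λ (Spec.map (CommRingCat.ofHom (IsLocalRing.residue B)) ≫ y))
    {D : Type u} [CommRing D] (g : B →+* D) (χ : Multiplicative M →* D)
    (hk : Φ.pt (Spec.map (CommRingCat.ofHom g) ≫ y) χ = 1) (n : ℕ) (hn : 0 < n)
    (hχn : ∀ m, χ m ^ n = 1) : ∀ l ∈ Λ, χ l = 1 := by
  classical
  obtain ⟨J, -, hJ⟩ := Φ.exists_ideal hΦ y
  let A := MonoidAlgebra B (Multiplicative M)
  let I : Ideal A := J ⊔ Ideal.span (Set.range fun m : Multiplicative M => MonoidAlgebra.of B _ m ^ n - 1)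
  have hI' : ∀ {E : Type u} [CommRing E] (g' : B →+* E) (χ' : Multiplicative M →* E),
      J ≤ RingHom.ker (evChar g' χ') → (∀ m, χ' m ^ n = 1) → I ≤ RingHom.ker (evChar g' χ') := fun {E} _ g' χ' h1 h2 => by
    refine sup_le h1 (Ideal.span_le.mpr ?_)
    rintro _ ⟨m, rfl⟩
    rw [SetLike.mem_coe, RingHom.mem_ker, map_sub, map_pow, evChar_of, h2, map_one, sub_self]
  let C := A ⧸ I
  let mk : A →+* C := Ideal.Quotient.mk I
  let x : Multiplicative M →* C := mk.toMonoidHom.comp (MonoidAlgebra.of B _)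
  have hxn : ∀ m, x m ^ n = 1 := fun m => by
    change mk _ ^ n = 1
    rw [← map_pow, ← map_one mk]
    exact Ideal.Quotient.eq.mpr (Ideal.mem_sup_right (Ideal.subset_span ⟨m, rfl⟩))
  have hsingle : ∀ (m : Multiplicative M) (b : B), mk (MonoidAlgebra.single m b) = algebraMap B C b * x m := by
    intro m b
    change _ = mk (MonoidAlgebra.single 1 b) * mk (MonoidAlgebra.of B _ m)
    rw [← map_mul, MonoidAlgebra.of_apply, MonoidAlgebra.single_mul_single, _root_.one_mul, _root_.mul_one]
  have : AddMonoid.FG M := AddGroup.fg_iff_addMonoid_fg.mp inferInstance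
  have : Algebra.FiniteType B C := Algebra.FiniteType.of_surjective (Ideal.Quotient.mkₐ B I) Ideal.Quotient.mk_surjective
  have : Algebra.IsIntegral B C := ⟨fun c => by
    obtain ⟨w, rfl⟩ := Ideal.Quotient.mk_surjective c
    induction w using MonoidAlgebra.induction_linear with
    | zero => rw [map_zero]; exact isIntegral_zero
    | add a b ha hb => rw [map_add]; exact ha.add hb
    | single m b =>
      rw [hsingle]
      exact isIntegral_algebraMap.mul (IsIntegral.of_pow hn (by rw [hxn]; exact isIntegral_one))⟩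
  have : Module.Finite B C := Algebra.IsIntegral.finite
  -- the subgroup with powers added
  let Λn : Subgroup (Multiplicative M) := Λ ⊔ (powMonoidHom n : Multiplicative M →* Multiplicative M).range
  let qn : Multiplicative M →* Multiplicative M ⧸ Λn := QuotientGroup.mk' Λn
  let Q := MonoidAlgebra B (Multiplicative M ⧸ Λn)
  let χu : Multiplicative M →* Q := (MonoidAlgebra.of B _).comp qn
  have hχu : ∀ l ∈ Λn, χu l = 1 := fun l hl => by
    change MonoidAlgebra.of B _ (qn l) = 1
    rw [show qn l = 1 from (QuotientGroup.eq_one_iff _).mpr hl, map_one]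
  have hsect : I ≤ RingHom.ker (evChar (MonoidAlgebra.singleOneRingHom : B →+* Q) χu) := by
    refine hI' _ _ ((hJ _ _ _).mp (hI _ _ χu fun l hl => hχu l (le_sup_left (a := Λ) hl))) fun m => ?_
    rw [← map_pow]
    exact hχu _ (le_sup_right (a := Λ) ⟨m, rfl⟩)
  let ε : C →+* Q := Ideal.Quotient.lift I _ hsect
  -- the closed fibre
  let mI : Ideal C := (IsLocalRing.maximalIdeal B).map (algebraMap B C)
  let qr : C →+* C ⧸ mI := Ideal.Quotient.mk mI
  have hres : ∀ l ∈ Λn, qr (x l) = 1 := by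
    let g' : IsLocalRing.ResidueField B →+* C ⧸ mI :=
      Ideal.Quotient.lift (IsLocalRing.maximalIdeal B) (qr.comp (algebraMap B C)) fun a ha =>
        Ideal.Quotient.eq_zero_iff_mem.mpr (Ideal.mem_map_of_mem _ ha)
    have hg' : g'.comp (IsLocalRing.residue B) = qr.comp (algebraMap B C) := RingHom.ext fun a => rfl
    have hle : Λn ≤ (qr.toMonoidHom.comp x).ker := by
      refine sup_le (fun l hl => MonoidHom.mem_ker.mpr ?_) ?_
      · exact KS.apply_of_le (E := C ⧸ mI) hJ (IsLocalRing.residue B) h (qr.comp mk)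
          (fun w hw => by
            rw [RingHom.mem_ker, RingHom.comp_apply, show mk w = 0 from
              Ideal.Quotient.eq_zero_iff_mem.mpr (Ideal.mem_sup_left hw), map_zero])
          g' (hg'.symm : (qr.comp mk).comp MonoidAlgebra.singleOneRingHom = _) l hl
      · rintro _ ⟨m, rfl⟩
        rw [MonoidHom.mem_ker, MonoidHom.comp_apply, powMonoidHom_apply, map_pow, hxn]
        exact map_one _
    exact fun l hl => MonoidHom.mem_ker.mp (hle hl)
  obtain ⟨σ, hσs⟩ := exists_lin (B := B) (C := C) fun a : Multiplicative M ⧸ Λn => x a.out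
  have htop : (⊤ : Submodule B C) ≤ LinearMap.range σ := by
    refine Submodule.le_of_le_smul_of_le_jacobson_bot Module.Finite.fg_top
      (IsLocalRing.maximalIdeal_le_jacobson ⊥) ?_
    intro c hc
    clear hc
    obtain ⟨w, rfl⟩ := Ideal.Quotient.mk_surjective c
    induction w using MonoidAlgebra.induction_linear with
    | zero => rw [map_zero]; exact zero_mem _
    | add a b ha hb => rw [map_add]; exact add_mem ha hb
    | single m b =>
      obtain ⟨l, hl, hml⟩ : ∃ l ∈ Λn, m = (qn m).out * l :=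
        ⟨(qn m).out⁻¹ * m, QuotientGroup.eq.mp (QuotientGroup.out_eq' (qn m)), (mul_inv_cancel_left _ _).symm⟩
      rw [hsingle, show algebraMap B C b * x m = algebraMap B C b * x (qn m).out +
        algebraMap B C b * x (qn m).out * (x l - 1) by conv_lhs => rw [hml, map_mul]
                                                       ring]
      refine Submodule.add_mem_sup ⟨MonoidAlgebra.single (qn m) b, hσs _ _⟩ ?_
      rw [Ideal.smul_top_eq_map, Submodule.restrictScalars_mem]
      exact Ideal.mul_mem_left _ _ (Ideal.Quotient.eq.mp ((hres l hl).trans (map_one _).symm))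
  have hεσ : ∀ a, ε (σ a) = a := section_apply ε (fun b => ?_) (fun a => x a.out) (fun a => ?_) σ hσs
  rotate_left
  · refine (evChar_single _ χu 1 b).trans ?_
    rw [map_one, _root_.mul_one]
    rfl
  · refine (evChar_of _ χu a.out).trans ?_
    change MonoidAlgebra.of B _ (qn a.out) = _
    rw [show qn a.out = a from QuotientGroup.out_eq' a]
    rfl
  have hεinj : Function.Injective ε := fun c c' hcc => by
    obtain ⟨a, rfl⟩ := htop (Submodule.mem_top (x := c))
    obtain ⟨a', rfl⟩ := htop (Submodule.mem_top (x := c'))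
    rw [hεσ, hεσ] at hcc
    rw [hcc]
  intro l hl
  have h1 : x l = 1 := hεinj (by
    rw [map_one]
    exact (evChar_of _ χu l).trans (hχu l (Subgroup.mem_sup_left hl)))
  have hle : I ≤ RingHom.ker (evChar g χ) := hI' g χ ((hJ _ _ _).mp hk) hχn
  have h2 := congrArg (Ideal.Quotient.lift I _ hle) h1
  change evChar g χ (MonoidAlgebra.of B _ l) = _ at h2
  rw [evChar_of, map_one] at h2
  exact h2

/-- over a local ring the type at the closed point is the type everywhere -/
theorem KS_of_residue [AddGroup.FG M] [IsSeparated X.hom] (hΦ : Φ.FinKer) [IsLocalRing B]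
    (y : Spec (CommRingCat.of B) ⟶ U) (Λ : Subgroup (Multiplicative M)) (hI : Φ.KI Λ y)
    (h : Φ.KS Λ (Spec.map (CommRingCat.ofHom (IsLocalRing.residue B)) ≫ y)) : Φ.KS Λ y := by
  classical
  -- all fibres
  have hfld : ∀ (K : Type u) [Field K] (ψ : B →+* K), Φ.KS Λ (Spec.map (CommRingCat.ofHom ψ) ≫ y) := by
    intro K _ ψ
    obtain ⟨Λ', hS', hI'⟩ := Φ.exists_type_field hΦ (Spec.map (CommRingCat.ofHom ψ) ≫ y)
    suffices hle : Λ ≤ Λ' from fun D _ g χ hχ l hl => hS' D g χ hχ l (hle hl)
    intro l hl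
    by_contra hl'
    have : Module.Finite ℤ M := Module.Finite.iff_addGroup_fg.mpr inferInstance
    let N : Submodule ℤ M := AddSubgroup.toIntSubmodule (AddSubgroup.toSubgroup.symm Λ')
    obtain ⟨P, hlP, hfin⟩ := exists_finite_quotient (M ⧸ N) (Submodule.Quotient.mk l.toAdd)
      (fun h0 => hl' ((Submodule.Quotient.mk_eq_zero N).mp h0))
    let π : M →+ (M ⧸ N) ⧸ P := (P.mkQ.comp N.mkQ).toAddMonoidHom
    let χ : Multiplicative M →* MonoidAlgebra K (Multiplicative ((M ⧸ N) ⧸ P)) :=
      (MonoidAlgebra.of K _).comp (AddMonoidHom.toMultiplicative π)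
    have hk : Φ.pt (Spec.map (CommRingCat.ofHom MonoidAlgebra.singleOneRingHom) ≫
        Spec.map (CommRingCat.ofHom ψ) ≫ y) χ = 1 := hI' _ _ χ fun l' hl'' => by
      change MonoidAlgebra.of K _ (Multiplicative.ofAdd (P.mkQ (N.mkQ l'.toAdd))) = 1
      rw [show N.mkQ l'.toAdd = 0 from (Submodule.Quotient.mk_eq_zero N).mpr hl'', map_zero, ofAdd_zero, map_one]
    rw [specMap_comp_assoc] at hk
    have h1 := Φ.torsion_KS hΦ y Λ hI h _ χ hk (Nat.card ((M ⧸ N) ⧸ P)) Nat.card_pos (fun m => by
      rw [← map_pow, MonoidHom.comp_apply, map_pow, ← map_pow]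
      change MonoidAlgebra.of K _ (AddMonoidHom.toMultiplicative π m ^ _) = 1
      rw [show Nat.card ((M ⧸ N) ⧸ P) = Nat.card (Multiplicative ((M ⧸ N) ⧸ P)) from rfl,
        pow_card_eq_one', map_one]) l hl
    have h2 : MonoidAlgebra.of K (Multiplicative ((M ⧸ N) ⧸ P)) (Multiplicative.ofAdd (π l.toAdd)) =
        MonoidAlgebra.of K _ 1 := by rw [map_one]; exact h1
    exact hlP ((Submodule.Quotient.mk_eq_zero P).mp (ofAdd_eq_one.mp (MonoidAlgebra.of_injective h2)))
  -- the universal point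
  obtain ⟨J, -, hJ⟩ := Φ.exists_ideal hΦ y
  let A := MonoidAlgebra B (Multiplicative M)
  let C := A ⧸ J
  let mk : A →+* C := Ideal.Quotient.mk J
  let x : Multiplicative M →* C := mk.toMonoidHom.comp (MonoidAlgebra.of B _)
  obtain ⟨F, hF⟩ := exists_generators Λ
  let c : Ideal C := Ideal.span ((F.image fun l => x l - 1 : Finset C) : Set C)
  have hmodc : ∀ l ∈ Λ, Ideal.Quotient.mk c (x l) = 1 := by
    intro l hl
    suffices hle : Λ ≤ ((Ideal.Quotient.mk c).toMonoidHom.comp x).ker from MonoidHom.mem_ker.mp (hle hl)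
    rw [← hF, Subgroup.closure_le]
    intro l' hl'
    change Ideal.Quotient.mk c (x l') = 1
    rw [← map_one (Ideal.Quotient.mk c), Ideal.Quotient.eq]
    exact Ideal.subset_span (Finset.mem_coe.mpr (Finset.mem_image_of_mem _ hl'))
  let qΛ : Multiplicative M →* Multiplicative M ⧸ Λ := QuotientGroup.mk' Λ
  let Q := MonoidAlgebra B (Multiplicative M ⧸ Λ)
  let χu : Multiplicative M →* Q := (MonoidAlgebra.of B _).comp qΛ
  have hχu : ∀ l ∈ Λ, χu l = 1 := fun l hl => by
    change MonoidAlgebra.of B _ (qΛ l) = 1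
    rw [show qΛ l = 1 from (QuotientGroup.eq_one_iff _).mpr hl, map_one]
  let ε : C →+* Q := Ideal.Quotient.lift J (evChar (MonoidAlgebra.singleOneRingHom : B →+* Q) χu)
    ((hJ _ _ _).mp (hI _ _ χu hχu))
  obtain ⟨σ, hσs⟩ := exists_lin (B := B) (C := C) fun a : Multiplicative M ⧸ Λ => x a.out
  have hcε : c ≤ RingHom.ker ε := by
    refine Ideal.span_le.mpr fun t ht => ?_
    obtain ⟨l, hl, rfl⟩ := Finset.mem_image.mp ht
    rw [SetLike.mem_coe, RingHom.mem_ker, map_sub, map_one, sub_eq_zero]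
    exact (evChar_of _ χu l).trans (hχu l (hF ▸ Subgroup.subset_closure hl))
  have hει : ∀ b, ε (algebraMap B C b) = MonoidAlgebra.single 1 b := fun b => by
    refine (evChar_single _ χu 1 b).trans ?_
    rw [map_one, _root_.mul_one]
    rfl
  let R : C →+ C :=
    { toFun := fun d => d - σ (ε d)
      map_zero' := by simp
      map_add' := fun a b => by rw [map_add, map_add]; abel }
  have hbot : c = ⊥ := by
    refine ideal_eq_bot_of_split (algebraMap B C) c ⟨_, rfl⟩ R (fun b d => ?_) (fun d => ?_) (fun t ht => ?_) ?_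
    · exact sub_section_mul ε hει σ b d
    · obtain ⟨w, rfl⟩ := Ideal.Quotient.mk_surjective d
      induction w using MonoidAlgebra.induction_linear with
      | zero => rw [map_zero, map_zero]; exact zero_mem _
      | add a b ha hb => rw [map_add, map_add]; exact add_mem ha hb
      | single m b =>
        change mk (MonoidAlgebra.single m b) - σ (evChar _ χu (MonoidAlgebra.single m b)) ∈ c
        have h1 : evChar (MonoidAlgebra.singleOneRingHom : B →+* Q) χu (MonoidAlgebra.single m b) =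
            MonoidAlgebra.single (qΛ m) b := by
          rw [evChar_single]
          change MonoidAlgebra.single 1 b * MonoidAlgebra.single (qΛ m) 1 = _
          rw [MonoidAlgebra.single_mul_single, _root_.one_mul, _root_.mul_one]
        have h2 : mk (MonoidAlgebra.single m b) = algebraMap B C b * x m := by
          change _ = mk (MonoidAlgebra.single 1 b) * mk (MonoidAlgebra.of B _ m)
          rw [← map_mul, MonoidAlgebra.of_apply, MonoidAlgebra.single_mul_single, _root_.one_mul, _root_.mul_one]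
        obtain ⟨l, hl, hml⟩ : ∃ l ∈ Λ, m = (qΛ m).out * l :=
          ⟨(qΛ m).out⁻¹ * m, QuotientGroup.eq.mp (QuotientGroup.out_eq' (qΛ m)), (mul_inv_cancel_left _ _).symm⟩
        rw [h1, h2, hσs, ← mul_sub]
        refine Ideal.mul_mem_left _ _ ?_
        rw [show x m = x (qΛ m).out * x l by rw [← map_mul, ← hml], ← mul_sub_one]
        exact Ideal.mul_mem_left _ _ (Ideal.Quotient.eq.mp ((hmodc l hl).trans (map_one _).symm))
    · change t - σ (ε t) = t
      rw [show ε t = 0 from hcε ht, map_zero, sub_zero]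
    · intro t ht E _ K _ ψ φ k hk
      suffices hle : c ≤ RingHom.ker k from hle ht
      refine Ideal.span_le.mpr fun t' ht' => ?_
      obtain ⟨l, hl, rfl⟩ := Finset.mem_image.mp ht'
      rw [SetLike.mem_coe, RingHom.mem_ker, map_sub, map_one, sub_eq_zero]
      exact KS.apply_of_le hJ ψ (hfld K ψ) (k.comp mk)
        (fun w hw => by
          rw [RingHom.mem_ker, RingHom.comp_apply, show mk w = 0 from Ideal.Quotient.eq_zero_iff_mem.mpr hw, map_zero])
        φ hk l (hF ▸ Subgroup.subset_closure hl)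
  intro D _ g χ hχ l hl
  have h1 : x l = 1 := by
    have h2 := Ideal.Quotient.eq.mp ((hmodc l hl).trans (map_one _).symm)
    rw [hbot, Ideal.mem_bot, sub_eq_zero] at h2
    exact h2
  have h3 := congrArg (Ideal.Quotient.lift J _ ((hJ _ _ _).mp hχ)) h1
  change evChar g χ (MonoidAlgebra.of B _ l) = _ at h3
  rw [evChar_of, map_one] at h3
  exact h3

/-- triviality on `Λ` spreads out -/
theorem exists_away_KS [AddGroup.FG M] [IsSeparated X.hom] (hΦ : Φ.FinKer) (y : Spec (CommRingCat.of B) ⟶ U)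
    (Λ : Subgroup (Multiplicative M)) (p : Ideal B) [p.IsPrime]
    (h : Φ.KS Λ (Spec.map (CommRingCat.ofHom (algebraMap B (Localization.AtPrime p))) ≫ y)) :
    ∃ t ∉ p, ∀ (D : Type u) [CommRing D] (g : B →+* D), IsUnit (g t) →
      Φ.KS Λ (Spec.map (CommRingCat.ofHom g) ≫ y) := by
  classical
  obtain ⟨J, -, hJ⟩ := Φ.exists_ideal hΦ y
  let A := MonoidAlgebra B (Multiplicative M)
  let mk : A →+* A ⧸ J := Ideal.Quotient.mk J
  have hex : ∀ l : Λ, ∃ s ∉ p, algebraMap B (A ⧸ J) s * (mk (MonoidAlgebra.of B _ l.1) - 1) = 0 := by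
    intro l
    refine exists_mul_eq_zero p (algebraMap B (A ⧸ J)) _ fun E _ ψ hψ => ?_
    let g₀ : Localization.AtPrime p →+* E :=
      IsLocalization.lift (M := p.primeCompl) (g := ψ.comp (algebraMap B (A ⧸ J))) fun s => hψ s.1 s.2
    rw [map_sub, map_one, sub_eq_zero]
    exact KS.apply_of_le hJ _ h (ψ.comp mk)
      (fun w hw => by
        rw [RingHom.mem_ker, RingHom.comp_apply, show mk w = 0 from Ideal.Quotient.eq_zero_iff_mem.mpr hw, map_zero])
      g₀ (IsLocalization.lift_comp _).symm l.1 l.2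
  choose s hs hs' using hex
  obtain ⟨F, hF⟩ := exists_generators Λ
  have hFmem : ∀ l ∈ F, l ∈ Λ := fun l hl => hF ▸ Subgroup.subset_closure hl
  refine ⟨∏ l ∈ F.attach, s ⟨l.1, hFmem _ l.2⟩, fun hmem => ?_, fun D _ g hg E _ k χ hχ => ?_⟩
  · obtain ⟨m, -, hm⟩ := (Ideal.IsPrime.prod_mem_iff (p := p)).mp hmem
    exact hs _ hm
  rw [specMap_comp_assoc] at hχ
  have hle := (hJ _ _ _).mp hχ
  suffices hle' : Λ ≤ χ.ker from fun l hl => MonoidHom.mem_ker.mp (hle' hl)
  rw [← hF, Subgroup.closure_le]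
  intro l hl
  rw [SetLike.mem_coe, MonoidHom.mem_ker]
  have h1 := congrArg (Ideal.Quotient.lift J _ hle) (hs' ⟨l, hFmem l hl⟩)
  rw [map_mul, map_sub, map_one, map_zero] at h1
  change evChar (k.comp g) χ (MonoidAlgebra.single 1 (s ⟨l, hFmem l hl⟩)) *
    (evChar (k.comp g) χ (MonoidAlgebra.of B _ l) - 1) = 0 at h1
  rw [evChar_single, evChar_of, map_one, _root_.mul_one] at h1
  have hu : IsUnit ((k.comp g) (s ⟨l, hFmem l hl⟩)) :=
    isUnit_of_dvd_unit (map_dvd (k.comp g) (Finset.dvd_prod_of_mem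
      (fun l : F => s ⟨l.1, hFmem _ l.2⟩) (Finset.mem_attach F ⟨l, hl⟩))) (hg.map k)
  exact sub_eq_zero.mp ((hu.mul_right_eq_zero).mp h1)

/-- near every prime the kernel is diagonalisable of constant type -/
theorem exists_away_type [AddGroup.FG M] [IsSeparated X.hom] (hΦ : Φ.FinKer) (y : Spec (CommRingCat.of B) ⟶ U)
    (p : Ideal B) [p.IsPrime] :
    ∃ (Λ : Subgroup (Multiplicative M)), ∃ t ∉ p, ∀ (D : Type u) [CommRing D] (g : B →+* D), IsUnit (g t) →
      Φ.KS Λ (Spec.map (CommRingCat.ofHom g) ≫ y) ∧ Φ.KI Λ (Spec.map (CommRingCat.ofHom g) ≫ y) := by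
  obtain ⟨Λ, hS, hI⟩ := Φ.exists_type_field hΦ (Spec.map (CommRingCat.ofHom (algebraMap B p.ResidueField)) ≫ y)
  obtain ⟨t₁, ht₁, hI'⟩ := Φ.exists_away_KI hΦ y Λ p hI
  let Bp := Localization.AtPrime p
  have h1 : Φ.KS Λ (Spec.map (CommRingCat.ofHom (algebraMap B Bp)) ≫ y) := by
    refine Φ.KS_of_residue hΦ _ Λ (hI' Bp (algebraMap B Bp) ?_) ?_
    · exact IsLocalization.map_units Bp (⟨t₁, ht₁⟩ : p.primeCompl)
    · rw [specMap_comp_assoc]
      exact hS
  obtain ⟨t₂, ht₂, hS'⟩ := Φ.exists_away_KS hΦ y Λ p h1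
  refine ⟨Λ, t₁ * t₂, fun hmem => (‹p.IsPrime›.mem_or_mem hmem).elim ht₁ ht₂, fun D _ g hg => ?_⟩
  rw [map_mul] at hg
  exact ⟨hS' D g (isUnit_of_mul_isUnit_right hg), hI' D g (isUnit_of_mul_isUnit_left hg)⟩

end CharFam

end Groth.Agent.H21Diag
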