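import Groth.Agent.H21Diag.CentreWeights
import Groth.Agent.H21Diag.KernelType

/-!
The weights occurring on one fibre cut out the kernel of conjugation on that fibre and bound it nearby.
-/

set_option autoImplicit false
set_option linter.unusedSectionVars false
set_option linter.style.haveILetI false
set_option backward.isDefEq.respectTransparency false
set_option maxHeartbeats 800000

universe u

open CategoryTheory CategoryTheory.Limits MonoidalCategory CartesianMonoidalCategory MonObj AlgebraicGeometry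
open scoped TensorProduct

noncomputable section

namespace Groth.Agent.H21Diag

variable {R : Type u} [CommRing R] {G : Over (Spec (CommRingCat.of R))} [GrpObj G] [Smooth G.hom]
  [IsAffineHom G.hom] {M : Type} [AddCommGroup M] [AddGroup.FG M]
  (i : Red.DS (Spec (CommRingCat.of R)) M ⟶ G) [IsMonHom i]

/-- the weights on the fibre at a prime -/
theorem exists_weights (p : PrimeSpectrum R) :
    ∃ Λ : Subgroup (Multiplicative M),
      (∃ g₀ ∉ p.asIdeal, ∀ (D : Type u) [CommRing D] (g : R →+* D), IsUnit (g g₀) →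
        ∀ χ : Multiplicative M →* D, CentralChar i g χ → ∀ l ∈ Λ, χ l = 1) ∧
      ∀ (D : Type u) [CommRing D] (g : R →+* D) (ψ : p.asIdeal.ResidueField →+* D),
        g = ψ.comp (algebraMap R p.asIdeal.ResidueField) → ∀ χ : Multiplicative M →* D,
          (∀ l ∈ Λ, χ l = 1) → ∀ x : sp g ⟶ G, cjPt i g χ x = x := by
  classical
  haveI : IsAffine G.left := isAffine_of_isAffineHom G.hom
  let eG : G.left ≅ Spec (CommRingCat.of Γ(G.left, ⊤)) := G.left.isoSpec
  obtain ⟨σ', hσ'⟩ := Spec.map_surjective (eG.inv ≫ G.hom)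
  let A := Γ(G.left, ⊤)
  let σ : R →+* A := σ'.hom
  have he : eG.hom ≫ Spec.map (CommRingCat.ofHom σ) = G.hom := by
    rw [show Spec.map (CommRingCat.ofHom σ) = eG.inv ≫ G.hom from hσ', Iso.hom_inv_id_assoc]
  obtain ⟨β, hβ⟩ := exists_coactionHom eG he i
  letI := σ.toAlgebra
  haveI : Algebra.Smooth R A := by
    refine (HasRingHomProperty.Spec_iff (P := @Smooth) (φ := σ')).mp ?_
    rw [hσ']; infer_instance
  haveI : Module.Flat R A := by
    refine (HasRingHomProperty.Spec_iff (P := @Flat) (φ := σ')).mp ?_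
    rw [hσ']; infer_instance
  let κ := p.asIdeal.ResidueField
  haveI : IsReduced (κ ⊗[R] A) := H27PGrp.isReduced_of_smooth κ _
  let jA : A →+* κ ⊗[R] A := (Algebra.TensorProduct.includeRight (R := R) (A := κ) (B := A)).toRingHom
  -- characters forced to be trivial near `p`
  let T : Subgroup (Multiplicative M) :=
    { carrier := {x | ∃ g₀ ∉ p.asIdeal, ∀ (D : Type u) [CommRing D] (g : R →+* D), IsUnit (g g₀) →
        ∀ χ : Multiplicative M →* D, CentralChar i g χ → χ x = 1}
      mul_mem' := by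
        rintro x y ⟨a, ha, hx⟩ ⟨b, hb, hy⟩
        refine ⟨a * b, fun hab => (p.isPrime.mem_or_mem hab).elim ha hb, fun D _ g hg χ hχ => ?_⟩
        rw [map_mul] at hg
        rw [map_mul, hx D g (isUnit_of_mul_isUnit_left hg) χ hχ, hy D g (isUnit_of_mul_isUnit_right hg) χ hχ,
          _root_.mul_one]
      one_mem' := ⟨1, p.isPrime.one_notMem, fun D _ g _ χ _ => map_one χ⟩
      inv_mem' := by
        rintro x ⟨a, ha, hx⟩
        refine ⟨a, ha, fun D _ g hg χ hχ => ?_⟩
        have h : χ x * χ x⁻¹ = 1 := by rw [← map_mul, mul_inv_cancel, map_one]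
        rwa [hx D g hg χ hχ, _root_.one_mul] at h }
  let Λ : Subgroup (Multiplicative M) := Subgroup.closure {n | ∃ a, jA ((β a).coeff n) ≠ 0}
  have hΛT : Λ ≤ T := by
    refine (Subgroup.closure_le _).mpr ?_
    rintro n ⟨a, ha⟩
    obtain ⟨P, hP, hcP⟩ : ∃ P : Ideal (κ ⊗[R] A), P.IsPrime ∧ jA ((β a).coeff n) ∉ P := by
      by_contra hcon
      refine ha (IsNilpotent.eq_zero (mem_nilradical.mp ?_))
      rw [nilradical_eq_sInf]
      exact Submodule.mem_sInf.mpr fun P hP => by_contra fun h => hcon ⟨P, hP, h⟩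
    let c := (β a).coeff n
    let q : PrimeSpectrum A := PrimeSpectrum.comap jA ⟨P, hP⟩
    have hqp : PrimeSpectrum.comap (algebraMap R A) q = p := by
      refine PrimeSpectrum.ext ?_
      change (P.comap jA).comap (algebraMap R A) = p.asIdeal
      rw [Ideal.comap_comap, show jA.comp (algebraMap R A) = (algebraMap κ (κ ⊗[R] A)).comp (algebraMap R κ) from
        RingHom.ext fun r => ((Algebra.TensorProduct.includeRight (R := R) (A := κ) (B := A)).commutes r).trans
          (IsScalarTower.algebraMap_apply R κ (κ ⊗[R] A) r), ← Ideal.comap_comap,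
        (Ideal.eq_bot_or_top (P.comap (algebraMap κ (κ ⊗[R] A)))).resolve_right
          (Ideal.IsPrime.ne_top (hP.comap _))]
      exact Ideal.ker_algebraMap_residueField p.asIdeal
    obtain ⟨_, ⟨_, ⟨g₀, rfl⟩, rfl⟩, hp₀, hsub⟩ := PrimeSpectrum.isBasis_basic_opens.exists_subset_of_mem_open
      (show p ∈ PrimeSpectrum.comap (algebraMap R A) '' (PrimeSpectrum.basicOpen c : Set (PrimeSpectrum A)) from
        ⟨q, hcP, hqp⟩)
      (PrimeSpectrum.isOpenMap_comap_of_hasGoingDown_of_finitePresentation _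
        (PrimeSpectrum.basicOpen c).isOpen)
    refine ⟨g₀, hp₀, fun D _ g hg χ hχ => eq_one_of_centralChar eG he i hβ rfl g χ hχ a n fun m hm => ?_⟩
    have : m.IsPrime := hm.isPrime
    obtain ⟨q', hq', hq'e⟩ := hsub (show PrimeSpectrum.comap g ⟨m, this⟩ ∈
      (PrimeSpectrum.basicOpen g₀ : Set (PrimeSpectrum R)) from fun h => hm.ne_top
        (Ideal.eq_top_of_isUnit_mem _ h hg))
    exact ⟨q'.asIdeal, q'.isPrime, congrArg PrimeSpectrum.asIdeal hq'e, hq'⟩
  refine ⟨Λ, ?_, fun D _ g ψ hg χ hχ x => ?_⟩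
  · obtain ⟨F, hF⟩ := exists_generators Λ
    have hFmem : ∀ l : F, l.1 ∈ T := fun l => hΛT (hF ▸ Subgroup.subset_closure l.2)
    choose s hs hsl using hFmem
    refine ⟨∏ l : F, s l, fun h => ?_, fun D _ g hg χ hχ l hl => ?_⟩
    · obtain ⟨l, -, hl⟩ := (p.isPrime.prod_mem_iff).mp h
      exact hs l hl
    · have hle : Λ ≤ χ.ker := by
        rw [← hF, Subgroup.closure_le]
        intro l hl
        exact hsl ⟨l, hl⟩ D g (isUnit_of_dvd_unit (map_dvd g (Finset.dvd_prod_of_mem _ (Finset.mem_univ _))) hg) χ hχ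
      exact hle hl
  · obtain ⟨ga, hga, rfl⟩ := ringPt_surjective eG he g x
    refine cjPt_eq_self_of_weights eG he i hβ g χ ga hga fun a n hn => ?_
    have hn' : n ∉ Λ := fun h => hn (hχ n h)
    have h0 : jA ((β a).coeff n) = 0 := by_contra fun h => hn' (Subgroup.subset_closure ⟨a, h⟩)
    letI := g.toAlgebra
    let ψ' : κ →ₐ[R] D := AlgHom.mk ψ fun r => (RingHom.congr_fun hg r).symm
    let ga' : A →ₐ[R] D := AlgHom.mk ga fun r => RingHom.congr_fun hga r
    have h2 := congrArg (Algebra.TensorProduct.lift ψ' ga' fun _ _ => Commute.all _ _) h0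
    rw [map_zero] at h2
    change Algebra.TensorProduct.lift ψ' ga' (fun _ _ => Commute.all _ _) ((1 : κ) ⊗ₜ[R] (β a).coeff n) = 0 at h2
    rwa [Algebra.TensorProduct.lift_tmul, map_one, _root_.one_mul] at h2

end Groth.Agent.H21Diag
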