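import Groth.Agent.H21Diag.FibreTrivial
import Groth.Agent.H21Diag.Actions
import Groth.Agent.H12AlgSp.LocPCancel
import Groth.Agent.S4599

/-!
The locus where a homomorphism out of a diagonalisable group is trivial, on a chart.
-/

open CategoryTheory MonoidalCategory CartesianMonoidalCategory MonObj GrpObj AlgebraicGeometry
open CategoryTheory.Limits

universe u

namespace Groth.Agent.H21Diag

/-- the equalizer ideal of two maps out of an affine scheme -/
theorem exists_equalizer_ideal {Hs Z S : Scheme.{u}} (p : Z ⟶ S) [IsSeparated p] (a b : Hs ⟶ Z)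
    (hab : a ≫ p = b ≫ p)
    (hfp : LocallyOfFinitePresentation (pullback.fst (pullback.lift a b hab) (pullback.diagonal p)))
    {A : Type u} [CommRing A] (q : Spec (CommRingCat.of A) ⟶ Hs) :
    ∃ I : Ideal A, I.FG ∧ ∀ (D : Type u) [CommRing D] (φ : A →+* D),
      Spec.map (CommRingCat.ofHom φ) ≫ q ≫ a = Spec.map (CommRingCat.ofHom φ) ≫ q ≫ b ↔
        I ≤ RingHom.ker φ := by
  let κ := pullback.fst (pullback.lift a b hab) (pullback.diagonal p)
  let j := pullback.fst q κ
  have : IsClosedImmersion κ := inferInstance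
  have : LocallyOfFinitePresentation κ := hfp
  have : IsClosedImmersion j := inferInstance
  have hjfp : LocallyOfFinitePresentation j := inferInstance
  obtain ⟨I, w, hw⟩ := IsClosedImmersion.Spec_iff.mp ‹IsClosedImmersion j›
  have hI : (Ideal.Quotient.mk I).FinitePresentation := by
    have h1 : LocallyOfFinitePresentation (Spec.map (CommRingCat.ofHom (Ideal.Quotient.mk I))) := by
      rw [show Spec.map (CommRingCat.ofHom (Ideal.Quotient.mk I)) = w.inv ≫ j by rw [hw, Iso.inv_hom_id_assoc]]
      infer_instance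
    exact (LocallyOfFinitePresentation.SpecMap_iff _).mp h1
  have ha : pullback.lift a b hab ≫ pullback.fst _ _ = a := pullback.lift_fst _ _ _
  have hb : pullback.lift a b hab ≫ pullback.snd _ _ = b := pullback.lift_snd _ _ _
  refine ⟨I, ?_, fun D _ φ => ⟨fun h => ?_, fun h => ?_⟩⟩
  · let := (Ideal.Quotient.mk I).toAlgebra
    have : Algebra.FinitePresentation A (A ⧸ I) := hI
    have h2 := Algebra.FinitePresentation.ker_fG_of_surjective (Algebra.ofId A (A ⧸ I))
      Ideal.Quotient.mk_surjective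
    exact (show RingHom.ker (Algebra.ofId A (A ⧸ I)).toRingHom = I from Ideal.mk_ker (I := I)) ▸ h2
  · obtain ⟨c, hc, -⟩ : ∃ c : Spec (CommRingCat.of D) ⟶ pullback q κ,
        c ≫ j = Spec.map (CommRingCat.ofHom φ) ∧ True := by
      refine ⟨pullback.lift (Spec.map (CommRingCat.ofHom φ))
        (pullback.lift (Spec.map (CommRingCat.ofHom φ) ≫ q) ((Spec.map (CommRingCat.ofHom φ) ≫ q) ≫ a) ?_)
        ?_, pullback.lift_fst _ _ _, trivial⟩
      · refine pullback.hom_ext ?_ ?_
        · simp only [Category.assoc, pullback.diagonal_fst, Category.comp_id]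
          exact congrArg (fun z => Spec.map (CommRingCat.ofHom φ) ≫ q ≫ z) ha
        · simp only [Category.assoc, pullback.diagonal_snd, Category.comp_id]
          exact (congrArg (fun z => Spec.map (CommRingCat.ofHom φ) ≫ q ≫ z) hb).trans h.symm
      · exact (pullback.lift_fst _ _ _).symm
    obtain ⟨ψ, hψ⟩ := Spec.map_surjective (c ≫ w.hom)
    have : φ = ψ.hom.comp (Ideal.Quotient.mk I) := by
      refine congrArg CommRingCat.Hom.hom (Spec.map_injective (?_ :
        Spec.map (CommRingCat.ofHom φ) = Spec.map (CommRingCat.ofHom (ψ.hom.comp (Ideal.Quotient.mk I)))))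
      rw [specMap_comp, CommRingCat.ofHom_hom, hψ, Category.assoc, ← hw, hc]
    intro x hx
    rw [RingHom.mem_ker, this, RingHom.comp_apply, Ideal.Quotient.eq_zero_iff_mem.mpr hx, map_zero]
  · obtain ⟨ψ, rfl⟩ : ∃ ψ : A ⧸ I →+* D, φ = ψ.comp (Ideal.Quotient.mk I) :=
      ⟨Ideal.Quotient.lift I φ h, (RingHom.ext fun x => rfl)⟩
    have h1 : Spec.map (CommRingCat.ofHom (Ideal.Quotient.mk I)) = w.inv ≫ j := by
      rw [hw, Iso.inv_hom_id_assoc]
    have h2 : j ≫ q ≫ a = j ≫ q ≫ b := by
      have hcond : κ ≫ pullback.lift a b hab = pullback.snd _ _ ≫ pullback.diagonal p := pullback.condition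
      have h3 := congrArg (· ≫ pullback.fst p p) hcond
      have h4 := congrArg (· ≫ pullback.snd p p) hcond
      simp only [Category.assoc, pullback.diagonal_fst, pullback.diagonal_snd, Category.comp_id] at h3 h4
      have hκ : κ ≫ a = κ ≫ b :=
        ((congrArg (κ ≫ ·) ha.symm).trans h3).trans ((congrArg (κ ≫ ·) hb.symm).trans h4).symm
      rw [← Category.assoc, ← Category.assoc, pullback.condition, Category.assoc, Category.assoc, hκ]
    rw [specMap_comp, h1, Category.assoc, Category.assoc, Category.assoc, Category.assoc, h2]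

section

variable {S U : Scheme.{u}} {u₀ : U ⟶ S} {G X : Over S} [GrpObj G] [GrpObj X] {M : Type} [AddCommGroup M]
  (e : Grp.mk (Red.bc u₀ G) ≅ Grp.mk (Red.DS U M)) (f : G ⟶ X)

/-- the universal character over a chart is sent to the unit -/
def ChartTriv {B : Type u} [CommRing B] (y : Spec (CommRingCat.of B) ⟶ U) : Prop :=
  ∀ (D : Type u) [CommRing D] (φ : B →+* D) (χ : Multiplicative M →* D),
    gpt e (Spec.map (CommRingCat.ofHom φ) ≫ y) χ ≫ f = 1

omit [GrpObj G] in
theorem one_left {T : Over S} :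
    (1 : T ⟶ X).left = T.hom ≫ (η[X]).left := by
  rw [Hom.one_def, Over.comp_left]
  congr 1

theorem chartTriv_iff_universal {B : Type u} [CommRing B] (y : Spec (CommRingCat.of B) ⟶ U) :
    ChartTriv e f y ↔ gpt e (Spec.map (CommRingCat.ofHom (MonoidAlgebra.singleOneRingHom :
      B →+* MonoidAlgebra B (Multiplicative M))) ≫ y) (MonoidAlgebra.of B (Multiplicative M)) ≫ f = 1 := by
  refine ⟨fun h => h _ _ _, fun h D _ φ χ => ?_⟩
  let ev : MonoidAlgebra B (Multiplicative M) →+* D :=
    MonoidAlgebra.liftNCRingHom φ χ fun _ _ => Commute.all _ _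
  have hy : Spec.map (CommRingCat.ofHom ev) ≫ Spec.map (CommRingCat.ofHom (MonoidAlgebra.singleOneRingHom :
      B →+* MonoidAlgebra B (Multiplicative M))) ≫ y = Spec.map (CommRingCat.ofHom φ) ≫ y := by
    rw [specMap_comp_assoc]
    exact congrArg (fun w : B →+* D => Spec.map (CommRingCat.ofHom w) ≫ y)
      (RingHom.ext fun b => by simp [ev])
  have hχ : ev.toMonoidHom.comp (MonoidAlgebra.of B (Multiplicative M)) = χ :=
    MonoidHom.ext fun m => by simp [ev]
  suffices hgoal : gpt e (Spec.map (CommRingCat.ofHom ev) ≫ Spec.map (CommRingCat.ofHom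
      (MonoidAlgebra.singleOneRingHom : B →+* MonoidAlgebra B (Multiplicative M))) ≫ y)
      (ev.toMonoidHom.comp (MonoidAlgebra.of B (Multiplicative M))) ≫ f = 1 by
    rw [hχ, hy] at hgoal
    exact hgoal
  refine Over.OverMorphism.ext ?_
  rw [Over.comp_left, gpt_comp]
  refine (Category.assoc _ _ _).trans ((congrArg (Spec.map (CommRingCat.ofHom ev) ≫ ·)
    (congrArg (fun m => m.left) h)).trans ?_)
  rw [one_left, one_left]
  exact (Category.assoc _ _ _).symm.trans (congrArg (· ≫ (η[X]).left) (Category.assoc _ _ _).symm)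

variable [IsMonHom f] [IsSeparated X.hom]
  (hfp : LocallyOfFinitePresentation (pullback.fst (pullback.lift f.left (1 : G ⟶ X).left
    (by rw [Over.w, Over.w])) (pullback.diagonal X.hom)))

include hfp in
/-- on a chart, the locus of triviality is the zero set of a finitely generated ideal -/
theorem exists_coeff_ideal {B : Type u} [CommRing B] (y : Spec (CommRingCat.of B) ⟶ U) :
    ∃ c : Ideal B, c.FG ∧ ∀ (D : Type u) [CommRing D] (φ : B →+* D),
      ChartTriv e f (Spec.map (CommRingCat.ofHom φ) ≫ y) ↔ c ≤ RingHom.ker φ := by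
  classical
  let v := gpt e (Spec.map (CommRingCat.ofHom (MonoidAlgebra.singleOneRingHom :
      B →+* MonoidAlgebra B (Multiplicative M))) ≫ y) (MonoidAlgebra.of B (Multiplicative M))
  obtain ⟨I, ⟨F, hF⟩, hI⟩ := exists_equalizer_ideal X.hom f.left (1 : G ⟶ X).left (by rw [Over.w, Over.w])
    hfp (A := MonoidAlgebra B (Multiplicative M)) v.left
  refine ⟨Ideal.span (F.biUnion fun w => w.coeff.support.image w.coeff : Finset B), ⟨_, rfl⟩,
    fun D _ φ => ?_⟩
  let Φ : MonoidAlgebra B (Multiplicative M) →+* MonoidAlgebra D (Multiplicative M) :=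
    MonoidAlgebra.mapRingHom (Multiplicative M) φ
  have hker : I ≤ RingHom.ker Φ ↔
      Ideal.span ((F.biUnion fun w => w.coeff.support.image w.coeff : Finset B) : Set B) ≤ RingHom.ker φ := by
    rw [← hF, Submodule.span_le, Ideal.span_le]
    constructor
    · intro h x hx
      obtain ⟨w, hw, hx⟩ := Finset.mem_biUnion.mp hx
      obtain ⟨m, -, rfl⟩ := Finset.mem_image.mp hx
      exact congrArg (fun z => z.coeff m) (RingHom.mem_ker.mp (h hw))
    · intro h w hw
      refine MonoidAlgebra.ext (Finsupp.ext fun m => ?_)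
      change φ (w.coeff m) = 0
      by_cases hm : w.coeff m = 0
      · rw [hm, map_zero]
      · exact h (Finset.mem_biUnion.mpr ⟨w, hw, Finset.mem_image_of_mem _ (Finsupp.mem_support_iff.mpr hm)⟩)
  have hy : Spec.map (CommRingCat.ofHom (MonoidAlgebra.singleOneRingHom :
      D →+* MonoidAlgebra D (Multiplicative M))) ≫ Spec.map (CommRingCat.ofHom φ) ≫ y =
      Spec.map (CommRingCat.ofHom Φ) ≫ Spec.map (CommRingCat.ofHom (MonoidAlgebra.singleOneRingHom :
        B →+* MonoidAlgebra B (Multiplicative M))) ≫ y := by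
    rw [specMap_comp_assoc, specMap_comp_assoc]
    exact congrArg (fun w : B →+* _ => Spec.map (CommRingCat.ofHom w) ≫ y)
      (RingHom.ext fun b => by simp [Φ])
  have hχ : MonoidAlgebra.of D (Multiplicative M) =
      Φ.toMonoidHom.comp (MonoidAlgebra.of B (Multiplicative M)) :=
    MonoidHom.ext fun m => by simp [Φ]
  rw [← hker, ← hI, chartTriv_iff_universal, hy, hχ]
  have h1 : (gpt e (Spec.map (CommRingCat.ofHom Φ) ≫ Spec.map (CommRingCat.ofHom
      (MonoidAlgebra.singleOneRingHom : B →+* MonoidAlgebra B (Multiplicative M))) ≫ y)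
      (Φ.toMonoidHom.comp (MonoidAlgebra.of B (Multiplicative M))) ≫ f).left =
      Spec.map (CommRingCat.ofHom Φ) ≫ v.left ≫ f.left := by
    rw [Over.comp_left, gpt_comp]
    exact Category.assoc _ _ _
  have h2 : (1 : Over.mk ((Spec.map (CommRingCat.ofHom Φ) ≫ Spec.map (CommRingCat.ofHom
      (MonoidAlgebra.singleOneRingHom : B →+* MonoidAlgebra B (Multiplicative M))) ≫ y) ≫ u₀) ⟶ X).left =
      Spec.map (CommRingCat.ofHom Φ) ≫ v.left ≫ (1 : G ⟶ X).left := by
    rw [one_left, one_left, ← Category.assoc v.left, Over.w v]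
    exact (congrArg (· ≫ (η[X]).left) (Category.assoc _ _ _)).trans (Category.assoc _ _ _)
  rw [← h1, ← h2]
  exact ⟨congrArg _, fun h => Over.OverMorphism.ext h⟩

include hfp in
/-- on a chart, the locus of triviality is open and closed, and triviality there is global -/
theorem exists_clopen_ideal {B : Type u} [CommRing B] (y : Spec (CommRingCat.of B) ⟶ U) :
    ∃ c : Ideal B, (∀ (D : Type u) [CommRing D] (φ : B →+* D),
      ChartTriv e f (Spec.map (CommRingCat.ofHom φ) ≫ y) ↔ c ≤ RingHom.ker φ) ∧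
      ∀ p : Ideal B, p.IsPrime → c ≤ p → ∃ r : B, r ∉ p ∧ ∀ t ∈ c, r * t = 0 := by
  obtain ⟨c, hfg, hc⟩ := exists_coeff_ideal e f hfp y
  refine ⟨c, hc, fun p hp hcp => ?_⟩
  -- trivial modulo `p c` by rigidity
  let P : Ideal B := p * c
  let mk := Ideal.Quotient.mk P
  let J : Ideal (B ⧸ P) := c.map mk
  have hJ : IsNilpotent J := by
    refine ⟨2, ?_⟩
    rw [pow_two, ← Ideal.map_mul, Ideal.zero_eq_bot, eq_bot_iff, Ideal.map_le_iff_le_comap]
    intro x hx
    exact Ideal.Quotient.eq_zero_iff_mem.mpr (Ideal.mul_mono_left hcp hx)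
  have htriv : Triv e (transAct f) (Spec.map (CommRingCat.ofHom mk) ≫ y) J := by
    intro D _ φ hφ χ x hx
    have hk : c ≤ RingHom.ker (φ.comp mk) := fun t ht => by
      rw [RingHom.mem_ker, RingHom.comp_apply, ← Ideal.mem_bot, ← hφ]
      exact Ideal.mem_map_of_mem _ (Ideal.mem_map_of_mem _ ht)
    have h1 := (hc D (φ.comp mk)).mpr hk D (RingHom.id D) χ
    refine act_transAct_eq f e _ χ x hx ?_
    rw [CommRingCat.ofHom_id, Spec.map_id, Category.id_comp, ← specMap_comp_assoc] at h1
    exact h1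
  have hle : c ≤ RingHom.ker mk := by
    refine (hc _ mk).mp fun D _ φ χ => ?_
    let y' := Spec.map (CommRingCat.ofHom φ) ≫ Spec.map (CommRingCat.ofHom mk) ≫ y
    let one' : Over.mk (y' ≫ u₀) ⟶ X := 1
    have h2 := act_eq_self (hJ.map (Ideal.mapHom φ)) (htriv.map φ) χ one'.left (Over.w one')
    have h3 : lift (gpt e y' χ) one' ≫ (transAct f).act = one' := Over.OverMorphism.ext h2
    rw [lift_transAct] at h3
    exact mul_eq_right.mp h3
  rw [Ideal.mk_ker] at hle
  obtain ⟨r, hr, hr'⟩ := Submodule.exists_sub_one_mem_and_smul_eq_zero_of_fg_of_le_smul p c hfg hle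
  exact ⟨r, fun hrp => hp.ne_top ((Ideal.eq_top_iff_one p).mpr (by simpa using sub_mem hrp hr)), hr'⟩

end
end Groth.Agent.H21Diag
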