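import Mathlib

/-!
A coaction of a monoid algebra on an algebra of finite type which is trivial on all fibres is trivial.
-/

universe u v

namespace Groth.Agent.H21Diag

open MonoidAlgebra

variable {B : Type u} {A : Type u} [CommRing B] [CommRing A] [Algebra B A] {N : Type v} [CommMonoid N]

/-- the ideal generated by the components of nonzero degree -/
def offIdeal (α : A →ₐ[B] MonoidAlgebra A N) : Ideal A :=
  Ideal.span {x | ∃ a n, n ≠ 1 ∧ (α a).coeff n = x}

theorem coeff_mem_offIdeal (α : A →ₐ[B] MonoidAlgebra A N) (a : A) {n : N} (hn : n ≠ 1) :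
    (α a).coeff n ∈ offIdeal α :=
  Ideal.subset_span ⟨a, n, hn, rfl⟩

theorem offIdeal_fg [Algebra.FiniteType B A] (α : A →ₐ[B] MonoidAlgebra A N) : (offIdeal α).FG := by
  classical
  obtain ⟨G, hG⟩ := (inferInstance : Algebra.FiniteType B A).out
  let T : Finset A := G.biUnion fun g => ((α g).coeff.support.filter (· ≠ 1)).image (α g).coeff
  have hT : Ideal.span (T : Set A) ≤ offIdeal α := Ideal.span_le.mpr fun x hx => by
    obtain ⟨g, -, hx⟩ := Finset.mem_biUnion.mp hx
    obtain ⟨n, hn, rfl⟩ := Finset.mem_image.mp hx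
    exact coeff_mem_offIdeal α g (Finset.mem_filter.mp hn).2
  refine ⟨T, le_antisymm hT (Ideal.span_le.mpr ?_)⟩
  rintro x ⟨a, n, hn, rfl⟩
  -- the elements whose off-diagonal components lie in the span form a subalgebra
  let q := Ideal.Quotient.mkₐ B (Ideal.span (T : Set A))
  let β : A →ₐ[B] MonoidAlgebra (A ⧸ Ideal.span (T : Set A)) N := (mapAlgHom N q).comp α
  have hβ : ∀ g m, (β g).coeff m = q ((α g).coeff m) := fun g m => rfl
  have hG' : ∀ g ∈ G, β g ∈
      (singleOneAlgHom (R := B) (A := A ⧸ Ideal.span (T : Set A)) (M := N)).range := by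
    intro g hg
    refine ⟨q ((α g).coeff 1), MonoidAlgebra.ext (Finsupp.ext fun m => ?_)⟩
    rw [hβ]
    change (single 1 (q ((α g).coeff 1))).coeff m = _
    rcases eq_or_ne m 1 with rfl | hm
    · simp [coeff_single]
    · have h0 : q ((α g).coeff m) = 0 := by
        rw [Ideal.Quotient.mkₐ_eq_mk, Ideal.Quotient.eq_zero_iff_mem]
        by_cases hs : (α g).coeff m = 0
        · rw [hs]; exact zero_mem _
        · exact Ideal.subset_span (Finset.mem_biUnion.mpr ⟨g, hg, Finset.mem_image_of_mem _
            (Finset.mem_filter.mpr ⟨Finsupp.mem_support_iff.mpr hs, hm⟩)⟩)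
      rw [h0, coeff_single, Finsupp.single_eq_of_ne hm]
  have hle : Algebra.adjoin B (G : Set A) ≤
      (singleOneAlgHom (R := B) (A := A ⧸ Ideal.span (T : Set A)) (M := N)).range.comap β :=
    Algebra.adjoin_le hG'
  obtain ⟨c, hc⟩ : β a ∈ (singleOneAlgHom (R := B) (A := A ⧸ Ideal.span (T : Set A)) (M := N)).range :=
    hle (hG ▸ Algebra.mem_top (x := a))
  have h1 : (single (1 : N) c).coeff n = q ((α a).coeff n) := by
    rw [← hβ, ← hc]; rfl
  rw [coeff_single, Finsupp.single_eq_of_ne hn] at h1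
  exact Ideal.Quotient.eq_zero_iff_mem.mp h1.symm

theorem coeff_mem_mul_offIdeal (α : A →ₐ[B] MonoidAlgebra A N) (p : Ideal B) {x : A}
    (hx : x ∈ p.map (algebraMap B A)) : ∀ (c : A) (n : N), n ≠ 1 →
      (α (c * x)).coeff n ∈ p.map (algebraMap B A) * offIdeal α := by
  induction hx using Submodule.span_induction with
  | mem w hw =>
    obtain ⟨b, hb, rfl⟩ := hw
    intro c n hn
    rw [_root_.mul_comm c, ← Algebra.smul_def, map_smul, MonoidAlgebra.coeff_smul, Finsupp.smul_apply,
      Algebra.smul_def]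
    exact Ideal.mul_mem_mul (Ideal.mem_map_of_mem _ hb) (coeff_mem_offIdeal α c hn)
  | zero => intro c n _; simp
  | add y z _ _ hy hz =>
    intro c n hn
    rw [mul_add, map_add, MonoidAlgebra.coeff_add, Finsupp.add_apply]
    exact Ideal.add_mem _ (hy c n hn) (hz c n hn)
  | smul d y _ hy =>
    intro c n hn
    rw [smul_eq_mul, ← _root_.mul_assoc]
    exact hy _ n hn

/-- a coaction on an algebra of finite type that is trivial on every fibre is trivial -/
theorem coaction_trivial [Algebra.FiniteType B A] (α : A →ₐ[B] MonoidAlgebra A N)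
    (hcomp : ∀ a n, α ((α a).coeff n) = single n ((α a).coeff n))
    (hfib : ∀ p : Ideal B, p.IsPrime → ∀ a : A, ∀ n : N, n ≠ 1 →
      ∃ s : B, s ∉ p ∧ s • (α a).coeff n ∈ p.map (algebraMap B A)) :
    ∀ a, α a = single 1 ((α a).coeff 1) := by
  have hq : ∀ q : Ideal A, q.IsMaximal → offIdeal α ≤ q * offIdeal α := by
    intro q hmax
    refine Ideal.span_le.mpr ?_
    rintro t ⟨a, n, hn, rfl⟩
    obtain ⟨s, hs, hst⟩ := hfib (q.comap (algebraMap B A)) (Ideal.IsPrime.comap _) a n hn
    have h1 := coeff_mem_mul_offIdeal α _ hst 1 n hn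
    rw [_root_.one_mul, map_smul, hcomp, MonoidAlgebra.coeff_smul, Finsupp.smul_apply, coeff_single,
      Finsupp.single_eq_same, Algebra.smul_def] at h1
    have h1' : algebraMap B A s * (α a).coeff n ∈ q * offIdeal α :=
      Ideal.mul_mono_left Ideal.map_comap_le h1
    obtain ⟨r, j, hj, hrj⟩ := hmax.exists_inv (x := algebraMap B A s) hs
    have h2 : (α a).coeff n = r * (algebraMap B A s * (α a).coeff n) + j * (α a).coeff n := by
      rw [← _root_.mul_assoc, ← _root_.add_mul, hrj, _root_.one_mul]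
    change (α a).coeff n ∈ q * offIdeal α
    rw [h2]
    exact Ideal.add_mem _ (Ideal.mul_mem_left _ _ h1') (Ideal.mul_mem_mul hj (coeff_mem_offIdeal α a hn))
  have hbot : ∀ t ∈ offIdeal α, t = 0 := by
    intro t ht
    by_contra hne
    have hann : Submodule.annihilator (offIdeal α) ≠ ⊤ := fun h => hne (by
      have h1 := Submodule.mem_annihilator.mp (h ▸ Submodule.mem_top (x := (1 : A))) t ht
      rwa [smul_eq_mul, _root_.one_mul] at h1)
    obtain ⟨q, hmax, hle⟩ := Ideal.exists_le_maximal _ hann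
    obtain ⟨r, hr, hr'⟩ := Submodule.exists_sub_one_mem_and_smul_eq_zero_of_fg_of_le_smul q
      (offIdeal α) (offIdeal_fg α) (by simpa only [smul_eq_mul] using hq q hmax)
    have : r ∈ q := hle (Submodule.mem_annihilator.mpr hr')
    exact hmax.ne_top ((Ideal.eq_top_iff_one q).mpr (by simpa using sub_mem this hr))
  intro a
  refine MonoidAlgebra.ext (Finsupp.ext fun n => ?_)
  rcases eq_or_ne n 1 with rfl | hn
  · simp [coeff_single]
  · rw [coeff_single, Finsupp.single_eq_of_ne hn, hbot _ (coeff_mem_offIdeal α a hn)]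

end Groth.Agent.H21Diag
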