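import Groth.Agent.H21Diag.DSLimit

/-!
Kernels of homomorphisms out of diagonalisable groups of arbitrary type.
-/

set_option backward.isDefEq.respectTransparency false

open CategoryTheory MonoidalCategory CartesianMonoidalCategory MonObj GrpObj AlgebraicGeometry
open CategoryTheory.Limits
open scoped TensorProduct

universe u

namespace Groth.Agent.H21Diag

variable {M : Type} [AddCommGroup M]

theorem exists_pushout_ff {R A D : Type u} [CommRing R] [CommRing A] [CommRing D] (i : R →+* A)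
    (hi : i.FaithfullyFlat) (e : R →+* D) :
    ∃ (D' : Type u) (_ : CommRing D') (φ : D →+* D') (ψ : A →+* D'),
      φ.FaithfullyFlat ∧ ψ.comp i = φ.comp e := by
  let : Algebra R A := i.toAlgebra
  let : Algebra R D := e.toAlgebra
  have : Module.FaithfullyFlat R A := hi
  refine ⟨D ⊗[R] A, inferInstance, Algebra.TensorProduct.includeLeftRingHom,
    (Algebra.TensorProduct.includeRight (R := R) (A := D) (B := A)).toRingHom,
    RingHom.faithfullyFlat_algebraMap_iff.mpr inferInstance, RingHom.ext fun r => ?_⟩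
  exact ((Algebra.TensorProduct.includeRight (R := R) (A := D) (B := A)).commutes r).trans rfl

/-- characters of a subgroup extend after a faithfully flat extension -/
theorem exists_extend (Λ : AddSubgroup M) {D : Type u} [CommRing D] (χ₀ : Multiplicative Λ →* D) :
    ∃ (D' : Type u) (_ : CommRing D') (φ : D →+* D') (χ : Multiplicative M →* D'),
      Flat (Spec.map (CommRingCat.ofHom φ)) ∧ Surjective (Spec.map (CommRingCat.ofHom φ)) ∧
        χ.comp (AddMonoidHom.toMultiplicative Λ.subtype) = φ.toMonoidHom.comp χ₀ := by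
  rcases subsingleton_or_nontrivial D with hD | hD
  · refine ⟨D, inferInstance, RingHom.id D, 1, ?_, ?_, MonoidHom.ext fun _ => Subsingleton.elim _ _⟩ <;>
    · rw [CommRingCat.ofHom_id, Spec.map_id]; infer_instance
  have hff : (fincl D M Λ).FaithfullyFlat := faithfullyFlat_mapDomain D
    (AddMonoidHom.toMultiplicative Λ.subtype)
    (fun _ _ h => Multiplicative.toAdd.injective (Subtype.val_injective h))
  obtain ⟨D', _, φ, ψ, hφ, hψ⟩ := exists_pushout_ff (fincl D M Λ) hff (evChar (RingHom.id D) χ₀)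
  refine ⟨D', inferInstance, φ, ψ.toMonoidHom.comp (MonoidAlgebra.of D _),
    Flat.SpecMap_iff.mpr hφ.flat, ⟨(RingHom.FaithfullyFlat.iff_flat_and_comap_surjective.mp hφ).2⟩, ?_⟩
  refine MonoidHom.ext fun l => ?_
  have h1 : MonoidAlgebra.of D (Multiplicative M) (Multiplicative.ofAdd (l.toAdd : M)) =
      fincl D M Λ (MonoidAlgebra.of D _ l) := by simp [fincl]
  change ψ (MonoidAlgebra.of D (Multiplicative M) (Multiplicative.ofAdd (l.toAdd : M))) = φ (χ₀ l)
  rw [h1, ← RingHom.comp_apply, hψ, RingHom.comp_apply, evChar_of]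

variable {S : Scheme.{u}} {X : Over S} [GrpObj X] (f : Red.DS S M ⟶ X) [IsMonHom f]

omit [GrpObj X] [IsMonHom f] in
/-- the value of `f` on a point only depends on a finitely generated part of the character -/
theorem exists_ptFactor {B : Type u} [CommRing B] (y : Spec (CommRingCat.of B) ⟶ S)
    [LocallyOfFinitePresentation X.hom] :
    ∃ (Λ : AddSubgroup M) (g₀ : Spec (CommRingCat.of (MonoidAlgebra B (Multiplicative Λ))) ⟶ X.left), Λ.FG ∧
      g₀ ≫ X.hom = Spec.map (CommRingCat.ofHom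
        (MonoidAlgebra.singleOneRingHom : B →+* MonoidAlgebra B (Multiplicative Λ))) ≫ y ∧
      ∀ (D : Type u) [CommRing D] (g : B →+* D) (χ : Multiplicative M →* D),
        (gpt (idChart S M) (Spec.map (CommRingCat.ofHom g) ≫ y) χ ≫ f).left =
          Spec.map (CommRingCat.ofHom (evChar g (χ.comp (AddMonoidHom.toMultiplicative Λ.subtype)))) ≫ g₀ := by
  let s₁ : B →+* MonoidAlgebra B (Multiplicative M) := MonoidAlgebra.singleOneRingHom
  let u := gpt (idChart S M) (Spec.map (CommRingCat.ofHom s₁) ≫ y) (MonoidAlgebra.of B _) ≫ f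
  obtain ⟨Λ, g₀, hΛ, hg, hg'⟩ := exists_fg_factor B M X.hom y u.left (by
    rw [Over.w u]
    exact Category.comp_id _)
  refine ⟨Λ, g₀, hΛ, hg', fun D _ g χ => ?_⟩
  let G := evChar g χ
  have hG : G.comp s₁ = g := RingHom.ext fun b => by simp [G, s₁]
  have hχ : G.toMonoidHom.comp (MonoidAlgebra.of B _) = χ := MonoidHom.ext fun m => evChar_of g χ m
  have h1 : (gpt (idChart S M) (Spec.map (CommRingCat.ofHom G) ≫ Spec.map (CommRingCat.ofHom s₁) ≫ y)
      (G.toMonoidHom.comp (MonoidAlgebra.of B _))).left = Spec.map (CommRingCat.ofHom G) ≫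
        (gpt (idChart S M) (Spec.map (CommRingCat.ofHom s₁) ≫ y) (MonoidAlgebra.of B _)).left :=
    gpt_comp _ _ _ G
  have h2 : Spec.map (CommRingCat.ofHom G) ≫ Spec.map (CommRingCat.ofHom s₁) ≫ y =
      Spec.map (CommRingCat.ofHom g) ≫ y := by
    rw [← hG]; exact specMap_comp_assoc s₁ G y
  have h3 : (gpt (idChart S M) (Spec.map (CommRingCat.ofHom g) ≫ y) χ).left = Spec.map (CommRingCat.ofHom G) ≫
      (gpt (idChart S M) (Spec.map (CommRingCat.ofHom s₁) ≫ y) (MonoidAlgebra.of B _)).left := by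
    refine Eq.trans ?_ h1
    rw [hχ]
    exact (gpt_idChart _ χ).trans ((dpt_left_congr h2.symm χ).trans (gpt_idChart _ χ).symm)
  refine (congrArg (· ≫ f.left) h3).trans ((Category.assoc _ _ _).trans
    ((congrArg (Spec.map (CommRingCat.ofHom G) ≫ ·) hg.symm).trans ?_))
  rw [← Category.assoc, ← Spec.map_comp, ← CommRingCat.ofHom_comp]
  congr 3
  refine MonoidAlgebra.ringHom_ext (fun b => ?_) (fun l => ?_)
  · simp [G, fincl]
  · simp [G, fincl]

/-- the partial family of values on characters of the finitely generated subgroup -/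
theorem exists_kernel_family {B : Type u} [CommRing B] (y : Spec (CommRingCat.of B) ⟶ S)
    [LocallyOfFinitePresentation X.hom] :
    ∃ (Λ : AddSubgroup M) (Φ : CharFam y X Λ), Λ.FG ∧
      ∀ (D : Type u) [CommRing D] (g : B →+* D) (χ : Multiplicative M →* D),
        (gpt (idChart S M) (Spec.map (CommRingCat.ofHom g) ≫ y) χ ≫ f).left =
          (Φ.pt (Spec.map (CommRingCat.ofHom g)) (χ.comp (AddMonoidHom.toMultiplicative Λ.subtype))).left := by
  obtain ⟨Λ, g₀, hΛ, hg₀, hval⟩ := exists_ptFactor f y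
  let pt : ∀ {D : Type u} [CommRing D] (z : Spec (CommRingCat.of D) ⟶ Spec (CommRingCat.of B))
      (_ : Multiplicative Λ →* D), Over.mk (z ≫ y) ⟶ X := fun {D} _ z χ =>
    Over.homMk (Spec.map (CommRingCat.ofHom (evChar (Spec.preimage z).hom χ)) ≫ g₀) (by
      rw [Category.assoc, hg₀, ← Spec.map_comp_assoc, ← CommRingCat.ofHom_comp]
      change _ = z ≫ y
      congr 1
      conv_rhs => rw [← Spec.map_preimage z]
      congr 1
      refine CommRingCat.hom_ext (RingHom.ext fun b => ?_)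
      simp)
  have hcomp : ∀ {D : Type u} [CommRing D] (z : Spec (CommRingCat.of D) ⟶ Spec (CommRingCat.of B))
      (χ : Multiplicative Λ →* D) {D' : Type u} [CommRing D'] (φ : D →+* D'),
      (pt (Spec.map (CommRingCat.ofHom φ) ≫ z) (φ.toMonoidHom.comp χ)).left =
        Spec.map (CommRingCat.ofHom φ) ≫ (pt z χ).left := by
    intro D _ z χ D' _ φ
    change Spec.map _ ≫ g₀ = Spec.map _ ≫ Spec.map _ ≫ g₀
    rw [← Spec.map_comp_assoc, ← CommRingCat.ofHom_comp]
    congr 3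
    refine MonoidAlgebra.ringHom_ext (fun b => ?_) (fun l => ?_)
    · obtain ⟨g, rfl⟩ := Spec.map_surjective z
      rw [← Spec.map_comp, Spec.preimage_map, Spec.preimage_map]
      simp
    · simp
  have hpre : ∀ {D : Type u} [CommRing D] (g : B →+* D),
      (Spec.preimage (Spec.map (CommRingCat.ofHom g))).hom = g := fun g => by
    rw [Spec.preimage_map]; rfl
  have hbase : ∀ {D : Type u} [CommRing D] (g : B →+* D) (χ : Multiplicative M →* D),
      (gpt (idChart S M) (Spec.map (CommRingCat.ofHom g) ≫ y) χ ≫ f).left =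
        (pt (Spec.map (CommRingCat.ofHom g)) (χ.comp (AddMonoidHom.toMultiplicative Λ.subtype))).left := by
    intro D _ g χ
    rw [hval D g χ]
    change _ = Spec.map _ ≫ g₀
    rw [hpre g]
  refine ⟨Λ, ⟨pt, hcomp, ?_⟩, hΛ, fun D _ g χ => hbase g χ⟩
  intro D _ z χ χ'
  obtain ⟨D₁, _, φ₁, χ₁, hf₁, hs₁, hχ₁⟩ := exists_extend Λ χ
  obtain ⟨D₂, _, φ₂, χ₂, hf₂, hs₂, hχ₂⟩ := exists_extend Λ (φ₁.toMonoidHom.comp χ')
  let φ := φ₂.comp φ₁
  have hφ : Spec.map (CommRingCat.ofHom φ) = Spec.map (CommRingCat.ofHom φ₂) ≫ Spec.map (CommRingCat.ofHom φ₁) := by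
    rw [← Spec.map_comp]; rfl
  have : Flat (Spec.map (CommRingCat.ofHom φ)) := by rw [hφ]; infer_instance
  have : Surjective (Spec.map (CommRingCat.ofHom φ)) := by rw [hφ]; infer_instance
  let p : Over.mk ((Spec.map (CommRingCat.ofHom φ) ≫ z) ≫ y) ⟶ Over.mk (z ≫ y) :=
    Over.homMk (Spec.map (CommRingCat.ofHom φ)) (Category.assoc _ _ _).symm
  have : Epi p.left := Flat.epi_of_flat_of_surjective (Spec.map (CommRingCat.ofHom φ))
  have : Epi p := Over.epi_of_epi_left p
  rw [← cancel_epi p, MonObj.comp_mul]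
  obtain ⟨g, hg⟩ := Spec.map_surjective z
  let g' : B →+* D₂ := φ.comp g.hom
  have hz : Spec.map (CommRingCat.ofHom φ) ≫ z = Spec.map (CommRingCat.ofHom g') := by
    rw [← hg, ← Spec.map_comp]; rfl
  let τ : Over.mk ((Spec.map (CommRingCat.ofHom φ) ≫ z) ≫ y) ⟶
      Over.mk ((Spec.map (CommRingCat.ofHom g') ≫ y) ≫ 𝟙 S) := Over.homMk (𝟙 _) (by
    change 𝟙 _ ≫ (Spec.map (CommRingCat.ofHom g') ≫ y) ≫ 𝟙 S = _
    simp [hz])
  let χa : Multiplicative M →* D₂ := φ₂.toMonoidHom.comp χ₁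
  have key : ∀ (ψ : Multiplicative Λ →* D) (θ : Multiplicative M →* D₂),
      θ.comp (AddMonoidHom.toMultiplicative Λ.subtype) = φ.toMonoidHom.comp ψ →
      p ≫ pt z ψ = τ ≫ gpt (idChart S M) (Spec.map (CommRingCat.ofHom g') ≫ y) θ ≫ f := by
    intro ψ θ hθ
    refine Over.OverMorphism.ext ?_
    change Spec.map (CommRingCat.ofHom φ) ≫ (pt z ψ).left =
      𝟙 _ ≫ (gpt (idChart S M) (Spec.map (CommRingCat.ofHom g') ≫ y) θ ≫ f).left
    rw [Category.id_comp, hbase g' θ, hθ, ← hcomp z ψ φ, hz]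
  have ha : χa.comp (AddMonoidHom.toMultiplicative Λ.subtype) = φ.toMonoidHom.comp χ :=
    (MonoidHom.comp_assoc _ _ _).trans ((congrArg (φ₂.toMonoidHom.comp) hχ₁).trans (MonoidHom.comp_assoc _ _ _).symm)
  have hb : χ₂.comp (AddMonoidHom.toMultiplicative Λ.subtype) = φ.toMonoidHom.comp χ' :=
    hχ₂.trans (MonoidHom.comp_assoc _ _ _).symm
  have hab : (χa * χ₂).comp (AddMonoidHom.toMultiplicative Λ.subtype) = φ.toMonoidHom.comp (χ * χ') := by
    rw [MonoidHom.mul_comp, ha, hb, MonoidHom.comp_mul]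
  rw [key _ _ hab, key _ _ ha, key _ _ hb, gpt_idChart_mul, MonObj.mul_comp, MonObj.comp_mul]

/-- near every point the kernel has a fixed finitely generated type -/
theorem exists_nhd_kerEq_gen [IsSeparated X.hom] [LocallyOfFinitePresentation X.hom] (s : S) :
    ∃ (Λ : AddSubgroup M) (W : S.Opens), Λ.FG ∧ s ∈ W ∧ KerEq f Λ (W : Set S) := by
  obtain ⟨A, hA, hsA, -⟩ := exists_isAffineOpen_mem_and_subset (U := (⊤ : S.Opens)) (x := s) trivial
  obtain ⟨p, hp⟩ : s ∈ Set.range hA.fromSpec.base := by rw [hA.range_fromSpec]; exact hsA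
  obtain ⟨Λ₀, Φ, hΛ₀, hval⟩ := exists_kernel_family f hA.fromSpec
  have : AddGroup.FG Λ₀ := (AddGroup.fg_iff_addSubgroup_fg _).mpr hΛ₀
  have : Module.Finite ℤ Λ₀ := Module.Finite.iff_addGroup_fg.mpr inferInstance
  obtain ⟨Λ', t, ht, hΛ⟩ := Φ.exists_away_type Φ.finKer_of_lft (𝟙 _) p.asIdeal
  let Λ : AddSubgroup M := (Subgroup.toAddSubgroup' Λ').map Λ₀.subtype
  have hfg : Λ.FG := by
    have h1 : Module.Finite ℤ (Subgroup.toAddSubgroup' Λ').toIntSubmodule := inferInstance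
    have h2 : AddGroup.FG (Subgroup.toAddSubgroup' Λ') := Module.Finite.iff_addGroup_fg.mp h1
    obtain ⟨F, hF⟩ := (AddGroup.fg_iff_addSubgroup_fg _).mp h2
    classical
    exact ⟨F.image Λ₀.subtype, by rw [Finset.coe_image, ← AddMonoidHom.map_closure, hF]⟩
  refine ⟨Λ, hA.fromSpec ''ᵁ (PrimeSpectrum.basicOpen t), hfg, ⟨p, ht, hp⟩,
    kerEq_of_affine f hA t _ fun D _ g hu χ => ?_⟩
  obtain ⟨hS, hI⟩ := hΛ D g hu
  let χ₀ := χ.comp (AddMonoidHom.toMultiplicative Λ₀.subtype)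
  have hz : Spec.map (CommRingCat.ofHom (RingHom.id D)) ≫ Spec.map (CommRingCat.ofHom g) ≫
      𝟙 (Spec (CommRingCat.of Γ(S, A))) = Spec.map (CommRingCat.ofHom g) := by
    rw [Category.comp_id, CommRingCat.ofHom_id, Spec.map_id, Category.id_comp]
  let τ : Over.mk ((Spec.map (CommRingCat.ofHom g) ≫ hA.fromSpec) ≫ 𝟙 S) ⟶
      Over.mk (Spec.map (CommRingCat.ofHom g) ≫ hA.fromSpec) := Over.homMk (𝟙 _) (by
    change 𝟙 _ ≫ Spec.map (CommRingCat.ofHom g) ≫ hA.fromSpec = _
    simp)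
  let τ' : Over.mk (Spec.map (CommRingCat.ofHom g) ≫ hA.fromSpec) ⟶
      Over.mk ((Spec.map (CommRingCat.ofHom g) ≫ hA.fromSpec) ≫ 𝟙 S) := Over.homMk (𝟙 _) (by
    change 𝟙 _ ≫ (Spec.map (CommRingCat.ofHom g) ≫ hA.fromSpec) ≫ 𝟙 S = _
    simp)
  have hττ : τ' ≫ τ = 𝟙 _ := Over.OverMorphism.ext (Category.id_comp _)
  have h1 : gpt (idChart S M) (Spec.map (CommRingCat.ofHom g) ≫ hA.fromSpec) χ ≫ f =
      τ ≫ Φ.pt (Spec.map (CommRingCat.ofHom g)) χ₀ :=
    Over.OverMorphism.ext ((hval D g χ).trans (Category.id_comp _).symm)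
  have h2 : gpt (idChart S M) (Spec.map (CommRingCat.ofHom g) ≫ hA.fromSpec) χ ≫ f = 1 ↔
      Φ.pt (Spec.map (CommRingCat.ofHom g)) χ₀ = 1 := by
    rw [h1]
    refine ⟨fun e => ?_, fun e => by rw [e, MonObj.comp_one]⟩
    have := congrArg (τ' ≫ ·) e
    simpa only [MonObj.comp_one, ← Category.assoc, hττ, Category.id_comp] using this
  rw [h2]
  constructor
  · rintro e _ ⟨l, hl, rfl⟩
    refine hS D (RingHom.id D) χ₀ ?_ (Multiplicative.ofAdd l) hl
    rw [hz]
    exact e
  · intro e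
    have h3 := hI D (RingHom.id D) χ₀ fun l hl => e _ ⟨l.toAdd, hl, rfl⟩
    rw [hz] at h3
    exact h3

/-- the kernel has a fixed finitely generated type on a clopen neighbourhood of every point -/
theorem exists_clopen_kerEq_gen [IsSeparated X.hom] [LocallyOfFinitePresentation X.hom] (s : S) :
    ∃ (Λ : AddSubgroup M) (V : S.Opens), Λ.FG ∧ s ∈ V ∧ IsClosed (V : Set S) ∧ KerEq f Λ (V : Set S) := by
  choose Λ W hfg hW hK using exists_nhd_kerEq_gen f
  obtain ⟨V, hV, hVc, hsV, hVK⟩ := clopen_of_kerEq Λ W hW (fun x => hK x) s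
  exact ⟨Λ s, V, hfg s, hsV, hVc, hVK⟩

end Groth.Agent.H21Diag
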