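import Groth.Agent.H21Diag.DSKernel
import Mathlib.AlgebraicGeometry.AffineTransitionLimit
import Mathlib.CategoryTheory.Limits.Types.Filtered
import Mathlib.Algebra.Category.Ring.FilteredColimits

/-!
Maps out of `D(M)` to schemes locally of finite presentation come from a finitely generated subgroup of `M`.
-/

set_option backward.isDefEq.respectTransparency false

open CategoryTheory CategoryTheory.Limits AlgebraicGeometry Opposite

universe u

namespace Groth.Agent.H21Diag

variable (B : Type u) [CommRing B] (M : Type) [AddCommGroup M]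

/-- the subgroup generated by a finite set -/
def fsub (i : Finset (ULift.{u} M)) : AddSubgroup M := AddSubgroup.closure (ULift.down '' (i : Set (ULift.{u} M)))

theorem fsub_mono {i j : Finset (ULift.{u} M)} (h : i ≤ j) : fsub M i ≤ fsub M j :=
  AddSubgroup.closure_mono (Set.image_mono h)

theorem fsub_fg (i : Finset (ULift.{u} M)) : (fsub M i).FG := by
  classical
  exact ⟨i.image ULift.down, by rw [fsub, Finset.coe_image]⟩

/-- the transition maps -/
noncomputable def fmap {Λ Λ' : AddSubgroup M} (h : Λ ≤ Λ') :
    MonoidAlgebra B (Multiplicative Λ) →+* MonoidAlgebra B (Multiplicative Λ') :=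
  MonoidAlgebra.mapDomainRingHom B (AddMonoidHom.toMultiplicative (AddSubgroup.inclusion h))

/-- restriction to a subgroup -/
noncomputable def fincl (Λ : AddSubgroup M) :
    MonoidAlgebra B (Multiplicative Λ) →+* MonoidAlgebra B (Multiplicative M) :=
  MonoidAlgebra.mapDomainRingHom B (AddMonoidHom.toMultiplicative Λ.subtype)

theorem fincl_injective (Λ : AddSubgroup M) : Function.Injective (fincl B M Λ) :=
  MonoidAlgebra.mapDomain_injective fun _ _ h => Multiplicative.toAdd.injective (Subtype.val_injective h)

theorem fincl_fmap {Λ Λ' : AddSubgroup M} (h : Λ ≤ Λ') : (fincl B M Λ').comp (fmap B M h) = fincl B M Λ :=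
  MonoidAlgebra.ringHom_ext (fun b => by simp [fincl, fmap]) (fun m => by simp [fincl, fmap])

/-- the stages -/
noncomputable def stages : Finset (ULift.{u} M) ⥤ CommRingCat.{u} where
  obj i := CommRingCat.of (MonoidAlgebra B (Multiplicative (fsub M i)))
  map {i j} h := CommRingCat.ofHom (fmap B M (fsub_mono M h.le))
  map_id i := CommRingCat.hom_ext (MonoidAlgebra.ringHom_ext (fun b => by simp [fmap]) (fun m => by simp [fmap]; rfl))
  map_comp {i j k} h h' :=
    CommRingCat.hom_ext (MonoidAlgebra.ringHom_ext (fun b => by simp [fmap]) (fun m => by simp [fmap]; rfl))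

/-- the cocone -/
noncomputable def stagesCocone : Cocone (stages B M) where
  pt := CommRingCat.of (MonoidAlgebra B (Multiplicative M))
  «ι» :=
    { app := fun i => CommRingCat.ofHom (fincl B M (fsub M i))
      naturality := fun i j h => by
        dsimp [stages]
        rw [Category.comp_id, ← CommRingCat.ofHom_comp, fincl_fmap] }

theorem stages_surjective (v : MonoidAlgebra B (Multiplicative M)) :
    ∃ i : Finset (ULift.{u} M), ∃ w : MonoidAlgebra B (Multiplicative (fsub M i)), fincl B M (fsub M i) w = v := by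
  classical
  have hdir : IsDirected (Finset (ULift.{u} M)) (· ≤ ·) := inferInstance
  have hmono : ∀ {i j : Finset (ULift.{u} M)} (_ : i ≤ j) (w : MonoidAlgebra B (Multiplicative (fsub M i))),
      ∃ w' : MonoidAlgebra B (Multiplicative (fsub M j)), fincl B M _ w' = fincl B M _ w :=
    fun h w => ⟨fmap B M (fsub_mono M h) w, DFunLike.congr_fun (fincl_fmap B M (fsub_mono M h)) w⟩
  induction v using MonoidAlgebra.induction_linear with
  | zero => exact ⟨∅, 0, map_zero _⟩
  | add a b ha hb =>
    obtain ⟨i, wa, rfl⟩ := ha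
    obtain ⟨j, wb, rfl⟩ := hb
    obtain ⟨k, hi, hj⟩ := exists_ge_ge i j
    obtain ⟨w₁, h₁⟩ := hmono (j := k) hi wa
    obtain ⟨w₂, h₂⟩ := hmono (j := k) hj wb
    exact ⟨k, w₁ + w₂, (map_add (fincl B M (fsub M k)) w₁ w₂).trans (congrArg₂ (· + ·) h₁ h₂)⟩
  | single m c =>
    exact ⟨{ULift.up m.toAdd}, MonoidAlgebra.single (Multiplicative.ofAdd ⟨m.toAdd,
      AddSubgroup.subset_closure ⟨ULift.up m.toAdd, Finset.mem_singleton_self _, rfl⟩⟩) c,
      MonoidAlgebra.mapDomain_single⟩

/-- the colimit -/
noncomputable def isColimitStages : IsColimit (stagesCocone B M) := by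
  classical
  have : IsFiltered (Finset (ULift.{u} M)) := inferInstance
  have : ReflectsColimit (stages B M) (forget CommRingCat.{u}) := reflectsColimit_of_reflectsIsomorphisms _ _
  apply isColimitOfReflects (forget CommRingCat.{u})
  refine Types.FilteredColimit.isColimitOf' _ _ (fun v => ?_) (fun i x y h => ⟨i, 𝟙 i, ?_⟩)
  · obtain ⟨i, w, hw⟩ := stages_surjective B M v
    exact ⟨i, w, hw.symm⟩
  · exact congrArg _ (fincl_injective B M (fsub M i) h)

/-- a morphism out of `Spec B[M]` to a scheme locally of finite presentation descends -/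
theorem exists_fg_factor {S X : Scheme.{u}} (π : X ⟶ S) [LocallyOfFinitePresentation π]
    (y : Spec (CommRingCat.of B) ⟶ S) (w : Spec (CommRingCat.of (MonoidAlgebra B (Multiplicative M))) ⟶ X)
    (hw : w ≫ π = Spec.map (CommRingCat.ofHom
      (MonoidAlgebra.singleOneRingHom : B →+* MonoidAlgebra B (Multiplicative M))) ≫ y) :
    ∃ (Λ : AddSubgroup M) (g : Spec (CommRingCat.of (MonoidAlgebra B (Multiplicative Λ))) ⟶ X), Λ.FG ∧
      Spec.map (CommRingCat.ofHom (fincl B M Λ)) ≫ g = w ∧
      g ≫ π = Spec.map (CommRingCat.ofHom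
        (MonoidAlgebra.singleOneRingHom : B →+* MonoidAlgebra B (Multiplicative Λ))) ≫ y := by
  classical
  have : IsFiltered (Finset (ULift.{u} M)) := inferInstance
  let D : (Finset (ULift.{u} M))ᵒᵖ ⥤ Scheme.{u} := (stages B M).op ⋙ Scheme.Spec
  let t : D ⟶ (Functor.const (Finset (ULift.{u} M))ᵒᵖ).obj S :=
    { app := fun i => Spec.map (CommRingCat.ofHom (MonoidAlgebra.singleOneRingHom :
        B →+* MonoidAlgebra B (Multiplicative (fsub M i.unop)))) ≫ y
      naturality := fun i j f => by
        simp only [D, Functor.const_obj_map, Functor.comp_map, Functor.op_map,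
          Scheme.Spec_map, Quiver.Hom.unop_op]
        rw [← Spec.map_comp_assoc]
        congr 2
        refine CommRingCat.hom_ext (RingHom.ext fun r => ?_)
        simp [stages, fmap] }
  have : ∀ {i j : (Finset (ULift.{u} M))ᵒᵖ} (f : i ⟶ j), IsAffineHom (D.map f) := fun f => by
    dsimp [D]; infer_instance
  have : ∀ i, CompactSpace (D.obj i) := fun i => by dsimp [D]; infer_instance
  have : ∀ i, QuasiSeparatedSpace (D.obj i) := fun i => by dsimp [D]; infer_instance
  obtain ⟨i, g, hg, hg'⟩ := Scheme.exists_π_app_comp_eq_of_locallyOfFinitePresentation D t π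
    (Scheme.Spec.mapCone (stagesCocone B M).op) (isLimitOfPreserves Scheme.Spec (isColimitStages B M).op) w
    (by
      refine NatTrans.ext (funext fun i => ?_)
      dsimp [t, stagesCocone, stages]
      rw [hw, ← Spec.map_comp_assoc]
      congr 2
      refine CommRingCat.hom_ext (RingHom.ext fun r => ?_)
      simp [fincl])
  exact ⟨fsub M i.unop, g, fsub_fg M _, hg, hg'⟩

end Groth.Agent.H21Diag
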