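import Groth.Agent.H21Diag.MaxTorusExt
import Groth.Agent.H21Diag.SubgroupSplit
import Groth.Agent.H21Split.Red0.BcIso
import Groth.Agent.H13AlgSp.SmoothSection
import Groth.Agent.S6059
import Groth.Agent.S5246
import Groth.Agent.H27Witt.DiagFn
import Groth.Prelude.Def_SGA3x

/-!
Subgroups of multiplicative type of a geometric fibre spread out etale locally.
-/

set_option autoImplicit false
set_option linter.style.haveILetI false
set_option linter.unusedSectionVars false
set_option backward.isDefEq.respectTransparency false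
set_option synthInstance.maxHeartbeats 400000
set_option maxHeartbeats 1000000

universe u

open CategoryTheory CategoryTheory.Limits MonoidalCategory CartesianMonoidalCategory MonObj AlgebraicGeometry

noncomputable section

namespace Groth.Agent.H21Diag

variable {S : Scheme.{u}}

theorem exists_etale_mono_hom {Ω : Type u} [Field Ω] [IsAlgClosed Ω] (z : Spec (CommRingCat.of Ω) ⟶ S)
    (G H : Over S) [GrpObj G] [GrpObj H] (hH : SGA3x.IsMultTypeFT H) [Smooth G.hom] [IsAffineHom G.hom]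
    (jH : Red.bc z H ⟶ Red.bc z G) [IsMonHom jH] [Mono jH] :
    ∃ (U : Scheme.{u}) (e : U ⟶ S), Etale e ∧ z.base (IsLocalRing.closedPoint Ω) ∈ Set.range e.base ∧
      ∃ v : Red.bc e H ⟶ Red.bc e G, IsMonHom v ∧ Mono v := by
  obtain ⟨A, υ, hυ, hAsm, -⟩ := S5246.result H G hH inferInstance inferInstance
  haveI := hAsm
  obtain ⟨ψ, hψ, hψj⟩ := exists_family_of_hom z jH
  obtain ⟨aΩ, haΩ, -⟩ := hυ.2 _ ψ hψ
  let υA : H ⊗ Over.mk A.hom ⟶ G := υ
  let uA := ofFam A.hom υA
  haveI : IsMonHom uA := isMonHom_ofFam A.hom υA hυ.1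
  let x : A.left := aΩ.left (IsLocalRing.closedPoint Ω)
  have hψj' : ∀ (T : Over (Spec (CommRingCat.of Ω))) (t : T ⟶ Red.bc z H),
      lift (bcHom z H T t) (strTo z T) ≫ (H ◁ aΩ) ≫ υA = bcHom z G T (t ≫ jH) := fun T t => by
    rw [← hψj, ← haΩ]
  haveI : LocallyOfFinitePresentation (Red.bc A.hom G).hom :=
    MorphismProperty.pullback_snd (P := @LocallyOfFinitePresentation) _ _ inferInstance
  haveI : IsSeparated (Red.bc A.hom G).hom := MorphismProperty.pullback_snd (P := @IsSeparated) _ _ inferInstance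
  obtain ⟨V, hxV, hV⟩ := S6059.result (Red.bc A.hom H) (Red.bc A.hom G)
    (isMultTypeFT_bc hH A.hom) (Or.inr inferInstance) uA x (mono_at_point A υA z aΩ jH hψj')
  obtain ⟨U, e, r, he, hre, hrange⟩ := H13AlgSp.SmoothSection.exists_etale_section (V.ι ≫ A.hom) ⟨x, hxV⟩
  haveI := hV
  haveI : Mono ((Over.pullback V.ι).map uA) := Over.mono_of_mono_left _
  haveI : IsMonHom ((Over.pullback V.ι).map uA) := isMonHom_map V.ι uA
  haveI := (Over.mapPullbackAdj r).isRightAdjoint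
  let w := (Over.pullback r).map ((Over.pullback V.ι).map uA)
  haveI : Mono w := inferInstanceAs (Mono ((Over.pullback r).map ((Over.pullback V.ι).map uA)))
  haveI : IsMonHom w := isMonHom_map r _
  have hre' : (r ≫ V.ι) ≫ A.hom = e := by rw [Category.assoc, hre]
  let θ : ∀ (X : Over S), Red.bc r (Red.bc V.ι (Red.bc A.hom X)) ≅ Red.bc e X := fun X =>
    H21Red0.bcTrans r V.ι (r ≫ V.ι) rfl (Red.bc A.hom X) ≪≫ H21Red0.bcTrans (r ≫ V.ι) A.hom e hre' X
  haveI : IsMonHom (θ H).hom := by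
    haveI := H21Red0.isMonHom_bcTrans r V.ι (r ≫ V.ι) rfl (Red.bc A.hom H)
    haveI := H21Red0.isMonHom_bcTrans (r ≫ V.ι) A.hom e hre' H
    dsimp only [θ, Iso.trans_hom]
    infer_instance
  haveI : IsMonHom (θ G).hom := by
    haveI := H21Red0.isMonHom_bcTrans r V.ι (r ≫ V.ι) rfl (Red.bc A.hom G)
    haveI := H21Red0.isMonHom_bcTrans (r ≫ V.ι) A.hom e hre' G
    dsimp only [θ, Iso.trans_hom]
    infer_instance
  refine ⟨U, e, he, ?_, (θ H).inv ≫ w ≫ (θ G).hom, inferInstance, inferInstance⟩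
  have hx : (V.ι ≫ A.hom).base ⟨x, hxV⟩ = z.base (IsLocalRing.closedPoint Ω) :=
    (Scheme.Hom.comp_apply aΩ.left A.hom _).symm.trans
      (congrArg (fun m : Spec (CommRingCat.of Ω) ⟶ S => m.base (IsLocalRing.closedPoint Ω)) (Over.w aΩ))
  rw [← hx]
  exact hrange

/-- A split torus in a geometric fibre spreads out over an etale neighbourhood. -/
theorem exists_etale_splitTorus {Ω : Type u} [Field Ω] [IsAlgClosed Ω] (z : Spec (CommRingCat.of Ω) ⟶ S)
    (G : Over S) [GrpObj G] [Smooth G.hom] [IsAffineHom G.hom] (n : ℕ)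
    (j : Red.DS (Spec (CommRingCat.of Ω)) (Fin n → ℤ) ⟶ Red.bc z G) [IsMonHom j] [Mono j] :
    ∃ (U : Scheme.{u}) (e : U ⟶ S), Etale e ∧ z.base (IsLocalRing.closedPoint Ω) ∈ Set.range e.base ∧
      ∃ v : Red.DS U (Fin n → ℤ) ⟶ Red.bc e G, IsMonHom v ∧ Mono v := by
  haveI : AddGroup.FG (Fin n → ℤ) := Module.Finite.iff_addGroup_fg.mp inferInstance
  let ε := bcDSIso z (Fin n → ℤ)
  haveI : IsMonHom ε.hom.hom.hom := ε.hom.hom.isMonHom_hom
  haveI : IsIso ε.hom.hom.hom := ((Grp.forget _).mapIso ε).isIso_hom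
  obtain ⟨U, e, he, hr, v, hv, hv'⟩ := exists_etale_mono_hom z G (Red.DS S (Fin n → ℤ)) (isMultTypeFT_DS S _)
    (ε.hom.hom.hom ≫ j)
  haveI := hv
  haveI := hv'
  let ε' := bcDSIso e (Fin n → ℤ)
  haveI : IsMonHom ε'.inv.hom.hom := ε'.inv.hom.isMonHom_hom
  haveI : IsIso ε'.inv.hom.hom := ((Grp.forget _).mapIso ε').isIso_inv
  exact ⟨U, e, he, hr, ε'.inv.hom.hom ≫ v, inferInstance, inferInstance⟩

end Groth.Agent.H21Diag
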