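import Groth.Agent.H21Diag.FreeCoaction
import Groth.Agent.H21Diag.FpqcLocal
import Groth.Agent.H21Diag.Iso

/-!
The graph of a free action of a group of multiplicative type on an affine scheme is a closed immersion.
-/

open CategoryTheory MonoidalCategory CartesianMonoidalCategory MonObj GrpObj AlgebraicGeometry
open CategoryTheory.Limits

universe u

namespace Groth.Agent.H21Diag

variable {S U : Scheme.{u}} {u₀ : U ⟶ S} {G X : Over S} [GrpObj G] {M : Type} [AddCommGroup M]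
  (e : Grp.mk (Red.bc u₀ G) ≅ Grp.mk (Red.DS U M)) (a : AlgGrp.Action G X)

include e in
/-- The graph is a closed immersion on an affine chart. -/
theorem graph_chart [IsAffineHom G.hom] [IsAffineHom X.hom]
    (hfree : ∀ (Y : Over S) (g : Y ⟶ G) (x : Y ⟶ X), lift g x ≫ a.act = x → g = 1)
    {R : Type u} [CommRing R] (y : Spec (CommRingCat.of R) ⟶ U) :
    IsClosedImmersion (pullback.snd (lift a.act (snd G X)).left (pullback.fst (X ⊗ X).hom (y ≫ u₀))) := by
  -- the affine scheme `X` over the chart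
  let Y := pullback X.hom (y ≫ u₀)
  have hYaff : IsAffine Y := isAffine_of_isAffineHom (pullback.snd X.hom (y ≫ u₀))
  let w : Spec (CommRingCat.of Γ(Y, ⊤)) ⟶ Y := Y.isoSpec.inv
  obtain ⟨ιA, hι⟩ : ∃ ιA : R →+* Γ(Y, ⊤), w ≫ pullback.snd X.hom (y ≫ u₀) =
      Spec.map (CommRingCat.ofHom ιA) := by
    obtain ⟨i, hi⟩ := Spec.map_surjective (w ≫ pullback.snd X.hom (y ≫ u₀))
    exact ⟨i.hom, by rw [CommRingCat.ofHom_hom, hi]⟩
  let xA := w ≫ pullback.fst X.hom (y ≫ u₀)
  have hxA : ∀ {D : Type u} [CommRing D] (ν : Γ(Y, ⊤) →+* D),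
      (Spec.map (CommRingCat.ofHom ν) ≫ xA) ≫ X.hom =
        (Spec.map (CommRingCat.ofHom (ν.comp ιA)) ≫ y) ≫ u₀ := by
    intro D _ ν
    rw [specMap_comp, ← hι]
    simp only [xA, Category.assoc, pullback.condition]
  have hinj : ∀ {D : Type u} [CommRing D] (ν ν' : Γ(Y, ⊤) →+* D), ν.comp ιA = ν'.comp ιA →
      Spec.map (CommRingCat.ofHom ν) ≫ xA = Spec.map (CommRingCat.ofHom ν') ≫ xA → ν = ν' := by
    intro D _ ν ν' hs hx
    refine congrArg CommRingCat.Hom.hom (Spec.map_injective ((cancel_mono w).mp (pullback.hom_ext ?_ ?_)) :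
      CommRingCat.ofHom ν = CommRingCat.ofHom ν')
    · rw [Category.assoc, Category.assoc]; exact hx
    · rw [Category.assoc, Category.assoc, hι, ← specMap_comp, hs, specMap_comp]
  -- translates
  have hex : ∀ {D : Type u} [CommRing D] (ν : Γ(Y, ⊤) →+* D) (χ : Multiplicative M →* D),
      ∃ δ : Γ(Y, ⊤) →+* D, δ.comp ιA = ν.comp ιA ∧
        act e a (Spec.map (CommRingCat.ofHom (ν.comp ιA)) ≫ y) χ (Spec.map (CommRingCat.ofHom ν) ≫ xA) (hxA ν) =
          Spec.map (CommRingCat.ofHom δ) ≫ xA := by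
    intro D _ ν χ
    obtain ⟨δ, hδ⟩ := Spec.map_surjective (pullback.lift _ (Spec.map (CommRingCat.ofHom (ν.comp ιA)))
      ((act_over e a _ χ _ (hxA ν)).trans (Category.assoc _ _ _)) ≫ Y.isoSpec.hom)
    have hδ' : Spec.map (CommRingCat.ofHom δ.hom) ≫ w = pullback.lift _
        (Spec.map (CommRingCat.ofHom (ν.comp ιA))) ((act_over e a _ χ _ (hxA ν)).trans (Category.assoc _ _ _)) := by
      rw [CommRingCat.ofHom_hom, hδ, Category.assoc, Iso.hom_inv_id, Category.comp_id]
    refine ⟨δ.hom, ?_, ?_⟩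
    · refine congrArg CommRingCat.Hom.hom (Spec.map_injective ?_ :
        CommRingCat.ofHom (δ.hom.comp ιA) = CommRingCat.ofHom (ν.comp ιA))
      rw [specMap_comp, ← hι, ← Category.assoc, hδ', pullback.lift_snd]
    · exact (((Category.assoc _ _ _).symm.trans (congrArg (· ≫ pullback.fst X.hom (y ≫ u₀)) hδ')).trans
        (pullback.lift_fst _ _ _)).symm
  choose tr htr₁ htr₂ using @hex
  -- the universal translate
  let α : Γ(Y, ⊤) →+* MonoidAlgebra Γ(Y, ⊤) (Multiplicative M) :=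
    tr MonoidAlgebra.singleOneRingHom (MonoidAlgebra.of Γ(Y, ⊤) (Multiplicative M))
  have key : ∀ {D : Type u} [CommRing D] (ν : Γ(Y, ⊤) →+* D) (χ : Multiplicative M →* D),
      tr ν χ = (evPt ν χ).comp α := by
    intro D _ ν χ
    have h1 : (evPt ν χ).comp (MonoidAlgebra.singleOneRingHom :
        Γ(Y, ⊤) →+* MonoidAlgebra Γ(Y, ⊤) (Multiplicative M)) = ν := RingHom.ext fun b => by
      simp [evPt_single]
    have h2 : (evPt ν χ).toMonoidHom.comp (MonoidAlgebra.of Γ(Y, ⊤) (Multiplicative M)) = χ :=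
      MonoidHom.ext fun m => by simp [evPt_single]
    refine hinj _ _ ?_ ?_
    · rw [htr₁, RingHom.comp_assoc, htr₁, ← RingHom.comp_assoc, h1]
    · rw [← htr₂, ← specMap_comp_assoc α (evPt ν χ) xA, ← htr₂, act_comp]
      refine act_congr e a ?_ h2.symm ?_
      · rw [specMap_comp_assoc, ← RingHom.comp_assoc, h1]
      · rw [specMap_comp_assoc, h1]
  have htop : ∀ T : Subring (MonoidAlgebra Γ(Y, ⊤) (Multiplicative M)),
      (∀ b, MonoidAlgebra.single 1 b ∈ T) → (∀ b, α b ∈ T) → T = ⊤ := by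
    refine subring_eq_top α (fun b => ?_) (fun D _ ν χ χ' b => ?_) fun D _ ν χ hfix => ?_
    · refine RingHom.congr_fun ((key (RingHom.id _) 1).symm.trans (hinj _ _ (htr₁ _ _) ?_)) b
      rw [← htr₂, act_one]
    · refine RingHom.congr_fun ((key ν (χ * χ')).symm.trans (Eq.trans ?_ (key ((evPt ν χ').comp α) χ))) b
      rw [← key ν χ']
      refine hinj _ _ (by rw [htr₁, htr₁, htr₁]) ?_
      rw [← htr₂, ← htr₂, act_mul]
      exact act_congr e a (by rw [htr₁]) rfl (htr₂ ν χ')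
    · have h1 : tr ν χ = ν := (key ν χ).trans (RingHom.ext hfix)
      have h2 := htr₂ ν χ
      rw [h1] at h2
      refine gpt_injective e (Spec.map (CommRingCat.ofHom (ν.comp ιA)) ≫ y)
        ((hfree _ _ _ (Over.OverMorphism.ext h2 : lift _ (Over.homMk _ (hxA ν) :
          Over.mk ((Spec.map (CommRingCat.ofHom (ν.comp ιA)) ≫ y) ≫ u₀) ⟶ X) ≫ a.act = Over.homMk _ (hxA ν))).trans
          (gpt_one e _).symm)
  -- the group times `X` over the chart
  let B := MonoidAlgebra Γ(Y, ⊤) (Multiplicative M)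
  let s₁ : Γ(Y, ⊤) →+* MonoidAlgebra Γ(Y, ⊤) (Multiplicative M) := MonoidAlgebra.singleOneRingHom
  let gu := gpt e (Spec.map (CommRingCat.ofHom (s₁.comp ιA)) ≫ y) (MonoidAlgebra.of Γ(Y, ⊤) (Multiplicative M))
  let xu : Over.mk ((Spec.map (CommRingCat.ofHom (s₁.comp ιA)) ≫ y) ≫ u₀) ⟶ X :=
    Over.homMk (Spec.map (CommRingCat.ofHom s₁) ≫ xA) (hxA s₁)
  let τ := (lift gu xu).left
  have hτ₁ : τ ≫ pullback.fst G.hom X.hom = gu.left := congrArg (fun m => m.left) (lift_fst gu xu)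
  have hτ₂ : τ ≫ pullback.snd G.hom X.hom = Spec.map (CommRingCat.ofHom s₁) ≫ xA :=
    congrArg (fun m => m.left) (lift_snd gu xu)
  have hG' : IsPullback gu.left (Spec.map (CommRingCat.ofHom s₁)) G.hom (xA ≫ X.hom) := by
    have hbase : (Spec.map (CommRingCat.ofHom ιA) ≫ y) ≫ u₀ = xA ≫ X.hom := by
      rw [← hι]; simp only [xA, Category.assoc, pullback.condition]
    obtain ⟨θ, hθ, hθf, hθs⟩ := exists_chart_iso e (R := Γ(Y, ⊤)) (Spec.map (CommRingCat.ofHom ιA) ≫ y)
    have aux : ∀ (z z' : Spec (CommRingCat.of B) ⟶ U), z = z' →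
        (gpt e z (MonoidAlgebra.of Γ(Y, ⊤) (Multiplicative M))).left =
          (gpt e z' (MonoidAlgebra.of Γ(Y, ⊤) (Multiplicative M))).left := by
      rintro z _ rfl; rfl
    have h := (IsPullback.of_hasPullback G.hom ((Spec.map (CommRingCat.ofHom ιA) ≫ y) ≫ u₀)).of_iso
      (asIso θ).symm (Iso.refl _) (Iso.refl _) (Iso.refl _)
      (fst' := gu.left) (snd' := Spec.map (CommRingCat.ofHom s₁)) (f' := G.hom) (g' := xA ≫ X.hom)
      (by
        simp only [Iso.refl_hom, Category.comp_id, Iso.symm_hom, asIso_inv, IsIso.eq_inv_comp]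
        rw [hθf]
        exact aux _ _ (specMap_comp_assoc ιA s₁ y))
      (by simp only [Iso.refl_hom, Category.comp_id, Iso.symm_hom, asIso_inv, IsIso.eq_inv_comp]; exact hθs)
      (by simp) (by simp [hbase])
    exact h
  have hY : IsPullback xA (Spec.map (CommRingCat.ofHom ιA)) X.hom (y ≫ u₀) :=
    (IsPullback.of_hasPullback X.hom (y ≫ u₀)).of_iso Y.isoSpec (Iso.refl _) (Iso.refl _) (Iso.refl _)
      (by simp [xA, w, Y]) (by simp [← hι, w, Y]) (by simp) (by simp)
  have htopsq : IsPullback τ (Spec.map (CommRingCat.ofHom s₁)) (pullback.snd G.hom X.hom) xA :=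
    IsPullback.of_right (hτ₁.symm ▸ hG') hτ₂ (IsPullback.of_hasPullback G.hom X.hom)
  have houter : IsPullback τ (Spec.map (CommRingCat.ofHom s₁) ≫ Spec.map (CommRingCat.ofHom ιA))
      (pullback.snd G.hom X.hom ≫ X.hom) (y ≫ u₀) := htopsq.paste_vert hY
  have hGX : (lift a.act (snd G X)).left ≫ (X ⊗ X).hom = pullback.snd G.hom X.hom ≫ X.hom :=
    (Over.w _).trans (Over.w (snd G X)).symm
  rw [← hGX] at houter
  let Z := pullback (X ⊗ X).hom (y ≫ u₀)
  let j : Spec (CommRingCat.of B) ⟶ Z := pullback.lift (τ ≫ (lift a.act (snd G X)).left)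
    (Spec.map (CommRingCat.ofHom s₁) ≫ Spec.map (CommRingCat.ofHom ιA)) (by rw [Category.assoc]; exact houter.w)
  have hj₁ : j ≫ pullback.fst _ _ = τ ≫ (lift a.act (snd G X)).left := pullback.lift_fst _ _ _
  have hj₂ : j ≫ pullback.snd _ _ =
      Spec.map (CommRingCat.ofHom s₁) ≫ Spec.map (CommRingCat.ofHom ιA) := pullback.lift_snd _ _ _
  have hsq : IsPullback τ j (lift a.act (snd G X)).left (pullback.fst (X ⊗ X).hom (y ≫ u₀)) :=
    IsPullback.of_bot (hj₂.symm ▸ houter) hj₁.symm (IsPullback.of_hasPullback _ _)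
  -- the ring map of the graph is surjective
  suffices hjc : IsClosedImmersion j by
    rw [← hsq.isoPullback_inv_snd]; infer_instance
  have : IsAffineHom (pullback.fst X.hom X.hom) := MorphismProperty.pullback_fst _ _ inferInstance
  have : IsAffineHom (X ⊗ X).hom := by
    change IsAffineHom (pullback.fst X.hom X.hom ≫ X.hom); infer_instance
  have hZaff : IsAffine Z := isAffine_of_isAffineHom (pullback.snd (X ⊗ X).hom (y ≫ u₀))
  obtain ⟨ψ, hψ⟩ := Spec.map_surjective (j ≫ Z.isoSpec.hom)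
  have hrange : ∀ (pr : X ⊗ X ⟶ X) (ν : Γ(Y, ⊤) →+* MonoidAlgebra Γ(Y, ⊤) (Multiplicative M)),
      ν.comp ιA = s₁.comp ιA →
      τ ≫ (lift a.act (snd G X) ≫ pr).left = Spec.map (CommRingCat.ofHom ν) ≫ xA →
      ∀ b, ν b ∈ ψ.hom.range := by
    intro pr ν hνι hν b
    let π : Z ⟶ Y := pullback.lift (pullback.fst _ _ ≫ pr.left) (pullback.snd _ _)
      (by rw [Category.assoc, Over.w pr, pullback.condition])
    obtain ⟨q, hq⟩ := Spec.map_surjective (Z.isoSpec.inv ≫ π ≫ Y.isoSpec.hom)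
    have h1 : Spec.map (q ≫ ψ) ≫ w = Spec.map (CommRingCat.ofHom ν) ≫ w := by
      have h0 : Spec.map (q ≫ ψ) ≫ w = j ≫ π := by
        rw [Spec.map_comp, hψ, hq]; simp [w]
      rw [h0]
      refine pullback.hom_ext ?_ ?_
      · rw [Category.assoc, Category.assoc, pullback.lift_fst, ← Category.assoc j, hj₁]
        exact (Category.assoc _ _ _).trans hν
      · rw [Category.assoc, Category.assoc, pullback.lift_snd, hj₂, hι, ← specMap_comp, ← specMap_comp, hνι]
    have h2 : q ≫ ψ = CommRingCat.ofHom ν := Spec.map_injective ((cancel_mono w).mp h1)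
    exact ⟨q.hom b, congrArg (fun z : _ ⟶ CommRingCat.of B => z.hom b) h2⟩
  have hsurj : Function.Surjective ψ.hom := by
    rw [← RingHom.range_eq_top]
    refine htop _ (hrange (snd X X) s₁ rfl ?_) (hrange (fst X X) α (htr₁ _ _) ?_)
    · rw [lift_snd]; exact hτ₂
    · rw [lift_fst]; exact htr₂ _ _
  have : IsClosedImmersion (Spec.map ψ) := IsClosedImmersion.spec_of_surjective ψ hsurj
  rw [show j = Spec.map ψ ≫ Z.isoSpec.inv by rw [hψ, Category.assoc, Iso.hom_inv_id, Category.comp_id]]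
  infer_instance

end Groth.Agent.H21Diag
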