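import Groth.Agent.H21Diag.CoactionFam

/-!
A coaction without fixed points generates the monoid algebra.
-/

universe u

namespace Groth.Agent.H21Diag

open MonoidAlgebra

variable {A : Type u} [CommRing A] {N : Type} [CommGroup N]

/-- evaluation of the monoid algebra at a point and a character -/
noncomputable def evPt {D : Type u} [CommRing D] (γ : A →+* D) (χ : N →* D) : MonoidAlgebra A N →+* D :=
  liftNCRingHom γ χ fun _ _ => Commute.all _ _

theorem evPt_single {D : Type u} [CommRing D] (γ : A →+* D) (χ : N →* D) (n : N) (a : A) :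
    evPt γ χ (single n a) = γ a * χ n := liftNC_single _ _ _ _

theorem evPt_eq_sum {D : Type u} [CommRing D] (γ : A →+* D) (χ : N →* D) (w : MonoidAlgebra A N) :
    evPt γ χ w = w.coeff.sum fun n a => γ a * χ n := by
  induction w using MonoidAlgebra.induction_linear with
  | zero => simp
  | add f g hf hg =>
    rw [map_add, hf, hg, coeff_add, Finsupp.sum_add_index' (fun _ => by simp)
      (fun _ _ _ => by rw [map_add, add_mul])]
  | single n a => rw [evPt_single, coeff_single, Finsupp.sum_single_index (by simp)]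

variable (α : A →+* MonoidAlgebra A N)

/-- an ideal containing with an element all its components -/
def Homog (P : Ideal A) : Prop := ∀ p ∈ P, ∀ n, (α p).coeff n ∈ P

theorem coeff_hom_mul {a : A} {l : N} (ha : α a = single l a) (c : A) (n : N) :
    (α (c * a)).coeff n = (α c).coeff (n * l⁻¹) * a := by
  rw [map_mul, ha]
  exact coeff_mul_single_eq_coeff_mul (n * l⁻¹) fun z _ => eq_mul_inv_iff_mul_eq.symm

theorem homog_span {s : Set A} (hs : ∀ a ∈ s, ∃ l, α a = single l a) : Homog α (Ideal.span s) := by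
  intro p hp
  suffices h : ∀ c : A, ∀ n, (α (c * p)).coeff n ∈ Ideal.span s by
    intro n; simpa using h 1 n
  induction hp using Submodule.span_induction with
  | mem a ha =>
    intro c n
    obtain ⟨l, hl⟩ := hs a ha
    rw [coeff_hom_mul α hl]
    exact Ideal.mul_mem_left _ _ (Ideal.subset_span ha)
  | zero => intro c n; simp
  | add y z _ _ hy hz =>
    intro c n
    rw [mul_add, map_add, coeff_add, Finsupp.add_apply]
    exact add_mem (hy c n) (hz c n)
  | smul e y _ hy =>
    intro c n
    rw [smul_eq_mul, ← mul_assoc]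
    exact hy _ n

theorem homog_sup_span {P : Ideal A} (hP : Homog α P) {a : A} {l : N} (ha : α a = single l a) :
    Homog α (P ⊔ Ideal.span {a}) := by
  intro p hp n
  obtain ⟨x, hx, y, hy, rfl⟩ := Submodule.mem_sup.mp hp
  rw [map_add, coeff_add, Finsupp.add_apply]
  exact add_mem (Ideal.mem_sup_left (hP x hx n))
    (Ideal.mem_sup_right (homog_span α (fun b hb => ⟨l, by rw [Set.mem_singleton_iff.mp hb]; exact ha⟩) y hy n))

theorem homog_sSup {c : Set (Ideal A)} (hc : IsChain (· ≤ ·) c) (hne : c.Nonempty)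
    (h : ∀ P ∈ c, Homog α P) : Homog α (sSup c) := by
  intro p hp n
  obtain ⟨P, hPc, hpP⟩ := (Submodule.mem_sSup_of_directed hne hc.directedOn).mp hp
  exact (le_sSup hPc : P ≤ sSup c) (h P hPc p hpP n)

/-- If only the unit fixes a point, every graded piece generates the unit ideal. -/
theorem span_piece_eq_top (hco : ∀ a n, α ((α a).coeff n) = single n ((α a).coeff n))
    (hcounit : ∀ a, evPt (RingHom.id A) 1 (α a) = a)
    (hfree : ∀ (D : Type u) [CommRing D] (γ : A →+* D) (χ : N →* D),
      (∀ a, evPt γ χ (α a) = γ a) → χ = 1) (m : N) :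
    Ideal.span {a | α a = single m a} = ⊤ := by
  classical
  by_contra hne
  set J := Ideal.span {a | α a = single m a}
  obtain ⟨P, hJP, hmax⟩ := zorn_le_nonempty₀ {P : Ideal A | Homog α P ∧ J ≤ P ∧ (1 : A) ∉ P}
    (fun c hcs hc y hy => ⟨sSup c, ⟨homog_sSup α hc ⟨y, hy⟩ (fun P hP => (hcs hP).1),
      (hcs hy).2.1.trans (le_sSup hy), fun h1 => by
        obtain ⟨P, hPc, hP1⟩ := (Submodule.mem_sSup_of_directed ⟨y, hy⟩ hc.directedOn).mp h1
        exact (hcs hPc).2.2 hP1⟩, fun z hz => le_sSup hz⟩) J
    ⟨homog_span α (fun a ha => ⟨m, ha⟩), le_rfl, fun h => hne ((Ideal.eq_top_iff_one _).mpr h)⟩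
  obtain ⟨hPh, -, hP1⟩ := hmax.prop
  obtain ⟨q, hq, hPq⟩ := Ideal.exists_le_maximal P (fun h => hP1 (h ▸ Submodule.mem_top))
  have hα1 : α 1 = single (1 : N) (1 : A) := by rw [map_one, one_def]
  -- homogeneous elements outside `q` are invertible up to `P`
  have hinv : ∀ a l, α a = single l a → a ∉ q → ∃ b, α b = single l⁻¹ b ∧ b ∉ q := by
    intro a l ha haq
    have h1 : (1 : A) ∈ P ⊔ Ideal.span {a} := by
      by_contra h1
      have := hmax.le_of_ge (y := P ⊔ Ideal.span {a})
        ⟨homog_sup_span α hPh ha, hJP.trans le_sup_left, h1⟩ le_sup_left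
      exact haq (hPq (this (Ideal.mem_sup_right (Ideal.mem_span_singleton_self a))))
    obtain ⟨p, hp, y, hy, hpy⟩ := Submodule.mem_sup.mp h1
    obtain ⟨c, rfl⟩ := Ideal.mem_span_singleton'.mp hy
    refine ⟨(α c).coeff l⁻¹, hco c _, fun hcq => hq.ne_top ((Ideal.eq_top_iff_one _).mpr ?_)⟩
    have h2 := congrArg (fun z => (α z).coeff 1) hpy
    simp only [map_add, coeff_add, Finsupp.add_apply, coeff_hom_mul α ha, one_mul, hα1, coeff_single,
      Finsupp.single_eq_same] at h2
    rw [← h2]
    exact add_mem (hPq (hPh p hp 1)) (Ideal.mul_mem_right _ _ hcq)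
  let L : Subgroup N :=
    { carrier := {l | ∃ a, α a = single l a ∧ a ∉ q}
      one_mem' := ⟨1, hα1, fun h => hq.ne_top ((Ideal.eq_top_iff_one _).mpr h)⟩
      mul_mem' := by
        rintro l l' ⟨a, ha, haq⟩ ⟨b, hb, hbq⟩
        exact ⟨a * b, by rw [map_mul, ha, hb, single_mul_single],
          fun h => (hq.isPrime.mem_or_mem h).elim haq hbq⟩
      inv_mem' := by
        rintro l ⟨a, ha, haq⟩
        exact hinv a l ha haq }
  let π : N →* MonoidAlgebra (A ⧸ q) (N ⧸ L) := (of (A ⧸ q) (N ⧸ L)).comp (QuotientGroup.mk' L)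
  let γ : A →+* MonoidAlgebra (A ⧸ q) (N ⧸ L) :=
    (singleOneRingHom : _ →+* MonoidAlgebra (A ⧸ q) (N ⧸ L)).comp (Ideal.Quotient.mk q)
  have hπ : π = 1 := by
    refine hfree _ γ π fun a => ?_
    rw [evPt_eq_sum, ← congrArg γ (hcounit a), evPt_eq_sum, map_finsuppSum]
    refine Finsupp.sum_congr fun n _ => ?_
    rw [RingHom.id_apply, MonoidHom.one_apply, mul_one]
    by_cases hn : n ∈ L
    · have : π n = 1 := by
        change of (A ⧸ q) (N ⧸ L) (QuotientGroup.mk n) = 1
        rw [(QuotientGroup.eq_one_iff n).mpr hn, map_one]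
      rw [this, mul_one]
    · have h0 : (α a).coeff n ∈ q := by
        by_contra h
        exact hn ⟨_, hco a n, h⟩
      have : γ ((α a).coeff n) = 0 := by
        change single (1 : N ⧸ L) (Ideal.Quotient.mk q ((α a).coeff n)) = 0
        rw [Ideal.Quotient.eq_zero_iff_mem.mpr h0, single_zero]
      rw [this, zero_mul]
  have : Nontrivial (A ⧸ q) := Ideal.Quotient.nontrivial_iff.mpr hq.ne_top
  have hmL : m ∈ L := by
    refine (QuotientGroup.eq_one_iff m).mp (of_injective (R := A ⧸ q) ?_)
    rw [map_one]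
    exact DFunLike.congr_fun hπ m
  obtain ⟨a, ha, haq⟩ := hmL
  exact haq (hPq (hJP (Ideal.subset_span ha)))

/-- A coaction without fixed points, given by a multiplicative family, generates with the scalars. -/
theorem subring_eq_top (hcounit : ∀ a, evPt (RingHom.id A) 1 (α a) = a)
    (hmul : ∀ (D : Type u) [CommRing D] (γ : A →+* D) (χ χ' : N →* D) (a : A),
      evPt γ (χ * χ') (α a) = evPt ((evPt γ χ').comp α) χ (α a))
    (hfree : ∀ (D : Type u) [CommRing D] (γ : A →+* D) (χ : N →* D),
      (∀ a, evPt γ χ (α a) = γ a) → χ = 1)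
    (T : Subring (MonoidAlgebra A N)) (h1 : ∀ a, single 1 a ∈ T) (h2 : ∀ a, α a ∈ T) : T = ⊤ := by
  classical
  have hco : ∀ a n, α ((α a).coeff n) = single n ((α a).coeff n) := by
    intro a n
    refine MonoidAlgebra.ext (Finsupp.ext fun k => ?_)
    let i₂ : MonoidAlgebra A N →+* MonoidAlgebra A (N × N) := mapDomainRingHom A (MonoidHom.inr N N)
    let d : MonoidAlgebra A N →+* MonoidAlgebra A (N × N) :=
      mapDomainRingHom A ((MonoidHom.id N).prod (MonoidHom.id N))
    let χ₁ : N →* MonoidAlgebra A (N × N) := (of A (N × N)).comp (MonoidHom.inl N N)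
    let χ₂ : N →* MonoidAlgebra A (N × N) := (of A (N × N)).comp (MonoidHom.inr N N)
    let γ₀ : A →+* MonoidAlgebra A (N × N) := singleOneRingHom
    have hi₂ : evPt γ₀ χ₂ = i₂ := MonoidAlgebra.ringHom_ext
      (fun r => by simp [evPt_single, i₂, γ₀, χ₂, single_mul_single, ← Prod.one_eq_mk])
      (fun g => by simp [evPt_single, i₂, γ₀, χ₂, single_mul_single])
    have hd : evPt γ₀ (χ₁ * χ₂) = d := MonoidAlgebra.ringHom_ext
      (fun r => by simp [evPt_single, d, γ₀, χ₁, χ₂, single_mul_single, ← Prod.one_eq_mk])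
      (fun g => by simp [evPt_single, d, γ₀, χ₁, χ₂, single_mul_single])
    have hθ := hmul _ γ₀ χ₁ χ₂ a
    rw [hi₂, hd] at hθ
    have h3 := coeff_twoStep α (α a) n k
    rw [← h3]
    change (evPt (i₂.comp α) χ₁ (α a)).coeff (n, k) = _
    rw [← hθ, coeff_single]
    change Finsupp.mapDomain ((MonoidHom.id N).prod (MonoidHom.id N)) (α a).coeff (n, k) = _
    rcases eq_or_ne n k with rfl | hnk
    · rw [Finsupp.single_eq_same]
      exact Finsupp.mapDomain_apply (f := ((MonoidHom.id N).prod (MonoidHom.id N)))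
        (fun x y hxy => congrArg Prod.fst hxy) (α a).coeff n
    · rw [Finsupp.single_eq_of_ne hnk.symm, Finsupp.mapDomain_of_notMem_range]
      rintro ⟨j, hj⟩
      exact hnk ((congrArg Prod.fst hj).symm.trans (congrArg Prod.snd hj))
  refine eq_top_iff.mpr ?_
  rintro w -
  induction w using MonoidAlgebra.induction_linear with
  | zero => exact zero_mem _
  | add f g hf hg => exact add_mem (hf) hg
  | single n b =>
    have hb : b ∈ Ideal.span {a | α a = single n a} :=
      (span_piece_eq_top α hco hcounit hfree n).symm ▸ Submodule.mem_top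
    induction hb using Submodule.span_induction with
    | mem a ha => exact (show α a = single n a from ha) ▸ h2 a
    | zero => rw [single_zero]; exact zero_mem _
    | add x y _ _ hx hy => rw [single_add]; exact add_mem hx hy
    | smul c x _ hx =>
      rw [smul_eq_mul, show single n (c * x) = single (1 : N) c * single n x by
        rw [single_mul_single, _root_.one_mul]]
      exact mul_mem (h1 c) hx

end Groth.Agent.H21Diag
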