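import Groth.Agent.H21Diag.Points
import Mathlib.RingTheory.Bialgebra.SymmetricAlgebra

/-!
Points of the additive group over affine schemes.
-/

open CategoryTheory MonoidalCategory CartesianMonoidalCategory MonObj GrpObj AlgebraicGeometry
open CategoryTheory.Limits

universe u

namespace Groth.Agent.H21Diag

variable {S : Scheme.{u}} {B : Type u} [CommRing B] {y : Spec (CommRingCat.of B) ⟶ S}

/-- the coordinate of a point of the additive group -/
noncomputable def gval (g : Over.mk y ⟶ Red.Ga S) : B :=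
  (Spec.preimage (g.left ≫ pullback.fst _ _)).hom
    (SymmetricAlgebra.ι (ULift.{u} ℤ) (ULift.{u} ℤ) (ULift.up 1))

theorem gval_injective {g g' : Over.mk y ⟶ Red.Ga S} (h : gval g = gval g') : g = g' := by
  refine bc_ext ?_
  refine ((Spec.map_preimage _).symm.trans ?_).trans (Spec.map_preimage _)
  refine congrArg Spec.map ?_
  ext1
  letI := algZ B
  letI : Module (ULift.{u} ℤ) B := Algebra.toModule
  let F (φ : SymmetricAlgebra (ULift.{u} ℤ) (ULift.{u} ℤ) →+* B) :
      SymmetricAlgebra (ULift.{u} ℤ) (ULift.{u} ℤ) →ₐ[ULift.{u} ℤ] B :=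
    { φ with
      commutes' := fun r => by
        have := RingHom.ext_int ((φ.comp (algebraMap (ULift.{u} ℤ) _)).comp ULift.ringEquiv.symm.toRingHom)
          ((algebraMap (ULift.{u} ℤ) B).comp ULift.ringEquiv.symm.toRingHom)
        exact RingHom.congr_fun this r.down }
  have := SymmetricAlgebra.algHom_ext (F := F (Spec.preimage (g.left ≫ pullback.fst _ _)).hom)
    (G := F (Spec.preimage (g'.left ≫ pullback.fst _ _)).hom) (LinearMap.ext_ring h)
  exact RingHom.ext fun x => AlgHom.congr_fun this x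

theorem gval_comp {B' : Type u} [CommRing B'] (φ : B →+* B') {y' : Spec (CommRingCat.of B') ⟶ S}
    (g : Over.mk y ⟶ Red.Ga S) (g' : Over.mk y' ⟶ Red.Ga S)
    (h : g'.left = Spec.map (CommRingCat.ofHom φ) ≫ g.left) : gval g' = φ (gval g) := by
  have hp : Spec.preimage (g'.left ≫ pullback.fst _ _) =
      Spec.preimage (g.left ≫ pullback.fst _ _) ≫ CommRingCat.ofHom φ := by
    refine Spec.map_injective ?_
    rw [Spec.map_comp, Spec.map_preimage, Spec.map_preimage, h]
    exact Category.assoc _ _ _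
  rw [gval, hp]
  rfl

set_option maxHeartbeats 400000 in
theorem gval_mul (g g' : Over.mk y ⟶ Red.Ga S) : gval (g * g') = gval g + gval g' := by
  letI := algZ B
  let t : S ⟶ Spec (CommRingCat.of (ULift.{u} ℤ)) := Limits.IsTerminal.from specULiftZIsTerminal S
  let e : (Spec (CommRingCat.of B)).asOver (Spec (CommRingCat.of (ULift.{u} ℤ))) ⟶
      (Over.map t).obj (Over.mk y) :=
    Over.homMk (𝟙 _) (specULiftZIsTerminal.hom_ext _ _)
  let L := fun p : Over.mk y ⟶ Red.Ga S =>
    (Spec.mapMulEquiv (R := ULift.{u} ℤ) (S := SymmetricAlgebra (ULift.{u} ℤ) (ULift.{u} ℤ)) (T := B)).symm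
      (e ≫ (bcEquiv t Red.GaZ (Over.mk y)).symm p)
  have hL : ∀ p, (L p).ofConv (SymmetricAlgebra.ι (ULift.{u} ℤ) (ULift.{u} ℤ) (ULift.up 1)) = gval p := by
    intro p
    have : (Spec.preimage (e ≫ (bcEquiv t Red.GaZ (Over.mk y)).symm p).left) =
        Spec.preimage (p.left ≫ pullback.fst _ _) :=
      congrArg Spec.preimage (Category.id_comp _)
    exact congrArg (fun q => q.hom (SymmetricAlgebra.ι (ULift.{u} ℤ) (ULift.{u} ℤ) (ULift.up 1))) this
  have hmul : L (g * g') = L g * L g' := by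
    have h1 : (bcEquiv t Red.GaZ (Over.mk y)).symm (g * g') =
        (bcEquiv t Red.GaZ (Over.mk y)).symm g * (bcEquiv t Red.GaZ (Over.mk y)).symm g' :=
      bcEquiv_symm_mul t Red.GaZ (Over.mk y) g g'
    change Spec.mapMulEquiv.symm _ = Spec.mapMulEquiv.symm _ * Spec.mapMulEquiv.symm _
    rw [h1, MonObj.comp_mul]
    exact map_mul _ _ _
  rw [← hL, ← hL, ← hL, hmul, AlgHom.convMul_apply]
  simp [SymmetricAlgebra.comul_ι]

end Groth.Agent.H21Diag
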