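import Groth.Agent.H21Diag.Iso
import Groth.Prelude.Def_AutFam

/-!
Families of homomorphisms between diagonalisable groups are locally given by maps of character groups.
-/

open CategoryTheory MonoidalCategory CartesianMonoidalCategory MonObj GrpObj AlgebraicGeometry
open CategoryTheory.Limits

universe u

set_option backward.isDefEq.respectTransparency false

namespace Groth.Agent.H21Diag

/-- multiplicative natural maps of characters are locally given by maps of the groups -/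
theorem exists_local_map_of_nat {B : Type u} [CommRing B] {M M' : Type} [AddCommGroup M] [AddCommGroup M']
    [AddGroup.FG M'] (Θ : ∀ (D : Type u) [CommRing D], (B →+* D) → (Multiplicative M →* D) → (Multiplicative M' →* D))
    (hnat : ∀ {D D' : Type u} [CommRing D] [CommRing D'] (ψ : D →+* D') (g : B →+* D) (χ : Multiplicative M →* D),
      Θ D' (ψ.comp g) (ψ.toMonoidHom.comp χ) = ψ.toMonoidHom.comp (Θ D g χ))
    (hmul : ∀ (D : Type u) [CommRing D] (g : B →+* D) (χ χ' : Multiplicative M →* D),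
      Θ D g (χ * χ') = Θ D g χ * Θ D g χ')
    (hΘone : ∀ (D : Type u) [CommRing D] (g : B →+* D), Θ D g 1 = 1) (p : Ideal B) (hp : p.IsPrime) :
    ∃ r : B, r ∉ p ∧ ∃ φ : Multiplicative M' →* Multiplicative M, ∀ (D : Type u) [CommRing D] (g : B →+* D),
      IsUnit (g r) → ∀ χ : Multiplicative M →* D, Θ D g χ = χ.comp φ := by
  classical
  let N := Multiplicative M
  let s₁ : B →+* MonoidAlgebra B N := MonoidAlgebra.singleOneRingHom
  let θ : Multiplicative M' →* MonoidAlgebra B N := Θ _ s₁ (MonoidAlgebra.of B N)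
  let s₂ : B →+* MonoidAlgebra B (N × N) := MonoidAlgebra.singleOneRingHom
  let inc₁ := MonoidAlgebra.mapDomainRingHom B (MonoidHom.inl N N)
  let inc₂ := MonoidAlgebra.mapDomainRingHom B (MonoidHom.inr N N)
  let d := MonoidAlgebra.mapDomainRingHom B ((MonoidHom.id N).prod (MonoidHom.id N))
  have hs : ∀ (F : N →* N × N), (MonoidAlgebra.mapDomainRingHom B F).comp s₁ = s₂ := fun F =>
    RingHom.ext fun b => by simp [s₁, s₂]
  have hgl : ∀ m, d (θ m) = inc₁ (θ m) * inc₂ (θ m) := by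
    have hχ : d.toMonoidHom.comp (MonoidAlgebra.of B N) =
        (inc₁.toMonoidHom.comp (MonoidAlgebra.of B N)) * (inc₂.toMonoidHom.comp (MonoidAlgebra.of B N)) := by
      refine MonoidHom.ext fun n => ?_
      change d (MonoidAlgebra.single n 1) = inc₁ (MonoidAlgebra.single n 1) * inc₂ (MonoidAlgebra.single n 1)
      rw [show d (MonoidAlgebra.single n 1) = MonoidAlgebra.single (n, n) 1 from MonoidAlgebra.mapDomain_single,
        show inc₁ (MonoidAlgebra.single n 1) = MonoidAlgebra.single (n, (1 : N)) 1 from MonoidAlgebra.mapDomain_single,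
        show inc₂ (MonoidAlgebra.single n 1) = MonoidAlgebra.single ((1 : N), n) 1 from MonoidAlgebra.mapDomain_single]
      refine Eq.trans ?_ (MonoidAlgebra.single_mul_single _ _ _ _).symm
      rw [Prod.mk_mul_mk, _root_.one_mul, _root_.mul_one, _root_.one_mul]
    intro m
    have h1 : Θ _ s₂ (d.toMonoidHom.comp (MonoidAlgebra.of B N)) = d.toMonoidHom.comp θ := by
      have := hnat d s₁ (MonoidAlgebra.of B N); rwa [hs] at this
    have h2 : Θ _ s₂ (inc₁.toMonoidHom.comp (MonoidAlgebra.of B N)) = inc₁.toMonoidHom.comp θ := by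
      have := hnat inc₁ s₁ (MonoidAlgebra.of B N); rwa [hs] at this
    have h3 : Θ _ s₂ (inc₂.toMonoidHom.comp (MonoidAlgebra.of B N)) = inc₂.toMonoidHom.comp θ := by
      have := hnat inc₂ s₁ (MonoidAlgebra.of B N); rwa [hs] at this
    rw [hχ, hmul, h2, h3] at h1
    exact (DFunLike.congr_fun h1 m).symm
  have hev : ∀ (D : Type u) [CommRing D] (g : B →+* D) (χ : N →* D) (m : Multiplicative M'),
      MonoidAlgebra.liftNCRingHom g χ (fun _ _ => Commute.all _ _) (θ m) = Θ D g χ m := by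
    intro D _ g χ m
    let ev := MonoidAlgebra.liftNCRingHom g χ fun _ _ => Commute.all _ _
    have h1 := hnat ev s₁ (MonoidAlgebra.of B N)
    rw [show ev.comp s₁ = g from RingHom.ext fun b => by simp [ev, s₁],
      show ev.toMonoidHom.comp (MonoidAlgebra.of B N) = χ from MonoidHom.ext fun n => by simp [ev]] at h1
    exact (DFunLike.congr_fun h1 m).symm
  have hone : ∀ m, MonoidAlgebra.liftNCRingHom (RingHom.id B) (1 : N →* B) (fun _ _ => Commute.all _ _) (θ m) = 1 := by
    intro m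
    rw [hev, hΘone]; rfl
  have hfg : (⊤ : Submonoid (Multiplicative M')).FG := Monoid.fg_def.mp
    (have : AddMonoid.FG M' := AddGroup.fg_iff_addMonoid_fg.mp inferInstance; inferInstance)
  obtain ⟨r, hr, φ, hφ⟩ := exists_local_map hfg θ hgl hone p hp
  refine ⟨r, hr, φ, fun D _ g hu χ => MonoidHom.ext fun m => ?_⟩
  have h2 := congrArg (MonoidAlgebra.liftNCRingHom (RingHom.id D) χ fun _ _ => Commute.all _ _) (hφ D g hu m)
  rw [← hev]
  refine Eq.trans ?_ (h2.trans ((MonoidAlgebra.liftNC_single _ _ _ _).trans (_root_.one_mul _)))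
  rw [← RingHom.comp_apply]
  refine RingHom.congr_fun (MonoidAlgebra.ringHom_ext (fun b => ?_) fun n => ?_) (θ m)
  · simp
    rw [show MonoidAlgebra.mapRingHom N g (MonoidAlgebra.single 1 b) = MonoidAlgebra.single 1 (g b) by simp]
    change _ = MonoidAlgebra.liftNC _ _ (MonoidAlgebra.single 1 (g b))
    rw [MonoidAlgebra.liftNC_single]
    simp
  · rw [RingHom.comp_apply, show MonoidAlgebra.mapRingHom N g (MonoidAlgebra.single n 1) = MonoidAlgebra.single n 1 by simp]
    refine (MonoidAlgebra.liftNC_single _ _ _ _).trans (Eq.trans ?_ (MonoidAlgebra.liftNC_single _ _ _ _).symm)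
    simp
    rfl

variable {S U : Scheme.{u}} {u₀ : U ⟶ S} {G H : Over S} [GrpObj G] [GrpObj H] {M M' : Type} [AddCommGroup M]
  [AddCommGroup M'] (e : Grp.mk (Red.bc u₀ G) ≅ Grp.mk (Red.DS U M))
  (e' : Grp.mk (Red.bc u₀ H) ≅ Grp.mk (Red.DS U M'))

theorem gpt_comp' {G : Over S} [GrpObj G] {M : Type} [AddCommGroup M] (e : Grp.mk (Red.bc u₀ G) ≅ Grp.mk (Red.DS U M))
    {B D D' : Type u} [CommRing B] [CommRing D] [CommRing D'] (y : Spec (CommRingCat.of B) ⟶ U) (g : B →+* D)
    (f : D →+* D') (χ : Multiplicative M →* D) :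
    (gpt e (Spec.map (CommRingCat.ofHom (f.comp g)) ≫ y) (f.toMonoidHom.comp χ)).left =
      Spec.map (CommRingCat.ofHom f) ≫ (gpt e (Spec.map (CommRingCat.ofHom g) ≫ y) χ).left := by
  rw [← specMap_comp_assoc g f y]
  exact gpt_comp _ _ _ _

/-- the family is given by `φ` at the point `t` -/
def FamChar {T : Over S} (ψ : G ⊗ T ⟶ H) {B : Type u} [CommRing B] (y : Spec (CommRingCat.of B) ⟶ U)
    (t : Over.mk (y ≫ u₀) ⟶ T) (φ : Multiplicative M' →* Multiplicative M) : Prop :=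
  ∀ (D : Type u) [CommRing D] (g : B →+* D) (χ : Multiplicative M →* D),
    lift (gpt e (Spec.map (CommRingCat.ofHom g) ≫ y) χ)
      ((Over.homMk (Spec.map (CommRingCat.ofHom g)) (Category.assoc _ _ _).symm :
        Over.mk ((Spec.map (CommRingCat.ofHom g) ≫ y) ≫ u₀) ⟶ Over.mk (y ≫ u₀)) ≫ t) ≫ ψ =
      gpt e' (Spec.map (CommRingCat.ofHom g) ≫ y) (χ.comp φ)

/-- a family of homomorphisms is locally given by a map of character groups -/
theorem exists_famChar [AddGroup.FG M'] {T : Over S} (ψ : G ⊗ T ⟶ H) (hψ : AutFam.IsHomFamily G H ψ)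
    {B : Type u} [CommRing B] (y : Spec (CommRingCat.of B) ⟶ U) (t : Over.mk (y ≫ u₀) ⟶ T) (p : Ideal B)
    (hp : p.IsPrime) :
    ∃ r : B, r ∉ p ∧ ∃ φ : Multiplicative M' →* Multiplicative M, ∀ (D : Type u) [CommRing D] (g : B →+* D),
      IsUnit (g r) → ∀ χ : Multiplicative M →* D,
        lift (gpt e (Spec.map (CommRingCat.ofHom g) ≫ y) χ)
          ((Over.homMk (Spec.map (CommRingCat.ofHom g)) (Category.assoc _ _ _).symm :
            Over.mk ((Spec.map (CommRingCat.ofHom g) ≫ y) ≫ u₀) ⟶ Over.mk (y ≫ u₀)) ≫ t) ≫ ψ =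
          gpt e' (Spec.map (CommRingCat.ofHom g) ≫ y) (χ.comp φ) := by
  let τ : ∀ {D : Type u} [CommRing D] (g : B →+* D),
      Over.mk ((Spec.map (CommRingCat.ofHom g) ≫ y) ≫ u₀) ⟶ T := fun {D} _ g =>
    (Over.homMk (Spec.map (CommRingCat.ofHom g)) (Category.assoc _ _ _).symm :
      Over.mk ((Spec.map (CommRingCat.ofHom g) ≫ y) ≫ u₀) ⟶ Over.mk (y ≫ u₀)) ≫ t
  choose Θ hΘ using fun (D : Type u) (_ : CommRing D) (g : B →+* D) (χ : Multiplicative M →* D) =>
    gpt_surjective e' (Spec.map (CommRingCat.ofHom g) ≫ y)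
      (lift (gpt e (Spec.map (CommRingCat.ofHom g) ≫ y) χ) (τ g) ≫ ψ)
  have hnat : ∀ {D D' : Type u} [CommRing D] [CommRing D'] (f : D →+* D') (g : B →+* D)
      (χ : Multiplicative M →* D),
      Θ D' _ (f.comp g) (f.toMonoidHom.comp χ) = f.toMonoidHom.comp (Θ D _ g χ) := by
    intro D D' _ _ f g χ
    refine gpt_injective e' (Spec.map (CommRingCat.ofHom (f.comp g)) ≫ y) (Over.OverMorphism.ext ?_)
    rw [hΘ]
    let σ : Over.mk ((Spec.map (CommRingCat.ofHom (f.comp g)) ≫ y) ≫ u₀) ⟶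
        Over.mk ((Spec.map (CommRingCat.ofHom g) ≫ y) ≫ u₀) := Over.homMk (Spec.map (CommRingCat.ofHom f)) (by
      simp only [Over.mk_hom, Category.assoc, specMap_comp_assoc])
    have h1 : σ ≫ gpt e (Spec.map (CommRingCat.ofHom g) ≫ y) χ =
        gpt e (Spec.map (CommRingCat.ofHom (f.comp g)) ≫ y) (f.toMonoidHom.comp χ) := by
      exact Over.OverMorphism.ext (gpt_comp' e y g f χ).symm
    have h2 : σ ≫ τ g = τ (f.comp g) := Over.OverMorphism.ext (by
      simp only [τ, σ, Over.comp_left, Over.homMk_left, specMap_comp, Category.assoc])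
    refine (congrArg (fun m => m.left) (show _ = σ ≫ lift (gpt e _ χ) (τ g) ≫ ψ by
      rw [← Category.assoc, comp_lift, h1, h2])).trans ?_
    rw [← hΘ]
    exact (gpt_comp' e' y g f (Θ D _ g χ)).symm
  have hmul : ∀ (D : Type u) [CommRing D] (g : B →+* D) (χ χ' : Multiplicative M →* D),
      Θ D _ g (χ * χ') = Θ D _ g χ * Θ D _ g χ' := fun D _ g χ χ' => gpt_injective e' _ (by
    rw [hΘ, gpt_mul, gpt_mul, hψ, hΘ, hΘ])
  have hone : ∀ (D : Type u) [CommRing D] (g : B →+* D), Θ D _ g 1 = 1 := fun D _ g => by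
    refine gpt_injective e' (Spec.map (CommRingCat.ofHom g) ≫ y) ?_
    rw [gpt_one]
    have h1 := congrArg (gpt e' (Spec.map (CommRingCat.ofHom g) ≫ y)) (hmul D g 1 1)
    rw [_root_.mul_one, gpt_mul] at h1
    exact left_eq_mul.mp h1
  obtain ⟨r, hr, φ, hφ⟩ := exists_local_map_of_nat (fun D _ => Θ D inferInstance) hnat hmul hone p hp
  refine ⟨r, hr, φ, fun D _ g hu χ => ?_⟩
  rw [← hφ D g hu χ]
  exact (hΘ D _ g χ).symm

variable {e e'}

theorem FamChar.comp {T : Over S} {ψ : G ⊗ T ⟶ H} {B : Type u} [CommRing B] {y : Spec (CommRingCat.of B) ⟶ U}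
    {t : Over.mk (y ≫ u₀) ⟶ T} {φ : Multiplicative M' →* Multiplicative M} (h : FamChar e e' ψ y t φ)
    {C : Type u} [CommRing C] (k : B →+* C) :
    FamChar e e' ψ (Spec.map (CommRingCat.ofHom k) ≫ y)
      ((Over.homMk (Spec.map (CommRingCat.ofHom k)) (Category.assoc _ _ _).symm :
        Over.mk ((Spec.map (CommRingCat.ofHom k) ≫ y) ≫ u₀) ⟶ Over.mk (y ≫ u₀)) ≫ t) φ := by
  intro D _ g χ
  have h1 := h D (g.comp k) χ
  have key : ∀ (z : Spec (CommRingCat.of D) ⟶ U) (hz : z = Spec.map (CommRingCat.ofHom (g.comp k)) ≫ y)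
      (a : Over.mk (z ≫ u₀) ⟶ T),
      a.left = Spec.map (CommRingCat.ofHom (g.comp k)) ≫ t.left →
      lift (gpt e z χ) a ≫ ψ = gpt e' z (χ.comp φ) := by
    rintro z rfl a ha
    refine Eq.trans ?_ h1
    congr 2
    exact Over.OverMorphism.ext ha
  refine key _ (specMap_comp_assoc k g y) _ ?_
  simp only [Over.comp_left, Over.homMk_left, specMap_comp, Category.assoc]

/-- over a nonzero ring the map of character groups is unique -/
theorem FamChar.unique {T : Over S} {ψ : G ⊗ T ⟶ H} {B : Type u} [CommRing B] [Nontrivial B]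
    {y : Spec (CommRingCat.of B) ⟶ U} {t : Over.mk (y ≫ u₀) ⟶ T} {φ φ' : Multiplicative M' →* Multiplicative M}
    (h : FamChar e e' ψ y t φ) (h' : FamChar e e' ψ y t φ') : φ = φ' := by
  have h1 := gpt_injective e' _ ((h _ (MonoidAlgebra.singleOneRingHom : B →+* MonoidAlgebra B (Multiplicative M))
    (MonoidAlgebra.of B _)).symm.trans (h' _ _ _))
  exact MonoidHom.ext fun m => MonoidAlgebra.of_injective (DFunLike.congr_fun h1 m)

/-- a family over an affine scheme is determined by its map of character groups -/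
theorem FamChar.ext {B : Type u} [CommRing B] {y : Spec (CommRingCat.of B) ⟶ U} [IsAffineHom G.hom]
    {ψ ψ' : G ⊗ Over.mk (y ≫ u₀) ⟶ H} {φ : Multiplicative M' →* Multiplicative M}
    (h : FamChar e e' ψ y (𝟙 _) φ) (h' : FamChar e e' ψ' y (𝟙 _) φ) : ψ = ψ' := by
  obtain ⟨θ, hθ, hθf, hθs⟩ := exists_chart_iso e y
  refine Over.OverMorphism.ext ((cancel_epi θ).mp ?_)
  have key : ∀ (f : G ⊗ Over.mk (y ≫ u₀) ⟶ H) (hf : FamChar e e' f y (𝟙 _) φ),
      θ ≫ f.left = (gpt e' (Spec.map (CommRingCat.ofHom (MonoidAlgebra.singleOneRingHom :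
        B →+* MonoidAlgebra B (Multiplicative M))) ≫ y) ((MonoidAlgebra.of B (Multiplicative M)).comp φ)).left := by
    intro f hf
    rw [← hf _ _ _, Over.comp_left]
    congr 1
    let g₁ : B →+* MonoidAlgebra B (Multiplicative M) := MonoidAlgebra.singleOneRingHom
    let a := gpt e (Spec.map (CommRingCat.ofHom g₁) ≫ y) (MonoidAlgebra.of B (Multiplicative M))
    let c : Over.mk ((Spec.map (CommRingCat.ofHom g₁) ≫ y) ≫ u₀) ⟶ Over.mk (y ≫ u₀) :=
      Over.homMk (Spec.map (CommRingCat.ofHom g₁)) (Category.assoc _ _ _).symm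
    refine pullback.hom_ext ?_ ?_
    · exact hθf.trans (congrArg (fun m : Over.mk ((Spec.map (CommRingCat.ofHom g₁) ≫ y) ≫ u₀) ⟶ G => m.left)
        (lift_fst a (c ≫ 𝟙 _))).symm
    · refine hθs.trans (Eq.trans ?_ (congrArg
        (fun m : Over.mk ((Spec.map (CommRingCat.ofHom g₁) ≫ y) ≫ u₀) ⟶ Over.mk (y ≫ u₀) => m.left)
        (lift_snd a (c ≫ 𝟙 _))).symm)
      exact (Category.comp_id _).symm
  exact (key ψ h).trans (key ψ' h').symm

/-- every map of character groups gives a family of homomorphisms over a chart -/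
theorem exists_family {B : Type u} [CommRing B] (y : Spec (CommRingCat.of B) ⟶ U) [IsAffineHom G.hom]
    (φ : Multiplicative M' →* Multiplicative M) :
    ∃ ψ : G ⊗ Over.mk (y ≫ u₀) ⟶ H, AutFam.IsHomFamily G H ψ ∧ FamChar e e' ψ y (𝟙 _) φ := by
  obtain ⟨θ, hθ, hθf, hθs⟩ := exists_chart_iso e y
  let g₁ : B →+* MonoidAlgebra B (Multiplicative M) := MonoidAlgebra.singleOneRingHom
  let w := gpt e' (Spec.map (CommRingCat.ofHom g₁) ≫ y) ((MonoidAlgebra.of B (Multiplicative M)).comp φ)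
  let ψ : G ⊗ Over.mk (y ≫ u₀) ⟶ H := Over.homMk (inv θ ≫ w.left) (by
    change (inv θ ≫ w.left) ≫ H.hom = pullback.fst G.hom (y ≫ u₀) ≫ G.hom
    rw [Category.assoc, Over.w w, pullback.condition, IsIso.inv_comp_eq, ← Category.assoc θ, hθs]
    exact Category.assoc _ _ _)
  have hchar : FamChar e e' ψ y (𝟙 _) φ := by
    intro D _ g χ
    let ev : MonoidAlgebra B (Multiplicative M) →+* D :=
      MonoidAlgebra.liftNCRingHom g χ fun _ _ => Commute.all _ _
    have he1 : ev.comp g₁ = g := RingHom.ext fun b => by simp [ev, g₁]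
    have he2 : ev.toMonoidHom.comp (MonoidAlgebra.of B (Multiplicative M)) = χ := MonoidHom.ext fun m => by simp [ev]
    have hpt : (lift (gpt e (Spec.map (CommRingCat.ofHom g) ≫ y) χ)
        ((Over.homMk (Spec.map (CommRingCat.ofHom g)) (Category.assoc _ _ _).symm :
          Over.mk ((Spec.map (CommRingCat.ofHom g) ≫ y) ≫ u₀) ⟶ Over.mk (y ≫ u₀)) ≫ 𝟙 _)).left =
        Spec.map (CommRingCat.ofHom ev) ≫ θ := by
      let a := gpt e (Spec.map (CommRingCat.ofHom g) ≫ y) χ
      let c : Over.mk ((Spec.map (CommRingCat.ofHom g) ≫ y) ≫ u₀) ⟶ Over.mk (y ≫ u₀) :=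
        Over.homMk (Spec.map (CommRingCat.ofHom g)) (Category.assoc _ _ _).symm
      refine pullback.hom_ext ?_ ?_
      · refine Eq.trans (congrArg (fun m : Over.mk ((Spec.map (CommRingCat.ofHom g) ≫ y) ≫ u₀) ⟶ G => m.left)
          (lift_fst a (c ≫ 𝟙 _))) (Eq.trans ?_ (Category.assoc _ _ _).symm)
        refine Eq.trans ?_ (congrArg (Spec.map (CommRingCat.ofHom ev) ≫ ·) hθf.symm)
        rw [← gpt_comp, he2, specMap_comp_assoc, he1]
      · refine Eq.trans (congrArg
          (fun m : Over.mk ((Spec.map (CommRingCat.ofHom g) ≫ y) ≫ u₀) ⟶ Over.mk (y ≫ u₀) => m.left)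
          (lift_snd a (c ≫ 𝟙 _))) (Eq.trans ?_ (Category.assoc _ _ _).symm)
        refine Eq.trans ?_ (congrArg (Spec.map (CommRingCat.ofHom ev) ≫ ·) hθs.symm)
        rw [← specMap_comp, he1]
        exact Category.comp_id _
    refine Over.OverMorphism.ext ?_
    rw [Over.comp_left, hpt]
    change (Spec.map (CommRingCat.ofHom ev) ≫ θ) ≫ inv θ ≫ w.left = _
    rw [Category.assoc, IsIso.hom_inv_id_assoc, ← gpt_comp, specMap_comp_assoc, he1, ← MonoidHom.comp_assoc, he2]
  refine ⟨ψ, fun X g₁' g₂' t => ?_, hchar⟩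
  refine Over.OverMorphism.ext (Scheme.Cover.hom_ext X.left.affineCover _ _ fun j => ?_)
  obtain ⟨α, hα⟩ := Spec.map_surjective (X.left.affineCover.f j ≫ t.left)
  let τ : Over.mk ((Spec.map (CommRingCat.ofHom α.hom) ≫ y) ≫ u₀) ⟶ X := Over.homMk (X.left.affineCover.f j) (by
    change X.left.affineCover.f j ≫ X.hom = (Spec.map (CommRingCat.ofHom α.hom) ≫ y) ≫ u₀
    rw [CommRingCat.ofHom_hom, hα, Category.assoc, Category.assoc, ← Over.w t]
    rfl)
  obtain ⟨χ₁, h₁⟩ := gpt_surjective e _ (τ ≫ g₁')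
  obtain ⟨χ₂, h₂⟩ := gpt_surjective e _ (τ ≫ g₂')
  have ht : τ ≫ t = (Over.homMk (Spec.map (CommRingCat.ofHom α.hom)) (Category.assoc _ _ _).symm :
        Over.mk ((Spec.map (CommRingCat.ofHom α.hom) ≫ y) ≫ u₀) ⟶ Over.mk (y ≫ u₀)) ≫ 𝟙 _ := by
    rw [Category.comp_id]
    refine Over.OverMorphism.ext ?_
    change _ = Spec.map (CommRingCat.ofHom α.hom)
    refine Eq.trans ?_ (congrArg Spec.map (CommRingCat.ofHom_hom α)).symm
    exact hα.symm
  have key : τ ≫ lift (g₁' * g₂') t ≫ ψ = τ ≫ ((lift g₁' t ≫ ψ) * (lift g₂' t ≫ ψ)) := by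
    rw [MonObj.comp_mul, ← Category.assoc, ← Category.assoc, ← Category.assoc, comp_lift, comp_lift, comp_lift,
      MonObj.comp_mul, ← h₁, ← h₂, ← gpt_mul, ht, hchar, hchar, hchar, MonoidHom.mul_comp, gpt_mul]
  exact congrArg (fun m => m.left) key

end Groth.Agent.H21Diag
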