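import Groth.Agent.H21Diag.SmoothLift
import Groth.Agent.H21Diag.GroupLike

/-!
Homomorphisms of groups of multiplicative type lift uniquely along nilpotent ideals.
-/

open CategoryTheory MonoidalCategory CartesianMonoidalCategory MonObj GrpObj AlgebraicGeometry
open CategoryTheory.Limits

universe u

namespace Groth.Agent.H21Diag

variable {R₀ : Type u} [CommRing R₀]

/-- charts for two groups at once -/
theorem exists_charts₂ {H H' : Over (Spec (CommRingCat.of R₀))} [GrpObj H] [GrpObj H']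
    (hH : IsDiagLoc H) (hH' : IsDiagLoc H') :
    ∃ F : FFFam R₀, ∀ i, (∃ (M : Type) (_ : AddCommGroup M), Nonempty (Pres H (F.ρ i) M)) ∧
      ∃ (M : Type) (_ : AddCommGroup M), Nonempty (Pres H' (F.ρ i) M) := by
  classical
  obtain ⟨S', g, hg, hs, hqc, hloc⟩ := exists_common_cover_diag hH hH'
  obtain ⟨W, hWc, hW⟩ := hqc ⊤ (isAffineOpen_top _)
  choose U hU hP hP' using hloc
  choose V hV hwV hVU using fun w : (W : Set S') =>
    exists_isAffineOpen_mem_and_subset (U := U (w : S')) (x := (w : S')) (hU w)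
  obtain ⟨T, hT⟩ := hWc.elim_finite_subcover (fun w => (V w : Set S')) (fun w => (V w).isOpen)
    (fun w hw => Set.mem_iUnion.mpr ⟨⟨w, hw⟩, hwV ⟨w, hw⟩⟩)
  let R : T → CommRingCat.{u} := fun w => Γ(S', V w.1)
  choose ρ hρ using fun w : T => Spec.map_surjective ((hV w.1).fromSpec ≫ g)
  refine ⟨⟨T, inferInstance, R, fun w => (ρ w).hom, fun w => ?_, fun x => ?_⟩, fun w => ?_⟩
  · rw [CommRingCat.ofHom_hom, hρ]; infer_instance
  · obtain ⟨w, hw, hwx⟩ : x ∈ g.base '' (W : Set S') := by rw [hW]; trivial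
    obtain ⟨t, ht, hwt⟩ := Set.mem_iUnion₂.mp (hT hw)
    obtain ⟨p, hp⟩ : w ∈ Set.range (hV t).fromSpec.base := by rw [(hV t).range_fromSpec]; exact hwt
    refine ⟨⟨t, ht⟩, p, ?_⟩
    rw [CommRingCat.ofHom_hom, hρ, Scheme.Hom.comp_apply, hp, hwx]
  · have hr : Set.range (hV w.1).fromSpec.base ⊆ Set.range (U (w.1 : S')).ι.base := by
      rw [(hV w.1).range_fromSpec, Scheme.Opens.range_ι]; exact hVU w.1
    have hw : IsOpenImmersion.lift (U (w.1 : S')).ι (hV w.1).fromSpec hr ≫ (U (w.1 : S')).ι ≫ g =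
        Spec.map (CommRingCat.ofHom (ρ w).hom) := by
      rw [← Category.assoc, IsOpenImmersion.lift_fac, CommRingCat.ofHom_hom, hρ]
    obtain ⟨M, _, ⟨e⟩⟩ := hP (w.1 : S')
    obtain ⟨M', _, ⟨e'⟩⟩ := hP' (w.1 : S')
    exact ⟨⟨M, inferInstance, ⟨Pres.ofChart e _ _ hw⟩⟩, M', inferInstance, ⟨Pres.ofChart e' _ _ hw⟩⟩

/-- maps out of an affine scheme over the base agree if they agree on all points over the charts -/
theorem FFFam.affine_hom_ext (F : FFFam R₀) {X Y : Over (Spec (CommRingCat.of R₀))} [IsAffine X.left]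
    {a b : X ⟶ Y}
    (h : ∀ (i : F.I) (D : Type u) [CommRing D] (f : R₀ →+* D) (g : (F.R i : Type u) →+* D),
      g.comp (F.ρ i) = f → ∀ t : Tst f ⟶ X, t ≫ a = t ≫ b) : a = b := by
  obtain ⟨α, hα⟩ := Spec.map_surjective (X.left.isoSpec.inv ≫ X.hom)
  let x : Tst α.hom ⟶ X := Over.homMk X.left.isoSpec.inv hα.symm
  have hx : x ≫ a = x ≫ b := F.tst_hom_ext fun i D' _ g l hl => by
    simpa only [← Category.assoc] using h i D' _ g rfl (tst l hl ≫ x)
  refine Over.OverMorphism.ext ((cancel_epi X.left.isoSpec.inv).mp ?_)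
  exact congrArg (fun z => z.left) hx

variable {H H' : Over (Spec (CommRingCat.of R₀))} [GrpObj H] [GrpObj H']

/-- a natural homomorphism on points over the algebras of a fixed algebra -/
structure PtHom (H H' : Over (Spec (CommRingCat.of R₀))) [GrpObj H] [GrpObj H'] {R : Type u} [CommRing R]
    (ρ : R₀ →+* R) where
  app : ∀ {D : Type u} [CommRing D] (f : R₀ →+* D) (g : R →+* D), g.comp ρ = f → (Tst f ⟶ H) → (Tst f ⟶ H')
  app_mul : ∀ {D : Type u} [CommRing D] (f : R₀ →+* D) (g : R →+* D) (hg : g.comp ρ = f) (a b : Tst f ⟶ H),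
    app f g hg (a * b) = app f g hg a * app f g hg b
  app_nat : ∀ {D D' : Type u} [CommRing D] [CommRing D'] (t : D →+* D') (f : R₀ →+* D) (g : R →+* D)
    (hg : g.comp ρ = f) (f' : R₀ →+* D') (hf : t.comp f = f') (a : Tst f ⟶ H),
    app f' (t.comp g) (by rw [RingHom.comp_assoc, hg, hf]) (tst t hf ≫ a) = tst t hf ≫ app f g hg a

/-- restriction of a homomorphism on points -/
noncomputable def PtHom.res {R : Type u} [CommRing R] {ρ : R₀ →+* R} (P : PtHom H H' ρ) {R' : Type u} [CommRing R']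
    (κ : R →+* R') (ρ' : R₀ →+* R') (h : κ.comp ρ = ρ') : PtHom H H' ρ' where
  app f g hg := P.app f (g.comp κ) (by rw [RingHom.comp_assoc, h, hg])
  app_mul f g hg a b := P.app_mul f _ _ a b
  app_nat t f g hg f' hf a := P.app_nat t f (g.comp κ) _ f' hf a

/-- the homomorphism on points of a homomorphism -/
noncomputable def PtHom.ofHom (φ : H ⟶ H') [IsMonHom φ] {R : Type u} [CommRing R] (ρ : R₀ →+* R) : PtHom H H' ρ where
  app _ _ _ a := a ≫ φ
  app_mul _ _ _ a b := MonObj.mul_comp a b φ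
  app_nat _ _ _ _ _ _ _ := Category.assoc _ _ _

section

variable {R : Type u} [CommRing R] {ρ : R₀ →+* R} {M M' : Type} [AddCommGroup M] [AddCommGroup M']

/-- the value of a family of grouplike elements at a character -/
noncomputable def gev {D : Type u} [CommRing D] (g : R →+* D) (χ : Multiplicative M →* D)
    (θ : Multiplicative M' →* MonoidAlgebra R (Multiplicative M)) : Multiplicative M' →* D :=
  (MonoidAlgebra.liftNCRingHom g χ fun _ _ => Commute.all _ _).toMonoidHom.comp θ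

theorem gev_mul {D : Type u} [CommRing D] (g : R →+* D) (χ χ' : Multiplicative M →* D)
    {θ : Multiplicative M' →* MonoidAlgebra R (Multiplicative M)} (hθ : ∀ m, IsGL (θ m)) :
    gev g (χ * χ') θ = gev g χ θ * gev g χ' θ :=
  MonoidHom.ext fun m => (hθ m).eval_mul g χ χ'

theorem gev_nat {D D' : Type u} [CommRing D] [CommRing D'] (t : D →+* D') (g : R →+* D)
    (χ : Multiplicative M →* D) (θ : Multiplicative M' →* MonoidAlgebra R (Multiplicative M)) :
    gev (t.comp g) (t.toMonoidHom.comp χ) θ = t.toMonoidHom.comp (gev g χ θ) := by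
  refine MonoidHom.ext fun m => ?_
  change (MonoidAlgebra.liftNCRingHom (t.comp g) (t.toMonoidHom.comp χ) fun _ _ => Commute.all _ _) (θ m) =
    (t.comp (MonoidAlgebra.liftNCRingHom g χ fun _ _ => Commute.all _ _)) (θ m)
  exact RingHom.congr_fun (MonoidAlgebra.ringHom_ext (fun b => by simp) fun n => by simp) (θ m)

theorem gev_map {C : Type u} [CommRing C] (k : R →+* C) {D : Type u} [CommRing D] (g : C →+* D)
    (χ : Multiplicative M →* D) (θ : Multiplicative M' →* MonoidAlgebra R (Multiplicative M)) :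
    gev (g.comp k) χ θ = gev g χ ((MonoidAlgebra.mapRingHom (Multiplicative M) k).toMonoidHom.comp θ) := by
  refine MonoidHom.ext fun m => ?_
  change (MonoidAlgebra.liftNCRingHom (g.comp k) χ fun _ _ => Commute.all _ _) (θ m) = ((MonoidAlgebra.liftNCRingHom g χ fun _ _ => Commute.all _ _).comp
    (MonoidAlgebra.mapRingHom (Multiplicative M) k)) (θ m)
  exact RingHom.congr_fun (MonoidAlgebra.ringHom_ext (fun b => by simp) fun n => by simp) (θ m)

theorem gev_univ (θ : Multiplicative M' →* MonoidAlgebra R (Multiplicative M)) :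
    gev (MonoidAlgebra.singleOneRingHom : R →+* MonoidAlgebra R (Multiplicative M))
      (MonoidAlgebra.of R (Multiplicative M)) θ = θ := by
  refine MonoidHom.ext fun m => ?_
  change (MonoidAlgebra.liftNCRingHom MonoidAlgebra.singleOneRingHom (MonoidAlgebra.of R (Multiplicative M))
    fun _ _ => Commute.all _ _) (θ m) = RingHom.id _ (θ m)
  exact RingHom.congr_fun (MonoidAlgebra.ringHom_ext (fun b => by simp) fun n => by simp) (θ m)

theorem PtHom.exists_theta (Q : Pres H ρ M) (Q' : Pres H' ρ M') (P : PtHom H H' ρ) :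
    ∃ θ : Multiplicative M' →* MonoidAlgebra R (Multiplicative M), (∀ m, IsGL (θ m)) ∧
      ∀ (D : Type u) [CommRing D] (g : R →+* D) (χ : Multiplicative M →* D),
        P.app _ g rfl (Q.pt g χ) = Q'.pt g (gev g χ θ) := by
  classical
  let N := Multiplicative M
  let s : R →+* MonoidAlgebra R N := MonoidAlgebra.singleOneRingHom
  obtain ⟨θ, hθ⟩ := Q'.pt_surjective s (P.app _ s rfl (Q.pt s (MonoidAlgebra.of R N)))
  have key : ∀ (D : Type u) [CommRing D] (g : R →+* D) (χ : Multiplicative M →* D),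
      P.app _ g rfl (Q.pt g χ) = Q'.pt g (gev g χ θ) := by
    intro D _ g χ
    let ev : MonoidAlgebra R N →+* D := MonoidAlgebra.liftNCRingHom g χ fun _ _ => Commute.all _ _
    have h1 : ev.comp s = g := RingHom.ext fun b => by simp [ev, s]
    have h2 : ev.toMonoidHom.comp (MonoidAlgebra.of R N) = χ := MonoidHom.ext fun n => by simp [ev]
    revert h1 h2
    generalize ev = ev'
    rintro rfl rfl
    have h3 := congrArg (fun z => tst ev' (g := s.comp ρ) (g' := (ev'.comp s).comp ρ) rfl ≫ z) hθ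
    simp only [Q'.pt_nat, ← P.app_nat, Q.pt_nat] at h3
    rw [← h3, gev_nat, gev_univ]
  refine ⟨θ, fun m => ?_, key⟩
  let s₂ : R →+* MonoidAlgebra R (N × N) := MonoidAlgebra.singleOneRingHom
  let i₁ := MonoidAlgebra.mapDomainRingHom R (MonoidHom.inl N N)
  let i₂ := MonoidAlgebra.mapDomainRingHom R (MonoidHom.inr N N)
  let d := MonoidAlgebra.mapDomainRingHom R ((MonoidHom.id N).prod (MonoidHom.id N))
  have hs : ∀ (F : N →* N × N), gev s₂ ((MonoidAlgebra.mapDomainRingHom R F).toMonoidHom.comp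
      (MonoidAlgebra.of R N)) θ = (MonoidAlgebra.mapDomainRingHom R F).toMonoidHom.comp θ := fun F => by
    rw [← show (MonoidAlgebra.mapDomainRingHom R F).comp s = s₂ from RingHom.ext fun b => by simp [s, s₂],
      gev_nat, gev_univ]
  have hχ : d.toMonoidHom.comp (MonoidAlgebra.of R N) =
      (i₁.toMonoidHom.comp (MonoidAlgebra.of R N)) * (i₂.toMonoidHom.comp (MonoidAlgebra.of R N)) := by
    refine MonoidHom.ext fun n => ?_
    change d (MonoidAlgebra.single n 1) = i₁ (MonoidAlgebra.single n 1) * i₂ (MonoidAlgebra.single n 1)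
    simp only [d, i₁, i₂, MonoidAlgebra.mapDomainRingHom_apply, MonoidAlgebra.mapDomain_single,
      MonoidAlgebra.single_mul_single, MonoidHom.prod_apply, MonoidHom.id_apply, MonoidHom.inl_apply,
      MonoidHom.inr_apply, Prod.mk_mul_mk, _root_.one_mul, _root_.mul_one]
  refine DFunLike.congr_fun (Q'.pt_injective s₂ ?_ :
    d.toMonoidHom.comp θ = i₁.toMonoidHom.comp θ * i₂.toMonoidHom.comp θ) m
  rw [← hs, ← hs, ← hs, Q'.pt_mul, ← key, ← key, ← key, ← P.app_mul, ← Q.pt_mul, hχ]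

/-- points of a presentation over an algebra with a given structure map -/
noncomputable def Pres.ptf (Q : Pres H ρ M) {D : Type u} [CommRing D] (f : R₀ →+* D) (g : R →+* D)
    (hg : g.comp ρ = f) (χ : Multiplicative M →* D) : Tst f ⟶ H :=
  tst (RingHom.id _) ((RingHom.id_comp _).trans hg) ≫ Q.pt g χ

theorem Pres.ptf_rfl (Q : Pres H ρ M) {D : Type u} [CommRing D] (g : R →+* D) (χ : Multiplicative M →* D) :
    Q.ptf (g.comp ρ) g rfl χ = Q.pt g χ := (congrArg (· ≫ _) (tst_id _)).trans (Category.id_comp _)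

theorem Pres.ptf_bijective (Q : Pres H ρ M) {D : Type u} [CommRing D] (f : R₀ →+* D) (g : R →+* D)
    (hg : g.comp ρ = f) : Function.Bijective (Q.ptf f g hg) := by
  subst hg
  refine ⟨fun χ χ' h => ?_, fun a => ?_⟩
  · rw [Q.ptf_rfl, Q.ptf_rfl] at h
    exact Q.pt_injective g h
  · obtain ⟨χ, hχ⟩ := Q.pt_surjective g a
    exact ⟨χ, (Q.ptf_rfl g χ).trans hχ⟩

theorem Pres.ptf_mul (Q : Pres H ρ M) {D : Type u} [CommRing D] (f : R₀ →+* D) (g : R →+* D)
    (hg : g.comp ρ = f) (χ χ' : Multiplicative M →* D) :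
    Q.ptf f g hg (χ * χ') = Q.ptf f g hg χ * Q.ptf f g hg χ' := by
  simp only [Pres.ptf, Q.pt_mul, MonObj.comp_mul]

theorem Pres.ptf_nat (Q : Pres H ρ M) {D D' : Type u} [CommRing D] [CommRing D'] (t : D →+* D') (f : R₀ →+* D)
    (g : R →+* D) (hg : g.comp ρ = f) (f' : R₀ →+* D') (hf : t.comp f = f') (χ : Multiplicative M →* D) :
    tst t hf ≫ Q.ptf f g hg χ = Q.ptf f' (t.comp g) (by rw [RingHom.comp_assoc, hg, hf]) (t.toMonoidHom.comp χ) := by
  subst hg hf
  rw [Q.ptf_rfl, Pres.ptf, ← Q.pt_nat, ← Category.assoc, tst_comp]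
  rfl

/-- the character of a point -/
noncomputable def Pres.chi (Q : Pres H ρ M) {D : Type u} [CommRing D] (f : R₀ →+* D) (g : R →+* D)
    (hg : g.comp ρ = f) : (Tst f ⟶ H) ≃ (Multiplicative M →* D) :=
  (Equiv.ofBijective _ (Q.ptf_bijective f g hg)).symm

theorem Pres.ptf_chi (Q : Pres H ρ M) {D : Type u} [CommRing D] (f : R₀ →+* D) (g : R →+* D)
    (hg : g.comp ρ = f) (a : Tst f ⟶ H) : Q.ptf f g hg (Q.chi f g hg a) = a :=
  (Equiv.ofBijective _ (Q.ptf_bijective f g hg)).apply_symm_apply a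

theorem Pres.chi_ptf (Q : Pres H ρ M) {D : Type u} [CommRing D] (f : R₀ →+* D) (g : R →+* D)
    (hg : g.comp ρ = f) (χ : Multiplicative M →* D) : Q.chi f g hg (Q.ptf f g hg χ) = χ :=
  (Equiv.ofBijective _ (Q.ptf_bijective f g hg)).symm_apply_apply χ

/-- the homomorphism on points given by grouplike elements -/
noncomputable def PtHom.ofTheta (Q : Pres H ρ M) (Q' : Pres H' ρ M')
    (θ : Multiplicative M' →* MonoidAlgebra R (Multiplicative M)) (hθ : ∀ m, IsGL (θ m)) : PtHom H H' ρ where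
  app f g hg a := Q'.ptf f g hg (gev g (Q.chi f g hg a) θ)
  app_mul f g hg a b := by
    rw [← Q'.ptf_mul, ← gev_mul g _ _ hθ]
    congr 2
    refine (Q.ptf_bijective f g hg).1 ?_
    rw [Q.ptf_mul, Q.ptf_chi, Q.ptf_chi, Q.ptf_chi]
  app_nat t f g hg f' hf a := by
    rw [Q'.ptf_nat, ← gev_nat]
    congr 2
    refine (Q.ptf_bijective f' (t.comp g) (by rw [RingHom.comp_assoc, hg, hf])).1 ?_
    rw [Q.ptf_chi, ← Q.ptf_nat t f g hg f' hf, Q.ptf_chi]

theorem PtHom.ofTheta_pt (Q : Pres H ρ M) (Q' : Pres H' ρ M')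
    (θ : Multiplicative M' →* MonoidAlgebra R (Multiplicative M)) (hθ : ∀ m, IsGL (θ m))
    {D : Type u} [CommRing D] (g : R →+* D) (χ : Multiplicative M →* D) :
    (PtHom.ofTheta Q Q' θ hθ).app _ g rfl (Q.pt g χ) = Q'.pt g (gev g χ θ) := by
  rw [← Q.ptf_rfl g χ]
  change Q'.ptf _ g rfl (gev g (Q.chi _ g rfl _) θ) = _
  rw [Q.chi_ptf, Q'.ptf_rfl]

/-- homomorphisms on points which agree modulo a nilpotent ideal agree -/
theorem PtHom.ext_of_eq_mod (Q : Pres H ρ M) (Q' : Pres H' ρ M') (P₁ P₂ : PtHom H H' ρ) (J : Ideal R₀)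
    (hJ : IsNilpotent J)
    (h : ∀ (D : Type u) [CommRing D] (f : R₀ →+* D) (g : R →+* D) (hg : g.comp ρ = f), J.map f = ⊥ →
      ∀ a : Tst f ⟶ H, P₁.app f g hg a = P₂.app f g hg a)
    {D : Type u} [CommRing D] (f : R₀ →+* D) (g : R →+* D) (hg : g.comp ρ = f) (a : Tst f ⟶ H) :
    P₁.app f g hg a = P₂.app f g hg a := by
  subst hg
  obtain ⟨θ₁, hgl₁, hθ₁⟩ := P₁.exists_theta Q Q'
  obtain ⟨θ₂, hgl₂, hθ₂⟩ := P₂.exists_theta Q Q'
  let k := Ideal.Quotient.mk (J.map ρ)
  let s : R ⧸ J.map ρ →+* MonoidAlgebra (R ⧸ J.map ρ) (Multiplicative M) := MonoidAlgebra.singleOneRingHom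
  have h0 : J.map ((s.comp k).comp ρ) = ⊥ := by
    rw [← Ideal.map_map, ← Ideal.map_map, Ideal.map_quotient_self, Ideal.map_bot]
  have hk : ∀ θ : Multiplicative M' →* MonoidAlgebra R (Multiplicative M),
      gev (s.comp k) (MonoidAlgebra.of (R ⧸ J.map ρ) (Multiplicative M)) θ =
        (MonoidAlgebra.mapRingHom (Multiplicative M) k).toMonoidHom.comp θ := fun θ => by
    rw [gev_map, gev_univ]
  have h1 := h _ _ (s.comp k) rfl h0 (Q.pt (s.comp k) (MonoidAlgebra.of _ _))
  rw [hθ₁, hθ₂, hk, hk] at h1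
  have h2 := Q'.pt_injective _ h1
  have hker : ∀ x ∈ RingHom.ker k, IsNilpotent x := fun x hx => by
    obtain ⟨n, hn⟩ := hJ.map (Ideal.mapHom ρ)
    refine ⟨n, ?_⟩
    rw [← Ideal.mem_bot, ← Ideal.zero_eq_bot, ← hn]
    exact Ideal.pow_mem_pow (Ideal.Quotient.eq_zero_iff_mem.mp hx) n
  have h3 : θ₁ = θ₂ := MonoidHom.ext fun m => gl_ext k hker (hgl₁ m) (hgl₂ m) (DFunLike.congr_fun h2 m)
  obtain ⟨χ, hχ⟩ := Q.pt_surjective g a
  rw [← hχ, hθ₁, hθ₂, h3]

end

/-- homomorphisms of groups of multiplicative type which agree modulo a nilpotent ideal agree -/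
theorem hom_ext_of_eq_mod (hH : IsDiagLoc H) (hH' : IsDiagLoc H') (φ ψ : H ⟶ H') [IsMonHom φ] [IsMonHom ψ]
    (J : Ideal R₀) (hJ : IsNilpotent J)
    (h : ∀ (X : Over (Spec (CommRingCat.of R₀))) (_ : X ⟶ Tst (Ideal.Quotient.mk J)) (a : X ⟶ H),
      a ≫ φ = a ≫ ψ) : φ = ψ := by
  obtain ⟨F, hF⟩ := exists_charts₂ hH hH'
  have : IsAffineHom H.hom := isAffineHom_of_diagLoc hH
  have : IsAffine H.left := isAffine_of_isAffineHom H.hom
  refine F.affine_hom_ext fun i D _ f g hg t => ?_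
  obtain ⟨⟨M, _, ⟨Q⟩⟩, M', _, ⟨Q'⟩⟩ := hF i
  refine PtHom.ext_of_eq_mod Q Q' (PtHom.ofHom φ _) (PtHom.ofHom ψ _) J hJ ?_ f g hg t
  intro D' _ f' g' _ hJ' a
  exact h _ (tst (Ideal.Quotient.lift J f' fun x hx => by
    rw [← Ideal.mem_bot, ← hJ']; exact Ideal.mem_map_of_mem f' hx) (Ideal.Quotient.lift_comp_mk _ _ _)) a

end Groth.Agent.H21Diag
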