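import Groth.Agent.H21Diag.AvgDescent
import Mathlib.RingTheory.TensorProduct.Quotient

/-!
Descent of ideals along a faithfully flat family.
-/

open CategoryTheory AlgebraicGeometry
open scoped TensorProduct

universe u

namespace Groth.Agent.H21Diag

variable {R₀ : Type u} [CommRing R₀]

/-- the family detects zero -/
theorem FFFam.eq_zero (F : FFFam R₀) {D : Type u} [CommRing D] (f : R₀ →+* D) (x : D)
    (h : ∀ (i : F.I) (D' : Type u) [CommRing D'] (g : (F.R i : Type u) →+* D') (l : D →+* D'),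
      l.comp f = g.comp (F.ρ i) → l x = 0) : x = 0 := by
  let ev : D → (Polynomial R₀ →+* D) := fun y => Polynomial.eval₂RingHom f y
  have hev : ∀ y, (ev y).comp Polynomial.C = f := fun y => RingHom.ext fun r => by simp [ev]
  have h1 : tst (ev x) (hev x) = tst (ev 0) (hev 0) := F.tst_hom_ext fun i D' _ g l hl => by
    rw [tst_comp, tst_comp]
    exact tst_congr (Polynomial.ringHom_ext (fun r => by simp [ev]) (by simp [ev, h i D' g l hl])) _ _
  have h2 := congrArg CommRingCat.Hom.hom (Spec.map_injective (congrArg (fun m => m.left) h1))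
  simpa [ev] using congrArg (fun φ : Polynomial R₀ →+* D => φ Polynomial.X) h2

/-- ideals descend along a faithfully flat family -/
theorem FFFam.exists_ideal (F : FFFam R₀) (c : ∀ i, Ideal (F.R i)) (hfg : ∀ i, (c i).FG)
    (P : ∀ (D : Type u) [CommRing D], (R₀ →+* D) → Prop)
    (hc : ∀ (i : F.I) (D : Type u) [CommRing D] (g : (F.R i : Type u) →+* D),
      P D (g.comp (F.ρ i)) ↔ c i ≤ RingHom.ker g)
    (hloc : ∀ (D : Type u) [CommRing D] (f : R₀ →+* D), P D f ↔
      ∀ (i : F.I) (D' : Type u) [CommRing D'] (g : (F.R i : Type u) →+* D') (l : D →+* D'),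
        l.comp f = g.comp (F.ρ i) → P D' (g.comp (F.ρ i))) :
    ∃ J : Ideal R₀, J.FG ∧ ∀ (D : Type u) [CommRing D] (f : R₀ →+* D), P D f ↔ J ≤ RingHom.ker f := by
  classical
  have := Fintype.ofFinite F.I
  let J : Ideal R₀ := ⨅ i, (c i).comap (F.ρ i)
  let e : ∀ i, R₀ ⧸ J →+* (F.R i : Type u) ⧸ c i := fun i =>
    Ideal.quotientMap (c i) (F.ρ i) (iInf_le _ i)
  have key : ∀ i, c i ≤ J.map (F.ρ i) := by
    intro i x hx
    let algR : ∀ j, Algebra R₀ (F.R j) := fun j => (F.ρ j).toAlgebra
    have : Module.Flat R₀ (F.R i) := by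
      have := F.flat i
      exact Flat.SpecMap_iff.mp this
    let ψ : R₀ ⧸ J →ₗ[R₀] ∀ j, (F.R j : Type u) ⧸ c j :=
      LinearMap.pi fun j =>
        { toFun := e j
          map_add' := map_add (e j)
          map_smul' := fun r y => by
            obtain ⟨y, rfl⟩ := Ideal.Quotient.mk_surjective y
            change Ideal.Quotient.mk (c j) (F.ρ j (r * y)) = _
            rw [map_mul, map_mul]
            rfl }
    have hψ : Function.Injective ψ := by
      rw [injective_iff_map_eq_zero]
      intro y hy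
      obtain ⟨y, rfl⟩ := Ideal.Quotient.mk_surjective y
      refine Ideal.Quotient.eq_zero_iff_mem.mpr (Ideal.mem_iInf.mpr fun j => Ideal.mem_comap.mpr ?_)
      exact (Ideal.Quotient.eq_zero_iff_mem (I := c j)).mp (congrFun hy j)
    have hinj := Module.Flat.lTensor_preserves_injective_linearMap (M := (F.R i : Type u)) ψ hψ
    have h0 : x ⊗ₜ[R₀] (1 : R₀ ⧸ J) = 0 := by
      refine hinj ?_
      rw [map_zero, LinearMap.lTensor_tmul]
      refine (TensorProduct.piRight R₀ R₀ (F.R i : Type u) fun j => (F.R j : Type u) ⧸ c j).injective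
        (funext fun j => ?_)
      rw [map_zero, TensorProduct.piRight_apply, TensorProduct.piRightHom_tmul]
      -- both pullbacks define the same condition
      let gi : (F.R i : Type u) →+* (F.R i : Type u) ⊗[R₀] ((F.R j : Type u) ⧸ c j) :=
        (Algebra.TensorProduct.includeLeft (R := R₀) (S := R₀) (A := (F.R i : Type u))
          (B := (F.R j : Type u) ⧸ c j)).toRingHom
      let gj : (F.R j : Type u) →+* (F.R i : Type u) ⊗[R₀] ((F.R j : Type u) ⧸ c j) :=
        (Algebra.TensorProduct.includeRight (R := R₀) (A := (F.R i : Type u))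
          (B := (F.R j : Type u) ⧸ c j)).toRingHom.comp (Ideal.Quotient.mk (c j))
      have hP : P _ (gj.comp (F.ρ j)) := (hc j _ gj).mpr fun y hy => by
        rw [RingHom.mem_ker]
        change (1 : (F.R i : Type u)) ⊗ₜ[R₀] Ideal.Quotient.mk (c j) y = 0
        rw [Ideal.Quotient.eq_zero_iff_mem.mpr hy, TensorProduct.tmul_zero]
      have hij : gj.comp (F.ρ j) = gi.comp (F.ρ i) := by
        refine RingHom.ext fun r => ?_
        change (1 : (F.R i : Type u)) ⊗ₜ[R₀] algebraMap R₀ ((F.R j : Type u) ⧸ c j) r =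
          algebraMap R₀ (F.R i : Type u) r ⊗ₜ[R₀] (1 : (F.R j : Type u) ⧸ c j)
        rw [Algebra.algebraMap_eq_smul_one, Algebra.algebraMap_eq_smul_one, TensorProduct.smul_tmul,
          TensorProduct.tmul_smul]
      rw [hij] at hP
      have h1 := RingHom.mem_ker.mp ((hc i _ gi).mp hP hx)
      change x ⊗ₜ[R₀] (e j 1) = 0
      rw [map_one]
      exact h1
    have h2 := congrArg (Algebra.TensorProduct.quotIdealMapEquivTensorQuot (F.R i : Type u) J).symm h0
    rw [← map_one (Ideal.Quotient.mk J), Algebra.TensorProduct.quotIdealMapEquivTensorQuot_symm_tmul, one_smul, map_zero] at h2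
    exact Ideal.Quotient.eq_zero_iff_mem.mp h2
  have hP : ∀ (D : Type u) [CommRing D] (f : R₀ →+* D), P D f ↔ J ≤ RingHom.ker f := by
    intro D _ f
    rw [hloc]
    refine ⟨fun h r hr => RingHom.mem_ker.mpr (F.eq_zero f (f r) fun i D' _ g l hl => ?_),
      fun h i D' _ g l hl => ?_⟩
    · rw [← RingHom.comp_apply, hl]
      exact RingHom.mem_ker.mp ((hc i D' g).mp (h i D' g l hl) (Ideal.mem_iInf.mp hr i))
    · refine (hc i D' g).mpr ((key i).trans (Ideal.map_le_iff_le_comap.mpr fun r hr => ?_))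
      rw [Ideal.mem_comap, RingHom.mem_ker, ← RingHom.comp_apply, ← hl, RingHom.comp_apply,
        RingHom.mem_ker.mp (h hr), map_zero]
  refine ⟨J, ?_, hP⟩
  -- finitely many elements suffice
  have hfin : ∀ i, ∃ T : Finset R₀, ↑T ⊆ (J : Set R₀) ∧ c i ≤ (Ideal.span (T : Set R₀)).map (F.ρ i) := by
    intro i
    obtain ⟨G, hG⟩ := hfg i
    have : ∀ x ∈ G, ∃ T : Finset R₀, ↑T ⊆ (J : Set R₀) ∧ x ∈ (Ideal.span (T : Set R₀)).map (F.ρ i) := by
      intro x hx
      have hx' : x ∈ J.map (F.ρ i) := key i (hG ▸ Ideal.subset_span hx)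
      obtain ⟨T', hT', hxT⟩ := Submodule.mem_span_finite_of_mem_span hx'
      choose pre hpre hpre' using fun y : T' => hT' y.2
      refine ⟨Finset.univ.image pre, by
        rw [Finset.coe_image, Finset.coe_univ, Set.image_univ]
        rintro _ ⟨y, rfl⟩; exact hpre y, ?_⟩
      refine (Submodule.span_le.mpr ?_ : Submodule.span _ (T' : Set (F.R i)) ≤ _) hxT
      intro y hy
      have h1 : F.ρ i (pre ⟨y, hy⟩) ∈ (Ideal.span ((Finset.univ.image pre : Finset R₀) : Set R₀)).map (F.ρ i) :=
        Ideal.mem_map_of_mem _ (Ideal.subset_span (Finset.mem_coe.mpr (Finset.mem_image_of_mem _ (Finset.mem_univ _))))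
      rw [hpre'] at h1
      exact h1
    choose! T hT hT' using this
    refine ⟨G.biUnion T, ?_, ?_⟩
    · rw [Finset.coe_biUnion]; exact Set.iUnion₂_subset hT
    · rw [← hG]
      refine Submodule.span_le.mpr fun x hx => ?_
      exact Ideal.map_mono (Ideal.span_mono (Finset.coe_subset.mpr (Finset.subset_biUnion_of_mem T hx))) (hT' x hx)
  choose T hT hT' using hfin
  refine ⟨Finset.univ.biUnion T, le_antisymm ?_ fun r hr => ?_⟩
  · refine Submodule.span_le.mpr ?_
    rw [Finset.coe_biUnion]; exact Set.iUnion₂_subset fun i _ => hT i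
  · let J' : Ideal R₀ := Ideal.span ((Finset.univ.biUnion T : Finset R₀) : Set R₀)
    have h1 : P _ (Ideal.Quotient.mk J') := by
      refine (hloc _ _).mpr fun i D' _ g l hl => (hc i D' g).mpr ((hT' i).trans ?_)
      refine Ideal.map_le_iff_le_comap.mpr ((Ideal.span_mono (Finset.coe_subset.mpr
        (Finset.subset_biUnion_of_mem T (Finset.mem_univ i)))).trans fun y hy => ?_)
      rw [Ideal.mem_comap, RingHom.mem_ker, ← RingHom.comp_apply, ← hl, RingHom.comp_apply,
        Ideal.Quotient.eq_zero_iff_mem.mpr hy, map_zero]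
    exact Ideal.Quotient.eq_zero_iff_mem.mp (RingHom.mem_ker.mp ((hP _ _).mp h1 hr))

end Groth.Agent.H21Diag
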