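import Groth.Agent.H21Diag.AvgUnique
import Groth.Agent.H21Diag.Conj

/-!
Lifting a homomorphism from a diagonalisable group along a square-zero ideal: integrating
`x ↦ f (a x) f (x)⁻¹` over the group turns any lift `f` into a homomorphism.
-/

open CategoryTheory MonoidalCategory CartesianMonoidalCategory MonObj GrpObj AlgebraicGeometry
open CategoryTheory.Limits

universe u

namespace Groth.Agent.H21Diag

variable {R₀ : Type u} [CommRing R₀] {G H : Over (Spec (CommRingCat.of R₀))} [GrpObj G] [GrpObj H]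
  {R : Type u} [CommRing R] {ρ : R₀ →+* R} {M : Type} [AddCommGroup M] (f : H ⟶ G) (J : Ideal R₀)

/-- multiplicative modulo `J` -/
abbrev MulMod (f : H ⟶ G) (J : Ideal R₀) : Prop :=
  ∀ (D : Type u) [CommRing D] (k : R₀ →+* D), J.map k = ⊥ → ∀ a b : Tst k ⟶ H,
    (a * b) ≫ f = (a ≫ f) * (b ≫ f)

/-- the rings over which the integral is computed -/
structure IntDat {D : Type u} [CommRing D] (Jd : Ideal D) (N : Type) [CommMonoid N] where
  A : Type u
  P : Type u
  ringA : CommRing A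
  ringP : CommRing P
  s : D →+* A
  c : D →+* P
  ι₀ : P →+* A
  I : Ideal P
  π : P →+* D
  univ : N →* A
  inj : Function.Injective ι₀
  hc : ι₀.comp c = s
  hπ : π.comp c = RingHom.id D
  nil : IsNilpotent I
  surj : ∀ k ∈ I.map ι₀, ∃ w ∈ I, ι₀ w = k
  const_mem : ∀ d ∈ Jd, c d ∈ I

attribute [local instance] IntDat.ringA IntDat.ringP

/-- compatible maps of such rings -/
structure IntHom {D D' : Type u} [CommRing D] [CommRing D'] {Jd : Ideal D} {Jd' : Ideal D'} {N N' : Type}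
    [CommMonoid N] [CommMonoid N'] (t : D →+* D') (E : IntDat Jd N) (E' : IntDat Jd' N') where
  F : E.A →+* E'.A
  τ : E.P →+* E'.P
  hs : F.comp E.s = E'.s.comp t
  hι : E'.ι₀.comp τ = F.comp E.ι₀
  hc : τ.comp E.c = E'.c.comp t
  hI : ∀ w ∈ E.I, τ w ∈ E'.I
  hπ : E'.π.comp τ = t.comp E.π

variable {f J} {D : Type u} [CommRing D] {g : R →+* D}

/-- the section used for the integral -/
noncomputable def Pres.shift (f : H ⟶ G) (Q : Pres H ρ M) {A : Type u} [CommRing A] (g : R →+* D)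
    (s : D →+* A) (univ : Multiplicative M →* A) (χ : Multiplicative M →* D) : Tst ((s.comp g).comp ρ) ⟶ G :=
  (Q.pt (s.comp g) (s.toMonoidHom.comp χ * univ) ≫ f) * (Q.pt (s.comp g) univ ≫ f)⁻¹

/-- `y` is the integral of the section at a point -/
def IntWit (f : H ⟶ G) (Q : Pres H ρ M) {Jd : Ideal D} (g : R →+* D) (E : IntDat Jd (Multiplicative M))
    (χ : Multiplicative M →* D) (y : Tst (g.comp ρ) ⟶ G) : Prop :=
  ∃ e : Tst (E.c.comp (g.comp ρ)) ⟶ G,
    tst E.ι₀ (by rw [← RingHom.comp_assoc, E.hc, RingHom.comp_assoc]) ≫ e = Q.shift f g E.s E.univ χ ∧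
    tst (Ideal.Quotient.mk E.I) rfl ≫ e =
      tst (Ideal.Quotient.mk E.I) rfl ≫ tst E.c rfl ≫ (Q.pt g χ ≫ f) ∧
    y = tst E.π (g' := g.comp ρ) (by rw [← RingHom.comp_assoc, E.hπ, RingHom.id_comp]) ≫ e

variable {Q : Pres H ρ M}

theorem intWit_exists (hmod : MulMod f J) {Jd : Ideal D} (hJd : J.map (g.comp ρ) ≤ Jd)
    (E : IntDat Jd (Multiplicative M))
    (χ : Multiplicative M →* D) : ∃ y, IntWit f Q g E χ y := by
  let z₀ := tst (g' := E.c.comp (g.comp ρ)) E.c rfl ≫ (Q.pt g χ ≫ f)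
  have hι : E.ι₀.comp (E.c.comp (g.comp ρ)) = (E.s.comp g).comp ρ := by
    rw [← RingHom.comp_assoc, E.hc, RingHom.comp_assoc]
  let q := Ideal.Quotient.mk (E.I.map E.ι₀)
  have hq : (q.comp E.ι₀).comp (E.c.comp (g.comp ρ)) = ((q.comp E.s).comp g).comp ρ := by
    rw [RingHom.comp_assoc, hι]; rfl
  let x : Tst (E.ι₀.comp (E.c.comp (g.comp ρ))) ⟶ G :=
    (tst (RingHom.id _) ((RingHom.id_comp _).trans hι.symm) ≫ Q.shift f g E.s E.univ χ) *
      (tst E.ι₀ rfl ≫ z₀)⁻¹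
  have hq0 : J.map (((q.comp E.s).comp g).comp ρ) = ⊥ := by
    rw [RingHom.comp_assoc, RingHom.comp_assoc, ← Ideal.map_map, ← Ideal.map_map, Ideal.map_eq_bot_iff_le_ker,
      Ideal.mk_ker, Ideal.map_le_iff_le_comap]
    intro d hd
    rw [Ideal.mem_comap, ← E.hc]
    exact Ideal.mem_map_of_mem _ (E.const_mem d (hJd hd))
  have hx : tst (Ideal.Quotient.mk (E.I.map E.ι₀)) rfl ≫ x = 1 := by
    simp only [x, z₀, Pres.shift, MonObj.comp_mul, GrpObj.comp_inv, ← Category.assoc, tst_comp]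
    rw [mul_inv_eq_one, mul_inv_eq_iff_eq_mul]
    have hqs : (q.comp (RingHom.id E.A)).comp ((E.s.comp g).comp ρ) = q.comp (E.ι₀.comp (E.c.comp (g.comp ρ))) := by
      rw [hι, RingHom.comp_id]
    have hqc : ((q.comp E.ι₀).comp E.c).comp (g.comp ρ) = q.comp (E.ι₀.comp (E.c.comp (g.comp ρ))) := by
      simp only [RingHom.comp_assoc]
    rw [Q.pt_mul, MonObj.comp_mul, ← Q.pt_nat E.s g χ, ← Category.assoc, tst_comp,
      hmod _ _ (by rw [hι]; exact hq0)]
    exact congrArg (fun z => (z ≫ Q.pt g χ) ≫ f * _) (tst_congr (by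
      simp only [RingHom.comp_id, E.hc]) _ _)
  obtain ⟨d, hd₁, hd₂⟩ := exists_tst_descend E.ι₀ E.I E.inj E.nil E.surj (E.c.comp (g.comp ρ)) x hx
  refine ⟨_, d * z₀, ?_, ?_, rfl⟩
  · have h1 : tst E.ι₀ hι = tst (RingHom.id _) ((RingHom.id_comp _).trans hι) ≫ tst E.ι₀ rfl := by
      rw [tst_comp]; exact tst_congr (RingHom.id_comp _).symm _ _
    rw [h1, Category.assoc, MonObj.comp_mul, MonObj.comp_mul, hd₁]
    simp only [x, MonObj.comp_mul, GrpObj.comp_inv, inv_mul_cancel_right]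
    rw [← Category.assoc, tst_comp, tst_congr (RingHom.id_comp _) _ (RingHom.id_comp _), tst_id, Category.id_comp]
  · rw [MonObj.comp_mul, hd₂, _root_.one_mul]

theorem IntWit.unique {Jd : Ideal D} {E : IntDat Jd (Multiplicative M)} {χ : Multiplicative M →* D}
    {y y' : Tst (g.comp ρ) ⟶ G} (h : IntWit f Q g E χ y) (h' : IntWit f Q g E χ y') : y = y' := by
  obtain ⟨e, he₁, he₂, rfl⟩ := h
  obtain ⟨e', he₁', he₂', rfl⟩ := h'
  congr 1
  have h1 := congrArg (fun z => z.left) (he₁.trans he₁'.symm)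
  exact Over.OverMorphism.ext (point_ext E.ι₀ E.I E.inj E.nil h1
    (congrArg (fun z => z.left) (he₂.trans he₂'.symm)))

theorem IntWit.of_map_eq_bot (hmod : MulMod f J) (h0 : J.map (g.comp ρ) = ⊥)
    {Jd : Ideal D} (E : IntDat Jd (Multiplicative M))
    (χ : Multiplicative M →* D) : IntWit f Q g E χ (Q.pt g χ ≫ f) := by
  refine ⟨tst E.c rfl ≫ (Q.pt g χ ≫ f), ?_, rfl, ?_⟩
  · simp only [← Category.assoc, tst_comp, Pres.shift]
    refine eq_mul_inv_iff_mul_eq.mpr ?_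
    rw [Q.pt_mul, hmod _ _ (by rw [RingHom.comp_assoc, ← Ideal.map_map, h0, Ideal.map_bot]), ← Q.pt_nat E.s g χ]
    exact congrArg (fun z => (z ≫ Q.pt g χ) ≫ f * _) (tst_congr E.hc _ _)
  · simp only [← Category.assoc, tst_comp]
    rw [tst_congr E.hπ _ (RingHom.id_comp _), tst_id, Category.id_comp]

theorem IntHom.pt_push {D' : Type u} [CommRing D'] {t : D →+* D'} {Jd : Ideal D} {Jd' : Ideal D'}
    {E : IntDat Jd (Multiplicative M)} {E' : IntDat Jd' (Multiplicative M)} (T : IntHom t E E')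
    (hT : T.F.comp ((E.s.comp g).comp ρ) = (E'.s.comp (t.comp g)).comp ρ) (c : Multiplicative M →* E.A) :
    tst T.F hT ≫ Q.pt (E.s.comp g) c = Q.pt (E'.s.comp (t.comp g)) (T.F.toMonoidHom.comp c) := by
  have hgen : ∀ (g' : R →+* E'.A) (_ : g' = E'.s.comp (t.comp g)) (c' : Multiplicative M →* E'.A),
      (Q.pt g' c').left = (Q.pt (E'.s.comp (t.comp g)) c').left := by rintro _ rfl c'; rfl
  refine Over.OverMorphism.ext ?_
  rw [← hgen _ (show T.F.comp (E.s.comp g) = E'.s.comp (t.comp g) by rw [← RingHom.comp_assoc, T.hs, RingHom.comp_assoc])]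
  exact congrArg (fun m => m.left) (Q.pt_nat T.F (E.s.comp g) c)

/-- transport of a witness along a map of rings -/
theorem IntWit.push {D' : Type u} [CommRing D'] {t : D →+* D'} {Jd : Ideal D} {Jd' : Ideal D'}
    {E : IntDat Jd (Multiplicative M)} {E' : IntDat Jd' (Multiplicative M)} (T : IntHom t E E')
    {χ : Multiplicative M →* D} {y : Tst (g.comp ρ) ⟶ G} (h : IntWit f Q g E χ y)
    (g₁ : R →+* D') (hg : t.comp g = g₁) (χ₁ : Multiplicative M →* D') (hχ : t.toMonoidHom.comp χ = χ₁) :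
    ∃ e : Tst (E'.c.comp (g₁.comp ρ)) ⟶ G,
      tst E'.ι₀ (g' := (E'.s.comp g₁).comp ρ) (by rw [← RingHom.comp_assoc, E'.hc]; rfl) ≫ e =
        (Q.pt (E'.s.comp g₁)
          (E'.s.toMonoidHom.comp χ₁ * T.F.toMonoidHom.comp E.univ) ≫ f) *
          (Q.pt (E'.s.comp g₁) (T.F.toMonoidHom.comp E.univ) ≫ f)⁻¹ ∧
      tst (Ideal.Quotient.mk E'.I) rfl ≫ e = tst (Ideal.Quotient.mk E'.I) rfl ≫ tst E'.c rfl ≫
        (Q.pt g₁ χ₁ ≫ f) ∧
      tst t (show t.comp (g.comp ρ) = g₁.comp ρ by rw [← hg]; rfl) ≫ y = tst E'.π (g' := g₁.comp ρ) (by rw [← RingHom.comp_assoc, E'.hπ, RingHom.id_comp]) ≫ e := by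
  subst hg hχ
  obtain ⟨e, he₁, he₂, rfl⟩ := h
  have hτ : T.τ.comp (E.c.comp (g.comp ρ)) = E'.c.comp ((t.comp g).comp ρ) := by
    rw [← RingHom.comp_assoc, T.hc]; rfl
  have hT : T.F.comp ((E.s.comp g).comp ρ) = (E'.s.comp (t.comp g)).comp ρ := by
    rw [← RingHom.comp_assoc, ← RingHom.comp_assoc, T.hs]; rfl
  refine ⟨tst T.τ hτ ≫ e, ?_, ?_, ?_⟩
  · rw [← Category.assoc, tst_comp, tst_congr T.hι _ (by rw [RingHom.comp_assoc]; exact (congrArg T.F.comp (by rw [← RingHom.comp_assoc, E.hc]; rfl)).trans hT),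
      ← tst_comp E.ι₀ T.F (by rw [← RingHom.comp_assoc, E.hc, RingHom.comp_assoc]) hT, Category.assoc, he₁]
    simp only [Pres.shift, MonObj.comp_mul, GrpObj.comp_inv, ← Category.assoc]
    rw [T.pt_push hT, T.pt_push hT, MonoidHom.comp_mul,
      show T.F.toMonoidHom.comp (E.s.toMonoidHom.comp χ) = E'.s.toMonoidHom.comp (t.toMonoidHom.comp χ) from
      MonoidHom.ext fun m => RingHom.congr_fun T.hs (χ m)]
  · let q' := Ideal.Quotient.mk E'.I
    let τq : E.P ⧸ E.I →+* E'.P ⧸ E'.I := Ideal.Quotient.lift _ (q'.comp T.τ)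
      fun x hx => Ideal.Quotient.eq_zero_iff_mem.mpr (T.hI x hx)
    have hτq : τq.comp (Ideal.Quotient.mk E.I) = q'.comp T.τ := Ideal.Quotient.lift_comp_mk _ _ _
    have hτq' : τq.comp ((Ideal.Quotient.mk E.I).comp (E.c.comp (g.comp ρ))) =
        q'.comp (E'.c.comp ((t.comp g).comp ρ)) := by
      rw [← RingHom.comp_assoc, hτq, RingHom.comp_assoc, hτ]
    have h1 := congrArg (tst τq hτq' ≫ ·) he₂
    simp only [← Category.assoc, tst_comp] at h1 ⊢
    rw [tst_congr hτq.symm _ (by rw [RingHom.comp_assoc]; exact hτq'), h1, ← Q.pt_nat t g χ, ← Category.assoc, tst_comp]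
    exact congrArg (fun z => (z ≫ Q.pt g χ) ≫ f) (tst_congr (by
      rw [← RingHom.comp_assoc, hτq, RingHom.comp_assoc, T.hc, RingHom.comp_assoc]) _ _)
  · rw [← Category.assoc, ← Category.assoc, tst_comp, tst_comp]
    exact congrArg (· ≫ e) (tst_congr T.hπ.symm _ _)

theorem IntWit.map {D' : Type u} [CommRing D'] {t : D →+* D'} {Jd : Ideal D} {Jd' : Ideal D'}
    {E : IntDat Jd (Multiplicative M)} {E' : IntDat Jd' (Multiplicative M)} (T : IntHom t E E')
    (hu : T.F.toMonoidHom.comp E.univ = E'.univ)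
    {χ : Multiplicative M →* D} {y : Tst (g.comp ρ) ⟶ G} (h : IntWit f Q g E χ y) :
    IntWit f Q (t.comp g) E' (t.toMonoidHom.comp χ) (tst t rfl ≫ y) := by
  obtain ⟨e, h1, h2, h3⟩ := h.push T _ rfl _ rfl
  rw [hu] at h1
  exact ⟨e, h1, h2, h3⟩

theorem IntWit.mul (hmod : MulMod f J) {Jd : Ideal D} (hJd : J.map (g.comp ρ) ≤ Jd)
    {E : IntDat Jd (Multiplicative M)}
    {χ χ' : Multiplicative M →* D} (T : IntHom (RingHom.id D) E E)
    (hu : T.F.toMonoidHom.comp E.univ = E.s.toMonoidHom.comp χ' * E.univ)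
    {y y' : Tst (g.comp ρ) ⟶ G} (h : IntWit f Q g E χ y) (h' : IntWit f Q g E χ' y') :
    IntWit f Q g E (χ * χ') (y * y') := by
  obtain ⟨e, h1, h2, h3⟩ := h.push T g (RingHom.id_comp g) χ (MonoidHom.ext fun _ => rfl)
  obtain ⟨e', he₁', he₂', rfl⟩ := h'
  rw [hu] at h1
  have h4 : y = tst E.π (g' := g.comp ρ) (by rw [← RingHom.comp_assoc, E.hπ, RingHom.id_comp]) ≫ e := by
    rw [← h3, tst_id, Category.id_comp]
  refine ⟨e * e', ?_, ?_, ?_⟩
  · rw [MonObj.comp_mul, h1, he₁']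
    simp only [Pres.shift, MonoidHom.comp_mul]
    rw [mul_assoc (E.s.toMonoidHom.comp χ)]
    generalize Q.pt (E.s.comp g) (E.s.toMonoidHom.comp χ * (E.s.toMonoidHom.comp χ' * E.univ)) ≫ f = a
    generalize Q.pt (E.s.comp g) (E.s.toMonoidHom.comp χ' * E.univ) ≫ f = b
    exact by group
  · rw [MonObj.comp_mul, h2, he₂']
    simp only [← Category.assoc, Q.pt_mul, MonObj.comp_mul]
    rw [hmod _ _ (by
      rw [← RingHom.comp_assoc, ← Ideal.map_map, Ideal.map_eq_bot_iff_le_ker]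
      intro w hw
      exact Ideal.Quotient.eq_zero_iff_mem.mpr (E.const_mem w (hJd hw)))]
  · rw [MonObj.comp_mul, h4]

/-- the rings used -/
noncomputable def offDat (Jd : Ideal D) (hJd : Jd * Jd = ⊥) (N : Type) [CommMonoid N] : IntDat Jd N where
  A := MonoidAlgebra D N
  P := offSub Jd N
  ringA := inferInstance
  ringP := inferInstance
  s := MonoidAlgebra.singleOneRingHom
  c := offConst Jd N
  ι₀ := (offSub Jd N).subtype
  I := offI Jd N
  π := offProj Jd N hJd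
  univ := MonoidAlgebra.of D N
  inj := Subtype.val_injective
  hc := rfl
  hπ := offProj_const Jd N hJd
  nil := offI_nilpotent Jd N hJd
  surj := offI_surj Jd N
  const_mem _ hd := Ideal.mem_map_of_mem (MonoidAlgebra.singleOneRingHom : D →+* MonoidAlgebra D N) hd

theorem sq_map (k : R₀ →+* D) (hJ : (J ^ 2).map k = ⊥) : J.map k * J.map k = ⊥ := by
  rw [← Ideal.map_mul, ← pow_two, hJ]

/-- `y` is the integral -/
def IsInt (f : H ⟶ G) (J : Ideal R₀) (Q : Pres H ρ M) (g : R →+* D) (hJ : (J ^ 2).map (g.comp ρ) = ⊥)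
    (χ : Multiplicative M →* D) (y : Tst (g.comp ρ) ⟶ G) : Prop :=
  IntWit f Q g (offDat (J.map (g.comp ρ)) (sq_map _ hJ) (Multiplicative M)) χ y

theorem isInt_exists (hJ : (J ^ 2).map (g.comp ρ) = ⊥) (hmod : MulMod f J) (χ : Multiplicative M →* D) :
    ∃ y, IsInt f J Q g hJ χ y := intWit_exists hmod le_rfl _ χ

theorem IsInt.of_map_eq_bot (hJ : (J ^ 2).map (g.comp ρ) = ⊥) (hmod : MulMod f J) (h0 : J.map (g.comp ρ) = ⊥)
    (χ : Multiplicative M →* D) : IsInt f J Q g hJ χ (Q.pt g χ ≫ f) :=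
  IntWit.of_map_eq_bot hmod h0 _ χ

theorem exists_twist (Jd : Ideal D) (hJd : Jd * Jd = ⊥) (χ : Multiplicative M →* D) :
    ∃ T : IntHom (RingHom.id D) (offDat Jd hJd (Multiplicative M)) (offDat Jd hJd (Multiplicative M)),
      T.F.toMonoidHom.comp (offDat Jd hJd (Multiplicative M)).univ =
        (offDat Jd hJd (Multiplicative M)).s.toMonoidHom.comp χ * (offDat Jd hJd (Multiplicative M)).univ := by
  classical
  let sN : D →+* MonoidAlgebra D (Multiplicative M) := MonoidAlgebra.singleOneRingHom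
  let F : MonoidAlgebra D (Multiplicative M) →+* MonoidAlgebra D (Multiplicative M) :=
    MonoidAlgebra.liftNCRingHom sN (sN.toMonoidHom.comp χ * MonoidAlgebra.of D (Multiplicative M))
      fun _ _ => Commute.all _ _
  have hF : F.comp sN = sN.comp (RingHom.id D) := RingHom.ext fun b => by simp [F, sN]
  have hco : ∀ w, (F w).coeff 1 = w.coeff 1 := fun w => by
    induction w using MonoidAlgebra.induction_linear with
    | zero => simp
    | add a b ha hb => simp [ha, hb]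
    | single n r =>
      by_cases hn : n = 1
      · subst hn; simp [F, sN, ← MonoidAlgebra.one_def]
      · simp [F, sN, MonoidAlgebra.coeff_single, Finsupp.single_eq_of_ne (Ne.symm hn)]
  refine ⟨⟨F, offMap F (RingHom.id D) hF (Ideal.map_id _).le, hF, rfl, RingHom.ext fun r => Subtype.ext
    (RingHom.congr_fun hF r), fun w hw => offMap_mem F (RingHom.id D) hF (Ideal.map_id _).le hw,
    RingHom.ext fun w => hco _⟩, MonoidHom.ext fun m => ?_⟩
  change F (MonoidAlgebra.of D (Multiplicative M) m) = sN (χ m) * MonoidAlgebra.of D (Multiplicative M) m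
  simp [F, sN]

theorem IsInt.mul {hJ : (J ^ 2).map (g.comp ρ) = ⊥} (hmod : MulMod f J) {χ χ' : Multiplicative M →* D}
    {y y' : Tst (g.comp ρ) ⟶ G} (h : IsInt f J Q g hJ χ y) (h' : IsInt f J Q g hJ χ' y') :
    IsInt f J Q g hJ (χ * χ') (y * y') := by
  obtain ⟨T, hT⟩ := exists_twist (J.map (g.comp ρ)) (sq_map _ hJ) χ'
  exact IntWit.mul hmod le_rfl T hT h h'

theorem exists_mapHom {D' : Type u} [CommRing D'] (t : D →+* D') (Jd : Ideal D) (hJd : Jd * Jd = ⊥)
    (Jd' : Ideal D') (hJd' : Jd' * Jd' = ⊥) (hle : Jd.map t ≤ Jd') :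
    ∃ T : IntHom t (offDat Jd hJd (Multiplicative M)) (offDat Jd' hJd' (Multiplicative M)),
      T.F.toMonoidHom.comp (offDat Jd hJd (Multiplicative M)).univ = (offDat Jd' hJd' (Multiplicative M)).univ := by
  let F := MonoidAlgebra.mapRingHom (Multiplicative M) t
  have hF : F.comp MonoidAlgebra.singleOneRingHom =
      (MonoidAlgebra.singleOneRingHom : D' →+* MonoidAlgebra D' (Multiplicative M)).comp t :=
    RingHom.ext fun b => by simp [F]
  refine ⟨⟨F, offMap F t hF hle, hF, rfl, RingHom.ext fun r => Subtype.ext (RingHom.congr_fun hF r),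
    fun w hw => offMap_mem F t hF hle hw, RingHom.ext fun w => MonoidAlgebra.coeff_mapRingHom _ _ _⟩,
    MonoidHom.ext fun m => ?_⟩
  change F (MonoidAlgebra.of D (Multiplicative M) m) = MonoidAlgebra.of D' (Multiplicative M) m
  simp [F]

theorem IsInt.map {hJ : (J ^ 2).map (g.comp ρ) = ⊥} {χ : Multiplicative M →* D} {y : Tst (g.comp ρ) ⟶ G}
    (h : IsInt f J Q g hJ χ y) {D' : Type u} [CommRing D'] (t : D →+* D') :
    IsInt f J Q (t.comp g) (show (J ^ 2).map ((t.comp g).comp ρ) = ⊥ by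
      rw [RingHom.comp_assoc, ← Ideal.map_map, hJ, Ideal.map_bot])
      (t.toMonoidHom.comp χ) (tst t rfl ≫ y) := by
  obtain ⟨T, hT⟩ := exists_mapHom (M := M) t (J.map (g.comp ρ)) (sq_map _ hJ)
    (J.map ((t.comp g).comp ρ)) (sq_map _ (by rw [RingHom.comp_assoc, ← Ideal.map_map, hJ, Ideal.map_bot]))
    (by rw [Ideal.map_map]; rfl)
  exact IntWit.map T hT h

theorem IsInt.unique {hJ : (J ^ 2).map (g.comp ρ) = ⊥} {χ : Multiplicative M →* D} {y y' : Tst (g.comp ρ) ⟶ G}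
    (h : IsInt f J Q g hJ χ y) (h' : IsInt f J Q g hJ χ y') : y = y' := IntWit.unique h h'

end Groth.Agent.H21Diag
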