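import Groth.Agent.H21Diag.TransporterSub
import Mathlib.GroupTheory.SemidirectProduct

/-!
Invariants of a group of multiplicative type acting by automorphisms on a smooth group.
-/

open CategoryTheory MonoidalCategory CartesianMonoidalCategory MonObj GrpObj AlgebraicGeometry
open CategoryTheory.Limits Opposite

universe u

namespace Groth.Agent.H21Diag

variable {S : Scheme.{u}} {H G : Over S} [GrpObj H] [GrpObj G]

omit [GrpObj G] in
theorem lift_one_act (a : AlgGrp.Action H G) {X : Over S} (g : X ⟶ G) :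
    lift (1 : X ⟶ H) g ≫ a.act = g := by
  have h := congrArg (lift (toUnit X) g ≫ ·) a.one_act
  simp only [lift_leftUnitor_hom, ← Category.assoc, lift_whiskerRight] at h
  exact h

omit [GrpObj G] in
theorem lift_mul_act (a : AlgGrp.Action H G) {X : Over S} (h h' : X ⟶ H) (g : X ⟶ G) :
    lift (h * h') g ≫ a.act = lift h (lift h' g ≫ a.act) ≫ a.act := by
  have e := congrArg (lift (lift h h') g ≫ ·) a.mul_act
  simp only [← Category.assoc, lift_whiskerRight, lift_lift_associator_hom, lift_whiskerLeft] at e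
  exact e

/-- the action on points by automorphisms -/
noncomputable def pointAut (a : AlgGrp.Action H G)
    (hmul : ∀ (X : Over S) (h : X ⟶ H) (g g' : X ⟶ G),
      lift h (g * g') ≫ a.act = (lift h g ≫ a.act) * (lift h g' ≫ a.act)) (X : Over S) :
    (X ⟶ H) →* MulAut (X ⟶ G) where
  toFun h :=
    { toFun := fun g => lift h g ≫ a.act
      invFun := fun g => lift h⁻¹ g ≫ a.act
      left_inv := fun g => (lift_mul_act a h⁻¹ h g).symm.trans (by rw [inv_mul_cancel, lift_one_act])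
      right_inv := fun g => (lift_mul_act a h h⁻¹ g).symm.trans (by rw [mul_inv_cancel, lift_one_act])
      map_mul' := hmul X h }
  map_one' := MulEquiv.ext fun g => lift_one_act a g
  map_mul' h h' := MulEquiv.ext fun g => lift_mul_act a h h' g

/-- the points of the semidirect product -/
noncomputable def semiFunctor (a : AlgGrp.Action H G)
    (hmul : ∀ (X : Over S) (h : X ⟶ H) (g g' : X ⟶ G),
      lift h (g * g') ≫ a.act = (lift h g ≫ a.act) * (lift h g' ≫ a.act)) :
    (Over S)ᵒᵖ ⥤ GrpCat.{u} where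
  obj X := GrpCat.of ((X.unop ⟶ G) ⋊[pointAut a hmul X.unop] (X.unop ⟶ H))
  map {X Y} f := GrpCat.ofHom (SemidirectProduct.map
    { toFun := (f.unop ≫ ·), map_one' := MonObj.comp_one _, map_mul' := MonObj.comp_mul _ }
    { toFun := (f.unop ≫ ·), map_one' := MonObj.comp_one _, map_mul' := MonObj.comp_mul _ }
    (fun h => MonoidHom.ext fun g => by
      change f.unop ≫ lift h g ≫ a.act = lift (f.unop ≫ h) (f.unop ≫ g) ≫ a.act
      rw [← Category.assoc, comp_lift]))
  map_id X := GrpCat.hom_ext (MonoidHom.ext fun x =>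
    SemidirectProduct.ext (Category.id_comp x.left) (Category.id_comp x.right))
  map_comp f g := GrpCat.hom_ext (MonoidHom.ext fun x =>
    SemidirectProduct.ext (Category.assoc _ _ x.left) (Category.assoc _ _ x.right))

/-- the underlying scheme of the semidirect product -/
@[nolint unusedArguments]
noncomputable def semiObj (_a : AlgGrp.Action H G) : Over S := G ⊗ H

/-- points of the product as elements of the semidirect product -/
noncomputable def semiEquiv (a : AlgGrp.Action H G)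
    (hmul : ∀ (X : Over S) (h : X ⟶ H) (g g' : X ⟶ G),
      lift h (g * g') ≫ a.act = (lift h g ≫ a.act) * (lift h g' ≫ a.act)) (X : Over S) :
    (X ⟶ semiObj a) ≃ ((X ⟶ G) ⋊[pointAut a hmul X] (X ⟶ H)) where
  toFun z := ⟨z ≫ fst G H, z ≫ snd G H⟩
  invFun p := lift p.left p.right
  left_inv z := (comp_lift z (fst G H) (snd G H)).symm.trans
    ((congrArg (z ≫ ·) (lift_fst_snd (X := G) (Y := H))).trans (Category.comp_id z))
  right_inv p := SemidirectProduct.ext (lift_fst _ _) (lift_snd _ _)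

/-- the semidirect product represents its points -/
noncomputable def semiRep (a : AlgGrp.Action H G)
    (hmul : ∀ (X : Over S) (h : X ⟶ H) (g g' : X ⟶ G),
      lift h (g * g') ≫ a.act = (lift h g ≫ a.act) * (lift h g' ≫ a.act)) :
    (semiFunctor a hmul ⋙ forget _).RepresentableBy (semiObj a) where
  homEquiv {X} := semiEquiv a hmul X
  homEquiv_comp f z := SemidirectProduct.ext (Category.assoc _ _ _) (Category.assoc _ _ _)

/-- a semidirect product as a group scheme -/
theorem exists_semi (a : AlgGrp.Action H G)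
    (hmul : ∀ (X : Over S) (h : X ⟶ H) (g g' : X ⟶ G),
      lift h (g * g') ≫ a.act = (lift h g ≫ a.act) * (lift h g' ≫ a.act)) :
    ∃ (P : Over S) (_ : GrpObj P) (inl : G ⟶ P) (inr : H ⟶ P) (π : P ⟶ G),
      IsMonHom inl ∧ IsMonHom inr ∧
      (∀ (X : Over S) (p : X ⟶ P), ∃ (g : X ⟶ G) (h : X ⟶ H), p = (g ≫ inl) * (h ≫ inr)) ∧
      (∀ (X : Over S) (g : X ⟶ G) (h : X ⟶ H), ((g ≫ inl) * (h ≫ inr)) ≫ π = g) ∧
      ∀ (X : Over S) (g : X ⟶ G) (h : X ⟶ H),
        (g ≫ inl) * (h ≫ inr) = (h ≫ inr) * (g ≫ inl) ↔ lift h g ≫ a.act = g := by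
  let : GrpObj (semiObj a) := GrpObj.ofRepresentableBy _ (semiFunctor a hmul) (semiRep a hmul)
  have hE : ∀ {X : Over S} (z w : X ⟶ semiObj a),
      semiEquiv a hmul X (z * w) = semiEquiv a hmul X z * semiEquiv a hmul X w := fun {X} z w => by
    let m : (semiObj a ⊗ semiObj a ⟶ G) ⋊[pointAut a hmul _] (semiObj a ⊗ semiObj a ⟶ H) :=
      semiEquiv a hmul _ (fst _ _) * semiEquiv a hmul _ (snd _ _)
    have h1 : z * w = lift z w ≫ (semiEquiv a hmul _).symm m := by rw [Hom.mul_def]; rfl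
    have hc : ∀ (q : semiObj a ⊗ semiObj a ⟶ semiObj a), semiEquiv a hmul X (lift z w ≫ q) =
        ((semiFunctor a hmul).map (lift z w).op).hom (semiEquiv a hmul _ q) := fun q =>
      SemidirectProduct.ext (Category.assoc _ _ _) (Category.assoc _ _ _)
    rw [h1, hc, Equiv.apply_symm_apply]
    change ((semiFunctor a hmul).map (lift z w).op).hom (semiEquiv a hmul _ (fst _ _) * semiEquiv a hmul _ (snd _ _)) = _
    refine (map_mul ((semiFunctor a hmul).map (lift z w).op).hom _ _).trans ?_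
    rw [← hc, ← hc, lift_fst, lift_snd]
    rfl
  let inl : G ⟶ semiObj a := lift (𝟙 G) 1
  let inr : H ⟶ semiObj a := lift 1 (𝟙 H)
  have hl : ∀ {X : Over S} (g : X ⟶ G), semiEquiv a hmul X (g ≫ inl) = SemidirectProduct.inl g := fun {X} g => by
    refine SemidirectProduct.ext ?_ ?_
    · change (g ≫ lift (𝟙 G) (1 : G ⟶ H)) ≫ fst G H = g
      rw [Category.assoc, lift_fst, Category.comp_id]
    · change (g ≫ lift (𝟙 G) (1 : G ⟶ H)) ≫ snd G H = 1
      rw [Category.assoc, lift_snd, MonObj.comp_one]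
  have hr : ∀ {X : Over S} (h : X ⟶ H), semiEquiv a hmul X (h ≫ inr) = SemidirectProduct.inr h := fun {X} h => by
    refine SemidirectProduct.ext ?_ ?_
    · change (h ≫ lift (1 : H ⟶ G) (𝟙 H)) ≫ fst G H = 1
      rw [Category.assoc, lift_fst, MonObj.comp_one]
    · change (h ≫ lift (1 : H ⟶ G) (𝟙 H)) ≫ snd G H = h
      rw [Category.assoc, lift_snd, Category.comp_id]
  refine ⟨semiObj a, this, inl, inr, fst G H, ?_, ?_, ?_, ?_, ?_⟩
  · exact isMonHom_of_mul inl fun x y => (semiEquiv a hmul _).injective (by rw [hE, hl, hl, hl, map_mul])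
  · exact isMonHom_of_mul inr fun x y => (semiEquiv a hmul _).injective (by rw [hE, hr, hr, hr, map_mul])
  · refine fun X p => ⟨p ≫ fst G H, p ≫ snd G H, (semiEquiv a hmul _).injective ?_⟩
    rw [hE, hl, hr]
    exact (SemidirectProduct.inl_left_mul_inr_right _).symm
  · intro X g h
    change (semiEquiv a hmul X ((g ≫ inl) * (h ≫ inr))).left = g
    rw [hE, hl, hr]
    simp
  · intro X g h
    rw [← (semiEquiv a hmul X).apply_eq_iff_eq, hE, hE, hl, hr, SemidirectProduct.ext_iff]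
    simp only [SemidirectProduct.mul_left, SemidirectProduct.left_inl, SemidirectProduct.left_inr,
      SemidirectProduct.right_inl, SemidirectProduct.right_inr, SemidirectProduct.mul_right, map_one,
      _root_.mul_one, _root_.one_mul, and_true]
    exact eq_comm

theorem commute_of_conj_eq {M : Type*} [Group M] {g d r k : M}
    (h : g * k * g⁻¹ = d * r * k * (d * r)⁻¹) (hrk : r * k = k * r) : d⁻¹ * g * k = k * (d⁻¹ * g) := by
  have h1 : d⁻¹ * (g * k * g⁻¹) * d = k := by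
    rw [h, mul_assoc d r k, hrk]; group
  calc d⁻¹ * g * k = d⁻¹ * (g * k * g⁻¹) * d * (d⁻¹ * g) := by group
    _ = k * (d⁻¹ * g) := by rw [h1]

/-- points fixed under the action -/
def IsInv (a : AlgGrp.Action H G) {X : Over S} (g : X ⟶ G) : Prop :=
  ∀ (X' : Over S) (f : X' ⟶ X) (h : X' ⟶ H), lift h (f ≫ g) ≫ a.act = f ≫ g

omit [GrpObj G] in
theorem exists_inv_locus (hH : IsDiagLoc H) [IsSeparated G.hom] [LocallyOfFiniteType G.hom]
    (a : AlgGrp.Action H G) :
    ∃ (Z : Over S) (j : Z ⟶ G), IsClosedImmersion j.left ∧ LocallyOfFinitePresentation j.left ∧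
      ∀ (X : Over S) (g : X ⟶ G), (∃ z : X ⟶ Z, z ≫ j = g) ↔ IsInv a g := by
  obtain ⟨Z, j, hj, hjf, hiff⟩ := exists_equalizer_weil (T := G) hH a.act (snd H G)
  refine ⟨Z, j, hj, hjf, fun X g => (hiff X g).trans (forall_congr' fun X' => forall_congr' fun x =>
    forall_congr' fun h => ?_)⟩
  rw [lift_snd]

section lifting

variable {A : Type u} [CommRing A] (b : Spec (CommRingCat.of A) ⟶ S)

/-- invariant points of a smooth group lift along square zero ideals -/
theorem exists_lift_inv (hH : SGA3x.IsMultTypeFT H) (hG : Smooth G.hom) (a : AlgGrp.Action H G)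
    (hmul : ∀ (X : Over S) (h : X ⟶ H) (g g' : X ⟶ G),
      lift h (g * g') ≫ a.act = (lift h g ≫ a.act) * (lift h g' ≫ a.act))
    (I : Ideal A) (hI : I ^ 2 = ⊥)
    (g₀ : Over.mk (Spec.map (CommRingCat.ofHom (Ideal.Quotient.mk I)) ≫ b) ⟶ G) (h₀ : IsInv a g₀) :
    ∃ g : Over.mk b ⟶ G, IsInv a g ∧
      Spec.map (CommRingCat.ofHom (Ideal.Quotient.mk I)) ≫ g.left = g₀.left := by
  obtain ⟨P, _, inl, inr, π, _, _, hdec, hπ, hconj⟩ := exists_semi a hmul
  -- the first lift
  obtain ⟨g₁l, hg₁l, hg₁b⟩ := exists_lift_of_isNilpotent ((Groth.Agent.S1488.result G.hom).mp hG).2 I ⟨2, hI⟩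
    g₀.left b (Over.w g₀).symm
  let g₁ : Over.mk b ⟶ G := Over.homMk g₁l hg₁b
  let o : (Over.map b).obj (𝟙_ (Over (Spec (CommRingCat.of A)))) ⟶ Over.mk b := Over.homMk (𝟙 _) (by simp)
  let o' : Over.mk b ⟶ (Over.map b).obj (𝟙_ (Over (Spec (CommRingCat.of A)))) := Over.homMk (𝟙 _) (by simp)
  have hoo : o ≫ o' = 𝟙 _ := Over.OverMorphism.ext (Category.id_comp _)
  have ho'o : o' ≫ o = 𝟙 _ := Over.OverMorphism.ext (Category.id_comp _)
  have := isMonHom_pullback b inr
  let p₁ : 𝟙_ (Over (Spec (CommRingCat.of A))) ⟶ Red.bc b P := bcEquiv b P _ (o ≫ g₁ ≫ inl)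
  have hp₁ : bcHom b P _ p₁ = o ≫ g₁ ≫ inl := Equiv.symm_apply_apply _ _
  let U : Red.bc b H ⟶ Red.bc b P := (Over.pullback b).map inr
  let V : Red.bc b H ⟶ Red.bc b P := (toUnit _ ≫ p₁) * U * (toUnit _ ≫ p₁)⁻¹
  have hV : ∀ {X : Over (Spec (CommRingCat.of A))} (h : X ⟶ Red.bc b H),
      h ≫ V = (toUnit X ≫ p₁) * (h ≫ U) * (toUnit X ≫ p₁)⁻¹ := fun {X} h => by
    simp only [V, MonObj.comp_mul, GrpObj.comp_inv, ← Category.assoc, toUnit_unique (h ≫ toUnit _) (toUnit X)]
  have : IsMonHom V := isMonHom_of_mul V fun x y => by rw [hV, hV, hV, MonObj.mul_comp]; group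
  obtain ⟨c, hc0, hc⟩ := exists_conj_of_eq_mod (isDiagLoc_bc (isDiagLoc_of_isMultTypeFT hH) b) U V I hI
    fun D _ g hg h => by
    refine (bcEquiv b P (Tst g)).symm.injective ?_
    change bcHom b P (Tst g) _ = bcHom b P (Tst g) _
    rw [hV, map_mul, map_mul, map_inv, bcHom_comp, bcHom_precomp b (toUnit (Tst g)), hp₁]
    let l : A ⧸ I →+* D := Ideal.Quotient.lift I g fun x hx => by
      rw [← Ideal.mem_bot, ← hg]; exact Ideal.mem_map_of_mem g hx
    let q : (Over.map b).obj (Tst g) ⟶ Over.mk (Spec.map (CommRingCat.ofHom (Ideal.Quotient.mk I)) ≫ b) :=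
      Over.homMk (Spec.map (CommRingCat.ofHom l)) (by
        change Spec.map _ ≫ Spec.map _ ≫ b = Spec.map _ ≫ b
        rw [← Category.assoc, ← specMap_comp, Ideal.Quotient.lift_comp_mk])
    have hq : (Over.map b).map (toUnit (Tst g)) ≫ o ≫ g₁ = q ≫ g₀ := Over.OverMorphism.ext (by
      change Spec.map _ ≫ 𝟙 _ ≫ g₁l = Spec.map _ ≫ g₀.left
      rw [Category.id_comp, ← hg₁l, ← Category.assoc, ← specMap_comp, Ideal.Quotient.lift_comp_mk])
    rw [← Category.assoc o g₁ inl, ← Category.assoc _ (o ≫ g₁) inl, hq, eq_comm, mul_inv_eq_iff_eq_mul, hconj]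
    exact h₀ _ q _
  obtain ⟨dl, dr, hd⟩ := hdec _ (o' ≫ bcHom b P _ c)
  refine ⟨dl⁻¹ * g₁, fun X x h => ?_, ?_⟩
  · obtain ⟨X', e₁, e₂, he₁₂, hx⟩ := exists_over_lift b x
    have h1 := congrArg (fun z => e₁ ≫ bcHom b P X' z) (hc X' (bcEquiv b H X' (e₂ ≫ h)))
    simp only [hV, U, map_mul, map_inv, bcHom_comp] at h1
    rw [show bcHom b H X' (bcEquiv b H X' (e₂ ≫ h)) = e₂ ≫ h from Equiv.symm_apply_apply _ _] at h1
    simp only [bcHom_precomp, MonObj.comp_mul, GrpObj.comp_inv, hp₁] at h1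
    have hx' : ∀ {Y : Over S} (k : (Over.map b).obj (𝟙_ _) ⟶ Y),
        e₁ ≫ (Over.map b).map (toUnit X') ≫ k = x ≫ o' ≫ k := fun k => by
      exact ((Category.assoc _ _ _).symm.trans (congrArg (· ≫ k) hx)).trans (Category.assoc _ _ _)
    have he : e₁ ≫ (e₂ ≫ h) ≫ inr = h ≫ inr := by
      rw [← Category.assoc, ← Category.assoc e₁ e₂ h, he₁₂, Category.id_comp]
    rw [hx', hx', ← Category.assoc o' o, ho'o, Category.id_comp, he, hd, MonObj.comp_mul] at h1
    simp only [← Category.assoc] at h1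
    rw [MonObj.comp_mul, GrpObj.comp_inv]
    refine (hconj _ _ _).mp ?_
    rw [MonObj.mul_comp, GrpObj.inv_comp]
    have hcr : ((x ≫ dr) ≫ inr) * (h ≫ inr) = (h ≫ inr) * ((x ≫ dr) ≫ inr) := by
      rw [← MonObj.mul_comp, ← MonObj.mul_comp, mult_comm hH]
    exact commute_of_conj_eq h1 hcr
  · have h1 := congrArg (fun z => bcHom b P _ z) (hc0 _ (Ideal.Quotient.mk I) (Ideal.map_quotient_self I))
    simp only [bcHom_precomp, map_one] at h1
    let i₀ : (Over.map b).obj (Tst (Ideal.Quotient.mk I)) ⟶ Over.mk b :=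
      (Over.map b).map (toUnit (Tst (Ideal.Quotient.mk I))) ≫ o
    have h2 : i₀ ≫ dl = 1 := by
      have h3 : i₀ ≫ o' ≫ bcHom b P _ c = 1 := by
        rw [Category.assoc, ← Category.assoc o o', hoo, Category.id_comp, h1]
      rw [hd, MonObj.comp_mul, ← Category.assoc, ← Category.assoc] at h3
      have h5 := hπ _ 1 (1 : (Over.map b).obj (Tst (Ideal.Quotient.mk I)) ⟶ H)
      rw [MonObj.one_comp, MonObj.one_comp, _root_.mul_one] at h5
      rw [← hπ _ (i₀ ≫ dl) (i₀ ≫ dr), h3, h5]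
    have h4 : i₀ ≫ (dl⁻¹ * g₁) = i₀ ≫ g₁ := by
      rw [MonObj.comp_mul, GrpObj.comp_inv, h2, inv_one, _root_.one_mul]
    have h5 := congrArg (fun z => z.left) h4
    change (Spec.map _ ≫ 𝟙 _) ≫ _ = (Spec.map _ ≫ 𝟙 _) ≫ g₁l at h5
    rw [Category.comp_id] at h5
    exact h5.trans hg₁l

end lifting

/-- the invariants form a smooth closed subgroup -/
theorem exists_invariants (hH : SGA3x.IsMultTypeFT H) [IsSeparated G.hom] (hG : Smooth G.hom)
    (a : AlgGrp.Action H G)
    (hmul : ∀ (X : Over S) (h : X ⟶ H) (g g' : X ⟶ G),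
      lift h (g * g') ≫ a.act = (lift h g ≫ a.act) * (lift h g' ≫ a.act)) :
    ∃ (Z : Over S) (_ : GrpObj Z) (z : Z ⟶ G) (_ : IsMonHom z), IsClosedImmersion z.left ∧ Smooth Z.hom ∧
      ∀ (X : Over S) (g : X ⟶ G), (∃ x : X ⟶ Z, x ≫ z = g) ↔ IsInv a g := by
  have := ((Groth.Agent.S1488.result G.hom).mp hG).1
  obtain ⟨Z, j, hj, hjf, hiff⟩ := exists_inv_locus (isDiagLoc_of_isMultTypeFT hH) a
  have : Mono j := Over.mono_of_mono_left j
  obtain ⟨_, hjm⟩ := exists_grpObj_of_mono j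
    ((hiff _ _).mpr fun X' x h => by
      rw [MonObj.comp_one]
      exact map_one (pointAut a hmul X' h))
    (fun X p q => (hiff _ _).mpr fun X' x h => by
      rw [MonObj.comp_mul, hmul, (hiff _ _).mp ⟨p, rfl⟩ X' x h, (hiff _ _).mp ⟨q, rfl⟩ X' x h])
    (fun X p => (hiff _ _).mpr fun X' x h => by
      rw [GrpObj.comp_inv]
      refine (map_inv (pointAut a hmul X' h) (x ≫ p ≫ j)).trans (congrArg (·⁻¹) ?_)
      exact (hiff _ _).mp ⟨p, rfl⟩ X' x h)
  refine ⟨Z, _, j, hjm, hj, smooth_of_lifting j hG fun A _ I hI b g₀ hg₀ => ?_, hiff⟩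
  obtain ⟨g, hg, hgl⟩ := exists_lift_inv b hH hG a hmul I hI g₀ ((hiff _ g₀).mp hg₀)
  exact ⟨g, (hiff _ g).mpr hg, hgl⟩

end Groth.Agent.H21Diag
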