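import Groth.Agent.H21Diag.HomDS
import Groth.Agent.H21Diag.Cover

/-!
Clopen loci of homomorphisms between groups of multiplicative type.
-/

open CategoryTheory MonoidalCategory CartesianMonoidalCategory MonObj GrpObj AlgebraicGeometry
open CategoryTheory.Limits

universe u

namespace Groth.Agent.H21Diag

variable {S : Scheme.{u}} {G H : Over S} [GrpObj G] [GrpObj H]

/-- on points over `y`, the homomorphism is given by composition with `φ` -/
def ActsBy {U U' : Scheme.{u}} {u₀ : U ⟶ S} {u₀' : U' ⟶ S} {M M' : Type} [AddCommGroup M] [AddCommGroup M']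
    (e : Grp.mk (Red.bc u₀ G) ≅ Grp.mk (Red.DS U M)) (e' : Grp.mk (Red.bc u₀' H) ≅ Grp.mk (Red.DS U' M'))
    (f : G ⟶ H) {B : Type u} [CommRing B] (y : Spec (CommRingCat.of B) ⟶ U)
    (y' : Spec (CommRingCat.of B) ⟶ U') (φ : Multiplicative M' →* Multiplicative M) : Prop :=
  y ≫ u₀ = y' ≫ u₀' ∧ ∀ (D : Type u) [CommRing D] (g : B →+* D) (χ : Multiplicative M →* D),
    (gpt e (Spec.map (CommRingCat.ofHom g) ≫ y) χ ≫ f).left =
      (gpt e' (Spec.map (CommRingCat.ofHom g) ≫ y') (χ.comp φ)).left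

theorem ActsBy.comp {U U' : Scheme.{u}} {u₀ : U ⟶ S} {u₀' : U' ⟶ S} {M M' : Type} [AddCommGroup M]
    [AddCommGroup M'] {e : Grp.mk (Red.bc u₀ G) ≅ Grp.mk (Red.DS U M)}
    {e' : Grp.mk (Red.bc u₀' H) ≅ Grp.mk (Red.DS U' M')} {f : G ⟶ H} {B : Type u} [CommRing B]
    {y : Spec (CommRingCat.of B) ⟶ U} {y' : Spec (CommRingCat.of B) ⟶ U'}
    {φ : Multiplicative M' →* Multiplicative M} (h : ActsBy e e' f y y' φ) {C : Type u} [CommRing C]
    (g₀ : B →+* C) :
    ActsBy e e' f (Spec.map (CommRingCat.ofHom g₀) ≫ y) (Spec.map (CommRingCat.ofHom g₀) ≫ y') φ := by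
  refine ⟨by rw [Category.assoc, h.1, Category.assoc], fun D _ g χ => ?_⟩
  rw [specMap_comp_assoc, specMap_comp_assoc]
  exact h.2 D (g.comp g₀) χ

theorem ActsBy.ext_eq {U U' : Scheme.{u}} {u₀ : U ⟶ S} {u₀' : U' ⟶ S} {M M' : Type} [AddCommGroup M]
    [AddCommGroup M'] {e : Grp.mk (Red.bc u₀ G) ≅ Grp.mk (Red.DS U M)}
    {e' : Grp.mk (Red.bc u₀' H) ≅ Grp.mk (Red.DS U' M')} {f : G ⟶ H} {B : Type u} [CommRing B]
    {y : Spec (CommRingCat.of B) ⟶ U} {y' : Spec (CommRingCat.of B) ⟶ U'}
    {φ : Multiplicative M' →* Multiplicative M} (h : ActsBy e e' f y y' φ) (χ : Multiplicative M →* B) :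
    (gpt e y χ ≫ f).left = (gpt e' y' (χ.comp φ)).left := by
  have hid : Spec.map (CommRingCat.ofHom (RingHom.id B)) = 𝟙 _ := by rw [CommRingCat.ofHom_id, Spec.map_id]
  have h1 := h.2 B (RingHom.id B) χ
  rw [hid, Category.id_comp, Category.id_comp] at h1
  exact h1

variable (f : G ⟶ H) [IsMonHom f]

/-- a property of fibres determined by the character map holds on an open and closed set -/
theorem isClopen_of_charMap (hG : SGA3x.IsMultTypeFT G) (hH : SGA3x.IsMultTypeFT H) (P : S → Prop)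
    (Q : ∀ (M M' : Type) [AddCommGroup M] [AddCommGroup M'], (Multiplicative M' →* Multiplicative M) → Prop)
    (hPQ : ∀ (U : Scheme.{u}) (u₀ : U ⟶ S) (M M' : Type) [AddCommGroup M] [AddCommGroup M'] [AddGroup.FG M] [AddGroup.FG M']
      (e : Grp.mk (Red.bc u₀ G) ≅ Grp.mk (Red.DS U M)) (e' : Grp.mk (Red.bc u₀ H) ≅ Grp.mk (Red.DS U M'))
      (k : Type u) [Field k] (y : Spec (CommRingCat.of k) ⟶ U) (φ : Multiplicative M' →* Multiplicative M),
      ActsBy e e' f y y φ → (P ((y ≫ u₀).base (IsLocalRing.closedPoint k)) ↔ Q M M' φ)) :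
    IsClopen {s | P s} := by
  obtain ⟨T, g, hg, hs, hqc, hloc⟩ := exists_common_cover hG hH
  refine isClopen_of_cover g hqc _ ?_
  have key : ∀ t : T, ∃ N : Set T, IsOpen N ∧ t ∈ N ∧ ∀ x ∈ N, P (g.base x) ↔ P (g.base t) := by
    intro t
    obtain ⟨U, htU, ⟨M, _, hM, ⟨e⟩⟩, M', _, hM', ⟨e'⟩⟩ := hloc t
    obtain ⟨A, hA, htA, hAU⟩ := exists_isAffineOpen_mem_and_subset (U := U) (x := t) htU
    have hr : Set.range hA.fromSpec.base ⊆ Set.range U.ι.base := by
      rw [hA.range_fromSpec, Scheme.Opens.range_ι]; exact hAU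
    let y := IsOpenImmersion.lift U.ι hA.fromSpec hr
    obtain ⟨p, hp⟩ : t ∈ Set.range hA.fromSpec.base := by rw [hA.range_fromSpec]; exact htA
    obtain ⟨r, hr', φ, hφ⟩ := exists_local_char e e' f y y rfl p.asIdeal p.isPrime
    have hval : ∀ q : PrimeSpectrum Γ(T, A), r ∉ q.asIdeal → (P (g.base (hA.fromSpec.base q)) ↔ Q M M' φ) := by
      intro q hq
      let ψ := algebraMap Γ(T, A) q.asIdeal.ResidueField
      have hact : ActsBy e e' f (Spec.map (CommRingCat.ofHom ψ) ≫ y) (Spec.map (CommRingCat.ofHom ψ) ≫ y) φ := by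
        refine ⟨rfl, fun D _ g' χ => ?_⟩
        rw [specMap_comp_assoc]
        refine hφ D (g'.comp ψ) ?_ χ
        refine IsUnit.map g' (isUnit_iff_ne_zero.mpr fun h0 => hq ?_)
        rw [← q.asIdeal.ker_algebraMap_residueField]
        exact h0
      have hpt : ((Spec.map (CommRingCat.ofHom ψ) ≫ y) ≫ U.ι ≫ g).base
          (IsLocalRing.closedPoint q.asIdeal.ResidueField) = g.base (hA.fromSpec.base q) := by
        rw [Category.assoc, ← Category.assoc y, IsOpenImmersion.lift_fac]
        refine congrArg (fun x => g.base (hA.fromSpec.base x)) (PrimeSpectrum.ext ?_)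
        change (IsLocalRing.maximalIdeal q.asIdeal.ResidueField).comap ψ = q.asIdeal
        rw [IsLocalRing.maximalIdeal_eq_bot]
        exact q.asIdeal.ker_algebraMap_residueField
      rw [← hpt]
      exact hPQ _ _ M M' e e' _ _ φ hact
    refine ⟨hA.fromSpec.base '' (PrimeSpectrum.basicOpen r : Set (PrimeSpectrum Γ(T, A))),
      hA.fromSpec.isOpenEmbedding.isOpenMap _ (PrimeSpectrum.basicOpen r).isOpen, ⟨p, hr', hp⟩, ?_⟩
    rintro _ ⟨q, hq, rfl⟩
    rw [hval q hq, ← hp, hval p hr']
  constructor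
  · rw [← isOpen_compl_iff, isOpen_iff_forall_mem_open]
    intro t ht
    obtain ⟨N, h1, h2, h3⟩ := key t
    exact ⟨N, fun x hx hx' => ht ((h3 x hx).mp hx'), h1, h2⟩
  · rw [isOpen_iff_forall_mem_open]
    intro t ht
    obtain ⟨N, h1, h2, h3⟩ := key t
    exact ⟨N, fun x hx => (h3 x hx).mpr ht, h1, h2⟩

/-- the kernel is trivial on test objects lying over a point -/
def KerTriv (s : S) : Prop :=
  ∀ (T : Over (Spec (S.residueField s))) (g : (Over.map (S.fromSpecResidueField s)).obj T ⟶ G),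
    g ≫ f = 1 → g = 1

theorem bcEquiv_one {S₀ : Scheme.{u}} (i : S₀ ⟶ S) (Z : Over S) [GrpObj Z] (T : Over S₀) :
    bcEquiv i Z T 1 = 1 := by
  have h2 := bcEquiv_mul i Z T 1 1
  rw [_root_.mul_one] at h2
  exact left_eq_mul.mp h2

theorem kerTriv_iff_mono (s : S) :
    KerTriv f s ↔ Mono ((Over.pullback (S.fromSpecResidueField s)).map f).left := by
  let i := S.fromSpecResidueField s
  have hnat : ∀ (T : Over (Spec (S.residueField s))) (g : (Over.map i).obj T ⟶ G),
      bcEquiv i H T (g ≫ f) = bcEquiv i G T g ≫ (Over.pullback i).map f :=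
    fun T g => (Over.mapPullbackAdj i).homEquiv_naturality_right g f
  constructor
  · intro h
    have : Mono ((Over.pullback i).map f) := ⟨fun {T} a b hab => by
      have h1 : (bcEquiv i G T).symm a ≫ f = (bcEquiv i G T).symm b ≫ f := by
        refine (bcEquiv i H T).injective ?_
        rw [hnat, hnat]
        exact ((congrArg (· ≫ (Over.pullback i).map f) ((bcEquiv i G T).apply_symm_apply a)).trans hab).trans
          (congrArg (· ≫ (Over.pullback i).map f) ((bcEquiv i G T).apply_symm_apply b)).symm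
      have h2 : ((bcEquiv i G T).symm a * ((bcEquiv i G T).symm b)⁻¹) = 1 := by
        refine h T _ ?_
        rw [MonObj.mul_comp, GrpObj.inv_comp, h1, mul_inv_cancel]
      exact (bcEquiv i G T).symm.injective (mul_inv_eq_one.mp h2)⟩
    exact inferInstance
  · intro h T g hg
    have : Mono ((Over.pullback i).map f) := Over.mono_of_mono_left _
    refine (bcEquiv i G T).injective ?_
    rw [← cancel_mono ((Over.pullback i).map f), ← hnat, hg]
    refine (bcEquiv_one i H T).trans ?_
    exact (MonObj.one_comp ((Over.pullback i).map f)).symm.trans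
      (congrArg (· ≫ (Over.pullback i).map f) (bcEquiv_one i G T).symm)

variable {U : Scheme.{u}} {u₀ : U ⟶ S} {M M' : Type} [AddCommGroup M] [AddCommGroup M']
  {e : Grp.mk (Red.bc u₀ G) ≅ Grp.mk (Red.DS U M)} {e' : Grp.mk (Red.bc u₀ H) ≅ Grp.mk (Red.DS U M')}

omit [IsMonHom f] in
theorem gpt_left_one {U : Scheme.{u}} {u₀ : U ⟶ S} {M : Type} [AddCommGroup M]
    (e : Grp.mk (Red.bc u₀ G) ≅ Grp.mk (Red.DS U M)) {B : Type u} [CommRing B]
    (y : Spec (CommRingCat.of B) ⟶ U) :
    (gpt e y (1 : Multiplicative M →* B)).left = (1 : Over.mk (y ≫ u₀) ⟶ G).left :=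
  congrArg (fun m => m.left) (gpt_one e y)

theorem ActsBy.comp_eq_one_iff {B : Type u} [CommRing B] {y y' : Spec (CommRingCat.of B) ⟶ U}
    {φ : Multiplicative M' →* Multiplicative M} (h : ActsBy e e' f y y' φ) (χ : Multiplicative M →* B) :
    gpt e y χ ≫ f = 1 ↔ χ.comp φ = 1 := by
  let τ : (Over.mk (y' ≫ u₀) : Over S) ⟶ Over.mk (y ≫ u₀) := Over.homMk (𝟙 _) (by
    change 𝟙 _ ≫ y ≫ u₀ = y' ≫ u₀
    rw [Category.id_comp, h.1])
  have h1 : τ ≫ gpt e y χ ≫ f = gpt e' y' (χ.comp φ) :=
    Over.OverMorphism.ext ((Category.id_comp _).trans (h.ext_eq χ))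
  constructor
  · intro h2
    refine gpt_injective e' y' ?_
    rw [← h1, h2, gpt_one]
    exact MonObj.comp_one τ
  · intro h2
    rw [h2, gpt_one] at h1
    refine Over.OverMorphism.ext ?_
    have h3 := congrArg (fun m => m.left) (h1.trans (MonObj.comp_one τ).symm)
    exact ((Category.id_comp _).symm.trans h3).trans (Category.id_comp _)

theorem kerTriv_iff_surjective [AddGroup.FG M] {k : Type u} [Field k] {y y' : Spec (CommRingCat.of k) ⟶ U}
    {φ : Multiplicative M' →* Multiplicative M} (h : ActsBy e e' f y y' φ) :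
    KerTriv f ((y ≫ u₀).base (IsLocalRing.closedPoint k)) ↔ Function.Surjective φ := by
  classical
  set z := y ≫ u₀ with hz
  set s := z.base (IsLocalRing.closedPoint k)
  let d : Spec (CommRingCat.of k) ⟶ Spec (S.residueField s) :=
    Spec.map (Scheme.descResidueField (Scheme.stalkClosedPointTo z))
  have hd : d ≫ S.fromSpecResidueField s = z :=
    Scheme.descResidueField_stalkClosedPointTo_fromSpecResidueField k S z
  constructor
  · intro hK
    by_contra hns
    let C := Multiplicative M ⧸ φ.range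
    let mk : Multiplicative M →* C := QuotientGroup.mk' φ.range
    let g : k →+* MonoidAlgebra k C := MonoidAlgebra.singleOneRingHom
    let χ : Multiplicative M →* MonoidAlgebra k C := (MonoidAlgebra.of k C).comp mk
    have hχ : χ.comp φ = 1 := MonoidHom.ext fun m => by
      change MonoidAlgebra.of k C (mk (φ m)) = 1
      rw [show mk (φ m) = 1 from (QuotientGroup.eq_one_iff _).mpr ⟨m, rfl⟩, map_one]
    have h1 := ((h.comp g).comp_eq_one_iff f χ).mpr hχ
    let T : Over (Spec (S.residueField s)) := Over.mk (Spec.map (CommRingCat.ofHom g) ≫ d)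
    let t : (Over.map (S.fromSpecResidueField s)).obj T ⟶ Over.mk ((Spec.map (CommRingCat.ofHom g) ≫ y) ≫ u₀) :=
      Over.homMk (𝟙 _) (by
        change 𝟙 _ ≫ (Spec.map (CommRingCat.ofHom g) ≫ y) ≫ u₀ = (Spec.map (CommRingCat.ofHom g) ≫ d) ≫ S.fromSpecResidueField s
        rw [Category.id_comp, Category.assoc, Category.assoc, hd])
    have h2 := hK T (t ≫ gpt e _ χ) ((Category.assoc _ _ _).trans ((congrArg (t ≫ ·) h1).trans (MonObj.comp_one t)))
    have h3 : gpt e (Spec.map (CommRingCat.ofHom g) ≫ y) χ = gpt e (Spec.map (CommRingCat.ofHom g) ≫ y) 1 := by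
      refine Over.OverMorphism.ext ?_
      have h4 := congrArg (fun m => m.left) (h2.trans (MonObj.comp_one t).symm)
      rw [gpt_one]
      exact ((Category.id_comp _).symm.trans h4).trans (Category.id_comp _)
    have h5 := gpt_injective e _ h3
    refine hns fun m => ?_
    have h6 : MonoidAlgebra.of k C (mk m) = MonoidAlgebra.of k C 1 := by
      rw [map_one]; exact DFunLike.congr_fun h5 m
    exact (QuotientGroup.eq_one_iff _).mp (MonoidAlgebra.of_injective h6)
  · intro hsurj T g hg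
    have : Flat d := by
      refine Flat.SpecMap_iff.mpr ?_
      let := (Scheme.descResidueField (Scheme.stalkClosedPointTo z)).hom.toAlgebra
      exact (inferInstance : Module.Flat (S.residueField s) k)
    have : Surjective d := ⟨fun x => ⟨IsLocalRing.closedPoint k, Subsingleton.elim _ _⟩⟩
    let π := pullback.fst T.hom d
    have : Epi π := Flat.epi_of_flat_of_surjective _
    refine Over.OverMorphism.ext ((cancel_epi π).mp ?_)
    refine Scheme.Cover.hom_ext (pullback T.hom d).affineCover _ _ fun i => ?_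
    obtain ⟨α, hα⟩ := Spec.map_surjective ((pullback T.hom d).affineCover.f i ≫ pullback.snd T.hom d)
    let w : Over.mk ((Spec.map (CommRingCat.ofHom α.hom) ≫ y) ≫ u₀) ⟶
        (Over.map (S.fromSpecResidueField s)).obj T :=
      Over.homMk ((pullback T.hom d).affineCover.f i ≫ π) (by
        change ((pullback T.hom d).affineCover.f i ≫ π) ≫ T.hom ≫ S.fromSpecResidueField s = (Spec.map (CommRingCat.ofHom α.hom) ≫ y) ≫ u₀
        rw [CommRingCat.ofHom_hom, hα, Category.assoc, ← Category.assoc π, pullback.condition]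
        simp only [Category.assoc, hd, hz]
        rfl)
    obtain ⟨χ, hχ⟩ := gpt_surjective e _ (w ≫ g)
    have h1 : gpt e (Spec.map (CommRingCat.ofHom α.hom) ≫ y) χ ≫ f = 1 := by
      rw [hχ]
      exact (Category.assoc _ _ _).trans ((congrArg (w ≫ ·) hg).trans (MonObj.comp_one w))
    have h2 : χ = 1 := MonoidHom.ext fun m => by
      obtain ⟨m', rfl⟩ := hsurj m
      exact DFunLike.congr_fun (((h.comp α.hom).comp_eq_one_iff f χ).mp h1) m'
    rw [h2, gpt_one] at hχ
    have h3 := congrArg (fun m => m.left) (hχ.symm.trans (MonObj.comp_one w).symm)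
    exact ((Category.assoc _ _ _).symm.trans h3).trans (Category.assoc _ _ _)

end Groth.Agent.H21Diag
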