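import Groth.Agent.H21Diag.Iso
import Groth.Agent.H21Diag.Loci
import Groth.Agent.H21Diag.LocallyDiag

/-!
The faithfully flat locus of a homomorphism to a group of multiplicative type of finite type, the source
being of multiplicative type of any type.
-/

set_option autoImplicit false
set_option backward.isDefEq.respectTransparency false
set_option maxHeartbeats 800000

universe u

open CategoryTheory MonoidalCategory CartesianMonoidalCategory MonObj GrpObj AlgebraicGeometry
open CategoryTheory.Limits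

namespace Groth.Agent.H21Diag

variable {S : Scheme.{u}} {G H : Over S} [GrpObj G] [GrpObj H]

/-- a common cover, the second group being of finite type -/
theorem exists_common_cover_mixed (hG : IsDiagLoc G) (hH : SGA3x.IsMultTypeFT H) :
    ∃ (T : Scheme.{u}) (g : T ⟶ S), Flat g ∧ Surjective g ∧
      (∀ V : S.Opens, IsAffineOpen V → ∃ W : T.Opens, IsCompact (W : Set T) ∧ g.base '' (W : Set T) = (V : Set S)) ∧
      ∀ t : T, ∃ U : T.Opens, t ∈ U ∧
        (∃ (M : Type) (_ : AddCommGroup M),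
          Nonempty (Grp.mk (Red.bc (U.ι ≫ g) G) ≅ Grp.mk (Red.DS (U : Scheme.{u}) M))) ∧
        ∃ (M : Type) (_ : AddCommGroup M), AddGroup.FG M ∧
          Nonempty (Grp.mk (Red.bc (U.ι ≫ g) H) ≅ Grp.mk (Red.DS (U : Scheme.{u}) M)) := by
  obtain ⟨S', f, hf, hs, hqc, hloc⟩ := hG
  obtain ⟨T, g', hg', hs', hqc', hloc'⟩ := isMultTypeFT_bc hH f
  refine ⟨T, g' ≫ f, inferInstance, inferInstance, comp_cover f g' hqc hqc', fun t => ?_⟩
  obtain ⟨U₁, htU₁, M, _, ⟨e⟩⟩ := hloc (g'.base t)
  obtain ⟨U₂, htU₂, M', _, hfg', ⟨e'⟩⟩ := hloc' t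
  let U := g' ⁻¹ᵁ U₁ ⊓ U₂
  refine ⟨U, ⟨htU₁, htU₂⟩, ⟨M, inferInstance, ⟨?_⟩⟩, ⟨M', inferInstance, hfg', ⟨?_⟩⟩⟩
  · refine restrictChart e (g'.resLE U₁ U inf_le_left) ?_
    rw [← Category.assoc, Scheme.Hom.resLE_comp_ι, Category.assoc]
  · refine restrictChart (u₀ := U₂.ι ≫ g' ≫ f) (bcCongrIso (Category.assoc _ _ _).symm H ≪≫
      bcCompIso (U₂.ι ≫ g') f H ≪≫ e') (T.homOfLE inf_le_right) ?_
    rw [← Category.assoc (T.homOfLE _), Scheme.homOfLE_ι]

variable (f : G ⟶ H) [IsMonHom f]

/-- a property of fibres determined by the character map holds on an open and closed set -/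
theorem isClopen_of_charMap' (hG : IsDiagLoc G) (hH : SGA3x.IsMultTypeFT H) (P : S → Prop)
    (Q : ∀ (M M' : Type) [AddCommGroup M] [AddCommGroup M'], (Multiplicative M' →* Multiplicative M) → Prop)
    (hPQ : ∀ (U : Scheme.{u}) (u₀ : U ⟶ S) (M M' : Type) [AddCommGroup M] [AddCommGroup M'] [AddGroup.FG M']
      (e : Grp.mk (Red.bc u₀ G) ≅ Grp.mk (Red.DS U M)) (e' : Grp.mk (Red.bc u₀ H) ≅ Grp.mk (Red.DS U M'))
      (k : Type u) [Field k] (y : Spec (CommRingCat.of k) ⟶ U) (φ : Multiplicative M' →* Multiplicative M),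
      ActsBy e e' f y y φ → (P ((y ≫ u₀).base (IsLocalRing.closedPoint k)) ↔ Q M M' φ)) :
    IsClopen {s | P s} := by
  obtain ⟨T, g, hg, hs, hqc, hloc⟩ := exists_common_cover_mixed hG hH
  refine isClopen_of_cover g hqc _ ?_
  have key : ∀ t : T, ∃ N : Set T, IsOpen N ∧ t ∈ N ∧ ∀ x ∈ N, P (g.base x) ↔ P (g.base t) := by
    intro t
    obtain ⟨U, htU, ⟨M, _, ⟨e⟩⟩, M', _, hM', ⟨e'⟩⟩ := hloc t
    obtain ⟨A, hA, htA, hAU⟩ := exists_isAffineOpen_mem_and_subset (U := U) (x := t) htU
    have hr : Set.range hA.fromSpec.base ⊆ Set.range U.ι.base := by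
      rw [hA.range_fromSpec, Scheme.Opens.range_ι]; exact hAU
    let y := IsOpenImmersion.lift U.ι hA.fromSpec hr
    obtain ⟨p, hp⟩ : t ∈ Set.range hA.fromSpec.base := by rw [hA.range_fromSpec]; exact htA
    obtain ⟨r, hr', φ, hφ⟩ := exists_local_char e e' f y y rfl p.asIdeal p.isPrime
    have hval : ∀ q : PrimeSpectrum Γ(T, A), r ∉ q.asIdeal → (P (g.base (hA.fromSpec.base q)) ↔ Q M M' φ) := by
      intro q hq
      let ψ := algebraMap Γ(T, A) q.asIdeal.ResidueField
      have hact : ActsBy e e' f (Spec.map (CommRingCat.ofHom ψ) ≫ y) (Spec.map (CommRingCat.ofHom ψ) ≫ y) φ := by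
        refine ⟨rfl, fun D _ g' χ => ?_⟩
        rw [specMap_comp_assoc]
        refine hφ D (g'.comp ψ) ?_ χ
        refine IsUnit.map g' (isUnit_iff_ne_zero.mpr fun h0 => hq ?_)
        rw [← q.asIdeal.ker_algebraMap_residueField]
        exact h0
      have hpt : ((Spec.map (CommRingCat.ofHom ψ) ≫ y) ≫ U.ι ≫ g).base
          (IsLocalRing.closedPoint q.asIdeal.ResidueField) = g.base (hA.fromSpec.base q) := by
        rw [Category.assoc, ← Category.assoc y, IsOpenImmersion.lift_fac]
        refine congrArg (fun x => g.base (hA.fromSpec.base x)) (PrimeSpectrum.ext ?_)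
        change (IsLocalRing.maximalIdeal q.asIdeal.ResidueField).comap ψ = q.asIdeal
        rw [IsLocalRing.maximalIdeal_eq_bot]
        exact q.asIdeal.ker_algebraMap_residueField
      rw [← hpt]
      exact hPQ _ _ M M' e e' _ _ φ hact
    refine ⟨hA.fromSpec.base '' (PrimeSpectrum.basicOpen r : Set (PrimeSpectrum Γ(T, A))),
      hA.fromSpec.isOpenEmbedding.isOpenMap _ (PrimeSpectrum.basicOpen r).isOpen, ⟨p, hr', hp⟩, ?_⟩
    rintro _ ⟨q, hq, rfl⟩
    rw [hval q hq, ← hp, hval p hr']
  constructor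
  · rw [← isOpen_compl_iff, isOpen_iff_forall_mem_open]
    intro t ht
    obtain ⟨N, h1, h2, h3⟩ := key t
    exact ⟨N, fun x hx hx' => ht ((h3 x hx).mp hx'), h1, h2⟩
  · rw [isOpen_iff_forall_mem_open]
    intro t ht
    obtain ⟨N, h1, h2, h3⟩ := key t
    exact ⟨N, fun x hx => (h3 x hx).mpr ht, h1, h2⟩

/-- the locus of faithful flatness of fibres is open and closed -/
theorem exists_flat_surjective_locus' (hG : IsDiagLoc G) (hH : SGA3x.IsMultTypeFT H) :
    ∃ U : S.Opens, IsClosed (U : Set S) ∧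
      (∀ s : S, s ∈ U ↔ (Flat ((Over.pullback (S.fromSpecResidueField s)).map f).left ∧
        Surjective ((Over.pullback (S.fromSpecResidueField s)).map f).left)) ∧
      (Flat ((Over.pullback U.ι).map f).left ∧ Surjective ((Over.pullback U.ι).map f).left) := by
  have := isAffineHom_of_diagLoc hG
  have := isAffineHom_of_multTypeFT hH
  have hdesc : ∀ {k : Type u} [Field k] (z : Spec (CommRingCat.of k) ⟶ S),
      (Flat ((Over.pullback (S.fromSpecResidueField (z.base (IsLocalRing.closedPoint k)))).map f).left ∧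
        Surjective ((Over.pullback (S.fromSpecResidueField (z.base (IsLocalRing.closedPoint k)))).map f).left) ↔
      (Flat ((Over.pullback z).map f).left ∧ Surjective ((Over.pullback z).map f).left) := by
    intro k _ z
    set s := z.base (IsLocalRing.closedPoint k)
    let d : Spec (CommRingCat.of k) ⟶ Spec (S.residueField s) :=
      Spec.map (Scheme.descResidueField (Scheme.stalkClosedPointTo z))
    have hd : d ≫ S.fromSpecResidueField s = z :=
      Scheme.descResidueField_stalkClosedPointTo_fromSpecResidueField k S z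
    have : Flat d := by
      refine Flat.SpecMap_iff.mpr ?_
      let := (Scheme.descResidueField (Scheme.stalkClosedPointTo z)).hom.toAlgebra
      exact (inferInstance : Module.Flat (S.residueField s) k)
    have : Surjective d := ⟨fun x => ⟨IsLocalRing.closedPoint k, Subsingleton.elim _ _⟩⟩
    constructor
    · rintro ⟨h1, h2⟩
      have h3 := flat_surjective_comp f _ d h1 h2
      rwa [hd] at h3
    · rintro ⟨h1, h2⟩
      rw [← hd] at h1 h2
      exact flat_surjective_descend f _ d h1 h2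
  have hcl := isClopen_of_charMap' f hG hH
    (fun s => Flat ((Over.pullback (S.fromSpecResidueField s)).map f).left ∧
      Surjective ((Over.pullback (S.fromSpecResidueField s)).map f).left)
    (fun M M' _ _ φ => Function.Injective φ) (fun U u₀ M M' _ _ _ e e' k _ y φ h => by
      rw [hdesc (y ≫ u₀)]
      exact ⟨fun h' => injective_of_flat_surjective e e' f y φ h h'.1 h'.2,
        flat_surjective_chart e e' f y φ h⟩)
  let V : S.Opens := ⟨_, hcl.2⟩
  refine ⟨V, hcl.1, fun s => Iff.rfl, ?_⟩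
  obtain ⟨T, g, hg, hs, -, hloc⟩ := exists_common_cover_mixed hG hH
  let T' : T.Opens := g ⁻¹ᵁ V
  let g' : (T' : Scheme.{u}) ⟶ (V : Scheme.{u}) := g ∣_ V
  have : Flat g' := by change Flat (g ∣_ V); infer_instance
  have : Surjective g' := IsZariskiLocalAtTarget.restrict (P := @Surjective) hs V
  have hg' : g' ≫ V.ι = T'.ι ≫ g := morphismRestrict_ι g V
  suffices h : Flat ((Over.pullback (T'.ι ≫ g)).map f).left ∧ Surjective ((Over.pullback (T'.ι ≫ g)).map f).left by
    rw [← hg'] at h
    exact flat_surjective_descend f V.ι g' h.1 h.2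
  set v := T'.ι ≫ g
  set F := ((Over.pullback v).map f).left
  have key : ∀ t : (T' : Scheme.{u}), ∃ (R : Type u) (_ : CommRing R) (c : Spec (CommRingCat.of R) ⟶ (T' : Scheme.{u})),
      IsOpenImmersion c ∧ t ∈ Set.range c.base ∧ Flat ((Over.pullback (c ≫ v)).map f).left ∧
        Surjective ((Over.pullback (c ≫ v)).map f).left := by
    intro t
    obtain ⟨U₁, htU, ⟨M, _, ⟨e⟩⟩, M', _, hM', ⟨e'⟩⟩ := hloc (T'.ι.base t)
    let W : (T' : Scheme.{u}).Opens := T'.ι ⁻¹ᵁ U₁
    let ε := T'.ι.resLE U₁ W le_rfl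
    have hε : ε ≫ U₁.ι ≫ g = W.ι ≫ v := by
      rw [← Category.assoc, Scheme.Hom.resLE_comp_ι]; exact Category.assoc _ _ _
    let x : (W : Scheme.{u}) := ⟨t, htU⟩
    obtain ⟨R, _, w, hw, hxw, h⟩ := exists_flat_nhd f (restrictChart e ε hε) (restrictChart e' ε hε) x (by
      let z : Spec (CommRingCat.of (W.toScheme.residueField x)) ⟶ S := W.toScheme.fromSpecResidueField x ≫ W.ι ≫ v
      have hz : z.base (IsLocalRing.closedPoint _) = g.base (T'.ι.base t) :=
        congrArg (fun q => g.base (T'.ι.base (W.ι.base q))) (Scheme.fromSpecResidueField_apply x _)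
      have hmem : z.base (IsLocalRing.closedPoint _) ∈ V := by rw [hz]; exact Subtype.property t
      exact (hdesc z).mp hmem)
    refine ⟨R, inferInstance, w ≫ W.ι, inferInstance, ?_, ?_⟩
    · obtain ⟨q, hq⟩ := hxw
      exact ⟨q, congrArg W.ι.base hq⟩
    · rwa [Category.assoc]
  choose R hR c hc htc hflat hsurj using key
  let π : ∀ (Z : Over S) (t : (T' : Scheme.{u})), pullback Z.hom (c t ≫ v) ⟶ pullback Z.hom v := fun Z t =>
    pullback.map Z.hom (c t ≫ v) Z.hom v (𝟙 _) (c t) (𝟙 _) (by simp) (by simp)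
  have hπ : ∀ (Z : Over S) t, IsPullback (π Z t) (pullback.snd Z.hom (c t ≫ v)) (pullback.snd Z.hom v) (c t) := by
    intro Z t
    refine IsPullback.of_right (h₁₂ := pullback.fst Z.hom v) (v₁₃ := Z.hom) (h₂₂ := v) ?_
      (pullback.lift_snd _ _ _) (IsPullback.of_hasPullback Z.hom v)
    rw [pullback.lift_fst, Category.comp_id]
    exact IsPullback.of_hasPullback Z.hom (c t ≫ v)
  have hπo : ∀ (Z : Over S) t, IsOpenImmersion (π Z t) := fun Z t =>
    MorphismProperty.of_isPullback (P := @IsOpenImmersion) (hπ Z t).flip (hc t)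
  have hπr : ∀ (Z : Over S) (q : ↥(pullback Z.hom v)),
      q ∈ Set.range (π Z ((pullback.snd Z.hom v).base q)).base := by
    intro Z q
    obtain ⟨r, hr⟩ := htc ((pullback.snd Z.hom v).base q)
    obtain ⟨z, hz, -⟩ := Scheme.Pullback.exists_preimage_pullback (f := pullback.snd Z.hom v)
      (g := c ((pullback.snd Z.hom v).base q)) q r hr.symm
    refine ⟨((hπ Z _).isoPullback.inv).base z, ?_⟩
    exact (congrArg (fun k => k.base z) (hπ Z _).isoPullback_inv_fst).trans hz
  have hsq : ∀ t, π G t ≫ F = ((Over.pullback (c t ≫ v)).map f).left ≫ π H t := by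
    intro t
    refine pullback.hom_ext ?_ ?_
    · have e1 : F ≫ pullback.fst H.hom v = pullback.fst G.hom v ≫ f.left := pullback.lift_fst _ _ _
      have e2 : ((Over.pullback (c t ≫ v)).map f).left ≫ pullback.fst H.hom (c t ≫ v) =
        pullback.fst G.hom (c t ≫ v) ≫ f.left := pullback.lift_fst _ _ _
      simp only [π, Category.assoc, e1, pullback.lift_fst, pullback.lift_fst_assoc, Category.comp_id, e2]
    · have e1 : F ≫ pullback.snd H.hom v = pullback.snd G.hom v := pullback.lift_snd _ _ _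
      have e2 : ((Over.pullback (c t ≫ v)).map f).left ≫ pullback.snd H.hom (c t ≫ v) =
        pullback.snd G.hom (c t ≫ v) := pullback.lift_snd _ _ _
      simp only [π, Category.assoc, e1, pullback.lift_snd, reassoc_of% e2]
  refine ⟨?_, ?_⟩
  · let 𝒰 : (pullback G.hom v).OpenCover :=
      Scheme.Cover.mkOfCovers _ _ (fun t : (T' : Scheme.{u}) => π G t)
        (fun q => ⟨(pullback.snd G.hom v).base q, hπr G q⟩) (fun t => hπo G t)
    refine IsZariskiLocalAtSource.of_openCover (P := @Flat) 𝒰 fun t => ?_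
    have : Flat ((Over.pullback (c t ≫ v)).map f).left := hflat t
    have := hπo H t
    change Flat (π G t ≫ F)
    rw [hsq]
    infer_instance
  · refine ⟨fun q => ?_⟩
    obtain ⟨r, hr⟩ := hπr H q
    obtain ⟨p, hp⟩ := (hsurj ((pullback.snd H.hom v).base q)).surj r
    refine ⟨(π G _).base p, ?_⟩
    exact ((congrArg (fun z => z.base p) (hsq ((pullback.snd H.hom v).base q))).trans
      (congrArg (π H _).base hp)).trans hr

end Groth.Agent.H21Diag
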