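import Groth.Agent.H21Diag.DSKernel
import Groth.Agent.H21Diag.SplitSubtori

/-!
The exponent of the torsion of the character group of a group of multiplicative type, and locally constant powers.
-/

set_option backward.isDefEq.respectTransparency false

open CategoryTheory MonoidalCategory CartesianMonoidalCategory MonObj GrpObj AlgebraicGeometry
open CategoryTheory.Limits

universe u

namespace Groth.Agent.H21Diag

variable {S : Scheme.{u}}

/-- the character group at a field point is unique: a surjection each way -/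
theorem exists_surjective_of_charts {G : Over S} [GrpObj G] {U U' : Scheme.{u}} {u₀ : U ⟶ S} {u₀' : U' ⟶ S}
    {M M' : Type} [AddCommGroup M] [AddCommGroup M'] [AddGroup.FG M] [AddGroup.FG M']
    (e : Grp.mk (Red.bc u₀ G) ≅ Grp.mk (Red.DS U M)) (e' : Grp.mk (Red.bc u₀' G) ≅ Grp.mk (Red.DS U' M'))
    {k : Type u} [Field k] (y : Spec (CommRingCat.of k) ⟶ U) (y' : Spec (CommRingCat.of k) ⟶ U')
    (h : y ≫ u₀ = y' ≫ u₀') : ∃ φ : M' →+ M, Function.Surjective φ := by
  let e₁ := restrictChart e y (v₀ := y ≫ u₀) rfl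
  let e₂ := restrictChart e' y' (v₀ := y ≫ u₀) h.symm
  obtain ⟨a, ha, φ, hφ⟩ := exists_local_char e₁ e₂ (𝟙 G) (B := k) (𝟙 _) (𝟙 _) rfl ⊥ Ideal.isPrime_bot
  have hact : ActsBy e₁ e₂ (𝟙 G) (𝟙 _) (𝟙 _) φ := ⟨rfl, fun D _ g χ =>
    hφ D g ((IsUnit.mk0 a (fun h => ha (by simp [h]))).map g) χ⟩
  exact ⟨φ.toAdditive, (kerTriv_iff_surjective (𝟙 G) hact).mp fun T g hg => by rwa [Category.comp_id] at hg⟩

/-- the order of the torsion subgroup -/
noncomputable def torsCard (M : Type) [AddCommGroup M] : ℕ := Nat.card (AddCommGroup.torsion M)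

theorem torsCard_eq {M M' : Type} [AddCommGroup M] [AddCommGroup M'] [AddGroup.FG M] [AddGroup.FG M']
    (φ : M' →+ M) (hφ : Function.Surjective φ) (ψ : M →+ M') (hψ : Function.Surjective ψ) :
    torsCard M = torsCard M' := by
  have : Module.Finite ℤ M := Module.Finite.iff_addGroup_fg.mpr inferInstance
  have h1 : Function.Injective (φ.comp ψ).toIntLinearMap :=
    OrzechProperty.injective_of_surjective_endomorphism _ (hφ.comp hψ)
  let e : M ≃+ M' := AddEquiv.ofBijective ψ ⟨fun a b hab => h1 (congrArg φ hab), hψ⟩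
  refine Nat.card_congr (e.toEquiv.subtypeEquiv fun a => ?_)
  constructor
  · exact fun ha => AddMonoidHom.isOfFinAddOrder e.toAddMonoidHom ha
  · intro ha
    have h2 := AddMonoidHom.isOfFinAddOrder e.symm.toAddMonoidHom ha
    change IsOfFinAddOrder (e.symm (e a)) at h2
    rwa [e.symm_apply_apply] at h2

theorem finite_torsion (M : Type) [AddCommGroup M] [AddGroup.FG M] : Finite (AddCommGroup.torsion M) := by
  have : Module.Finite ℤ M := Module.Finite.iff_addGroup_fg.mpr inferInstance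
  have : AddGroup.FG (AddCommGroup.torsion M) :=
    Module.Finite.iff_addGroup_fg.mp (inferInstanceAs (Module.Finite ℤ (AddCommGroup.torsion M).toIntSubmodule))
  exact AddCommGroup.finite_of_fg_isAddTorsion _ fun a =>
    (AddSubmonoid.isOfFinAddOrder_coe (x := a)).mp a.2

theorem torsCard_pos (M : Type) [AddCommGroup M] [AddGroup.FG M] : 0 < torsCard M := by
  have := finite_torsion M
  exact Nat.card_pos

theorem torsCard_nsmul (M : Type) [AddCommGroup M] [AddGroup.FG M] {m : M} (hm : IsOfFinAddOrder m) :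
    torsCard M • m = 0 := by
  have h : Nat.card (AddCommGroup.torsion M) • (⟨m, hm⟩ : AddCommGroup.torsion M) = 0 := card_nsmul_eq_zero'
  exact congrArg Subtype.val h

/-- the order of the torsion of the character group is a locally constant function on the base -/
theorem exists_exponent {G : Over S} [GrpObj G] {S' : Scheme.{u}} (g : S' ⟶ S) [Flat g] [Surjective g]
    (hqc : ∀ V : S.Opens, IsAffineOpen V → ∃ W : S'.Opens, IsCompact (W : Set S') ∧ g.base '' (W : Set S') = (V : Set S))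
    (hloc : ∀ s' : S', ∃ U : S'.Opens, s' ∈ U ∧ ∃ (M : Type) (_ : AddCommGroup M), AddGroup.FG M ∧
      Nonempty (Grp.mk (Red.bc (U.ι ≫ g) G) ≅ Grp.mk (Red.DS (U : Scheme.{u}) M))) :
    ∃ n : S → ℕ, IsLocallyConstant n ∧ ∀ (t : S') (U : S'.Opens) (M : Type) [AddCommGroup M] [AddGroup.FG M],
      t ∈ U → Nonempty (Grp.mk (Red.bc (U.ι ≫ g) G) ≅ Grp.mk (Red.DS (U : Scheme.{u}) M)) →
        n (g.base t) = torsCard M := by
  choose U hU M instM hM hchart using hloc
  choose σ hσ using (‹Surjective g›).surj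
  let n : S → ℕ := fun s => @torsCard (M (σ s)) (instM (σ s))
  have key : ∀ (t : S') (V : S'.Opens) (N : Type) [AddCommGroup N] [AddGroup.FG N],
      t ∈ V → Nonempty (Grp.mk (Red.bc (V.ι ≫ g) G) ≅ Grp.mk (Red.DS (V : Scheme.{u}) N)) →
        n (g.base t) = torsCard N := by
    intro t V N _ _ htV ⟨e⟩
    let t' := σ (g.base t)
    let := instM t'
    have := hM t'
    obtain ⟨e'⟩ := hchart t'
    have hu : (V.ι ≫ g).base ⟨t, htV⟩ = ((U t').ι ≫ g).base ⟨t', hU t'⟩ := (hσ (g.base t)).symm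
    obtain ⟨w, -, -⟩ := Scheme.Pullback.exists_preimage_pullback
      (f := V.ι ≫ g) (g := (U t').ι ≫ g) ⟨t, htV⟩ ⟨t', hU t'⟩ hu
    let P := Limits.pullback (V.ι ≫ g) ((U t').ι ≫ g)
    let z : Spec (CommRingCat.of (P.residueField w)) ⟶ P := P.fromSpecResidueField w
    have hz : (z ≫ pullback.fst _ _) ≫ V.ι ≫ g = (z ≫ pullback.snd _ _) ≫ (U t').ι ≫ g := by
      simp only [Category.assoc, pullback.condition]
    obtain ⟨φ, hφ⟩ := exists_surjective_of_charts e e' (k := P.residueField w) _ _ hz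
    obtain ⟨ψ, hψ⟩ := exists_surjective_of_charts e' e (k := P.residueField w) _ _ hz.symm
    exact torsCard_eq ψ hψ φ hφ
  refine ⟨n, fun A => isOpen_of_cover g hqc _ ?_, key⟩
  refine isOpen_iff_forall_mem_open.mpr fun t ht => ⟨U t, fun x hx => ?_, (U t).isOpen, hU t⟩
  let := instM t
  have := hM t
  change n (g.base x) ∈ A
  rw [key x (U t) (M t) hx (hchart t), ← key t (U t) (M t) (hU t) (hchart t)]
  exact ht

theorem comp_pow {X Y A : Over S} [GrpObj A] (x : X ⟶ Y) (a : Y ⟶ A) (k : ℕ) : x ≫ (a ^ k) = (x ≫ a) ^ k := by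
  induction k with
  | zero => rw [pow_zero, pow_zero, MonObj.comp_one]
  | succ j ih => rw [pow_succ, pow_succ, MonObj.comp_mul, ih]

variable {G : Over S} [GrpObj G]

/-- powers with a locally constant exponent -/
theorem exists_lcPow (n : S → ℕ) (hn : IsLocallyConstant n) :
    ∃ f : G ⟶ G, ∀ (k : ℕ) {X : Over S} (x : X ⟶ G), (∀ z : X.left, n (X.hom.base z) = k) → x ≫ f = x ^ k := by
  let V : ℕ → S.Opens := fun k => ⟨n ⁻¹' {k}, hn.isOpen_fiber k⟩
  let 𝒰 := G.left.openCoverOfIsOpenCover (fun k => G.hom ⁻¹ᵁ V k)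
    (eq_top_iff.mpr fun z _ => TopologicalSpace.Opens.mem_iSup.mpr ⟨n (G.hom.base z), rfl⟩)
  let p : ∀ k : ℕ, Over.mk ((G.hom ⁻¹ᵁ V k).ι ≫ G.hom) ⟶ G := fun k => Over.homMk (G.hom ⁻¹ᵁ V k).ι rfl
  let piece : ∀ k : ℕ, 𝒰.X k ⟶ G.left := fun k => (p k ^ k).left
  have hcond : ∀ k l : ℕ, pullback.fst (𝒰.f k) (𝒰.f l) ≫ piece k = pullback.snd (𝒰.f k) (𝒰.f l) ≫ piece l := by
    intro k l
    rcases eq_or_ne k l with rfl | hkl
    · have : Mono (𝒰.f k) := inferInstanceAs (Mono (G.hom ⁻¹ᵁ V k).ι)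
      rw [fst_eq_snd_of_mono_eq]
    · have : IsEmpty ↥(pullback (𝒰.f k) (𝒰.f l)) := by
        refine ⟨fun w => hkl ?_⟩
        let a : (G.hom ⁻¹ᵁ V k : Scheme.{u}) := (pullback.fst (𝒰.f k) (𝒰.f l)).base w
        let b : (G.hom ⁻¹ᵁ V l : Scheme.{u}) := (pullback.snd (𝒰.f k) (𝒰.f l)).base w
        have hab : a.1 = b.1 := by
          have h := congrArg (fun m : pullback (𝒰.f k) (𝒰.f l) ⟶ G.left => m.base w)
            (pullback.condition (f := 𝒰.f k) (g := 𝒰.f l))
          exact h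
        have ha : n (G.hom.base a.1) = k := a.2
        have hb : n (G.hom.base b.1) = l := b.2
        rw [← ha, ← hb, hab]
      exact isInitialOfIsEmpty.hom_ext _ _
  have hover : (Scheme.Cover.glueMorphisms 𝒰 piece hcond) ≫ G.hom = G.hom := by
    refine Scheme.Cover.hom_ext 𝒰 _ _ fun k => ?_
    rw [← Category.assoc, Scheme.Cover.ι_glueMorphisms]
    exact Over.w _
  refine ⟨Over.homMk (Scheme.Cover.glueMorphisms 𝒰 piece hcond) hover, fun k X x hx => ?_⟩
  have hr : Set.range x.left.base ⊆ Set.range (G.hom ⁻¹ᵁ V k).ι.base := by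
    rintro _ ⟨z, rfl⟩
    rw [Scheme.Opens.range_ι]
    change n ((x.left ≫ G.hom).base z) = k
    rw [Over.w x]
    exact hx z
  let x' : X ⟶ Over.mk ((G.hom ⁻¹ᵁ V k).ι ≫ G.hom) := Over.homMk (IsOpenImmersion.lift (G.hom ⁻¹ᵁ V k).ι x.left hr) (by
    change _ ≫ (G.hom ⁻¹ᵁ V k).ι ≫ G.hom = X.hom
    rw [IsOpenImmersion.lift_fac_assoc, Over.w x])
  have hx' : x' ≫ p k = x := Over.OverMorphism.ext (IsOpenImmersion.lift_fac _ _ _)
  have h1 : x' ≫ (p k ^ k) = x ^ k := by
    rw [← hx']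
    exact comp_pow x' (p k) k
  rw [← h1]
  refine Over.OverMorphism.ext ?_
  conv_lhs => rw [← hx']
  change (IsOpenImmersion.lift _ _ hr ≫ 𝒰.f k) ≫ Scheme.Cover.glueMorphisms 𝒰 piece hcond = _ ≫ piece k
  rw [Category.assoc, Scheme.Cover.ι_glueMorphisms]
  rfl

end Groth.Agent.H21Diag
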