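import Groth.Agent.H21Diag.Points

/-!
Morphisms out of a group that is diagonalisable locally for fpqc are determined by their values on characters.
-/

open CategoryTheory MonoidalCategory CartesianMonoidalCategory MonObj GrpObj AlgebraicGeometry
open CategoryTheory.Limits

universe u

namespace Groth.Agent.H21Diag

variable {S : Scheme.{u}} {G X : Over S} [GrpObj G]

/-- morphisms agree if they agree on the points given by characters over local trivialisations -/
theorem hom_ext_of_local {S' : Scheme.{u}} (f : S' ⟶ S) [Flat f] [Surjective f]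
    (hloc : ∀ s' : S', ∃ U : S'.Opens, s' ∈ U ∧ ∃ (M : Type) (_ : AddCommGroup M),
      Nonempty (Grp.mk (Red.bc (U.ι ≫ f) G) ≅ Grp.mk (Red.DS (U : Scheme.{u}) M)))
    (φ ψ : G ⟶ X)
    (h : ∀ (U : Scheme.{u}) (u₀ : U ⟶ S) (M : Type) (_ : AddCommGroup M)
      (e : Grp.mk (Red.bc u₀ G) ≅ Grp.mk (Red.DS U M)) (B : Type u) (_ : CommRing B)
      (y : Spec (CommRingCat.of B) ⟶ U) (χ : Multiplicative M →* B),
      gpt e y χ ≫ φ = gpt e y χ ≫ ψ) : φ = ψ := by
  refine Over.OverMorphism.ext ?_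
  have : Epi (pullback.fst G.hom f) := Flat.epi_of_flat_of_surjective _
  rw [← cancel_epi (pullback.fst G.hom f)]
  set π := pullback.fst G.hom f
  set τ := pullback.snd G.hom f
  have key : ∀ z : ↥(pullback G.hom f), ∃ (W : (pullback G.hom f).Opens), z ∈ W ∧
      W.ι ≫ π ≫ φ.left = W.ι ≫ π ≫ ψ.left := by
    intro z
    obtain ⟨U', hzU, M, _, ⟨e'⟩⟩ := hloc (τ.base z)
    obtain ⟨W, hW, hzW, hWsub⟩ := exists_isAffineOpen_mem_and_subset
      (U := τ ⁻¹ᵁ U') (x := z) hzU
    refine ⟨W, hzW, ?_⟩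
    rw [← cancel_epi hW.isoSpec.inv, IsAffineOpen.isoSpec_inv_ι_assoc, IsAffineOpen.isoSpec_inv_ι_assoc]
    let B := Γ(pullback G.hom f, W)
    let w : Spec (CommRingCat.of B) ⟶ pullback G.hom f := hW.fromSpec
    change w ≫ π ≫ _ = w ≫ π ≫ _
    have hrU : Set.range (w ≫ τ).base ⊆ Set.range U'.ι.base := by
      rintro _ ⟨p, rfl⟩
      rw [Scheme.Opens.range_ι]
      exact hWsub (hW.range_fromSpec.subset ⟨p, rfl⟩)
    let y : Spec (CommRingCat.of B) ⟶ (U' : Scheme.{u}) := IsOpenImmersion.lift U'.ι (w ≫ τ) hrU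
    have hy : w ≫ π ≫ G.hom = y ≫ U'.ι ≫ f := by
      rw [← Category.assoc y, IsOpenImmersion.lift_fac, Category.assoc, pullback.condition]
    let T : Over.mk (y ≫ U'.ι ≫ f) ⟶ G := Over.homMk (w ≫ π) (by
      rw [← hy]; exact Category.assoc _ _ _)
    obtain ⟨χ, hχ⟩ := gpt_surjective e' y T
    have h2 := congrArg (fun m => m.left) (h _ _ M _ e' B _ y χ)
    simp only [Over.comp_left, hχ] at h2
    rw [← Category.assoc, ← Category.assoc]
    exact h2
  choose W hW h' using key
  refine Scheme.Cover.hom_ext ((pullback G.hom f).openCoverOfIsOpenCover W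
    (eq_top_iff.mpr fun z _ => TopologicalSpace.Opens.mem_iSup.mpr ⟨z, hW z⟩)) _ _ fun z => ?_
  exact h' z

end Groth.Agent.H21Diag
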