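import Groth.Agent.S11937
import Groth.Agent.S5246
import Groth.Agent.S6059
import Groth.Agent.H21Dyn.Scheme
import Groth.Agent.H21Diag.Diag
import Groth.Agent.H21Diag.Conjugate
import Groth.Agent.H21Split.Red0.BcIso
import Groth.Agent.H21Split.Corad.Normal
import Groth.Agent.H27Witt.Subgroup
import Groth.Agent.H21Adic.TorsionKernel
import Groth.Agent.H21EtPt.Connected
import Groth.Agent.H13AlgSp.EtaleLocally

/-!
Maximal tori stay maximal over larger algebraically closed fields.
-/

set_option autoImplicit false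
set_option linter.style.haveILetI false
set_option linter.unusedSectionVars false
set_option backward.isDefEq.respectTransparency false
set_option synthInstance.maxHeartbeats 400000
set_option maxHeartbeats 1000000
universe u

open CategoryTheory CategoryTheory.Limits MonoidalCategory CartesianMonoidalCategory MonObj AlgebraicGeometry

noncomputable section

namespace Groth.Agent.H21Diag

/-- Over an algebraically closed field a torus is diagonalisable. -/
theorem exists_DS_iso_algClosed {k : Type u} [Field k] [IsAlgClosed k] (T : Over (Spec (CommRingCat.of k)))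
    [GrpObj T] (hT : Red.IsTorus T) :
    ∃ r : ℕ, Nonempty (Grp.mk T ≅ Grp.mk (Red.DS (Spec (CommRingCat.of k)) (Fin r → ℤ))) := by
  obtain ⟨r, e, he⟩ := H21Dyn.exists_split_algClosed T hT
  haveI := he
  exact ⟨r, ⟨(Grp.mkIso' e).symm ≪≫ (Grp.mkIso' (asIso (bcIdHom _))).symm ≪≫ diagTrivial k (Fin r → ℤ)⟩⟩

/-- A monomorphism after a field extension is one before. -/
theorem mono_of_mono_bc {K L : Type u} [Field K] [Field L] (z : Spec (CommRingCat.of L) ⟶ Spec (CommRingCat.of K))
    {X Y : Over (Spec (CommRingCat.of K))} (f : X ⟶ Y) [Mono ((Over.pullback z).map f)] : Mono f.left := by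
  haveI : Surjective z := ⟨fun x => ⟨IsLocalRing.closedPoint L, Subsingleton.elim (α := PrimeSpectrum K) _ _⟩⟩
  haveI : Flat z := by
    rw [← Spec.map_preimage z]
    refine (HasRingHomProperty.Spec_iff (P := @Flat)).mpr ?_
    letI := (Spec.preimage z).hom.toAlgebra
    change (algebraMap K L).Flat
    rw [RingHom.flat_algebraMap_iff]
    infer_instance
  refine ⟨fun {Z} a b h => ?_⟩
  let W : Over (Spec (CommRingCat.of K)) := Over.mk (a ≫ X.hom)
  let a' : W ⟶ X := Over.homMk a rfl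
  let b' : W ⟶ X := Over.homMk b (by rw [← Over.w f, ← Category.assoc, ← h, Category.assoc, Over.w f]; rfl)
  have hW : (Over.pullback z).map a' = (Over.pullback z).map b' := by
    rw [← cancel_mono ((Over.pullback z).map f), ← Functor.map_comp, ← Functor.map_comp]
    exact congrArg _ (Over.OverMorphism.ext h)
  haveI : Flat (pullback.fst W.hom z) := MorphismProperty.pullback_fst _ _ ‹_›
  haveI : Surjective (pullback.fst W.hom z) := MorphismProperty.pullback_fst _ _ ‹_›
  haveI : QuasiCompact (pullback.fst W.hom z) := inferInstance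
  haveI : Epi (pullback.fst W.hom z) := Flat.epi_of_flat_of_surjective _
  have h2 := congrArg (fun m => m.left ≫ pullback.fst X.hom z) hW
  simp only [Over.pullback_map_left, pullback.lift_fst] at h2
  exact (cancel_epi _).mp h2

section Eval

variable {S S' : Scheme.{u}} (f : S' ⟶ S) {H G : Over S} [GrpObj H] [GrpObj G]

/-- The structure map of an object over the base change. -/
abbrev strTo (T : Over S') : (Over.map f).obj T ⟶ Over.mk f := Over.homMk (U := (Over.map f).obj T) (V := Over.mk f) (T.hom : T.left ⟶ S') rfl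

/-- Objects over the test scheme as objects over the base change. -/
theorem exists_pack {X : Over S} (t : X ⟶ Over.mk f) :
    ∃ e : X ≅ (Over.map f).obj (Over.mk t.left), e.hom.left = 𝟙 _ :=
  ⟨Over.isoMk (Iso.refl _) ((Category.id_comp _).trans (Over.w t)), rfl⟩

/-- A family over a test scheme as a morphism of base changes. -/
def ofFam (φ : H ⊗ Over.mk f ⟶ G) : Red.bc f H ⟶ Red.bc f G :=
  bcEquiv f G (Red.bc f H) (lift (bcHom f H _ (𝟙 _)) (strTo f (Red.bc f H)) ≫ φ)

theorem bcHom_ofFam (φ : H ⊗ Over.mk f ⟶ G) {T : Over S'} (x : T ⟶ Red.bc f H) :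
    bcHom f G T (x ≫ ofFam f φ) = lift (bcHom f H T x) (strTo f T) ≫ φ := by
  rw [bcHom_precomp, show bcHom f G _ (ofFam f φ) = _ from (bcEquiv f G _).symm_apply_apply _, ← Category.assoc,
    comp_lift, ← bcHom_precomp, Category.comp_id]
  congr 2
  ext : 1
  exact Over.w x

theorem isMonHom_ofFam (φ : H ⊗ Over.mk f ⟶ G) (hφ : AutFam.IsHomFamily H G φ) : IsMonHom (ofFam f φ) :=
  isMonHom_of_mul _ fun {T} x y => by
    apply (bcEquiv f G T).symm.injective
    change bcHom f G T _ = bcHom f G T _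
    rw [map_mul, bcHom_ofFam, bcHom_ofFam, bcHom_ofFam, map_mul, hφ]

theorem exists_family_of_hom (j : Red.bc f H ⟶ Red.bc f G) [IsMonHom j] :
    ∃ φ : H ⊗ Over.mk f ⟶ G, AutFam.IsHomFamily H G φ ∧
      ∀ (T : Over S') (x : T ⟶ Red.bc f H), lift (bcHom f H T x) (strTo f T) ≫ φ = bcHom f G T (x ≫ j) := by
  let P : Over S' := Over.mk (snd H (Over.mk f)).left
  obtain ⟨e, he⟩ := exists_pack f (snd H (Over.mk f))
  let φ : H ⊗ Over.mk f ⟶ G := e.hom ≫ bcHom f G P (bcEquiv f H P (e.inv ≫ fst _ _) ≫ j)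
  have hφ : ∀ (T : Over S') (x : T ⟶ Red.bc f H),
      lift (bcHom f H T x) (strTo f T) ≫ φ = bcHom f G T (x ≫ j) := fun T x => by
    let s := lift (bcHom f H T x) (strTo f T)
    let s' : T ⟶ P := Over.homMk s.left (congrArg (fun m => m.left) (lift_snd _ _ : s ≫ snd _ _ = _))
    have hs : s ≫ e.hom = (Over.map f).map s' := by
      ext : 1
      rw [Over.comp_left, he]
      exact Category.comp_id _
    rw [← Category.assoc, hs, ← bcHom_precomp, ← Category.assoc]
    congr 2
    apply (bcEquiv f H T).symm.injective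
    change bcHom f H T _ = bcHom f H T x
    rw [bcHom_precomp, show bcHom f H P (bcEquiv f H P _) = _ from (bcEquiv f H P).symm_apply_apply _, ← hs,
      Category.assoc, Iso.hom_inv_id_assoc]
    exact lift_fst _ _
  refine ⟨φ, fun X g₁ g₂ t => ?_, hφ⟩
  obtain ⟨d, hd⟩ := exists_pack f t
  have key : ∀ g : X ⟶ H, lift g t ≫ φ =
      d.hom ≫ bcHom f G (Over.mk t.left) (bcEquiv f H _ (d.inv ≫ g) ≫ j) := fun g => by
    have h := hφ _ (bcEquiv f H (Over.mk t.left) (d.inv ≫ g))
    rw [show bcHom f H _ (bcEquiv f H _ (d.inv ≫ g)) = _ from (bcEquiv f H _).symm_apply_apply _] at h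
    rw [← h, ← Category.assoc d.hom, comp_lift, Iso.hom_inv_id_assoc]
    congr 2
    ext : 1
    rw [Over.comp_left, hd]
    exact (Category.id_comp _).symm
  rw [key, key, key, ← MonObj.comp_mul, ← map_mul, ← MonObj.mul_comp]
  congr 3
  apply (bcEquiv f H _).symm.injective
  rw [bcEquiv_symm_mul, Equiv.symm_apply_apply, Equiv.symm_apply_apply, Equiv.symm_apply_apply, MonObj.comp_mul]

end Eval

variable {k Ω : Type u} [Field k] [IsAlgClosed k] [Field Ω] [IsAlgClosed Ω]

theorem isMonHom_map {S S' : Scheme.{u}} (g : S' ⟶ S) {X Y : Over S} [GrpObj X] [GrpObj Y] (u : X ⟶ Y) [IsMonHom u] :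
    IsMonHom ((Over.pullback g).map u : Red.bc g X ⟶ Red.bc g Y) :=
  isMonHom_of_mul _ fun x y => MonObj.mul_comp _ _ _

theorem isMonHom_comp4 {C : Type*} [Category C] [CartesianMonoidalCategory C] {A B D E E' : C} [GrpObj A] [GrpObj B]
    [GrpObj D] [GrpObj E] [GrpObj E'] (a : A ⟶ B) (b : B ⟶ D) (c : D ⟶ E) (d : E ⟶ E') [IsMonHom a] [IsMonHom b]
    [IsMonHom c] [IsMonHom d] : IsMonHom (a ≫ b ≫ c ≫ d) := inferInstance

/-- A family is a monomorphism at the image of a geometric point where it restricts to one. -/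
theorem mono_at_point {S : Scheme.{u}} {H G : Over S} [GrpObj H] [GrpObj G] (A : Over S)
    (υ : H ⊗ Over.mk A.hom ⟶ G) (z : Spec (CommRingCat.of Ω) ⟶ S) (aΩ : Over.mk z ⟶ Over.mk A.hom)
    (jH : Red.bc z H ⟶ Red.bc z G) [Mono jH]
    (hψj : ∀ (T : Over (Spec (CommRingCat.of Ω))) (x : T ⟶ Red.bc z H),
      lift (bcHom z H T x) (strTo z T) ≫ (H ◁ aΩ) ≫ υ = bcHom z G T (x ≫ jH)) :
    Mono ((Over.pullback (A.left.fromSpecResidueField (aΩ.left (IsLocalRing.closedPoint Ω)))).map
      (ofFam A.hom υ)).left := by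
  let uA := ofFam A.hom υ
  let x : A.left := aΩ.left (IsLocalRing.closedPoint Ω)
  let al : Spec (CommRingCat.of Ω) ⟶ A.left := aΩ.left
  haveI := Scheme.isLocalHom_stalkClosedPointTo' al
  obtain ⟨β, hβ⟩ : ∃ β : Spec (CommRingCat.of Ω) ⟶ Spec (CommRingCat.of (A.left.residueField x)),
      β ≫ A.left.fromSpecResidueField x = aΩ.left :=
    ⟨Spec.map (Scheme.descResidueField (Scheme.stalkClosedPointTo al)),
      (A.left.descResidueField_stalkClosedPointTo_fromSpecResidueField Ω al)⟩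
  let q := A.left.fromSpecResidueField x
  let v := (Over.pullback q).map uA
  haveI : Mono ((Over.pullback β).map v) := by
    refine ⟨fun {W} a b hab => ?_⟩
    have hβ' : (β ≫ q) ≫ A.hom = z := by rw [hβ]; exact Over.w aΩ
    let toW : ∀ {Y : Over S} [GrpObj Y], (W ⟶ Red.bc β (Red.bc q (Red.bc A.hom Y))) →
        ((Over.map A.hom).obj ((Over.map q).obj ((Over.map β).obj W)) ⟶ Y) := fun {Y} _ w =>
      bcHom A.hom Y _ (bcHom q (Red.bc A.hom Y) _ (bcHom β _ W w))
    let ι' : (Over.map z).obj W ≅ (Over.map A.hom).obj ((Over.map q).obj ((Over.map β).obj W)) :=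
      Over.isoMk (Iso.refl _) (by
        change 𝟙 _ ≫ ((W.hom ≫ β) ≫ q) ≫ A.hom = W.hom ≫ z
        rw [Category.id_comp, ← hβ']
        simp only [Category.assoc])
    have key : ∀ w : W ⟶ Red.bc β (Red.bc q (Red.bc A.hom H)),
        ι'.hom ≫ toW (w ≫ (Over.pullback β).map v) =
          bcHom z G W (bcEquiv z H W (ι'.hom ≫ toW w) ≫ jH) := fun w => by
      rw [← hψj, show bcHom z H W (bcEquiv z H W _) = _ from (bcEquiv z H W).symm_apply_apply _]
      simp only [toW, v, bcHom_comp]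
      rw [bcHom_ofFam, ← Category.assoc, comp_lift, ← Category.assoc (lift _ _) (H ◁ aΩ), lift_whiskerLeft]
      congr 2
      ext : 1
      change 𝟙 _ ≫ ((W.hom ≫ β) ≫ q) = W.hom ≫ aΩ.left
      rw [Category.id_comp, Category.assoc, hβ]
    have h1 := congrArg (fun w => ι'.hom ≫ toW w) hab
    simp only [key] at h1
    have h2 := (cancel_mono jH).mp ((bcEquiv z G W).symm.injective h1)
    have h3 := (cancel_epi ι'.hom).mp ((bcEquiv z H W).injective h2)
    exact (bcEquiv β _ W).symm.injective ((bcEquiv q _ _).symm.injective ((bcEquiv A.hom H _).symm.injective h3))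
  exact mono_of_mono_bc β v

/-- A family is a monomorphism at rational points of an open where it is one. -/
theorem mono_at_rational {S : Scheme.{u}} {H G : Over S} [GrpObj H] [GrpObj G] (A : Over S)
    (υ : H ⊗ Over.mk A.hom ⟶ G) (U : A.left.Opens) (hU : Mono ((Over.pullback U.ι).map (ofFam A.hom υ)).left)
    (a : 𝟙_ (Over S) ⟶ Over.mk A.hom) (ha : ∀ s, a.left s ∈ U)
    (j₀ : H ⟶ G) (hj₀ : ∀ {X : Over S} (h : X ⟶ H), h ≫ j₀ = lift h (toUnit X ≫ a) ≫ υ) : Mono j₀ := by
  let uA := ofFam A.hom υ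
  refine ⟨fun {X} h₁ h₂ h12 => ?_⟩
  let t : X ⟶ Over.mk A.hom := toUnit X ≫ a
  obtain ⟨d, hd⟩ := exists_pack A.hom t
  have hrange : Set.range t.left ⊆ Set.range U.ι := by
    rintro _ ⟨w, rfl⟩
    rw [Scheme.Opens.range_ι]
    exact ha ((toUnit X).left w)
  let XU : Over (U : Scheme.{u}) := Over.mk (IsOpenImmersion.lift U.ι t.left hrange)
  let dU : X ≅ (Over.map A.hom).obj ((Over.map U.ι).obj XU) := Over.isoMk (Iso.refl _) (by
    change 𝟙 _ ≫ (IsOpenImmersion.lift U.ι t.left hrange ≫ U.ι) ≫ A.hom = X.hom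
    rw [Category.id_comp, IsOpenImmersion.lift_fac]
    exact Over.w t)
  let pt : (X ⟶ H) → (XU ⟶ Red.bc U.ι (Red.bc A.hom H)) := fun h =>
    bcEquiv U.ι _ XU (bcEquiv A.hom H _ (dU.inv ≫ h))
  have hpt : ∀ h, bcHom A.hom G _ (bcHom U.ι _ XU (pt h ≫ (Over.pullback U.ι).map uA)) = dU.inv ≫ h ≫ j₀ :=
    fun h => by
      rw [bcHom_comp, show bcHom U.ι _ XU (pt h) = _ from (bcEquiv U.ι _ XU).symm_apply_apply _, bcHom_ofFam,
        show bcHom A.hom H _ (bcEquiv A.hom H _ _) = _ from (bcEquiv A.hom H _).symm_apply_apply _, hj₀,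
        ← Category.assoc, comp_lift]
      congr 2
      ext : 1
      change IsOpenImmersion.lift U.ι t.left hrange ≫ U.ι = dU.inv.left ≫ t.left
      rw [IsOpenImmersion.lift_fac]
      exact (Category.id_comp _).symm
  haveI := hU
  haveI : Mono ((Over.pullback U.ι).map uA) := Over.mono_of_mono_left _
  have h3 : pt h₁ = pt h₂ := by
    rw [← cancel_mono ((Over.pullback U.ι).map uA)]
    apply (bcEquiv U.ι _ XU).symm.injective
    apply (bcEquiv A.hom G _).symm.injective
    refine (hpt h₁).trans (Eq.trans ?_ (hpt h₂).symm)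
    rw [h12]
  exact (cancel_epi dU.inv).mp ((bcEquiv A.hom H _).injective ((bcEquiv U.ι _ XU).injective h3))

/-- A monomorphism extending a torus over an extension field descends to one over the field. -/
theorem exists_mono_of_ext (z : Spec (CommRingCat.of Ω) ⟶ Spec (CommRingCat.of k))
    (G : Over (Spec (CommRingCat.of k))) [GrpObj G] [Smooth G.hom] [IsAffineHom G.hom]
    (T : Over (Spec (CommRingCat.of k))) [GrpObj T] (i : T ⟶ G) [IsMonHom i] (hT : Red.IsTorus T)
    (H : Over (Spec (CommRingCat.of k))) [GrpObj H] (hH : SGA3x.IsMultTypeFT H) (f₀ : T ⟶ H)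
    (jH : Red.bc z H ⟶ Red.bc z G) [IsMonHom jH] [Mono jH]
    (hjH : (Over.pullback z).map f₀ ≫ jH = (Over.pullback z).map i) :
    ∃ j₀ : H ⟶ G, IsMonHom j₀ ∧ Mono j₀ ∧ f₀ ≫ j₀ = i := by
  let S : Scheme.{u} := Spec (CommRingCat.of k)
  let F := Over.pullback z
  obtain ⟨A, υ, hυ, hAsm, hAsep⟩ := S5246.result H G hH inferInstance inferInstance
  haveI := hAsm
  obtain ⟨ψ, hψ, hψj⟩ := exists_family_of_hom z jH
  obtain ⟨aΩ, haΩ, -⟩ := hυ.2 _ ψ hψ
  let υA : H ⊗ Over.mk A.hom ⟶ G := υ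
  let uA := ofFam A.hom υA
  haveI : IsMonHom uA := isMonHom_ofFam A.hom υA hυ.1
  let x : A.left := aΩ.left (IsLocalRing.closedPoint Ω)
  have hψj' : ∀ (T : Over (Spec (CommRingCat.of Ω))) (x : T ⟶ Red.bc z H),
      lift (bcHom z H T x) (strTo z T) ≫ (H ◁ aΩ) ≫ υA = bcHom z G T (x ≫ jH) := fun T x => by
    rw [← hψj, ← haΩ]
  haveI : LocallyOfFinitePresentation G.hom := inferInstance
  haveI : LocallyOfFinitePresentation (Red.bc A.hom G).hom := MorphismProperty.pullback_snd _ _ ‹_›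
  haveI : IsSeparated (Red.bc A.hom G).hom := MorphismProperty.pullback_snd _ _ inferInstance
  obtain ⟨U, hxU, hU⟩ := S6059.result (Red.bc A.hom H) (Red.bc A.hom G)
    (isMultTypeFT_bc hH A.hom) (Or.inr inferInstance) uA x (mono_at_point A υA z aΩ jH hψj')
  -- where the universal homomorphism extends the torus
  haveI : Smooth T.hom := H21Split.Corad.smooth_torus T hT
  let p₁ : T ⊗ A ⟶ G := fst T A ≫ i
  let p₂ : T ⊗ A ⟶ G := lift (fst T A ≫ f₀) (snd T A) ≫ υ
  let π := G.hom
  have hπ : p₁.left ≫ π = p₂.left ≫ π := (Over.w p₁).trans (Over.w p₂).symm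
  let Eset := H21EtPt.agree p₁.left p₂.left
  have hE : IsClosed Eset := by
    change IsClosed (H21EtPt.agree p₁.left p₂.left)
    rw [H21EtPt.agree_eq π hπ]
    exact (pullback.diagonal π).isClosedEmbedding.isClosed_range.preimage (pullback.lift _ _ hπ).continuous
  haveI : UniversallyOpen T.hom := inferInstance
  haveI : UniversallyOpen (snd T A).left := MorphismProperty.pullback_snd (P := @UniversallyOpen) _ _ ‹_›
  let Y : Set A.left := ((snd T A).left '' Esetᶜ)ᶜ
  have hY : IsClosed Y := ((snd T A).left.isOpenMap _ hE.isOpen_compl).isClosed_compl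
  have hxY : x ∈ Y := by
    rintro ⟨w, hw, hwx⟩
    obtain ⟨w', hw', -⟩ := Scheme.Pullback.exists_preimage_pullback (f := (snd T A).left) (g := aΩ.left) w
      (IsLocalRing.closedPoint Ω) hwx
    refine hw ?_
    rw [← hw']
    change w' ∈ pullback.fst (snd T A).left aΩ.left ⁻¹' Eset
    rw [H21EtPt.preimage_agree]
    let g₁ := pullback.fst (snd T A).left aΩ.left
    let g₂ := pullback.snd (snd T A).left aΩ.left
    let W : Over S := Over.mk (g₁ ≫ (T ⊗ A).hom)
    let w₁ : W ⟶ T ⊗ A := Over.homMk g₁ rfl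
    let w₂ : W ⟶ Over.mk z := Over.homMk g₂ (by
      change g₂ ≫ z = g₁ ≫ (T ⊗ A).hom
      rw [← Over.w (snd T A), pullback.condition_assoc, Over.w aΩ]
      rfl)
    have hw12 : w₁ ≫ snd T A = w₂ ≫ aΩ := by ext : 1; exact pullback.condition
    have heq : w₁ ≫ p₁ = w₁ ≫ p₂ := by
      obtain ⟨d, hd⟩ := exists_pack z w₂
      let t : Over.mk w₂.left ⟶ Red.bc z T := bcEquiv z T _ (d.inv ≫ w₁ ≫ fst T A)
      have ht : bcHom z T _ t = d.inv ≫ w₁ ≫ fst T A := (bcEquiv z T _).symm_apply_apply _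
      have h1 : bcHom z G _ (t ≫ F.map i) = d.inv ≫ w₁ ≫ p₁ := by
        rw [bcHom_comp, ht]
        simp only [p₁, Category.assoc]
      have h2 : bcHom z G _ ((t ≫ F.map f₀) ≫ jH) = d.inv ≫ w₁ ≫ p₂ := by
        rw [← hψj, bcHom_comp, ht, ← haΩ, ← Category.assoc, lift_whiskerLeft]
        simp only [p₂, ← Category.assoc, comp_lift]
        congr 2
        rw [Category.assoc d.inv w₁, hw12, ← Category.assoc]
        congr 1
        rw [Iso.eq_inv_comp]
        ext : 1
        rw [Over.comp_left, hd]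
        exact Category.id_comp _
      have h3 : t ≫ F.map i = (t ≫ F.map f₀) ≫ jH := by
        rw [← hjH]
        simp only [F, Category.assoc]
      rw [h3, h2] at h1
      exact ((cancel_epi d.inv).mp h1).symm
    exact congrArg (fun m => (pullback (snd T A).left aΩ.left).fromSpecResidueField w' ≫ m.left) heq
  -- a rational point there
  haveI : JacobsonSpace A.left := LocallyOfFiniteType.jacobsonSpace A.hom
  obtain ⟨y, ⟨hyU, hyY⟩, hy⟩ := nonempty_inter_closedPoints (Z := (U : Set A.left) ∩ Y) ⟨x, hxU, hxY⟩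
    ((U.isOpen.isLocallyClosed).inter hY.isLocallyClosed)
  obtain ⟨a, ha⟩ := H27Witt.exists_rational_point (W := A) hy
  let j₀ : H ⟶ G := lift (𝟙 H) (toUnit H ≫ a) ≫ υ
  have hj₀ : ∀ {X : Over (Spec (CommRingCat.of k))} (h : X ⟶ H), h ≫ j₀ = lift h (toUnit X ≫ a) ≫ υ :=
    fun {X} h => by
      simp only [j₀, ← Category.assoc, comp_lift, Category.comp_id, toUnit_unique (h ≫ toUnit H) (toUnit X)]
  have haU : ∀ s, a.left s ∈ U := fun s => by
    have : a.left s = y := by
      rw [← ha]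
      exact congrArg a.left (Subsingleton.elim (α := PrimeSpectrum k) _ _)
    rw [this]
    exact hyU
  have hcomp : f₀ ≫ j₀ = i := by
    haveI : IsReduced T.left := H13AlgSp.isReduced_of_smooth_mor T.hom
    let s : T ⟶ T ⊗ A := lift (𝟙 T) (toUnit T ≫ a)
    have hs₁ : s ≫ p₁ = i := by simp [s, p₁]
    have hs₂ : s ≫ p₂ = f₀ ≫ j₀ := by
      rw [hj₀]
      simp only [s, p₂, ← Category.assoc, comp_lift, lift_fst, lift_snd, Category.id_comp]
    rw [← hs₁, ← hs₂]
    refine Over.OverMorphism.ext (ext_of_fromSpecResidueField_eq _ _ G.hom Set.univ dense_univ (fun w _ => ?_)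
      ((Over.w (s ≫ p₂)).trans (Over.w (s ≫ p₁)).symm))
    have hw : w ∈ s.left ⁻¹' Eset := by
      by_contra hne
      refine hyY ⟨s.left w, hne, ?_⟩
      rw [← Scheme.Hom.comp_apply, ← Over.comp_left, lift_snd]
      change a.left ((toUnit T).left w) = y
      rw [← ha]
      exact congrArg a.left (Subsingleton.elim (α := PrimeSpectrum k) _ _)
    rw [H21EtPt.preimage_agree] at hw
    exact (hw : _ = _).symm
  exact ⟨j₀, isMonHom_of_mul _ fun x y => by rw [hj₀, hj₀, hj₀, hυ.1], mono_at_rational A υA U hU a haU j₀ hj₀, hcomp⟩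

/-- **Maximal subtori stay maximal over larger algebraically closed fields.** -/
theorem isIso_of_torus_over_ext (z : Spec (CommRingCat.of Ω) ⟶ Spec (CommRingCat.of k))
    (G : Over (Spec (CommRingCat.of k))) [GrpObj G] [Smooth G.hom] [IsAffineHom G.hom]
    (T : Over (Spec (CommRingCat.of k))) [GrpObj T] (i : T ⟶ G) [IsMonHom i] [Mono i] (hT : Red.IsTorus T)
    (hmax : ∀ (T' : Over (Spec (CommRingCat.of k))) [GrpObj T'] (j : T' ⟶ G) [IsMonHom j] [Mono j] (f : T ⟶ T'),
      Red.IsTorus T' → f ≫ j = i → IsIso f)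
    (T'' : Over (Spec (CommRingCat.of Ω))) [GrpObj T''] (hT'' : Red.IsTorus T'')
    (j : T'' ⟶ Red.bc z G) [IsMonHom j] [Mono j] (f : Red.bc z T ⟶ T'') (hf : f ≫ j = (Over.pullback z).map i) :
    IsIso f := by
  let S : Scheme.{u} := Spec (CommRingCat.of k)
  let F := Over.pullback z
  haveI hFi := isMonHom_map z i
  haveI : IsMonHom f := H21Adic.isMonHom_of_comp f j (F.map i) hf
  obtain ⟨r₀, ⟨c₀⟩⟩ := exists_DS_iso_algClosed T hT
  obtain ⟨r, ⟨c⟩⟩ := exists_DS_iso_algClosed T'' hT''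
  let H : Over S := Red.DS S (Fin r → ℤ)
  let H₀ : Over S := Red.DS S (Fin r₀ → ℤ)
  let e₀ : T ≅ H₀ := (Grp.forget _).mapIso c₀
  haveI : IsMonHom e₀.hom := inferInstanceAs (IsMonHom c₀.hom.hom.hom)
  haveI : IsMonHom e₀.inv := inferInstanceAs (IsMonHom c₀.inv.hom.hom)
  let e : T'' ≅ Red.DS _ (Fin r → ℤ) := (Grp.forget _).mapIso c
  haveI : IsMonHom e.hom := inferInstanceAs (IsMonHom c.hom.hom.hom)
  haveI : IsMonHom e.inv := inferInstanceAs (IsMonHom c.inv.hom.hom)
  let d := H21Red0.dsIso z (Fin r → ℤ)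
  let d₀ := H21Red0.dsIso z (Fin r₀ → ℤ)
  haveI : IsMonHom d.inv := inferInstance
  haveI : IsMonHom d₀.inv := inferInstance
  haveI := isMonHom_map z e₀.inv
  haveI := isMonHom_comp4 d₀.inv (F.map e₀.inv) f e.hom
  obtain ⟨φ, hφ⟩ := S11937.exists_eq_DSmap (d₀.inv ≫ F.map e₀.inv ≫ f ≫ e.hom)
  let f₀ : T ⟶ H := e₀.hom ≫ Red.DSmap S φ
  let ε : Red.bc z H ⟶ T'' := d.hom ≫ e.inv
  have hfε : F.map f₀ ≫ ε = f := by
    simp only [f₀, ε, Functor.map_comp, Category.assoc]
    rw [← Category.assoc (F.map (Red.DSmap S φ)), H21Red0.dsIso_natural, Category.assoc]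
    rw [← hφ]
    simp only [Category.assoc, d₀, Iso.hom_inv_id_assoc, e.hom_inv_id, Category.comp_id,
      ← Functor.map_comp_assoc, e₀.hom_inv_id]
    erw [F.map_id, Category.id_comp]
  let jH : Red.bc z H ⟶ Red.bc z G := ε ≫ j
  haveI : IsMonHom jH := inferInstance
  haveI : Mono jH := mono_comp _ _
  obtain ⟨j₀, _, _, hcomp⟩ := exists_mono_of_ext z G T i hT H (isMultTypeFT_DS S _) f₀ jH
    (by rw [← hf, ← hfε, Category.assoc])
  haveI := hmax H j₀ f₀ ⟨S, 𝟙 S, inferInstance, inferInstance, fun V hV => ⟨V, hV.isCompact, Set.image_id _⟩,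
    fun s => ⟨⊤, trivial, r, ⟨bcDSIso _ _⟩⟩⟩ hcomp
  rw [← hfε]
  infer_instance

end Groth.Agent.H21Diag
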