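import Groth.Agent.H21Diag.TorusPart

/-!
Checking flatness and surjectivity on a flat surjective cover of the base.
-/

set_option backward.isDefEq.respectTransparency false

open CategoryTheory MonoidalCategory CartesianMonoidalCategory MonObj GrpObj AlgebraicGeometry
open CategoryTheory.Limits

universe u

namespace Groth.Agent.H21Diag

variable {S S' : Scheme.{u}} (g : S' ⟶ S) [Flat g] [Surjective g] {ι' : Type u} (A : ι' → S'.Opens)
  (hA : ∀ t : S', ∃ i, t ∈ A i)

include hA in
theorem flat_hom_of_cover {X : Over S} (h : ∀ i, Flat (pullback.snd X.hom ((A i).ι ≫ g))) : Flat X.hom := by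
  let 𝒰 := S'.openCoverOfIsOpenCover A (eq_top_iff.mpr fun t _ => TopologicalSpace.Opens.mem_iSup.mpr (hA t))
  have h1 : Flat (pullback.snd X.hom g) := by
    refine IsZariskiLocalAtTarget.of_openCover (P := @Flat) 𝒰 fun i => ?_
    change Flat (pullback.snd (pullback.snd X.hom g) (A i).ι)
    rw [← pullbackLeftPullbackSndIso_hom_snd X.hom g (A i).ι]
    have := h i
    infer_instance
  let a := pullback.fst X.hom g
  have : Flat (𝟙 _ ≫ a) := by rw [Category.id_comp]; infer_instance
  have : Surjective (𝟙 _ ≫ a) := by rw [Category.id_comp]; infer_instance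
  have : Flat (a ≫ X.hom) := by rw [pullback.condition]; infer_instance
  exact H13Desc.flat_of_refinement a X.hom (𝟙 _)

include hA in
theorem flat_surjective_of_cover {G H : Over S} (f : G ⟶ H)
    (h : ∀ i, Flat ((Over.pullback ((A i).ι ≫ g)).map f).left ∧ Surjective ((Over.pullback ((A i).ι ≫ g)).map f).left) :
    Flat f.left ∧ Surjective f.left := by
  let 𝒰 := S'.openCoverOfIsOpenCover A (eq_top_iff.mpr fun t _ => TopologicalSpace.Opens.mem_iSup.mpr (hA t))
  let F := ((Over.pullback g).map f).left
  have hloc : ∀ (P : MorphismProperty Scheme.{u}) [IsZariskiLocalAtTarget P],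
      (∀ i, P ((Over.pullback ((A i).ι ≫ g)).map f).left) → P F := by
    intro P _ hall
    refine IsZariskiLocalAtTarget.of_openCover (P := P) (𝒰.pullback₁ (pullback.snd H.hom g)) fun i => ?_
    let w : pullback H.hom ((A i).ι ≫ g) ⟶ pullback (pullback.snd H.hom g) (A i).ι :=
      (pullbackLeftPullbackSndIso H.hom g (A i).ι).inv
    have hsq : IsPullback ((Over.pullback ((A i).ι ≫ g)).map f).left
        ((pullbackLeftPullbackSndIso G.hom g (A i).ι).inv ≫ pullback.fst _ _)
        (w ≫ pullback.fst (pullback.snd H.hom g) (A i).ι) F := by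
      refine IsPullback.of_bot (v₂₁ := pullback.fst G.hom g) (v₂₂ := pullback.fst H.hom g) (h₃₁ := f.left) ?_ ?_
        (isPullback_bc_map f g)
      · simp only [w, Category.assoc, pullbackLeftPullbackSndIso_inv_fst]
        exact isPullback_bc_map f _
      · refine pullback.hom_ext ?_ ?_
        · have e1 : F ≫ pullback.fst H.hom g = pullback.fst G.hom g ≫ f.left := pullback.lift_fst _ _ _
          have e2 : ((Over.pullback ((A i).ι ≫ g)).map f).left ≫ pullback.fst H.hom ((A i).ι ≫ g) =
              pullback.fst G.hom ((A i).ι ≫ g) ≫ f.left := pullback.lift_fst _ _ _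
          simp only [w, Category.assoc, e1, pullbackLeftPullbackSndIso_inv_fst,
            pullbackLeftPullbackSndIso_inv_fst_assoc, e2]
        · have e1 : F ≫ pullback.snd H.hom g = pullback.snd G.hom g := pullback.lift_snd _ _ _
          have e2 : ((Over.pullback ((A i).ι ≫ g)).map f).left ≫ pullback.snd H.hom ((A i).ι ≫ g) =
              pullback.snd G.hom ((A i).ι ≫ g) := pullback.lift_snd _ _ _
          simp [w, Category.assoc, e1, pullback.condition]
    have h2 := hall i
    change P (pullback.snd F (pullback.fst (pullback.snd H.hom g) (A i).ι))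
    have hsq' : IsPullback ((pullbackLeftPullbackSndIso G.hom g (A i).ι).inv ≫ pullback.fst _ _)
        (((Over.pullback ((A i).ι ≫ g)).map f).left ≫ w) F (pullback.fst (pullback.snd H.hom g) (A i).ι) :=
      hsq.flip.of_iso (Iso.refl _) (Iso.refl _) (asIso w) (Iso.refl _) (by simp) (by simp) (by simp) (by simp)
    rw [← hsq'.isoPullback_inv_snd, P.cancel_left_of_respectsIso, P.cancel_right_of_respectsIso]
    exact h2
  have h1 : Flat F := hloc @Flat fun i => (h i).1
  have h2 : Surjective F := hloc @Surjective fun i => (h i).2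
  let a := pullback.fst G.hom g
  let b := pullback.fst H.hom g
  have hab : a ≫ f.left = F ≫ b := (pullback.lift_fst _ _ _).symm
  have : Flat (𝟙 _ ≫ a) := by rw [Category.id_comp]; infer_instance
  have : Surjective (𝟙 _ ≫ a) := by rw [Category.id_comp]; infer_instance
  have : Flat (a ≫ f.left) := by rw [hab]; infer_instance
  have : Surjective (a ≫ f.left) := by rw [hab]; infer_instance
  exact ⟨H13Desc.flat_of_refinement a f.left (𝟙 _), Surjective.of_comp a f.left⟩

end Groth.Agent.H21Diag
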