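import Groth.Agent.H21Diag.TransporterSub
import Groth.Agent.H21Diag.Locus

/-!
The centralizer of a subgroup of multiplicative type is open and closed in its normalizer.
-/

open CategoryTheory MonoidalCategory CartesianMonoidalCategory MonObj GrpObj AlgebraicGeometry
open CategoryTheory.Limits

universe u

namespace Groth.Agent.H21Diag

variable {S : Scheme.{u}} {H G Z N : Over S} [GrpObj H] [GrpObj G] [GrpObj Z] [GrpObj N]
  (i : H ⟶ G) [IsMonHom i] [Mono i] (j : Z ⟶ G) (k : N ⟶ G)

/-- the structural map of a family over `N` -/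
noncomputable def structTo (T : Over N.left) : (Over.map N.hom).obj T ⟶ N :=
  Over.homMk T.hom rfl

omit [GrpObj N] in
theorem structTo_precomp {T T' : Over N.left} (t : T' ⟶ T) :
    (Over.map N.hom).map t ≫ structTo T = structTo T' :=
  Over.OverMorphism.ext (Over.w t)

/-- conjugation by the universal point of the normalizer -/
theorem exists_conj_hom (hk : Red.IsNormalizerOf i k) :
    ∃ a : Red.bc N.hom H ⟶ Red.bc N.hom H, IsMonHom a ∧ ∀ (T : Over N.left) (t : T ⟶ Red.bc N.hom H),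
      bcHom N.hom H T (t ≫ a) ≫ i =
        (structTo T ≫ k) * (bcHom N.hom H T t ≫ i) * (structTo T ≫ k)⁻¹ := by
  obtain ⟨_, hkm, hk'⟩ := hk
  obtain ⟨h', hh'⟩ := (((hk' N k).mp ⟨𝟙 N, Category.id_comp k⟩) _ (structTo (Red.bc N.hom H))
    (bcHom N.hom H _ (𝟙 _))).1
  let a : Red.bc N.hom H ⟶ Red.bc N.hom H := bcEquiv N.hom H _ h'
  have ha : ∀ (T : Over N.left) (t : T ⟶ Red.bc N.hom H), bcHom N.hom H T (t ≫ a) ≫ i =
      (structTo T ≫ k) * (bcHom N.hom H T t ≫ i) * (structTo T ≫ k)⁻¹ := fun T t => by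
    have e : bcHom N.hom H T t = (Over.map N.hom).map t ≫ bcHom N.hom H _ (𝟙 _) := by
      rw [← bcHom_precomp, Category.comp_id]
    rw [bcHom_precomp, show bcHom N.hom H _ a = h' from Equiv.symm_apply_apply _ _, Category.assoc, ← hh', e,
      MonObj.comp_mul, MonObj.comp_mul, GrpObj.comp_inv, ← Category.assoc _ (structTo _) k, structTo_precomp,
      Category.assoc]
  refine ⟨a, isMonHom_of_mul a fun x y => (bcEquiv N.hom H _).symm.injective ?_, ha⟩
  change bcHom N.hom H _ _ = bcHom N.hom H _ _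
  rw [← cancel_mono i, map_mul, MonObj.mul_comp _ _ i, ha, ha, ha, map_mul, MonObj.mul_comp _ _ i]
  group

/-- the centralizer is open and closed in the normalizer -/
theorem exists_clopen_immersion (hH : SGA3x.IsMultTypeFT H) (hj : Red.IsCentralizerOf i j)
    [IsClosedImmersion j.left] (hk : Red.IsNormalizerOf i k) :
    ∃ f : Z ⟶ N, f ≫ k = j ∧ IsOpenImmersion f.left ∧ IsClosedImmersion f.left := by
  obtain ⟨a, ham, ha⟩ := exists_conj_hom i k hk
  obtain ⟨_, hjm, hj'⟩ := hj
  obtain ⟨_, hkm, hk'⟩ := hk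
  obtain ⟨φ, hφ⟩ : ∃ φ : Z ⟶ N, φ ≫ k = j := by
    refine (hk' _ j).mpr fun X' x h => ⟨⟨h, ?_⟩, ⟨h, ?_⟩⟩
    · rw [(hj' _ j).mp ⟨𝟙 Z, Category.id_comp j⟩ X' x h, mul_inv_cancel_right]
    · rw [_root_.mul_assoc, ← (hj' _ j).mp ⟨𝟙 Z, Category.id_comp j⟩ X' x h, inv_mul_cancel_left]
  -- the difference of conjugation and the identity
  let X₀ := Red.bc N.hom H
  have hcomm : ∀ {T : Over N.left} (x y : T ⟶ X₀), x * y = y * x := fun {T} x y => by
    refine (bcEquiv N.hom H T).symm.injective ?_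
    change bcHom N.hom H T (x * y) = bcHom N.hom H T (y * x)
    rw [map_mul, map_mul, mult_comm hH]
  let d : X₀ ⟶ X₀ := a * (𝟙 X₀)⁻¹
  have hd : ∀ {T : Over N.left} (t : T ⟶ X₀), t ≫ d = (t ≫ a) * t⁻¹ := fun {T} t => by
    simp only [d, MonObj.comp_mul, GrpObj.comp_inv, Category.comp_id]
  have : IsMonHom d := isMonHom_of_mul d fun x y => by
    rw [hd, hd, hd, MonObj.mul_comp, _root_.mul_inv_rev, hcomm y⁻¹ x⁻¹, _root_.mul_assoc, _root_.mul_assoc,
      ← _root_.mul_assoc (y ≫ a) x⁻¹ y⁻¹, hcomm (y ≫ a) x⁻¹, _root_.mul_assoc x⁻¹ (y ≫ a) y⁻¹]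
  have hcrit : ∀ {T : Over N.left} (t : T ⟶ X₀), t ≫ d = 1 ↔
      (structTo T ≫ k) * (bcHom N.hom H T t ≫ i) = (bcHom N.hom H T t ≫ i) * (structTo T ≫ k) := fun {T} t => by
    rw [hd, mul_inv_eq_one, ← (bcEquiv N.hom H T).symm.injective.eq_iff]
    change bcHom N.hom H T _ = bcHom N.hom H T _ ↔ _
    rw [← cancel_mono i, ha, mul_inv_eq_iff_eq_mul]
  have hX₀ : SGA3x.IsMultTypeFT X₀ := isMultTypeFT_bc hH N.hom
  have := isSeparated_of_multTypeFT hX₀
  have := lft_of_multTypeFT hX₀
  have := Groth.Agent.S4599.result X₀.hom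
  obtain ⟨U, -, hU, hU1⟩ := exists_trivial_locus d hX₀ inferInstance
  -- the open set lies in the centralizer
  let σ : Over.mk (U.ι ≫ N.hom) ⟶ N := Over.homMk U.ι rfl
  obtain ⟨z, hz⟩ := (hj' _ (σ ≫ k)).mpr fun X' x h => by
    let T : Over N.left := Over.mk (x.left ≫ U.ι)
    have hT : (x.left ≫ U.ι) ≫ N.hom = X'.hom := by rw [Category.assoc]; exact Over.w x
    let e : X' ⟶ (Over.map N.hom).obj T := Over.homMk (𝟙 _) ((Category.id_comp _).trans hT)
    let e' : (Over.map N.hom).obj T ⟶ X' := Over.homMk (𝟙 _) ((Category.id_comp _).trans hT.symm)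
    have hee : e ≫ e' = 𝟙 X' := Over.OverMorphism.ext (Category.id_comp _)
    have h1 := (hcrit (bcEquiv N.hom H T (e' ≫ h))).mp
      (comp_eq_one_of_pullback U.ι d hU1 x.left rfl _)
    rw [show bcHom N.hom H T (bcEquiv N.hom H T (e' ≫ h)) = e' ≫ h from Equiv.symm_apply_apply _ _] at h1
    have h2 := congrArg (e ≫ ·) h1
    have hx : e ≫ structTo T = x ≫ σ := Over.OverMorphism.ext (Category.id_comp _)
    simp only [MonObj.comp_mul, ← Category.assoc, hee, Category.id_comp, hx] at h2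
    simpa only [Category.assoc] using h2
  have : Mono k := ‹Mono k›
  have hzφ : z ≫ φ = σ := by rw [← cancel_mono k, Category.assoc, hφ, hz]
  have : IsClosedImmersion (φ.left ≫ k.left) := by
    rw [← Over.comp_left, hφ]; infer_instance
  have : Mono k.left := by
    have : Mono ((Over.forget S).map k) := inferInstance
    exact this
  have : IsClosedImmersion φ.left := IsClosedImmersion.of_comp φ.left k.left
  have hrange : Set.range φ.left.base ⊆ Set.range U.ι.base := by
    rintro n hn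
    rw [Scheme.Opens.range_ι]
    refine (hU n).mpr ?_
    let q := pullback.snd φ.left (N.left.fromSpecResidueField n)
    have : Surjective q := ⟨fun y => by
      obtain ⟨z₀, hz₀⟩ := hn
      obtain ⟨w, -, hw⟩ := Scheme.Pullback.exists_preimage_pullback (f := φ.left)
        (g := N.left.fromSpecResidueField n) z₀ y (by
          rw [hz₀]; exact (Scheme.fromSpecResidueField_apply _ _).symm)
      exact ⟨w, hw⟩⟩
    have := isIso_of_isClosedImmersion_of_surjective q
    let r := inv q ≫ pullback.fst φ.left (N.left.fromSpecResidueField n)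
    have hr : r ≫ φ.left = N.left.fromSpecResidueField n := by
      rw [Category.assoc, pullback.condition, IsIso.inv_hom_id_assoc]
    refine trivAt_of_forall d fun T g => (hcrit g).mpr ?_
    let T' := (Over.map (N.left.fromSpecResidueField n)).obj T
    let s : (Over.map N.hom).obj T' ⟶ Z := Over.homMk (T.hom ≫ r) (by
      change (T.hom ≫ r) ≫ Z.hom = (T.hom ≫ N.left.fromSpecResidueField n) ≫ N.hom
      rw [← Over.w φ, Category.assoc, ← Category.assoc r, hr, ← Category.assoc])
    have hs : s ≫ φ = structTo T' := Over.OverMorphism.ext ((Category.assoc _ _ _).trans (congrArg (T.hom ≫ ·) hr))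
    have := (hj' _ (s ≫ j)).mp ⟨s, rfl⟩ _ (𝟙 _) (bcHom N.hom H T' g)
    rw [Category.id_comp, ← hφ, ← Category.assoc, hs] at this
    exact this
  let w := IsOpenImmersion.lift U.ι φ.left hrange
  have hw : w ≫ U.ι = φ.left := IsOpenImmersion.lift_fac _ _ _
  have hwz : w ≫ z.left = 𝟙 Z.left := by
    rw [← cancel_mono φ.left, Category.assoc, Category.id_comp]
    exact (congrArg (w ≫ ·) (congrArg (fun m => m.left) hzφ)).trans hw
  have hzw : z.left ≫ w = 𝟙 (U : Scheme.{u}) := by
    rw [← cancel_mono U.ι, Category.assoc, hw]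
    exact (congrArg (fun m => m.left) hzφ).trans (Category.id_comp _).symm
  have : IsIso w := ⟨z.left, hwz, hzw⟩
  exact ⟨φ, hφ, by rw [← hw]; infer_instance, inferInstance⟩

end Groth.Agent.H21Diag
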