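import Groth.Agent.H21Diag.ActTrivial

/-!
Points along an injective ring map whose image contains a nilpotent ideal of the target.
-/

open CategoryTheory AlgebraicGeometry
open CategoryTheory.Limits

universe u

namespace Groth.Agent.H21Diag

variable {C C' : Type u} [CommRing C] [CommRing C'] (ι₀ : C →+* C') (K : Ideal C)

theorem away_data (hι : Function.Injective ι₀) (K' : Ideal C') (hK' : ∀ k ∈ K', k ∈ ι₀.range) (b : C) :
    ∃ ιb : Localization.Away b →+* Localization.Away (ι₀ b),
      ιb.comp (algebraMap C (Localization.Away b)) = (algebraMap C' (Localization.Away (ι₀ b))).comp ι₀ ∧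
      Function.Injective ιb ∧ ∀ k ∈ K'.map (algebraMap C' (Localization.Away (ι₀ b))), k ∈ ιb.range := by
  have hle : Submonoid.powers b ≤ (Submonoid.powers (ι₀ b)).comap ι₀ := by
    rintro _ ⟨n, rfl⟩; exact ⟨n, (map_pow ι₀ b n).symm⟩
  let ιb : Localization.Away b →+* Localization.Away (ι₀ b) :=
    IsLocalization.map (Localization.Away (ι₀ b)) ι₀ hle
  have hcomp : ιb.comp (algebraMap C (Localization.Away b)) =
      (algebraMap C' (Localization.Away (ι₀ b))).comp ι₀ := IsLocalization.map_comp hle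
  refine ⟨ιb, hcomp, ?_, ?_⟩
  · refine (injective_iff_map_eq_zero ιb).mpr fun z hz => ?_
    obtain ⟨⟨c, ⟨_, n, rfl⟩⟩, rfl⟩ := IsLocalization.mk'_surjective (Submonoid.powers b) z
    rw [IsLocalization.map_mk', IsLocalization.mk'_eq_zero_iff] at hz
    obtain ⟨⟨_, m, rfl⟩, hm⟩ := hz
    rw [IsLocalization.mk'_eq_zero_iff]
    refine ⟨⟨b ^ m, Submonoid.mem_powers_iff _ _ |>.mpr ⟨m, rfl⟩⟩, hι ?_⟩
    rw [map_mul, map_pow, map_zero]
    exact hm
  · intro k hk
    obtain ⟨⟨⟨k', hk''⟩, ⟨_, n, rfl⟩⟩, hkk⟩ :=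
      (IsLocalization.mem_map_algebraMap_iff (Submonoid.powers (ι₀ b)) (Localization.Away (ι₀ b))).mp hk
    obtain ⟨c, hc⟩ := hK' k' hk''
    refine ⟨IsLocalization.mk' _ c ⟨b ^ n, Submonoid.mem_powers_iff _ _ |>.mpr ⟨n, rfl⟩⟩, ?_⟩
    rw [IsLocalization.map_mk', IsLocalization.mk'_eq_iff_eq_mul, hc, ← hkk]
    simp

theorem exists_affine_near {X : Scheme.{u}} (z : Spec (CommRingCat.of C) ⟶ X) (p : PrimeSpectrum C) :
    ∃ b : C, b ∉ p.asIdeal ∧ ∃ (A : Type u) (_ : CommRing A) (j : Spec (CommRingCat.of A) ⟶ X)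
      (α : A →+* Localization.Away b), IsOpenImmersion j ∧
      Spec.map (CommRingCat.ofHom α) ≫ j =
        Spec.map (CommRingCat.ofHom (algebraMap C (Localization.Away b))) ≫ z := by
  obtain ⟨W, hW, hzW, -⟩ := exists_isAffineOpen_mem_and_subset (U := ⊤) (x := z.base p) (Set.mem_univ _)
  obtain ⟨_, ⟨_, ⟨b, rfl⟩, rfl⟩, hpb, hbW⟩ :=
    PrimeSpectrum.isBasis_basic_opens.exists_subset_of_mem_open (show p ∈ z.base ⁻¹' W from hzW)
      (W.isOpen.preimage z.base.hom.continuous)
  set φ := algebraMap C (Localization.Away b)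
  have hr : Set.range (Spec.map (CommRingCat.ofHom φ) ≫ z).base ⊆ Set.range hW.fromSpec.base := by
    rintro _ ⟨w, rfl⟩
    rw [hW.range_fromSpec]
    have hw : (Spec.map (CommRingCat.ofHom φ)).base w ∈ (PrimeSpectrum.basicOpen b : Set (PrimeSpectrum C)) := by
      rw [← PrimeSpectrum.localization_away_comap_range (Localization.Away b) b]
      exact ⟨w, rfl⟩
    exact hbW hw
  obtain ⟨α, hα⟩ := Spec.map_surjective (IsOpenImmersion.lift hW.fromSpec _ hr)
  exact ⟨b, hpb, Γ(X, W), inferInstance, hW.fromSpec, α.hom, inferInstance,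
    by rw [CommRingCat.ofHom_hom, hα, IsOpenImmersion.lift_fac]⟩

theorem base_eq_of_mk {X : Scheme.{u}} (hK : IsNilpotent K) {z z' : Spec (CommRingCat.of C) ⟶ X}
    (h : Spec.map (CommRingCat.ofHom (Ideal.Quotient.mk K)) ≫ z =
      Spec.map (CommRingCat.ofHom (Ideal.Quotient.mk K)) ≫ z') (p : PrimeSpectrum C) :
    z.base p = z'.base p := by
  obtain ⟨q, rfl⟩ : p ∈ Set.range (PrimeSpectrum.comap (Ideal.Quotient.mk K)) := by
    rw [range_comap_of_surjective _ _ Ideal.Quotient.mk_surjective, Ideal.mk_ker]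
    obtain ⟨n, hn⟩ := hK
    exact fun x hx => p.isPrime.le_of_pow_le (n := n) (by rw [hn]; exact bot_le) hx
  exact congrArg (fun w => w.base q) h

/-- two points agree if they agree on the bigger ring and modulo the nilpotent ideal -/
theorem point_ext {X : Scheme.{u}} (hι : Function.Injective ι₀) (hK : IsNilpotent K)
    {z z' : Spec (CommRingCat.of C) ⟶ X}
    (h1 : Spec.map (CommRingCat.ofHom ι₀) ≫ z = Spec.map (CommRingCat.ofHom ι₀) ≫ z')
    (h2 : Spec.map (CommRingCat.ofHom (Ideal.Quotient.mk K)) ≫ z =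
      Spec.map (CommRingCat.ofHom (Ideal.Quotient.mk K)) ≫ z') : z = z' := by
  refine spec_hom_ext z z' fun p => ?_
  obtain ⟨b, hpb, A, _, j, α, hj, hα⟩ := exists_affine_near z p
  obtain ⟨ιb, hιb, hinj, -⟩ := away_data ι₀ hι ⊥ (fun k hk => by
    rw [Ideal.mem_bot] at hk; rw [hk]; exact zero_mem _) b
  refine ⟨b, hpb, ?_⟩
  set φ := algebraMap C (Localization.Away b)
  have hr : Set.range (Spec.map (CommRingCat.ofHom φ) ≫ z').base ⊆ Set.range j.base := by
    rintro _ ⟨w, rfl⟩
    refine ⟨(Spec.map (CommRingCat.ofHom α)).base w, ?_⟩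
    rw [← Scheme.Hom.comp_apply, hα]
    exact base_eq_of_mk K hK h2 _
  obtain ⟨α', hα'⟩ := Spec.map_surjective (IsOpenImmersion.lift j _ hr)
  have hα'' : Spec.map (CommRingCat.ofHom α'.hom) ≫ j = Spec.map (CommRingCat.ofHom φ) ≫ z' := by
    rw [CommRingCat.ofHom_hom, hα', IsOpenImmersion.lift_fac]
  suffices he : α = α'.hom by rw [← hα, ← hα'', he]
  have h3 : Spec.map (CommRingCat.ofHom (ιb.comp α)) ≫ j = Spec.map (CommRingCat.ofHom (ιb.comp α'.hom)) ≫ j := by
    rw [specMap_comp, specMap_comp, Category.assoc, Category.assoc, hα, hα'', specMap_comp_assoc,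
      specMap_comp_assoc, hιb, specMap_comp, Category.assoc, Category.assoc, h1]
  have h4 : ιb.comp α = ιb.comp α'.hom :=
    congrArg CommRingCat.Hom.hom (Spec.map_injective ((cancel_mono j).mp h3))
  exact RingHom.ext fun a => hinj (RingHom.congr_fun h4 a)

/-- a point congruent to a point of the smaller ring descends to it -/
theorem exists_point_descend {X : Scheme.{u}} (hι : Function.Injective ι₀) (hK : IsNilpotent K)
    (hK' : ∀ k ∈ K.map ι₀, ∃ c ∈ K, ι₀ c = k) (z₀ : Spec (CommRingCat.of C) ⟶ X)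
    (x : Spec (CommRingCat.of C') ⟶ X)
    (h : Spec.map (CommRingCat.ofHom (Ideal.Quotient.mk (K.map ι₀))) ≫ x =
      Spec.map (CommRingCat.ofHom (Ideal.Quotient.mk (K.map ι₀))) ≫ Spec.map (CommRingCat.ofHom ι₀) ≫ z₀) :
    ∃ z : Spec (CommRingCat.of C) ⟶ X, Spec.map (CommRingCat.ofHom ι₀) ≫ z = x ∧
      Spec.map (CommRingCat.ofHom (Ideal.Quotient.mk K)) ≫ z =
        Spec.map (CommRingCat.ofHom (Ideal.Quotient.mk K)) ≫ z₀ := by
  classical
  have hKn : IsNilpotent (K.map ι₀) := hK.map (Ideal.mapHom ι₀)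
  have key : ∀ p : PrimeSpectrum C, ∃ b : C, b ∉ p.asIdeal ∧
      ∃ zb : Spec (CommRingCat.of (Localization.Away b)) ⟶ X, ∀ (D : Type u) [CommRing D] (s : C →+* D)
        (t : Localization.Away b →+* D), t.comp (algebraMap C (Localization.Away b)) = s →
        (∀ (D' : Type u) [CommRing D'] (κ : D →+* D') (s' : C' →+* D'), κ.comp s = s'.comp ι₀ →
        Spec.map (CommRingCat.ofHom κ) ≫ Spec.map (CommRingCat.ofHom t) ≫ zb =
          Spec.map (CommRingCat.ofHom s') ≫ x) ∧
        Spec.map (CommRingCat.ofHom (Ideal.Quotient.mk (K.map s))) ≫ Spec.map (CommRingCat.ofHom t) ≫ zb =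
          Spec.map (CommRingCat.ofHom (Ideal.Quotient.mk (K.map s))) ≫ Spec.map (CommRingCat.ofHom s) ≫ z₀ := by
    intro p
    obtain ⟨b, hpb, A, _, j, α, hj, hα⟩ := exists_affine_near z₀ p
    obtain ⟨ιb, hιb, hinj, hrange⟩ := away_data ι₀ hι (K.map ι₀) (fun k hk => let ⟨c, _, hc⟩ := hK' k hk; ⟨c, hc⟩) b
    let Kb := (K.map ι₀).map (algebraMap C' (Localization.Away (ι₀ b)))
    obtain ⟨β, hβ, hβα⟩ := exists_factor j (ιb.comp α) Kb (hKn.map (Ideal.mapHom _))
      (Spec.map (CommRingCat.ofHom (algebraMap C' (Localization.Away (ι₀ b)))) ≫ x) (by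
      let q : C' ⧸ K.map ι₀ →+* Localization.Away (ι₀ b) ⧸ Kb :=
        Ideal.quotientMap Kb (algebraMap C' _) Ideal.le_comap_map
      have hq : (Ideal.Quotient.mk Kb).comp (algebraMap C' (Localization.Away (ι₀ b))) =
          q.comp (Ideal.Quotient.mk (K.map ι₀)) := RingHom.ext fun c => rfl
      rw [specMap_comp_assoc, hq, specMap_comp, Category.assoc, h, specMap_comp_assoc, specMap_comp_assoc,
        ← hq, specMap_comp (ιb.comp α), Category.assoc, specMap_comp α, Category.assoc, hα, specMap_comp_assoc,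
        specMap_comp_assoc, RingHom.comp_assoc, RingHom.comp_assoc, hιb])
    have hmem : ∀ a, β a ∈ ιb.range := fun a => by
      have := add_mem (hrange _ (hβα a)) (RingHom.mem_range_self ιb (α a))
      simpa using this
    choose γ₀ hγ₀ using hmem
    let γ : A →+* Localization.Away b :=
      { toFun := γ₀
        map_one' := hinj (by rw [hγ₀, map_one, map_one])
        map_mul' := fun x y => hinj (by rw [map_mul, hγ₀, hγ₀, hγ₀, map_mul])
        map_zero' := hinj (by rw [hγ₀, map_zero, map_zero])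
        map_add' := fun x y => hinj (by rw [map_add, hγ₀, hγ₀, hγ₀, map_add]) }
    have hγ : ιb.comp γ = β := RingHom.ext hγ₀
    refine ⟨b, hpb, Spec.map (CommRingCat.ofHom γ) ≫ j, fun D _ s t ht => ⟨fun D' _ κ s' hκ => ?_, ?_⟩⟩
    · have hu : IsUnit (s' (ι₀ b)) := by
        rw [← RingHom.comp_apply, ← hκ, RingHom.comp_apply, ← ht, RingHom.comp_apply]
        exact ((IsLocalization.Away.algebraMap_isUnit b).map t).map κ
      let t' : Localization.Away (ι₀ b) →+* D' := IsLocalization.Away.lift (ι₀ b) hu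
      have ht' : t'.comp (algebraMap C' (Localization.Away (ι₀ b))) = s' := IsLocalization.Away.lift_comp _ hu
      have hsq : κ.comp t = t'.comp ιb := by
        refine IsLocalization.ringHom_ext (Submonoid.powers b) ?_
        rw [RingHom.comp_assoc, ht, hκ, RingHom.comp_assoc, hιb, ← RingHom.comp_assoc, ht']
      rw [specMap_comp_assoc, hsq, specMap_comp_assoc, RingHom.comp_assoc, hγ, specMap_comp, Category.assoc,
        ← hβ, specMap_comp_assoc, ht']
    · have hKD : ∀ a, t (γ a) - t (α a) ∈ K.map s := by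
        intro a
        have hb' : γ a - α a ∈ K.map (algebraMap C (Localization.Away b)) := by
          obtain ⟨⟨⟨k', hk'⟩, ⟨_, n, rfl⟩⟩, hk⟩ :=
            (IsLocalization.mem_map_algebraMap_iff (Submonoid.powers (ι₀ b)) (Localization.Away (ι₀ b))).mp
              (show ιb (γ a - α a) ∈ Kb by rw [map_sub, show ιb (γ a) = β a from hγ₀ a]; exact hβα a)
          obtain ⟨c, hc⟩ := hK' k' hk'
          have h2 : (γ a - α a) * algebraMap C _ (b ^ n) = algebraMap C _ c := by
            apply hinj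
            rw [map_mul, ← RingHom.comp_apply ιb (algebraMap C _), ← RingHom.comp_apply ιb (algebraMap C _), hιb,
              RingHom.comp_apply, RingHom.comp_apply, hc.2, map_pow ι₀]
            exact hk
          refine (Ideal.mul_unit_mem_iff_mem _ ((IsLocalization.Away.algebraMap_isUnit b).pow n)).mp ?_
          rw [← map_pow, h2]
          exact Ideal.mem_map_of_mem _ hc.1
        rw [← map_sub, ← ht, ← Ideal.map_map]
        exact Ideal.mem_map_of_mem t hb'
      have he : (Ideal.Quotient.mk (K.map s)).comp (t.comp γ) = (Ideal.Quotient.mk (K.map s)).comp (t.comp α) :=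
        RingHom.ext fun a => Ideal.Quotient.eq.mpr (hKD a)
      rw [specMap_comp_assoc γ t, specMap_comp_assoc, he, ← specMap_comp_assoc, ← specMap_comp_assoc, hα,
        specMap_comp_assoc _ t, ht]
  choose b hb zb hzb using key
  have hs : Ideal.span (Set.range b) = ⊤ := by
    by_contra hne
    obtain ⟨m, hm, hle⟩ := Ideal.exists_le_maximal _ hne
    exact hb ⟨m, hm.isPrime⟩ (hle (Ideal.subset_span (Set.mem_range_self _)))
  let 𝒰 := (Scheme.affineOpenCoverOfSpanRangeEqTop (R := CommRingCat.of C) b hs).openCover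
  have hcompat : ∀ p q, pullback.fst (𝒰.f p) (𝒰.f q) ≫ zb p = pullback.snd (𝒰.f p) (𝒰.f q) ≫ zb q := by
    intro (p : PrimeSpectrum C) (q : PrimeSpectrum C)
    let fp : Spec (CommRingCat.of (Localization.Away (b p))) ⟶ Spec (CommRingCat.of C) :=
      Spec.map (CommRingCat.ofHom (algebraMap C (Localization.Away (b p))))
    let fq : Spec (CommRingCat.of (Localization.Away (b q))) ⟶ Spec (CommRingCat.of C) :=
      Spec.map (CommRingCat.ofHom (algebraMap C (Localization.Away (b q))))
    change pullback.fst fp fq ≫ zb p = pullback.snd fp fq ≫ zb q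
    have : IsOpenImmersion fp := IsOpenImmersion.of_isLocalization (b p)
    have : IsOpenImmersion fq := IsOpenImmersion.of_isLocalization (b q)
    let c := b p * b q
    let φ := algebraMap C (Localization.Away c)
    have hup : IsUnit (φ (b p)) := isUnit_of_mul_isUnit_left (y := φ (b q)) (by
      rw [← map_mul]; exact IsLocalization.Away.algebraMap_isUnit c)
    have huq : IsUnit (φ (b q)) := isUnit_of_mul_isUnit_right (x := φ (b p)) (by
      rw [← map_mul]; exact IsLocalization.Away.algebraMap_isUnit c)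
    let t₁ : Localization.Away (b p) →+* Localization.Away c := IsLocalization.Away.lift (b p) hup
    let t₂ : Localization.Away (b q) →+* Localization.Away c := IsLocalization.Away.lift (b q) huq
    have ht₁ : t₁.comp (algebraMap C _) = φ := IsLocalization.Away.lift_comp _ hup
    have ht₂ : t₂.comp (algebraMap C _) = φ := IsLocalization.Away.lift_comp _ huq
    let w : Spec (CommRingCat.of (Localization.Away c)) ⟶ pullback fp fq :=
      pullback.lift (Spec.map (CommRingCat.ofHom t₁)) (Spec.map (CommRingCat.ofHom t₂)) (by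
        simp only [fp, fq, ← specMap_comp, ht₁, ht₂])
    let o := pullback.fst fp fq ≫ fp
    have hwo : w ≫ o = Spec.map (CommRingCat.ofHom φ) := by
      rw [← Category.assoc, pullback.lift_fst, ← specMap_comp, ht₁]
    have : IsOpenImmersion (Spec.map (CommRingCat.ofHom φ)) := IsOpenImmersion.of_isLocalization c
    have : IsOpenImmersion o := inferInstance
    have : IsOpenImmersion (w ≫ o) := by rw [hwo]; infer_instance
    have : IsOpenImmersion w := IsOpenImmersion.of_comp w o
    have : Surjective w := ⟨fun z => by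
      have hz₁ : (o.base z : PrimeSpectrum C) ∈ (PrimeSpectrum.basicOpen (b p) : Set (PrimeSpectrum C)) := by
        rw [← PrimeSpectrum.localization_away_comap_range (Localization.Away (b p)) (b p)]
        exact ⟨(pullback.fst fp fq).base z, rfl⟩
      have hz₂ : (o.base z : PrimeSpectrum C) ∈ (PrimeSpectrum.basicOpen (b q) : Set (PrimeSpectrum C)) := by
        rw [← PrimeSpectrum.localization_away_comap_range (Localization.Away (b q)) (b q)]
        exact ⟨(pullback.snd fp fq).base z, congrArg (fun m : pullback fp fq ⟶ Spec (CommRingCat.of C) => m.base z) (pullback.condition (f := fp) (g := fq)).symm⟩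
      obtain ⟨v, hv⟩ : o.base z ∈ Set.range (PrimeSpectrum.comap φ) := by
        rw [PrimeSpectrum.localization_away_comap_range (Localization.Away c) c]
        exact fun h => ((o.base z).isPrime.mem_or_mem h).elim hz₁ hz₂
      refine ⟨v, o.isOpenEmbedding.injective ?_⟩
      rw [← Scheme.Hom.comp_apply, hwo]
      exact hv⟩
    have : IsIso w := (isIso_iff_isOpenImmersion_and_surjective w).mpr ⟨inferInstance, inferInstance⟩
    rw [← cancel_epi w, ← Category.assoc, ← Category.assoc, pullback.lift_fst, pullback.lift_snd]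
    obtain ⟨κ, hκ, hκinj, -⟩ := away_data ι₀ hι ⊥ (fun k hk => by
      rw [Ideal.mem_bot] at hk; rw [hk]; exact zero_mem _) c
    refine point_ext κ (K.map φ) hκinj (hK.map (Ideal.mapHom φ)) ?_ ?_
    · rw [(hzb p _ φ t₁ ht₁).1 _ κ _ hκ, (hzb q _ φ t₂ ht₂).1 _ κ _ hκ]
    · rw [(hzb p _ φ t₁ ht₁).2, (hzb q _ φ t₂ ht₂).2]
  let z := Scheme.Cover.glueMorphisms 𝒰 zb hcompat
  have hz : ∀ p, Spec.map (CommRingCat.ofHom (algebraMap C (Localization.Away (b p)))) ≫ z = zb p :=
    fun p => Scheme.Cover.ι_glueMorphisms 𝒰 zb hcompat p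
  have hs' : Ideal.span (Set.range (ι₀ ∘ b)) = ⊤ := by
    rw [Set.range_comp, ← Ideal.map_span, hs, Ideal.map_top]
  have hloc : ∀ p, ∃ κ : Localization.Away (b p) →+* Localization.Away (ι₀ (b p)),
      κ.comp (algebraMap C (Localization.Away (b p))) = (algebraMap C' (Localization.Away (ι₀ (b p)))).comp ι₀ := by
    intro p
    obtain ⟨κ, hκ, -, -⟩ := away_data ι₀ hι ⊥ (fun k hk => by
      rw [Ideal.mem_bot] at hk; rw [hk]; exact zero_mem _) (b p)
    exact ⟨κ, hκ⟩
  refine ⟨z, ?_, ?_⟩
  · refine Scheme.Cover.hom_ext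
      (Scheme.affineOpenCoverOfSpanRangeEqTop (R := CommRingCat.of C') (ι₀ ∘ b) hs').openCover _ _ fun p => ?_
    change Spec.map (CommRingCat.ofHom (algebraMap C' (Localization.Away (ι₀ (b p))))) ≫ _ =
      Spec.map (CommRingCat.ofHom (algebraMap C' (Localization.Away (ι₀ (b p))))) ≫ _
    obtain ⟨κ, hκ⟩ := hloc p
    rw [specMap_comp_assoc, ← hκ, specMap_comp, Category.assoc, hz]
    have h1 := (hzb p _ (algebraMap C (Localization.Away (b p))) (RingHom.id _) (RingHom.id_comp _)).1 _ κ _ hκ
    rwa [CommRingCat.ofHom_id, Spec.map_id, Category.id_comp] at h1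
  · have hsq : Ideal.span (Set.range (Ideal.Quotient.mk K ∘ b)) = ⊤ := by
      rw [Set.range_comp, ← Ideal.map_span, hs, Ideal.map_top]
    refine Scheme.Cover.hom_ext
      (Scheme.affineOpenCoverOfSpanRangeEqTop (R := CommRingCat.of (C ⧸ K)) (Ideal.Quotient.mk K ∘ b) hsq).openCover
      _ _ fun p => ?_
    let B := Localization.Away (Ideal.Quotient.mk K (b p))
    let g := algebraMap (C ⧸ K) B
    have hu : IsUnit ((g.comp (Ideal.Quotient.mk K)) (b p)) :=
      IsLocalization.Away.algebraMap_isUnit (Ideal.Quotient.mk K (b p))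
    let t : Localization.Away (b p) →+* B := IsLocalization.Away.lift (b p) hu
    have ht : t.comp (algebraMap C _) = g.comp (Ideal.Quotient.mk K) := IsLocalization.Away.lift_comp _ hu
    change Spec.map (CommRingCat.ofHom g) ≫ _ = Spec.map (CommRingCat.ofHom g) ≫ _
    have h0 : K.map (g.comp (Ideal.Quotient.mk K)) = ⊥ := by
      rw [← Ideal.map_map, Ideal.map_quotient_self, Ideal.map_bot]
    let mkB := Ideal.Quotient.mk (K.map (g.comp (Ideal.Quotient.mk K)))
    let inv' : B ⧸ K.map (g.comp (Ideal.Quotient.mk K)) →+* B := Ideal.Quotient.lift _ (RingHom.id B) fun x hx => by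
      rw [h0, Ideal.mem_bot] at hx; exact hx
    have hinv : inv'.comp mkB = RingHom.id B := RingHom.ext fun x => rfl
    have hmk : Spec.map (CommRingCat.ofHom mkB) ≫ Spec.map (CommRingCat.ofHom t) ≫ zb p =
        Spec.map (CommRingCat.ofHom mkB) ≫ Spec.map (CommRingCat.ofHom (g.comp (Ideal.Quotient.mk K))) ≫ z₀ :=
      (hzb p B (g.comp (Ideal.Quotient.mk K)) t ht).2
    have h2 := congrArg (Spec.map (CommRingCat.ofHom inv') ≫ ·) hmk
    simp only [specMap_eq_self _ _ hinv] at h2
    rw [specMap_comp_assoc, specMap_comp_assoc, ← ht, ← specMap_comp_assoc, hz, h2, ht]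
end Groth.Agent.H21Diag
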