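import Groth.Agent.H21Diag.PointDescent
import Groth.Agent.H21Diag.Mono

/-!
Points over rings over an affine base, and presentations of a group as diagonalisable over a ring.
-/

open CategoryTheory MonoidalCategory CartesianMonoidalCategory MonObj GrpObj AlgebraicGeometry
open CategoryTheory.Limits

universe u

namespace Groth.Agent.H21Diag

variable {R₀ : Type u} [CommRing R₀]

/-- an `R₀`-algebra as a test scheme -/
noncomputable abbrev Tst {D : Type u} [CommRing D] (g : R₀ →+* D) : Over (Spec (CommRingCat.of R₀)) :=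
  Over.mk (Spec.map (CommRingCat.ofHom g))

/-- the map of test schemes of a map of algebras -/
noncomputable def tst {D D' : Type u} [CommRing D] [CommRing D'] (f : D →+* D') {g : R₀ →+* D}
    {g' : R₀ →+* D'} (h : f.comp g = g') : Tst g' ⟶ Tst g :=
  Over.homMk (Spec.map (CommRingCat.ofHom f)) (by
    change _ ≫ Spec.map (CommRingCat.ofHom g) = Spec.map (CommRingCat.ofHom g')
    rw [← specMap_comp, h])

theorem tst_comp {D D' D'' : Type u} [CommRing D] [CommRing D'] [CommRing D''] (f : D →+* D') (f' : D' →+* D'')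
    {g : R₀ →+* D} {g' : R₀ →+* D'} {g'' : R₀ →+* D''} (h : f.comp g = g') (h' : f'.comp g' = g'') :
    tst f' h' ≫ tst f h = tst (f'.comp f) (by rw [RingHom.comp_assoc, h, h']) :=
  Over.OverMorphism.ext (specMap_comp f f').symm

theorem tst_id {D : Type u} [CommRing D] (g : R₀ →+* D) : tst (RingHom.id D) (RingHom.id_comp g) = 𝟙 (Tst g) :=
  Over.OverMorphism.ext (by change Spec.map _ = 𝟙 _; rw [CommRingCat.ofHom_id, Spec.map_id])

theorem tst_congr {D D' : Type u} [CommRing D] [CommRing D'] {f f' : D →+* D'} {g : R₀ →+* D}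
    {g' : R₀ →+* D'} (e : f = f') (h : f.comp g = g') (h' : f'.comp g = g') : tst f h = tst f' h' := by
  subst e; rfl

/-- a presentation of `H` over `R` as a diagonalisable group with characters `M`, by its points -/
structure Pres (H : Over (Spec (CommRingCat.of R₀))) [GrpObj H] {R : Type u} [CommRing R] (ρ : R₀ →+* R)
    (M : Type) [AddCommGroup M] where
  pt : ∀ {D : Type u} [CommRing D] (g : R →+* D), (Multiplicative M →* D) → (Tst (g.comp ρ) ⟶ H)
  pt_mul : ∀ {D : Type u} [CommRing D] (g : R →+* D) (χ χ' : Multiplicative M →* D),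
    pt g (χ * χ') = pt g χ * pt g χ'
  pt_injective : ∀ {D : Type u} [CommRing D] (g : R →+* D), Function.Injective (pt g)
  pt_surjective : ∀ {D : Type u} [CommRing D] (g : R →+* D), Function.Surjective (pt g)
  pt_nat : ∀ {D D' : Type u} [CommRing D] [CommRing D'] (f : D →+* D') (g : R →+* D)
    (χ : Multiplicative M →* D), tst f (g := g.comp ρ) (g' := (f.comp g).comp ρ) rfl ≫ pt g χ = pt (f.comp g) (f.toMonoidHom.comp χ)

/-- change of the ring of a presentation -/
noncomputable def Pres.map {H : Over (Spec (CommRingCat.of R₀))} [GrpObj H] {R : Type u} [CommRing R]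
    {ρ : R₀ →+* R} {M : Type} [AddCommGroup M] (Q : Pres H ρ M) {R' : Type u} [CommRing R'] (κ : R →+* R')
    (ρ' : R₀ →+* R') (h : κ.comp ρ = ρ') : Pres H ρ' M where
  pt g χ := tst (RingHom.id _) (by rw [RingHom.id_comp, RingHom.comp_assoc, h]) ≫ Q.pt (g.comp κ) χ
  pt_mul g χ χ' := by rw [Q.pt_mul, MonObj.comp_mul]
  pt_injective g χ χ' hh := by
    refine Q.pt_injective (g.comp κ) ?_
    have := congrArg (fun z => tst (g := g.comp ρ') (g' := (g.comp κ).comp ρ) (RingHom.id _)
      (by rw [RingHom.id_comp, RingHom.comp_assoc, h]) ≫ z) hh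
    simp only [← Category.assoc, tst_comp] at this
    rwa [tst_congr (RingHom.id_comp _) _ (RingHom.id_comp _), tst_id, Category.id_comp, Category.id_comp] at this
  pt_surjective g x := by
    obtain ⟨χ, hχ⟩ := Q.pt_surjective (g.comp κ) (tst (RingHom.id _) (by
      rw [RingHom.id_comp, RingHom.comp_assoc, h]) ≫ x)
    refine ⟨χ, ?_⟩
    change tst _ _ ≫ Q.pt (g.comp κ) χ = x
    rw [hχ, ← Category.assoc, tst_comp, tst_congr (RingHom.id_comp _) _ (RingHom.id_comp _), tst_id, Category.id_comp]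
  pt_nat f g χ := by
    change tst f _ ≫ tst _ _ ≫ Q.pt (g.comp κ) χ = tst _ _ ≫ Q.pt ((f.comp g).comp κ) _
    have h1 := Q.pt_nat f (g.comp κ) χ
    change _ = Q.pt ((f.comp g).comp κ) _ at h1
    rw [← h1, ← Category.assoc, ← Category.assoc, tst_comp, tst_comp]
    rfl

/-- the presentation given by a chart -/
noncomputable def Pres.ofChart {H : Over (Spec (CommRingCat.of R₀))} [GrpObj H] {U : Scheme.{u}}
    {u₀ : U ⟶ Spec (CommRingCat.of R₀)} {M : Type} [AddCommGroup M]
    (e : Grp.mk (Red.bc u₀ H) ≅ Grp.mk (Red.DS U M)) {R : Type u} [CommRing R]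
    (y : Spec (CommRingCat.of R) ⟶ U) (ρ : R₀ →+* R) (h : y ≫ u₀ = Spec.map (CommRingCat.ofHom ρ)) :
    Pres H ρ M where
  pt g χ := (Over.homMk (𝟙 _) (by
      change 𝟙 _ ≫ (Spec.map (CommRingCat.ofHom g) ≫ y) ≫ u₀ = Spec.map (CommRingCat.ofHom (g.comp ρ))
      rw [Category.id_comp, Category.assoc, h, specMap_comp]) :
        Tst (g.comp ρ) ⟶ Over.mk ((Spec.map (CommRingCat.ofHom g) ≫ y) ≫ u₀)) ≫
    gpt e (Spec.map (CommRingCat.ofHom g) ≫ y) χ
  pt_mul g χ χ' := by rw [gpt_mul, MonObj.comp_mul]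
  pt_injective g χ χ' hh := by
    refine gpt_injective e (Spec.map (CommRingCat.ofHom g) ≫ y) (Over.OverMorphism.ext ?_)
    have := congrArg (fun z => z.left) hh
    exact ((Category.id_comp _).symm.trans this).trans (Category.id_comp _)
  pt_surjective g x := by
    obtain ⟨χ, hχ⟩ := gpt_surjective e (Spec.map (CommRingCat.ofHom g) ≫ y)
      ((Over.homMk (𝟙 _) (by
        change 𝟙 _ ≫ Spec.map (CommRingCat.ofHom (g.comp ρ)) = (Spec.map (CommRingCat.ofHom g) ≫ y) ≫ u₀
        rw [Category.id_comp, Category.assoc, h, specMap_comp]) :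
          Over.mk ((Spec.map (CommRingCat.ofHom g) ≫ y) ≫ u₀) ⟶ Tst (g.comp ρ)) ≫ x)
    exact ⟨χ, Over.OverMorphism.ext ((Category.id_comp _).trans ((congrArg (fun z => z.left) hχ).trans
      (Category.id_comp _)))⟩
  pt_nat f g χ := by
    refine Over.OverMorphism.ext ?_
    change Spec.map (CommRingCat.ofHom f) ≫ 𝟙 _ ≫ (gpt e _ χ).left = 𝟙 _ ≫ (gpt e _ _).left
    rw [Category.id_comp, Category.id_comp, ← gpt_comp, specMap_comp_assoc]

theorem Pres.pt_one {H : Over (Spec (CommRingCat.of R₀))} [GrpObj H] {R : Type u} [CommRing R] {ρ : R₀ →+* R}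
    {M : Type} [AddCommGroup M] (Q : Pres H ρ M) {D : Type u} [CommRing D] (g : R →+* D) :
    Q.pt g 1 = 1 :=
  mul_eq_left.mp ((Q.pt_mul g 1 1).symm.trans (by rw [_root_.one_mul]))

end Groth.Agent.H21Diag
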