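import Groth.Agent.H21Diag.Points

/-!
Rigidity of actions of diagonalisable groups along nilpotent ideals.
-/

open CategoryTheory MonoidalCategory CartesianMonoidalCategory MonObj GrpObj AlgebraicGeometry
open CategoryTheory.Limits

universe u

namespace Groth.Agent.H21Diag

theorem specMap_comp {A B C : Type u} [CommRing A] [CommRing B] [CommRing C] (f : A →+* B) (g : B →+* C) :
    Spec.map (CommRingCat.ofHom (g.comp f)) =
      Spec.map (CommRingCat.ofHom g) ≫ Spec.map (CommRingCat.ofHom f) := by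
  rw [← Spec.map_comp]; rfl

theorem specMap_comp_assoc {Z : Scheme.{u}} {A B C : Type u} [CommRing A] [CommRing B] [CommRing C]
    (f : A →+* B) (g : B →+* C) (z : Spec (CommRingCat.of A) ⟶ Z) :
    Spec.map (CommRingCat.ofHom g) ≫ Spec.map (CommRingCat.ofHom f) ≫ z =
      Spec.map (CommRingCat.ofHom (g.comp f)) ≫ z := by
  rw [specMap_comp, Category.assoc]

theorem specMap_eq_self {Z : Scheme.{u}} {A B : Type u} [CommRing A] [CommRing B] (f : A →+* B)
    (g : B →+* A) (h : g.comp f = RingHom.id A) (z : Spec (CommRingCat.of A) ⟶ Z) :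
    Spec.map (CommRingCat.ofHom g) ≫ Spec.map (CommRingCat.ofHom f) ≫ z = z := by
  rw [specMap_comp_assoc, h, CommRingCat.ofHom_id, Spec.map_id, Category.id_comp]

/-- a point congruent to a point of an affine open lies in the affine open -/
theorem exists_factor {Z : Scheme.{u}} {A C : Type u} [CommRing A] [CommRing C]
    (j : Spec (CommRingCat.of A) ⟶ Z) [IsOpenImmersion j] (α : A →+* C) (K : Ideal C)
    (hK : IsNilpotent K) (q : Spec (CommRingCat.of C) ⟶ Z)
    (h : Spec.map (CommRingCat.ofHom (Ideal.Quotient.mk K)) ≫ q =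
      Spec.map (CommRingCat.ofHom ((Ideal.Quotient.mk K).comp α)) ≫ j) :
    ∃ β : A →+* C, q = Spec.map (CommRingCat.ofHom β) ≫ j ∧ ∀ a, β a - α a ∈ K := by
  have hsurj : Function.Surjective (Spec.map (CommRingCat.ofHom (Ideal.Quotient.mk K))).base := by
    intro x
    have hx : K ≤ x.asIdeal := by
      obtain ⟨n, hn⟩ := hK
      exact x.isPrime.le_of_pow_le (n := n) (by rw [hn]; exact bot_le)
    obtain ⟨z, hz⟩ : x ∈ Set.range (PrimeSpectrum.comap (Ideal.Quotient.mk K)) := by
      rw [range_comap_of_surjective _ _ Ideal.Quotient.mk_surjective, Ideal.mk_ker]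
      exact hx
    exact ⟨z, hz⟩
  have hr : Set.range q.base ⊆ Set.range j.base := by
    rintro _ ⟨x, rfl⟩
    obtain ⟨z, rfl⟩ := hsurj x
    rw [← Scheme.Hom.comp_apply, h, Scheme.Hom.comp_apply]
    exact Set.mem_range_self _
  obtain ⟨β, hβ⟩ := Spec.map_surjective (IsOpenImmersion.lift j q hr)
  refine ⟨β.hom, by rw [CommRingCat.ofHom_hom, hβ, IsOpenImmersion.lift_fac], fun a => ?_⟩
  rw [← Ideal.Quotient.eq]
  have h2 : (Ideal.Quotient.mk K).comp β.hom = (Ideal.Quotient.mk K).comp α := by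
    refine congrArg CommRingCat.Hom.hom (Spec.map_injective ((cancel_mono j).mp ?_) :
      CommRingCat.ofHom ((Ideal.Quotient.mk K).comp β.hom) = CommRingCat.ofHom ((Ideal.Quotient.mk K).comp α))
    rw [← h, specMap_comp, CommRingCat.ofHom_hom, hβ, Category.assoc, IsOpenImmersion.lift_fac]
  exact RingHom.congr_fun h2 a

/-- `(m, m)`, `(m, 0)` and `(0, m)` -/
def diagM (M : Type) [AddCommGroup M] : Multiplicative M →* Multiplicative (M × M) :=
  AddMonoidHom.toMultiplicative ((AddMonoidHom.id M).prod (AddMonoidHom.id M))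

theorem primitive_eq_zero {B : Type u} [CommRing B] {M : Type} [AddCommGroup M]
    (v : MonoidAlgebra B (Multiplicative M))
    (h : MonoidAlgebra.mapDomain (diagM M) v =
      MonoidAlgebra.mapDomain (AddMonoidHom.toMultiplicative (AddMonoidHom.inl M M)) v +
        MonoidAlgebra.mapDomain (AddMonoidHom.toMultiplicative (AddMonoidHom.inr M M)) v) : v = 0 := by
  classical
  ext m
  have h1 := congrArg (fun w => w.coeff (diagM M m)) h
  simp only [MonoidAlgebra.coeff_add, Finsupp.add_apply, MonoidAlgebra.coeff_mapDomain] at h1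
  have inj : Function.Injective (diagM M) := fun a b hab =>
    congrArg Prod.fst (hab : (Multiplicative.toAdd a, Multiplicative.toAdd a) = _)
  rw [Finsupp.mapDomain_apply inj] at h1
  rcases eq_or_ne m 1 with rfl | hm
  · have e1 : diagM M 1 = AddMonoidHom.toMultiplicative (AddMonoidHom.inl M M) 1 := by rw [map_one, map_one]
    have e2 : diagM M 1 = AddMonoidHom.toMultiplicative (AddMonoidHom.inr M M) 1 := by rw [map_one, map_one]
    nth_rw 1 [e1] at h1
    nth_rw 1 [e2] at h1
    rw [Finsupp.mapDomain_apply, Finsupp.mapDomain_apply] at h1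
    · simpa using h1
    · exact fun a b hab => congrArg Prod.snd hab
    · exact fun a b hab => congrArg Prod.fst hab
  · rw [Finsupp.mapDomain_notin_range, Finsupp.mapDomain_notin_range, add_zero] at h1
    · simpa using h1
    · rintro ⟨k, hk⟩
      exact hm (congrArg Prod.fst hk).symm
    · rintro ⟨k, hk⟩
      exact hm (congrArg Prod.snd hk).symm

section Pairs

variable {R : Type u} [CommRing R] (J : Ideal R)

/-- pairs of elements congruent modulo an ideal -/
def pairRing : Subring (R × R) where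
  carrier := {c | c.1 - c.2 ∈ J}
  mul_mem' := by
    intro c c' h h'
    change c.1 * c'.1 - c.2 * c'.2 ∈ J
    rw [show c.1 * c'.1 - c.2 * c'.2 = c.1 * (c'.1 - c'.2) + (c.1 - c.2) * c'.2 by ring]
    exact add_mem (J.mul_mem_left _ h') (J.mul_mem_right _ h)
  one_mem' := by simp
  add_mem' := by
    intro c c' h h'
    change c.1 + c'.1 - (c.2 + c'.2) ∈ J
    rw [add_sub_add_comm]
    exact add_mem h h'
  zero_mem' := by simp
  neg_mem' := by
    intro c h
    change -c.1 - -c.2 ∈ J
    rw [show -c.1 - -c.2 = -(c.1 - c.2) by ring]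
    exact J.neg_mem h

/-- the first component -/
def pfst : pairRing J →+* R := (RingHom.fst R R).comp (pairRing J).subtype
/-- the second component -/
def psnd : pairRing J →+* R := (RingHom.snd R R).comp (pairRing J).subtype

/-- the map into congruent pairs given by two congruent maps -/
def pairHom {Z : Type u} [CommRing Z] (g h : Z →+* R) (hgh : ∀ z, g z - h z ∈ J) : Z →+* pairRing J :=
  (g.prod h).codRestrict (pairRing J) hgh

theorem pfst_pairHom {Z : Type u} [CommRing Z] (g h : Z →+* R) (hgh : ∀ z, g z - h z ∈ J) :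
    (pfst J).comp (pairHom J g h hgh) = g := rfl

theorem psnd_pairHom {Z : Type u} [CommRing Z] (g h : Z →+* R) (hgh : ∀ z, g z - h z ∈ J) :
    (psnd J).comp (pairHom J g h hgh) = h := rfl

/-- the diagonal -/
def pdiag : R →+* pairRing J :=
  pairHom J (RingHom.id R) (RingHom.id R) fun z => by rw [sub_self]; exact J.zero_mem

theorem pfst_pdiag : (pfst J).comp (pdiag J) = RingHom.id R := rfl
theorem psnd_pdiag : (psnd J).comp (pdiag J) = RingHom.id R := rfl

theorem pair_ext {Z : Type u} [CommRing Z] (g g' : Z →+* pairRing J)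
    (h1 : (pfst J).comp g = (pfst J).comp g') (h2 : (psnd J).comp g = (psnd J).comp g') : g = g' :=
  RingHom.ext fun z => Subtype.ext (Prod.ext (RingHom.congr_fun h1 z) (RingHom.congr_fun h2 z))

theorem pfst_sub_psnd (c : pairRing J) : pfst J c - psnd J c ∈ J := c.2

theorem components_eq_of_mem {B : Type u} [CommRing B] (I : Ideal B) (s : B →+* R) (hJ : J * J = ⊥)
    (hI : I.map s ≤ J) {z : pairRing J} (hz : z ∈ I.map ((pdiag J).comp s)) : pfst J z = psnd J z := by
  rw [Ideal.map] at hz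
  induction hz using Submodule.span_induction with
  | mem w hw => obtain ⟨b, -, rfl⟩ := hw; rfl
  | zero => simp
  | add u v _ _ hu hv => rw [map_add, map_add, hu, hv]
  | smul c w hw hw' =>
    rw [smul_eq_mul, map_mul, map_mul, hw']
    have hwJ : psnd J w ∈ J := by
      have h := Ideal.mem_map_of_mem (psnd J) hw
      rw [show Submodule.span (pairRing J) (((pdiag J).comp s) '' I) = I.map ((pdiag J).comp s) from rfl,
        Ideal.map_map, ← RingHom.comp_assoc, psnd_pdiag, RingHom.id_comp] at h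
      exact hI h
    have h0 : (pfst J c - psnd J c) * psnd J w = 0 := by
      rw [← Ideal.mem_bot, ← hJ]
      exact Ideal.mul_mem_mul (pfst_sub_psnd J c) hwJ
    rw [sub_mul, sub_eq_zero] at h0
    exact h0

end Pairs

variable {S U : Scheme.{u}} {u₀ : U ⟶ S} {G X : Over S} [GrpObj G] {M : Type} [AddCommGroup M]
  (e : Grp.mk (Red.bc u₀ G) ≅ Grp.mk (Red.DS U M)) (a : AlgGrp.Action G X)

section
variable {B : Type u} [CommRing B]

/-- the translate of a point by the point of `G` given by a character -/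
noncomputable def act (y : Spec (CommRingCat.of B) ⟶ U) (χ : Multiplicative M →* B)
    (x : Spec (CommRingCat.of B) ⟶ X.left) (hx : x ≫ X.hom = y ≫ u₀) :
    Spec (CommRingCat.of B) ⟶ X.left :=
  (lift (gpt e y χ) (Over.homMk x hx : Over.mk (y ≫ u₀) ⟶ X) ≫ a.act).left

theorem act_over (y : Spec (CommRingCat.of B) ⟶ U) (χ : Multiplicative M →* B)
    (x : Spec (CommRingCat.of B) ⟶ X.left) (hx : x ≫ X.hom = y ≫ u₀) :
    act e a y χ x hx ≫ X.hom = y ≫ u₀ :=
  Over.w _

theorem act_congr {y y' : Spec (CommRingCat.of B) ⟶ U} {χ χ' : Multiplicative M →* B}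
    {x x' : Spec (CommRingCat.of B) ⟶ X.left} (hy : y = y') (hχ : χ = χ') (h : x = x')
    {hx : x ≫ X.hom = y ≫ u₀} {hx' : x' ≫ X.hom = y' ≫ u₀} :
    act e a y χ x hx = act e a y' χ' x' hx' := by
  subst hy hχ h
  rfl

theorem act_comp (y : Spec (CommRingCat.of B) ⟶ U) (χ : Multiplicative M →* B)
    (x : Spec (CommRingCat.of B) ⟶ X.left) (hx : x ≫ X.hom = y ≫ u₀)
    {B' : Type u} [CommRing B'] (φ : B →+* B') :
    Spec.map (CommRingCat.ofHom φ) ≫ act e a y χ x hx =
      act e a (Spec.map (CommRingCat.ofHom φ) ≫ y) (φ.toMonoidHom.comp χ)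
        (Spec.map (CommRingCat.ofHom φ) ≫ x) (by rw [Category.assoc, hx, Category.assoc]) := by
  let τ : (Over.mk ((Spec.map (CommRingCat.ofHom φ) ≫ y) ≫ u₀) : Over S) ⟶ Over.mk (y ≫ u₀) :=
    Over.homMk (Spec.map (CommRingCat.ofHom φ)) (Category.assoc _ _ _).symm
  have h1 : τ ≫ gpt e y χ = gpt e (Spec.map (CommRingCat.ofHom φ) ≫ y) (φ.toMonoidHom.comp χ) :=
    Over.OverMorphism.ext (gpt_comp e y χ φ).symm
  have h2 : τ ≫ lift (gpt e y χ) (Over.homMk x hx : Over.mk (y ≫ u₀) ⟶ X) =
      lift (gpt e (Spec.map (CommRingCat.ofHom φ) ≫ y) (φ.toMonoidHom.comp χ))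
        (Over.homMk (Spec.map (CommRingCat.ofHom φ) ≫ x) (by
          rw [Category.assoc, hx]; exact (Category.assoc _ _ _).symm : (Spec.map (CommRingCat.ofHom φ) ≫ x) ≫ X.hom = (Spec.map (CommRingCat.ofHom φ) ≫ y) ≫ u₀)) := by
    rw [comp_lift, h1]
    congr 1
  exact congrArg (fun f => (f ≫ a.act).left) h2

theorem act_mul (y : Spec (CommRingCat.of B) ⟶ U) (χ χ' : Multiplicative M →* B)
    (x : Spec (CommRingCat.of B) ⟶ X.left) (hx : x ≫ X.hom = y ≫ u₀) :
    act e a y (χ * χ') x hx = act e a y χ (act e a y χ' x hx) (act_over e a y χ' x hx) := by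
  have hh : (Over.homMk (act e a y χ' x hx) (act_over e a y χ' x hx) : Over.mk (y ≫ u₀) ⟶ X) =
      lift (gpt e y χ') (Over.homMk x hx) ≫ a.act := Over.OverMorphism.ext rfl
  have h : lift (gpt e y (χ * χ')) (Over.homMk x hx : Over.mk (y ≫ u₀) ⟶ X) ≫ a.act =
      lift (gpt e y χ) (lift (gpt e y χ') (Over.homMk x hx) ≫ a.act) ≫ a.act := by
    rw [gpt_mul, Hom.mul_def,
      show lift (lift (gpt e y χ) (gpt e y χ') ≫ μ[G]) (Over.homMk x hx : Over.mk (y ≫ u₀) ⟶ X) =
        lift (lift (gpt e y χ) (gpt e y χ')) (Over.homMk x hx) ≫ (μ[G] ▷ X) by simp,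
      Category.assoc, a.mul_act]
    simp
  exact congrArg (fun f : Over.mk (y ≫ u₀) ⟶ X => f.left) (h.trans (by rw [hh]))

/-- the group acts trivially on points over rings in which `J` vanishes -/
def Triv (y : Spec (CommRingCat.of B) ⟶ U) (J : Ideal B) : Prop :=
  ∀ (B' : Type u) [CommRing B'] (φ : B →+* B'), J.map φ = ⊥ →
    ∀ (χ : Multiplicative M →* B') (x : Spec (CommRingCat.of B') ⟶ X.left)
      (hx : x ≫ X.hom = (Spec.map (CommRingCat.ofHom φ) ≫ y) ≫ u₀),
      act e a (Spec.map (CommRingCat.ofHom φ) ≫ y) χ x hx = x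

variable {e a}

theorem Triv.map {y : Spec (CommRingCat.of B) ⟶ U} {J : Ideal B} (h : Triv e a y J) {B' : Type u}
    [CommRing B'] (φ : B →+* B') : Triv e a (Spec.map (CommRingCat.ofHom φ) ≫ y) (J.map φ) := by
  intro B'' _ ψ hψ χ x hx
  have e1 : Spec.map (CommRingCat.ofHom ψ) ≫ Spec.map (CommRingCat.ofHom φ) ≫ y =
      Spec.map (CommRingCat.ofHom (ψ.comp φ)) ≫ y := by rw [specMap_comp, Category.assoc]
  exact (act_congr e a e1 rfl rfl).trans
    (h B'' (ψ.comp φ) (by rw [← Ideal.map_map, hψ]) χ x (by rw [← e1]; exact hx))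

/-- the key step over abstract test rings, for a point of an affine open over an affine open -/
theorem step_core {y : Spec (CommRingCat.of B) ⟶ U} {J : Ideal B} (hJ : J * J = ⊥)
    (htriv : Triv e a y J) {A R : Type u} [CommRing A] [CommRing R]
    (j : Spec (CommRingCat.of A) ⟶ X.left) [IsOpenImmersion j]
    (k : Spec (CommRingCat.of R) ⟶ S) [Mono k] (σ : R →+* A)
    (hk : j ≫ X.hom = Spec.map (CommRingCat.ofHom σ) ≫ k)
    (α : A →+* B) (χ : Multiplicative M →* B)
    {B₁ B₂ : Type u} [CommRing B₁] [CommRing B₂] (s₁ : B →+* B₁) (s₂ : B →+* B₂)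
    (f₁ f₂ fd : B₁ →+* B₂) (hf₁ : f₁.comp s₁ = s₂) (hf₂ : f₂.comp s₁ = s₂) (hfd : fd.comp s₁ = s₂)
    (χ₁ : Multiplicative M →* B₁)
    (hd : fd.toMonoidHom.comp χ₁ = f₁.toMonoidHom.comp χ₁ * f₂.toMonoidHom.comp χ₁)
    (ev : B₁ →+* B) (hev : ev.comp s₁ = RingHom.id B) (hevχ : ev.toMonoidHom.comp χ₁ = χ)
    (hprim : ∀ v : B₁, fd v = f₁ v + f₂ v → v = 0)
    (hx : (Spec.map (CommRingCat.ofHom α) ≫ j) ≫ X.hom = y ≫ u₀) :
    act e a y χ (Spec.map (CommRingCat.ofHom α) ≫ j) hx = Spec.map (CommRingCat.ofHom α) ≫ j := by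
  -- points of the affine open over the base
  have hbase : ∀ {C' : Type u} [CommRing C'] (g : B →+* C'),
      (Spec.map (CommRingCat.ofHom g) ≫ y) ≫ u₀ =
        Spec.map (CommRingCat.ofHom ((g.comp α).comp σ)) ≫ k := by
    intro C' _ g
    rw [Category.assoc, ← hx, Category.assoc, hk, ← Category.assoc, ← specMap_comp, ← Category.assoc,
      ← specMap_comp]
  have hover : ∀ {C' : Type u} [CommRing C'] (g : B →+* C') (γ : A →+* C'),
      γ.comp σ = (g.comp α).comp σ →
      (Spec.map (CommRingCat.ofHom γ) ≫ j) ≫ X.hom = (Spec.map (CommRingCat.ofHom g) ≫ y) ≫ u₀ := by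
    intro C' _ g γ h
    rw [hbase, Category.assoc, hk, ← Category.assoc, ← specMap_comp, h]
  -- the universal point
  let y₁ := Spec.map (CommRingCat.ofHom s₁) ≫ y
  have hx₁ := hover s₁ (s₁.comp α) rfl
  have hK₁ : IsNilpotent (J.map s₁) := ⟨2, by rw [pow_two, ← Ideal.map_mul, hJ, Ideal.map_bot]; rfl⟩
  obtain ⟨β, hβ, hβα⟩ := exists_factor j (s₁.comp α) (J.map s₁) hK₁
    (act e a y₁ χ₁ (Spec.map (CommRingCat.ofHom (s₁.comp α)) ≫ j) hx₁) (by
      rw [act_comp]
      refine ((htriv.map s₁) _ (Ideal.Quotient.mk (J.map s₁)) (Ideal.map_quotient_self _) _ _ _).trans ?_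
      rw [← Category.assoc, ← specMap_comp])
  have hβσ : β.comp σ = (s₁.comp α).comp σ := by
    have h := act_over e a y₁ χ₁ (Spec.map (CommRingCat.ofHom (s₁.comp α)) ≫ j) hx₁
    rw [hβ, Category.assoc, hk, ← Category.assoc, ← specMap_comp, hbase, cancel_mono] at h
    exact congrArg CommRingCat.Hom.hom (Spec.map_injective h)
  have hgoal : act e a y χ (Spec.map (CommRingCat.ofHom α) ≫ j) hx =
      Spec.map (CommRingCat.ofHom (ev.comp β)) ≫ j := by
    rw [specMap_comp, Category.assoc, ← hβ, act_comp]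
    refine act_congr e a ?_ ?_ ?_
    · exact (specMap_eq_self s₁ ev hev y).symm
    · exact hevχ.symm
    · have e₀ : ev.comp (s₁.comp α) = α := by rw [← RingHom.comp_assoc, hev, RingHom.id_comp]
      exact ((specMap_comp_assoc (s₁.comp α) ev j).trans
        (congrArg (fun w : A →+* B => Spec.map (CommRingCat.ofHom w) ≫ j) e₀)).symm
  suffices hzero : β = s₁.comp α by
    rw [hgoal, hzero, ← RingHom.comp_assoc, hev, RingHom.id_comp]
  -- the ring of congruent pairs
  let J₂ := J.map s₂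
  let C := pairRing J₂
  let p : C →+* B₂ := pfst J₂
  let q : C →+* B₂ := psnd J₂
  have hmapβ : ∀ b, f₂ (β b) - s₂ (α b) ∈ J₂ := fun b => by
    have h := Ideal.mem_map_of_mem f₂ (hβα b)
    rwa [Ideal.map_map, hf₂, map_sub, RingHom.comp_apply, ← RingHom.comp_apply f₂ s₁, hf₂] at h
  let γ : A →+* C := pairHom J₂ (s₂.comp α) (f₂.comp β) fun b => by
    rw [RingHom.comp_apply, RingHom.comp_apply, ← neg_sub]
    exact J₂.neg_mem (hmapβ b)
  let sC : B →+* C := (pdiag J₂).comp s₂
  have hpsC : p.comp sC = s₂ := by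
    rw [← RingHom.comp_assoc, pfst_pdiag, RingHom.id_comp]
  have hqsC : q.comp sC = s₂ := by
    rw [← RingHom.comp_assoc, psnd_pdiag, RingHom.id_comp]
  have hpγ : p.comp γ = s₂.comp α := pfst_pairHom _ _ _ _
  have hqγ : q.comp γ = f₂.comp β := psnd_pairHom _ _ _ _
  let yC := Spec.map (CommRingCat.ofHom sC) ≫ y
  let χC : Multiplicative M →* C := ((pdiag J₂).comp f₁).toMonoidHom.comp χ₁
  have hpχ : p.toMonoidHom.comp χC = f₁.toMonoidHom.comp χ₁ := by
    refine MonoidHom.ext fun m => ?_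
    exact RingHom.congr_fun (pfst_pdiag J₂) (f₁ (χ₁ m))
  have hqχ : q.toMonoidHom.comp χC = f₁.toMonoidHom.comp χ₁ := by
    refine MonoidHom.ext fun m => ?_
    exact RingHom.congr_fun (psnd_pdiag J₂) (f₁ (χ₁ m))
  have hγσ : γ.comp σ = (sC.comp α).comp σ := by
    refine pair_ext J₂ _ _ ?_ ?_
    · rw [← RingHom.comp_assoc, hpγ, ← RingHom.comp_assoc, ← RingHom.comp_assoc, hpsC]
    · rw [← RingHom.comp_assoc, hqγ, ← RingHom.comp_assoc, ← RingHom.comp_assoc, hqsC,
        RingHom.comp_assoc, hβσ, ← RingHom.comp_assoc, ← RingHom.comp_assoc, hf₂]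
  have hzC := hover sC γ hγσ
  let K : Ideal C := J.map sC
  have hK : IsNilpotent K := ⟨2, by rw [pow_two, ← Ideal.map_mul, hJ, Ideal.map_bot]; rfl⟩
  obtain ⟨γ', hγ', hγγ⟩ := exists_factor j γ K hK
    (act e a yC χC (Spec.map (CommRingCat.ofHom γ) ≫ j) hzC) (by
      rw [act_comp]
      refine ((htriv.map sC) _ (Ideal.Quotient.mk K) (Ideal.map_quotient_self _) _ _ _).trans ?_
      rw [← Category.assoc, ← specMap_comp])
  have hJ₂ : J₂ * J₂ = ⊥ := by rw [← Ideal.map_mul, hJ, Ideal.map_bot]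
  have hKpq : ∀ z ∈ K, p z = q z := fun z hz => components_eq_of_mem J₂ J s₂ hJ₂ le_rfl hz
  have hp : p.comp γ' = f₁.comp β := by
    refine congrArg CommRingCat.Hom.hom (Spec.map_injective ((cancel_mono j).mp ?_) :
      CommRingCat.ofHom (p.comp γ') = CommRingCat.ofHom (f₁.comp β))
    rw [specMap_comp γ' p, specMap_comp β f₁, Category.assoc, Category.assoc, ← hγ', ← hβ, act_comp,
      act_comp]
    refine act_congr e a ?_ ?_ ?_
    · simp only [yC, y₁, ← Category.assoc, ← specMap_comp, hf₁, hpsC]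
    · exact hpχ
    · simp only [← Category.assoc, ← specMap_comp]
      rw [hpγ, ← RingHom.comp_assoc, hf₁]
  have hq : q.comp γ' = fd.comp β := by
    refine congrArg CommRingCat.Hom.hom (Spec.map_injective ((cancel_mono j).mp ?_) :
      CommRingCat.ofHom (q.comp γ') = CommRingCat.ofHom (fd.comp β))
    rw [specMap_comp γ' q, specMap_comp β fd, Category.assoc, Category.assoc, ← hγ', ← hβ, act_comp,
      act_comp]
    refine Eq.trans ?_ ((act_mul e a _ (f₁.toMonoidHom.comp χ₁) (f₂.toMonoidHom.comp χ₁)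
      (Spec.map (CommRingCat.ofHom fd) ≫ Spec.map (CommRingCat.ofHom (s₁.comp α)) ≫ j)
      (by rw [Category.assoc, hx₁]; simp only [Category.assoc, y₁])).symm.trans (act_congr e a rfl hd.symm rfl))
    have hy' : Spec.map (CommRingCat.ofHom q) ≫ yC = Spec.map (CommRingCat.ofHom fd) ≫ y₁ := by
      simp only [yC, y₁, ← Category.assoc, ← specMap_comp, hfd, hqsC]
    refine act_congr e a hy' hqχ ?_
    change Spec.map (CommRingCat.ofHom q) ≫ Spec.map (CommRingCat.ofHom γ) ≫ j = _
    rw [← Category.assoc, ← specMap_comp, hqγ, specMap_comp,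
      Category.assoc, ← hβ, act_comp]
    refine act_congr e a ?_ rfl ?_
    · simp only [y₁, ← Category.assoc, ← specMap_comp, hfd, hf₂]
    · simp only [← Category.assoc, ← specMap_comp]
      rw [← RingHom.comp_assoc, ← RingHom.comp_assoc, hf₂, hfd]
  refine RingHom.ext fun b => sub_eq_zero.mp (hprim _ ?_)
  rw [RingHom.comp_apply]
  have hd' := hKpq _ (hγγ b)
  rw [map_sub, map_sub, ← RingHom.comp_apply p γ', ← RingHom.comp_apply q γ', hp, hq] at hd'
  have e₄ : p (γ b) = s₂ (α b) := RingHom.congr_fun hpγ b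
  have e₅ : q (γ b) = f₂ (β b) := RingHom.congr_fun hqγ b
  rw [e₄, e₅, RingHom.comp_apply, RingHom.comp_apply] at hd'
  have e₁ : f₁ (s₁ (α b)) = s₂ (α b) := RingHom.congr_fun hf₁ _
  have e₂ : f₂ (s₁ (α b)) = s₂ (α b) := RingHom.congr_fun hf₂ _
  have e₃ : fd (s₁ (α b)) = s₂ (α b) := RingHom.congr_fun hfd _
  rw [map_sub, map_sub, map_sub, e₁, e₂, e₃]
  rw [sub_eq_sub_iff_add_eq_add] at hd'
  linear_combination -hd'


/-- the key step, for a point of an affine open over an affine open -/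
theorem step_affine {y : Spec (CommRingCat.of B) ⟶ U} {J : Ideal B} (hJ : J * J = ⊥)
    (htriv : Triv e a y J) {A R : Type u} [CommRing A] [CommRing R]
    (j : Spec (CommRingCat.of A) ⟶ X.left) [IsOpenImmersion j]
    (k : Spec (CommRingCat.of R) ⟶ S) [Mono k] (σ : R →+* A)
    (hk : j ≫ X.hom = Spec.map (CommRingCat.ofHom σ) ≫ k)
    (α : A →+* B) (χ : Multiplicative M →* B)
    (hx : (Spec.map (CommRingCat.ofHom α) ≫ j) ≫ X.hom = y ≫ u₀) :
    act e a y χ (Spec.map (CommRingCat.ofHom α) ≫ j) hx = Spec.map (CommRingCat.ofHom α) ≫ j := by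
  refine step_core hJ htriv j k σ hk α χ MonoidAlgebra.singleOneRingHom
    (MonoidAlgebra.singleOneRingHom (R := B) (M := Multiplicative (M × M)))
    (MonoidAlgebra.mapDomainRingHom B (AddMonoidHom.toMultiplicative (AddMonoidHom.inl M M)))
    (MonoidAlgebra.mapDomainRingHom B (AddMonoidHom.toMultiplicative (AddMonoidHom.inr M M)))
    (MonoidAlgebra.mapDomainRingHom B (diagM M))
    (RingHom.ext fun b => by simp; rfl) (RingHom.ext fun b => by simp; rfl) (RingHom.ext fun b => by simp)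
    (MonoidAlgebra.of B (Multiplicative M)) (MonoidHom.ext fun m => ?_)
    (MonoidAlgebra.liftNCRingHom (RingHom.id B) χ fun _ _ => Commute.all _ _)
    (RingHom.ext fun b => by simp) (MonoidHom.ext fun m => by simp) primitive_eq_zero hx
  simp only [MonoidHom.mul_apply, MonoidHom.coe_comp, RingHom.toMonoidHom_eq_coe,
    MonoidHom.coe_coe, Function.comp_apply, MonoidAlgebra.of_apply, MonoidAlgebra.mapDomainRingHom_apply,
    MonoidAlgebra.mapDomain_single, MonoidAlgebra.single_mul_single]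
  congr 1
  · exact Prod.ext (add_zero _).symm (zero_add _).symm
  · exact (_root_.mul_one _).symm

end
end Groth.Agent.H21Diag
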